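import Cfsg.Agent.ClassTwoFusion.Quad
import Cfsg.Agent.Mrg.Omega.ML.Ex.Def
import Cfsg.Agent.OddHalf.D8.JTwo.Sheet

section


/-!
# LEMMA E: exact fours groups give a TI-subgroup which swallows all centralizers (OMEGA, K-list exact; helper269); K-free

`X` acts faithfully on `M` (exponent 2), no element of `X` is a transvection on `M`, `B ≤ X` has order at least 4 and
`|M : C_M(B)| = 4`.  `F := C_M(B)`, `EE F := {x | [F,x] = 1, [M,x] ≤ F}`.

* `EE F` : a subgroup, of exponent 2, normalised by the stabiliser of `F`;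
* **`exists_tie`** : `B ≤ E := EE F`, `C_M(e) = F` for all `e ∈ E#`, `N_X(E) = N_X(F)`, **`C_X(e) ≤ N_X(E)` for all `e ∈ E#`**,
  `E ∩ E^g ≠ 1 → g ∈ N_X(E)`;
* `Tie.normalizer_eq` : if `C_X(e)` is maximal in `X` (`e ∈ E#`) and `E` is not normal, then `N_X(E) = C_X(e)`;
* `Tie.eq_of_conj` : in that case `e` is the only conjugate of `e` in `E`.
-/

set_option autoImplicit false

namespace Cfsg.Agent.Omega.ML.Ex.TIE

open Subgroup Cfsg.Agent.ClassTwoFusion.Quad

variable {X : Type*} [Group X] {M : Type*} [Group M] [MulDistribMulAction X M]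

/-- the group of all `x` which centralise `F` and `M / F` -/
def EE (F : Subgroup M) : Subgroup X where
  carrier := {x | (∀ m ∈ F, x • m = m) ∧ ∀ m : M, (x • m) * m⁻¹ ∈ F}
  one_mem' := ⟨fun m _ => one_smul X m, fun m => by rw [one_smul, mul_inv_cancel]; exact F.one_mem⟩
  mul_mem' := by
    rintro x y ⟨hx, hx'⟩ ⟨hy, hy'⟩
    refine ⟨fun m hm => by rw [mul_smul, hy m hm, hx m hm], fun m => ?_⟩
    have h1 : (x * y) • m * m⁻¹ = (x • (y • m) * (y • m)⁻¹) * (y • m * m⁻¹) := by
      rw [mul_smul]; group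
    rw [h1]
    exact F.mul_mem (hx' _) (hy' _)
  inv_mem' := by
    rintro x ⟨hx, hx'⟩
    refine ⟨fun m hm => by rw [inv_smul_eq_iff, hx m hm], fun m => ?_⟩
    have h1 : x⁻¹ • m * m⁻¹ = ((x • (x⁻¹ • m)) * (x⁻¹ • m)⁻¹)⁻¹ := by
      rw [smul_inv_smul]; group
    rw [h1]
    exact F.inv_mem (hx' _)

theorem mem_EE {F : Subgroup M} {x : X} :
    x ∈ (EE F : Subgroup X) ↔ (∀ m ∈ F, x • m = m) ∧ ∀ m : M, (x • m) * m⁻¹ ∈ F := Iff.rfl

/-- exponent 2 -/
theorem EE_sq (sq : ∀ m : M, m * m = 1) (faith : ∀ x : X, (∀ m : M, x • m = m) → x = 1) {F : Subgroup M} {x : X}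
    (hx : x ∈ (EE F : Subgroup X)) : x * x = 1 := by
  refine faith _ fun m => ?_
  have h1 : x • m = (x • m * m⁻¹) * m := by group
  rw [mul_smul]
  calc x • (x • m) = x • ((x • m * m⁻¹) * m) := by rw [← h1]
    _ = (x • (x • m * m⁻¹)) * (x • m) := smul_mul' _ _ _
    _ = (x • m * m⁻¹) * ((x • m * m⁻¹) * m) := by rw [hx.1 _ (hx.2 m), ← h1]
    _ = ((x • m * m⁻¹) * (x • m * m⁻¹)) * m := (mul_assoc _ _ _).symm
    _ = m := by rw [sq, one_mul]

/-- the stabiliser of `F` normalises `EE F` -/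
theorem smul_mem_EE {F : Subgroup M} {g x : X} (hg : ∀ m, m ∈ F ↔ g • m ∈ F) (hx : x ∈ (EE F : Subgroup X)) :
    g * x * g⁻¹ ∈ (EE F : Subgroup X) := by
  have hg' : ∀ m ∈ F, g⁻¹ • m ∈ F := fun m hm => by rw [hg, smul_inv_smul]; exact hm
  refine ⟨fun m hm => ?_, fun m => ?_⟩
  · rw [mul_smul, mul_smul, hx.1 _ (hg' m hm), smul_inv_smul]
  · have h1 := (hg _).1 (hx.2 (g⁻¹ • m))
    rw [smul_mul', smul_inv', smul_inv_smul, ← mul_smul, ← mul_smul] at h1
    exact h1

/-- The output: `E` is elementary abelian of order at least 4, `C_M(e) = F` for all `e ∈ E#`, `C_X(e) ≤ N_X(E)`. -/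
structure Tie (E : Subgroup X) (F : Subgroup M) : Prop where
  el : ∀ e ∈ E, e * e = 1
  four : 4 ≤ Nat.card E
  fix : ∀ e ∈ E, e ≠ 1 → cv M {e} = F
  com : ∀ e ∈ E, ∀ m : M, (e • m) * m⁻¹ ∈ F
  norm : ∀ g : X, g ∈ normalizer (E : Set X) ↔ ∀ m, m ∈ F ↔ g • m ∈ F
  cent : ∀ e ∈ E, e ≠ 1 → centralizer {e} ≤ normalizer (E : Set X)
  ti : ∀ g e : X, e ∈ E → e ≠ 1 → g * e * g⁻¹ ∈ E → g ∈ normalizer (E : Set X)

/-- **LEMMA E** -/
theorem exists_tie [Finite X] [Finite M] (sq : ∀ m : M, m * m = 1)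
    (faith : ∀ x : X, (∀ m : M, x • m = m) → x = 1)
    (notv : ∀ x : X, x ≠ 1 → x * x = 1 → 4 * Nat.card (cv M {x}) ≤ Nat.card M)
    {B : Subgroup X} (el : ∀ b ∈ B, b * b = 1) (four : 4 ≤ Nat.card B)
    (idx : Nat.card M ≤ 4 * Nat.card (cv M (B : Set X))) :
    B ≤ EE (cv M (B : Set X)) ∧ Tie (EE (cv M (B : Set X)) : Subgroup X) (cv M (B : Set X)) := by
  set F := cv M (B : Set X) with hF
  -- an involution which centralises `F` has `C_M = F`
  have key : ∀ e : X, e ≠ 1 → e * e = 1 → (∀ m ∈ F, e • m = m) → cv M {e} = F := by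
    intro e he1 he2 he
    have h1 : F ≤ cv M {e} := fun m hm => mem_cv_singleton.2 (he m hm)
    have h2 := notv e he1 he2
    exact (Subgroup.eq_of_le_of_card_ge h1 (by omega)).symm
  have hcom : ∀ e : X, e * e = 1 → cv M {e} = F → ∀ m : M, (e • m) * m⁻¹ ∈ F := by
    intro e he2 he m
    rw [← he, mem_cv_singleton, smul_mul', ← mul_smul, he2, one_smul, smul_inv']
    have h1 : ∀ a b : M, a * b = b * a := fun a b => by
      have h2 := sq (a * b)
      calc a * b = a * b * ((b * a) * (b * a)) := by rw [sq (b * a), mul_one]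
        _ = a * (b * b) * a * (b * a) := by group
        _ = b * a := by rw [sq b, mul_one, sq a, one_mul]
    have h3 : m⁻¹ = m := inv_eq_of_mul_eq_one_left (sq m)
    have h4 : (e • m)⁻¹ = e • m := inv_eq_of_mul_eq_one_left (sq _)
    rw [h3, h4, h1]
  have hBF : ∀ b ∈ B, ∀ m ∈ F, b • m = m := fun b hb m hm => hm b hb
  have hB : B ≤ (EE F : Subgroup X) := by
    intro b hb
    rcases eq_or_ne b 1 with rfl | hb1
    · exact one_mem _
    · exact ⟨hBF b hb, hcom b (el b hb) (key b hb1 (el b hb) (hBF b hb))⟩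
  have hfix : ∀ e ∈ (EE F : Subgroup X), e ≠ 1 → cv M {e} = F := fun e he he1 =>
    key e he1 (EE_sq sq faith he) he.1
  -- an element which carries some `e ∈ E#` into `E` stabilises `F`
  have hst : ∀ g e : X, e ∈ (EE F : Subgroup X) → e ≠ 1 → g * e * g⁻¹ ∈ (EE F : Subgroup X) →
      ∀ m, m ∈ F ↔ g • m ∈ F := by
    intro g e he he1 hge m
    have h1 : g * e * g⁻¹ ≠ 1 := fun h => he1 (by
      have h2 : e = g⁻¹ * (g * e * g⁻¹) * g := by group
      rw [h2, h]; group)
    have h2 := hfix e he he1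
    have h3 := hfix _ hge h1
    constructor
    · intro hm
      rw [← h3, mem_cv_singleton, ← mul_smul, inv_mul_cancel_right, mul_smul]
      rw [← h2, mem_cv_singleton] at hm
      rw [hm]
    · intro hm
      rw [← h3, mem_cv_singleton, ← mul_smul, inv_mul_cancel_right, mul_smul, smul_left_cancel_iff] at hm
      rw [← h2, mem_cv_singleton]
      exact hm
  have hnor : ∀ g : X, (∀ m, m ∈ F ↔ g • m ∈ F) → g ∈ normalizer ((EE F : Subgroup X) : Set X) := by
    intro g hg
    have hg' : ∀ m, m ∈ F ↔ g⁻¹ • m ∈ F := fun m => by rw [hg (g⁻¹ • m), smul_inv_smul]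
    rw [mem_normalizer_iff]
    refine fun x => ⟨fun hx => smul_mem_EE hg hx, fun hx => ?_⟩
    have h1 := smul_mem_EE hg' hx
    have h2 : g⁻¹ * (g * x * g⁻¹) * g⁻¹⁻¹ = x := by group
    rwa [h2] at h1
  have hcard : 4 ≤ Nat.card (EE F : Subgroup X) := four.trans (card_le_of_le hB)
  obtain ⟨e₀, he₀, he₀1⟩ : ∃ e ∈ (EE F : Subgroup X), e ≠ 1 := by
    by_contra hcon
    push Not at hcon
    have h1 : (EE F : Subgroup X) = ⊥ := (eq_bot_iff_forall _).2 hcon
    rw [h1, card_bot] at hcard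
    omega
  refine ⟨hB, fun e he => EE_sq sq faith he, hcard, hfix, fun e he => he.2, fun g => ⟨fun hg => ?_, hnor g⟩, ?_, ?_⟩
  · exact hst g e₀ he₀ he₀1 ((mem_normalizer_iff.1 hg e₀).1 he₀)
  · intro e he he1 g hg
    refine hnor g (hst g e he he1 ?_)
    have h1 : g * e = e * g := (mem_centralizer_iff.1 hg e rfl).symm
    rw [h1, mul_inv_cancel_right]
    exact he
  · exact fun g e he he1 hge => hnor g (hst g e he he1 hge)

section max

variable {E : Subgroup X} {F : Subgroup M}

/-- a maximal centraliser -/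
theorem Tie.normalizer_eq (h : Tie E F) {e : X} (he : e ∈ E) (he1 : e ≠ 1)
    (hmax : ∀ R : Subgroup X, centralizer {e} ≤ R → R ≠ ⊤ → R = centralizer {e})
    (hE : normalizer (E : Set X) ≠ ⊤) : normalizer (E : Set X) = centralizer {e} :=
  hmax _ (h.cent e he he1) hE

/-- `e` is the only conjugate of `e` in `E` -/
theorem Tie.eq_of_conj (h : Tie E F) {e : X} (he : e ∈ E) (he1 : e ≠ 1)
    (hN : normalizer (E : Set X) = centralizer {e}) {g : X} (hg : g * e * g⁻¹ ∈ E) : g * e * g⁻¹ = e := by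
  have h1 := h.ti g e he he1 hg
  rw [hN] at h1
  rw [← (mem_centralizer_iff.1 h1 e rfl), mul_inv_cancel_right]

/-- all the other centralisers are contained in the maximal one -/
theorem Tie.centralizer_le (h : Tie E F) {e : X} (hN : normalizer (E : Set X) = centralizer {e}) {f : X} (hf : f ∈ E)
    (hf1 : f ≠ 1) : centralizer {f} ≤ centralizer {e} := by
  rw [← hN]
  exact h.cent f hf hf1

/-- `E` is normal in `C_X(e)` if `C_X(e)` is maximal -/
theorem Tie.conj_mem (h : Tie E F) {e : X} (he : e ∈ E) (he1 : e ≠ 1) {g x : X} (hg : g ∈ centralizer {e})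
    (hx : x ∈ E) : g * x * g⁻¹ ∈ E :=
  (mem_normalizer_iff.1 (h.cent e he he1 hg) x).1 hx

/-- the order of `E` -/
theorem Tie.exists_ne (h : Tie E F) [Finite X] (e : X) : ∃ f ∈ E, f ≠ 1 ∧ f ≠ e := by
  by_contra hcon
  push Not at hcon
  have h1 : (E : Set X) ⊆ {1, e} := fun x hx => by
    rcases eq_or_ne x 1 with h2 | h2
    · exact Or.inl h2
    · exact Or.inr (hcon x hx h2)
  have h2 : Nat.card E ≤ 2 := by
    have h3 := Set.ncard_le_ncard h1 (Set.toFinite _)
    have h4 : ({1, e} : Set X).ncard ≤ 2 := Set.ncard_insert_le _ _ |>.trans (by rw [Set.ncard_singleton])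
    exact le_trans (le_of_eq (Nat.card_coe_set_eq (E : Set X))) (h3.trans h4)
  have := h.four
  omega

end max

end Cfsg.Agent.Omega.ML.Ex.TIE

end

section


/-!
# LEMMA E at one element: the alternative EQ(x) of the exact K-list (OMEGA; helper269); K-free

`X` acts faithfully on `M` (exponent 2), `A ≤ X` elementary abelian and quadratic on `M`, `x ∈ A` with
`C_M(x) = C_M(A) =: F`.  Then `E := EE F = {h | [F,h] = 1, [M,h] ≤ F}` is elementary abelian, `A ≤ E`, `C_M(E) = F`,
`N_X(E) = N_X(F) ≥ C_X(x)` and `x^g ∈ E → g ∈ N_X(E)`.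

* `TieX A E F x`, **`exists_tieX`**;
* `TieX.normalizer_eq` : if `C_X(x)` is maximal and `N_X(E) ≠ X`, then `N_X(E) = C_X(x)`; `TieX.eq_of_conj`;
* **`quad_of_atom`** : `A` abelian, `A ≠ 1`, `|A| |C_M(A)| ≥ |M|` and `|D| |C_M(D)| < |A| |C_M(A)|` for `1 < D < A` imply that
  `A` is quadratic (Timmesfeld);
* `normal_eq_bot` : a normal abelian subgroup of exponent 2 of `X` is trivial if `X` has a normal simple subgroup `K`
  with `C_X(K) = 1`.
-/

set_option autoImplicit false

namespace Cfsg.Agent.Omega.ML.Ex.TieX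

open Subgroup Cfsg.Agent.ClassTwoFusion.Quad Cfsg.Agent.Omega.ML.Ex.TIE

variable {X : Type*} [Group X] {M : Type*} [Group M] [MulDistribMulAction X M]

/-- The output at one element. -/
structure TieX (A E : Subgroup X) (F : Subgroup M) (x : X) : Prop where
  le : A ≤ E
  el : ∀ e ∈ E, e * e = 1
  mem : x ∈ E
  fixx : cv M ({x} : Set X) = F
  fixE : cv M (E : Set X) = F
  com : ∀ e ∈ E, ∀ m : M, (e • m) * m⁻¹ ∈ F
  big : ∀ e : X, (∀ m ∈ F, e • m = m) → (∀ m : M, (e • m) * m⁻¹ ∈ F) → e ∈ E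
  norm : ∀ g : X, g ∈ normalizer (E : Set X) ↔ ∀ m, m ∈ F ↔ g • m ∈ F
  cent : centralizer {x} ≤ normalizer (E : Set X)
  ti : ∀ g : X, g * x * g⁻¹ ∈ E → g ∈ normalizer (E : Set X)

/-- **LEMMA E at one element** -/
theorem exists_tieX [Finite M] (sq : ∀ m : M, m * m = 1)
    (faith : ∀ x : X, (∀ m : M, x • m = m) → x = 1) {A : Subgroup X} {x : X} (hx : x ∈ A)
    (eq : cv M ({x} : Set X) = cv M (A : Set X))
    (quad : ∀ a ∈ A, ∀ b ∈ A, ∀ m : M, b • ((a • m) * m⁻¹) = (a • m) * m⁻¹) :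
    TieX A (EE (cv M (A : Set X)) : Subgroup X) (cv M (A : Set X)) x := by
  set F := cv M (A : Set X) with hF
  have hA : A ≤ (EE F : Subgroup X) := fun a ha => ⟨fun m hm => hm a ha, fun m b hb => quad a ha b hb m⟩
  have hxE : x ∈ (EE F : Subgroup X) := hA hx
  have hst : ∀ g : X, g * x * g⁻¹ ∈ (EE F : Subgroup X) → ∀ m, m ∈ F ↔ g • m ∈ F := by
    intro g hg m
    -- `g F ≤ F` by orders
    have h1 : F ≤ F.map (MulDistribMulAction.toMulEquiv M g : M ≃* M).toMonoidHom := by
      intro f hf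
      refine ⟨g⁻¹ • f, ?_, smul_inv_smul g f⟩
      change g⁻¹ • f ∈ F
      rw [← eq, mem_cv_singleton]
      have h2 := hg.1 f hf
      rw [mul_smul, mul_smul] at h2
      calc x • g⁻¹ • f = g⁻¹ • (g • x • g⁻¹ • f) := (inv_smul_smul _ _).symm
        _ = g⁻¹ • f := by rw [h2]
    have h3 : Nat.card (F.map (MulDistribMulAction.toMulEquiv M g : M ≃* M).toMonoidHom) = Nat.card F :=
      card_map_of_injective (MulDistribMulAction.toMulEquiv M g : M ≃* M).injective
    have h4 := Subgroup.eq_of_le_of_card_ge h1 h3.le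
    constructor
    · intro hm
      rw [h4]
      exact ⟨m, hm, rfl⟩
    · intro hm
      rw [h4] at hm
      obtain ⟨n, hn, hn'⟩ := hm
      have h5 : g • n = g • m := hn'
      rw [← (smul_left_cancel_iff g).1 h5]
      exact hn
  have hnor : ∀ g : X, (∀ m, m ∈ F ↔ g • m ∈ F) → g ∈ normalizer ((EE F : Subgroup X) : Set X) := by
    intro g hg
    have hg' : ∀ m, m ∈ F ↔ g⁻¹ • m ∈ F := fun m => by rw [hg (g⁻¹ • m), smul_inv_smul]
    rw [mem_normalizer_iff]
    refine fun x => ⟨fun hx => smul_mem_EE hg hx, fun hx => ?_⟩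
    have h1 := smul_mem_EE hg' hx
    have h2 : g⁻¹ * (g * x * g⁻¹) * g⁻¹⁻¹ = x := by group
    rwa [h2] at h1
  exact {
    le := hA
    el := fun e he => EE_sq sq faith he
    mem := hxE
    fixx := eq
    fixE := le_antisymm (fun m hm => by rw [← eq, mem_cv_singleton]; exact hm x hxE)
      (fun m hm e he => he.1 m hm)
    com := fun e he => he.2
    big := fun e h1 h2 => ⟨h1, h2⟩
    norm := fun g => ⟨fun hg => hst g ((mem_normalizer_iff.1 hg x).1 hxE), hnor g⟩
    cent := fun g hg => hnor g (hst g (by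
      have h1 : g * x = x * g := (mem_centralizer_iff.1 hg x rfl).symm
      rw [h1, mul_inv_cancel_right]
      exact hxE))
    ti := fun g hg => hnor g (hst g hg) }

section max

variable {A E : Subgroup X} {F : Subgroup M} {x : X}

/-- a maximal centraliser -/
theorem TieX.normalizer_eq (h : TieX A E F x)
    (hmax : ∀ R : Subgroup X, centralizer {x} ≤ R → R ≠ ⊤ → R = centralizer {x})
    (hE : normalizer (E : Set X) ≠ ⊤) : normalizer (E : Set X) = centralizer {x} :=
  hmax _ h.cent hE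

/-- `x` is the only conjugate of `x` in `E` -/
theorem TieX.eq_of_conj (h : TieX A E F x) (hN : normalizer (E : Set X) = centralizer {x}) {g : X}
    (hg : g * x * g⁻¹ ∈ E) : g * x * g⁻¹ = x := by
  have h1 := h.ti g hg
  rw [hN] at h1
  rw [← (mem_centralizer_iff.1 h1 x rfl), mul_inv_cancel_right]

/-- `E` is normalised by `C_X(x)` -/
theorem TieX.conj_mem (h : TieX A E F x) {g y : X} (hg : g ∈ centralizer {x}) (hy : y ∈ E) : g * y * g⁻¹ ∈ E :=
  (mem_normalizer_iff.1 (h.cent hg) y).1 hy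

/-- `E` is abelian -/
theorem TieX.comm (h : TieX A E F x) {a b : X} (ha : a ∈ E) (hb : b ∈ E) : a * b = b * a := by
  have h1 : ∀ z ∈ E, z⁻¹ = z := fun z hz => inv_eq_of_mul_eq_one_right (h.el z hz)
  calc a * b = (a * b)⁻¹ := (h1 _ (E.mul_mem ha hb)).symm
    _ = b⁻¹ * a⁻¹ := mul_inv_rev _ _
    _ = b * a := by rw [h1 _ ha, h1 _ hb]

/-- `E ≤ C_X(x)` -/
theorem TieX.le_centralizer (h : TieX A E F x) : E ≤ centralizer {x} := fun e he =>
  mem_centralizer_iff.2 fun y hy => by
    rw [Set.mem_singleton_iff] at hy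
    subst hy
    exact h.comm h.mem he

theorem TieX.card_le [Finite X] (h : TieX A E F x) : Nat.card A ≤ Nat.card E := card_le_of_le h.le

end max

/-! ### Quadratic action -/

/-- `C_A([u, A])` -/
def st (A : Subgroup X) (u : M) : Subgroup X where
  carrier := {c | c ∈ A ∧ ∀ a ∈ A, c • ((a • u) * u⁻¹) = (a • u) * u⁻¹}
  one_mem' := ⟨A.one_mem, fun a _ => one_smul _ _⟩
  mul_mem' := fun {c e} hc he => ⟨A.mul_mem hc.1 he.1, fun a ha => by rw [mul_smul, he.2 a ha, hc.2 a ha]⟩
  inv_mem' := fun {c} hc => ⟨A.inv_mem hc.1, fun a ha => by rw [inv_smul_eq_iff, hc.2 a ha]⟩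

omit [MulDistribMulAction X M] in
theorem card_fib' [Finite X] [Finite M] {A S : Subgroup X} {C W : Subgroup M} (hCW : C ≤ W) (f : X → M)
    (hf : ∀ a ∈ A, f a ∈ W) (hfib : ∀ a ∈ A, ∀ b ∈ A, (f b)⁻¹ * f a ∈ C → b⁻¹ * a ∈ S) :
    Nat.card A * Nat.card C ≤ Nat.card S * Nat.card W := by
  classical
  let F : A × C → W := fun p => ⟨f p.1 * p.2, W.mul_mem (hf _ p.1.2) (hCW p.2.2)⟩
  let r : W → A × C := fun w => if h : ∃ p, F p = w then h.choose else 1
  have hr : ∀ p, F (r (F p)) = F p := by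
    intro p
    have h : ∃ q, F q = F p := ⟨p, rfl⟩
    have e : r (F p) = h.choose := dif_pos h
    rw [e]; exact h.choose_spec
  have hS : ∀ p q : A × C, F q = F p → (q.1 : X)⁻¹ * p.1 ∈ S := by
    intro p q h
    refine hfib _ p.1.2 _ q.1.2 ?_
    have h1 : f q.1 * q.2 = f p.1 * p.2 := congrArg Subtype.val h
    have h2 : (f q.1)⁻¹ * f p.1 = q.2 * (p.2 : M)⁻¹ := by
      rw [inv_mul_eq_iff_eq_mul, ← mul_assoc, h1, mul_inv_cancel_right]
    rw [h2]
    exact C.mul_mem q.2.2 (C.inv_mem p.2.2)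
  rw [← Nat.card_prod, ← Nat.card_prod]
  refine Nat.card_le_card_of_injective
    (fun p : A × C => ((⟨((r (F p)).1 : X)⁻¹ * p.1, hS p (r (F p)) (hr p)⟩ : S), F p)) ?_
  intro p q h
  simp only [Prod.mk.injEq, Subtype.mk.injEq] at h
  obtain ⟨h1, h2⟩ := h
  rw [h2] at h1
  have h3 : (p.1 : X) = q.1 := mul_left_cancel h1
  have h4 : f p.1 * p.2 = f q.1 * q.2 := congrArg Subtype.val h2
  rw [h3] at h4
  exact Prod.ext (Subtype.ext h3) (Subtype.ext (mul_left_cancel h4))

/-- Atoms are quadratic (Timmesfeld's replacement). -/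
theorem quad_of_atom [Finite X] [Finite M] (sq : ∀ m : M, m * m = 1) {A : Subgroup X}
    (ab : ∀ a ∈ A, ∀ b ∈ A, a * b = b * a) (hne : A ≠ ⊥)
    (hbot : Nat.card M ≤ Nat.card A * Nat.card (cv M (A : Set X)))
    (hmin : ∀ D < A, D ≠ ⊥ → Nat.card D * Nat.card (cv M (D : Set X)) < Nat.card A * Nat.card (cv M (A : Set X))) :
    ∀ a ∈ A, ∀ b ∈ A, ∀ m : M, b • ((a • m) * m⁻¹) = (a • m) * m⁻¹ := by
  have hc : ∀ a b : M, a * b = b * a := fun a b => by
    have h1 : ∀ z : M, z⁻¹ = z := fun z => inv_eq_of_mul_eq_one_right (sq z)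
    calc a * b = (a * b)⁻¹ := (h1 _).symm
      _ = b⁻¹ * a⁻¹ := mul_inv_rev _ _
      _ = b * a := by rw [h1, h1]
  intro a₁ ha₁ b₁ hb₁ u
  have hle : st A u ≤ A := fun c hc => hc.1
  -- the fibres
  have hfib : ∀ a ∈ A, ∀ b ∈ A, (b • u * u⁻¹)⁻¹ * (a • u * u⁻¹) ∈ cv M (A : Set X) → b⁻¹ * a ∈ st A u := by
    intro a ha b hb h
    refine ⟨A.mul_mem (A.inv_mem hb) ha, fun e he => ?_⟩
    set c := b⁻¹ * a with hcdef
    have hcA : c ∈ A := A.mul_mem (A.inv_mem hb) ha
    have h0 : a = b * c := by rw [hcdef, mul_inv_cancel_left]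
    have h2 : c • u * u⁻¹ ∈ cv M (A : Set X) := by
      have h3 : (b • u * u⁻¹)⁻¹ * (a • u * u⁻¹) = b • (c • u * u⁻¹) := by
        rw [smul_mul', smul_inv', ← mul_smul, ← h0, mul_inv_rev, inv_inv, mul_assoc, hc (b • u)⁻¹ (a • u * u⁻¹),
          hc (a • u) u⁻¹, mul_assoc, ← mul_assoc u, mul_inv_cancel, one_mul]
      rw [h3] at h
      intro x hx
      have h4 := h b⁻¹ (A.inv_mem hb)
      rw [inv_smul_smul] at h4
      rw [h4]
      exact h x hx
    have h3 : c • (e • u) = e • (c • u) := by rw [← mul_smul, ← mul_smul, ab c hcA e he]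
    have h4 := h2 e he
    rw [smul_mul', smul_inv'] at h4
    -- `h4 : e • c • u * (e • u)⁻¹ = c • u * u⁻¹`
    rw [smul_mul', smul_inv', h3]
    calc e • (c • u) * (c • u)⁻¹ = (e • (c • u) * (e • u)⁻¹) * (e • u * (c • u)⁻¹) := by group
      _ = (c • u * u⁻¹) * (e • u * (c • u)⁻¹) := by rw [h4]
      _ = (e • u * (c • u)⁻¹) * (c • u * u⁻¹) := hc _ _
      _ = e • u * u⁻¹ := by group
  have h1 : Nat.card A * Nat.card (cv M (A : Set X)) ≤ Nat.card (st A u) * Nat.card (cv M (st A u : Set X)) :=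
    card_fib' (cv_anti (SetLike.coe_subset_coe.2 hle)) (fun a => a • u * u⁻¹) (fun a ha c hc => hc.2 a ha) hfib
  by_cases hst : st A u = ⊥
  · exfalso
    have hA1 : Nat.card A * Nat.card (cv M (A : Set X)) = Nat.card M := by
      refine le_antisymm ?_ hbot
      rw [hst, card_bot, one_mul] at h1
      exact h1.trans (Nat.card_le_card_of_injective _ Subtype.val_injective)
    have hinj : ∀ a ∈ A, ∀ b ∈ A, (b • u * u⁻¹)⁻¹ * (a • u * u⁻¹) ∈ cv M (A : Set X) → a = b := by
      intro a ha b hb h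
      have := hfib a ha b hb h
      rw [hst, mem_bot, inv_mul_eq_one] at this
      exact this.symm
    have hbij : Function.Bijective (fun x : A × cv M (A : Set X) => (((x.1 : X) • u * u⁻¹) * (x.2 : M) : M)) := by
      rw [Nat.bijective_iff_injective_and_card]
      refine ⟨?_, ?_⟩
      · rintro ⟨a, c⟩ ⟨a', c'⟩ h
        have h' : ((a : X) • u * u⁻¹) * (c : M) = ((a' : X) • u * u⁻¹) * (c' : M) := h
        have e : (a : X) = a' := by
          apply hinj a a.2 a' a'.2
          have : ((a' : X) • u * u⁻¹)⁻¹ * ((a : X) • u * u⁻¹) = (c' : M) * (c : M)⁻¹ := by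
            rw [inv_mul_eq_iff_eq_mul, ← mul_assoc, ← h', mul_inv_cancel_right]
          rw [this]
          exact mul_mem c'.2 (inv_mem c.2)
        rw [e] at h'
        exact Prod.ext (Subtype.ext e) (Subtype.ext (mul_left_cancel h'))
      · rw [Nat.card_prod]; exact hA1
    obtain ⟨⟨a, c⟩, hac⟩ := hbij.2 u
    have hac' : ((a : X) • u * u⁻¹) * (c : M) = u := hac
    have h3 : (a : X) • u = (c : M)⁻¹ := by
      have h5 : (a : X) • u = u * (c : M)⁻¹ * u := by
        calc (a : X) • u = ((a : X) • u * u⁻¹ * (c : M)) * (c : M)⁻¹ * u := by group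
          _ = u * (c : M)⁻¹ * u := by rw [hac']
      rw [h5, hc u (c : M)⁻¹, mul_assoc, sq, mul_one]
    have h4 : (a : X) • u ∈ cv M (A : Set X) := by rw [h3]; exact inv_mem c.2
    have h5 : u ∈ cv M (A : Set X) := by
      have := h4 (a : X)⁻¹ (A.inv_mem a.2)
      rw [inv_smul_smul] at this
      rw [this]; exact h4
    apply hne
    rw [Subgroup.eq_bot_iff_forall]
    intro x hx
    apply hinj x hx 1 A.one_mem
    rw [h5 x hx, one_smul, mul_inv_cancel, inv_one, one_mul]
    exact one_mem _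
  · have : st A u = A := by
      by_contra h
      exact absurd (hmin _ (lt_of_le_of_ne hle h) hst) (not_lt.2 h1)
    have hb' : b₁ ∈ st A u := by rw [this]; exact hb₁
    exact hb'.2 a₁ ha₁

/-! ### No normal elementary abelian subgroups -/

/-- a normal subgroup of exponent 2 of `X` is trivial if `X` has a normal simple subgroup `K` with `C_X(K) = 1` -/
theorem normal_eq_bot {K E : Subgroup X} (hK : K.Normal) (hs : IsSimpleGroup K) (hcen : centralizer (K : Set X) = ⊥)
    (hE : E.Normal) (el : ∀ e ∈ E, e * e = 1) : E = ⊥ := by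
  have hcomm : ∀ a ∈ E, ∀ b ∈ E, a * b = b * a := by
    intro a ha b hb
    have h1 : ∀ z ∈ E, z⁻¹ = z := fun z hz => inv_eq_of_mul_eq_one_right (el z hz)
    calc a * b = (a * b)⁻¹ := (h1 _ (E.mul_mem ha hb)).symm
      _ = b⁻¹ * a⁻¹ := mul_inv_rev _ _
      _ = b * a := by rw [h1 _ ha, h1 _ hb]
  have h1 : (E.subgroupOf K).Normal := Subgroup.Normal.subgroupOf hE K
  have h2 : E ⊓ K = ⊥ := by
    rcases hs.eq_bot_or_eq_top_of_normal _ h1 with h | h
    · exact (subgroupOf_eq_bot.1 h).eq_bot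
    · exfalso
      have hKE : K ≤ E := subgroupOf_eq_top.1 h
      have h3 : K ≤ centralizer (K : Set X) := fun a ha =>
        mem_centralizer_iff.2 fun b hb => hcomm b (hKE hb) a (hKE ha)
      rw [hcen, le_bot_iff] at h3
      obtain ⟨k, hk⟩ := exists_ne (1 : K)
      exact hk (Subtype.ext (mem_bot.1 (h3 ▸ k.2)))
  have h3 : E ≤ centralizer (K : Set X) := by
    intro e he
    refine mem_centralizer_iff.2 fun k hk => ?_
    have h4 : e * k * e⁻¹ * k⁻¹ ∈ E ⊓ K :=
      ⟨by
        have h5 := hE.conj_mem _ (E.inv_mem he) k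
        have h6 : e * k * e⁻¹ * k⁻¹ = e * (k * e⁻¹ * k⁻¹) := by group
        rw [h6]
        exact E.mul_mem he h5,
       K.mul_mem (hK.conj_mem _ hk e) (K.inv_mem hk)⟩
    rw [h2, mem_bot] at h4
    have h5 : e * k * e⁻¹ = k := by
      have h6 := mul_inv_eq_one.1 h4
      exact h6
    calc k * e = (e * k * e⁻¹) * e := by rw [h5]
      _ = e * k := by group
  rw [hcen, le_bot_iff] at h3
  exact h3

end Cfsg.Agent.Omega.ML.Ex.TieX

end

section


/-!
# The K-list for exact subgroups: the dichotomy at `x ∈ A#` and extraspecial centralisers (helper181)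

`InX H M K T A` (`Def.lean`, `A` exact and sub-exact, NOT necessarily an atom), `F := C_M(A)`,
`EE F = {h | [F,h] = 1, [M,h] ≤ F}` (`TIE.lean`), any `|A| ≥ 4`.

* **`lt_or_eq`** (DICHOTOMY) : `x ∈ A` : `|M : C_M(x)| < |A|` or `EQ(x)`: `C_M(x) = F`;
* `quad` : `EQ(x)` for ONE `x ∈ A` ⟹ `A` is quadratic on `M`;   `le_EE` : then `A ≤ EE F`;
* **`conj_mem_EE`** : `EQ(x)` ⟹ `C_H(x) ≤ N_H(EE F)`;   `exists_normal` : an elementary abelian `E ≥ A`, `C_H(x) ≤ N_H(E)`;
* `false_of_card` : `EQ(x)` is impossible if every elementary abelian `E ∋ x` normalised by `C_H(x)` has `|E| < |A|`;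
* **`false_of_irr`** : `EQ(x)` is impossible if `A ≤ R`, `R` nonabelian, `P ≤ C_H(x)` and the `P`-invariant subgroups
  `B ≠ R` of `R` have `|B| < |A|` (extraspecial case: `|B| ≤ 2`);
* `tv`, **`tv_eq`** : transvections; two commuting ones with different axes, whose product is a transvection, have the
  same centre;
* **`false_of_rank_two`** : `InX` is impossible if some conjugate of `A` is in `R`, `z ∈ Z(R)` an involution, `R`
  nonabelian of 2-rank 2, `R/⟨z⟩` irreducible for `P ≤ C_H(z)`, all involutions of `R` conjugate to `z` (`J2`, `J3`).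
-/

set_option autoImplicit false

namespace Cfsg.Agent.Omega.ML.Ex.Extra

open Subgroup Cfsg.Agent.Omega.ML.Ex Cfsg.Agent.Omega.ML.Ex.TIE Cfsg.Agent.ClassTwoFusion.Quad
open Cfsg.Agent.Omega.NOThree.NoOver Cfsg.Agent.Omega.ML.CD

universe u v

variable {H : Type u} [Group H] {M : Type v} [Group M] [MulDistribMulAction H M] {K T A : Subgroup H}

/-- **`EQ(x)`: `A` is quadratic** (`M/F ≅ [M,x] ≤ F`). -/
theorem quad (h : InX H M K T A) {x : H} (hx : x ∈ A) (hE : cv M ({x} : Set H) = cv M (A : Set H)) {a b : H}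
    (ha : a ∈ A) (hb : b ∈ A) (m : M) : b • (a • m * m) = a • m * m := by
  have sq := h.sq
  have hM := h.comm
  have hinv : ∀ y : M, y⁻¹ = y := fun y => inv_eq_of_mul_eq_one_right (sq y)
  -- `[m, x] ∈ C_M(x) = C_M(A)`
  have h1 : x • m * m ∈ cv M ({x} : Set H) := by
    rw [mem_cv_singleton, smul_mul', ← mul_smul, h.el x hx, one_smul, hM]
  rw [hE] at h1
  have h2 : a • (x • m * m) = x • m * m := h1 a ha
  have h3 : a • m * m ∈ cv M ({x} : Set H) := by
    rw [mem_cv_singleton, smul_mul', ← mul_smul, h.A_comm x hx a ha, mul_smul]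
    rw [smul_mul'] at h2
    -- `a x m * a m = x m * m`
    have h4 : a • x • m = x • m * m * a • m := by
      calc a • x • m = a • x • m * (a • m * a • m) := by rw [sq, mul_one]
        _ = a • x • m * a • m * a • m := by rw [mul_assoc]
        _ = x • m * m * a • m := by rw [h2]
    rw [h4]
    calc x • m * m * a • m * x • m = (x • m * x • m) * (m * a • m) := by
          rw [hM (x • m * m * a • m) (x • m), mul_assoc (x • m) m, ← mul_assoc]
      _ = a • m * m := by rw [sq, one_mul, hM]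
  rw [hE] at h3
  exact h3 b hb

/-- `EQ(x)`: `A ≤ EE (C_M(A))` -/
theorem le_EE (h : InX H M K T A) {x : H} (hx : x ∈ A) (hE : cv M ({x} : Set H) = cv M (A : Set H)) :
    A ≤ (EE (cv M (A : Set H)) : Subgroup H) := by
  intro a ha
  refine ⟨fun m hm => hm a ha, fun m b hb => ?_⟩
  have h1 : m⁻¹ = m := inv_eq_of_mul_eq_one_right (h.sq m)
  rw [h1]
  exact quad h hx hE ha hb m

/-- exponent two groups are commutative -/
theorem comm_of_sq' {N : Type v} [Group N] (sq : ∀ m : N, m * m = 1) (x y : N) : x * y = y * x := by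
  have h1 : ∀ m : N, m⁻¹ = m := fun m => inv_eq_of_mul_eq_one_right (sq m)
  calc x * y = (x * y)⁻¹ := (h1 _).symm
    _ = y⁻¹ * x⁻¹ := mul_inv_rev x y
    _ = y * x := by rw [h1, h1]

/-- **DICHOTOMY** -/
theorem lt_or_eq [Finite M] (h : InX H M K T A) {x : H} (hx : x ∈ A) :
    (cv M ({x} : Set H)).index < Nat.card A ∨ cv M ({x} : Set H) = cv M (A : Set H) := by
  have hle : cv M (A : Set H) ≤ cv M ({x} : Set H) := cv_anti (Set.singleton_subset_iff.2 hx)
  have h1 : (cv M (A : Set H)).relIndex (cv M ({x} : Set H)) * (cv M ({x} : Set H)).index = Nat.card A := by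
    rw [← h.exact]
    exact relIndex_mul_index hle
  by_cases h2 : (cv M (A : Set H)).relIndex (cv M ({x} : Set H)) = 1
  · exact Or.inr (le_antisymm (relIndex_eq_one.1 h2) hle)
  · left
    have h3 : (cv M (A : Set H)).relIndex (cv M ({x} : Set H)) ≠ 0 := by
      intro h4
      rw [h4, zero_mul] at h1
      have := h.four
      omega
    have h4 : 0 < (cv M ({x} : Set H)).index := Nat.pos_of_ne_zero index_ne_zero_of_finite
    rw [← h1]
    have h5 : 2 ≤ (cv M (A : Set H)).relIndex (cv M ({x} : Set H)) := by omega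
    nlinarith

/-- `|M : C_M(x)| ≤ |A|` -/
theorem index_le [Finite M] (h : InX H M K T A) {x : H} (hx : x ∈ A) :
    (cv M ({x} : Set H)).index ≤ Nat.card A := by
  rcases lt_or_eq h hx with h1 | h1
  · exact h1.le
  · rw [h1, h.exact]

/-- an element commuting with `x` stabilises `C_M(x)` -/
theorem stab_of_comm {x c : H} (hc : c * x = x * c) (m : M) : m ∈ cv M ({x} : Set H) ↔ c • m ∈ cv M ({x} : Set H) := by
  rw [mem_cv_singleton, mem_cv_singleton, ← mul_smul, ← hc, mul_smul, smul_left_cancel_iff]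

/-- **`EQ(x)`: `C_H(x)` normalises `EE (C_M(A))`.** -/
theorem conj_mem_EE {x : H} (hE : cv M ({x} : Set H) = cv M (A : Set H)) {c e : H} (hc : c * x = x * c)
    (he : e ∈ (EE (cv M (A : Set H)) : Subgroup H)) : c * e * c⁻¹ ∈ (EE (cv M (A : Set H)) : Subgroup H) :=
  smul_mem_EE (fun m => by rw [← hE]; exact stab_of_comm hc m) he

/-- **`EQ(x)`: an elementary abelian `E ≥ A` normalised by `C_H(x)`.** -/
theorem exists_normal (h : InX H M K T A) {x : H} (hx : x ∈ A)
    (hE : cv M ({x} : Set H) = cv M (A : Set H)) :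
    ∃ E : Subgroup H, A ≤ E ∧ (∀ e ∈ E, e * e = 1) ∧ centralizer ({x} : Set H) ≤ normalizer (E : Set H) := by
  refine ⟨EE (cv M (A : Set H)), le_EE h hx hE, fun e he => EE_sq h.sq h.faith he, fun c hc => ?_⟩
  have hc' : c * x = x * c := mem_centralizer_singleton_iff.1 hc
  rw [mem_normalizer_iff]
  refine fun y => ⟨fun hy => conj_mem_EE hE hc' hy, fun hy => ?_⟩
  have h1 : c⁻¹ * x = x * c⁻¹ := by rw [inv_mul_eq_iff_eq_mul, ← mul_assoc, hc', mul_inv_cancel_right]
  have h2 := conj_mem_EE hE h1 hy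
  have h3 : c⁻¹ * (c * y * c⁻¹) * c⁻¹⁻¹ = y := by group
  rwa [h3] at h2

/-- `EQ(x)` is impossible if the elementary abelian `E ∋ x` normalised by `C_H(x)` are smaller than `A`. -/
theorem false_of_card [Finite H] (h : InX H M K T A) {x : H} (hx : x ∈ A)
    (hE : cv M ({x} : Set H) = cv M (A : Set H))
    (hs : ∀ E : Subgroup H, (∀ e ∈ E, e * e = 1) → x ∈ E → centralizer ({x} : Set H) ≤ normalizer (E : Set H) →
      Nat.card E < Nat.card A) : False := by
  obtain ⟨E, h1, h2, h3⟩ := exists_normal h hx hE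
  exact absurd (card_le_of_le h1) (not_le.2 (hs E h2 (h1 hx) h3))

/-- `EE (C_M(A))` does not contain a nonabelian group. -/
theorem not_le_EE (h : InX H M K T A) {R : Subgroup H} (nab : ∃ a ∈ R, ∃ b ∈ R, a * b ≠ b * a) :
    ¬ R ≤ (EE (cv M (A : Set H)) : Subgroup H) := by
  intro h2
  obtain ⟨a, ha, b, hb, hab⟩ := nab
  have h3 : ∀ y ∈ R, y⁻¹ = y := fun y hy => inv_eq_of_mul_eq_one_right (EE_sq h.sq h.faith (h2 hy))
  apply hab
  calc a * b = (a * b)⁻¹ := (h3 _ (R.mul_mem ha hb)).symm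
    _ = b⁻¹ * a⁻¹ := mul_inv_rev _ _
    _ = b * a := by rw [h3 a ha, h3 b hb]

/-- **`EQ(x)` and an irreducible group `P ≤ C_H(x)` on a nonabelian `R ≥ A`.** -/
theorem false_of_irr [Finite H] (h : InX H M K T A) {x : H} (hx : x ∈ A)
    (hE : cv M ({x} : Set H) = cv M (A : Set H)) {P R : Subgroup H} (hP : ∀ p ∈ P, p * x = x * p) (hAR : A ≤ R)
    (hR : ∀ p ∈ P, ∀ r ∈ R, p * r * p⁻¹ ∈ R)
    (irr : ∀ B ≤ R, (∀ p ∈ P, ∀ b ∈ B, p * b * p⁻¹ ∈ B) → Nat.card B < Nat.card A ∨ B = R)
    (nab : ∃ a ∈ R, ∃ b ∈ R, a * b ≠ b * a) : False := by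
  rcases irr ((EE (cv M (A : Set H)) : Subgroup H) ⊓ R) inf_le_right
    (fun p hp b hb => ⟨conj_mem_EE hE (hP p hp) hb.1, hR p hp b hb.2⟩) with h1 | h1
  · have h2 : A ≤ (EE (cv M (A : Set H)) : Subgroup H) ⊓ R := le_inf (le_EE h hx hE) hAR
    exact absurd (card_le_of_le h2) (not_le.2 h1)
  · exact not_le_EE h nab (inf_eq_right.1 h1)

/-- an element with `|M : C_M(a)| = 2` is a transvection -/
theorem tv (sq : ∀ m : M, m * m = 1) {a : H} (ha : (cv M ({a} : Set H)).index = 2) :
    ∃ v : M, v ≠ 1 ∧ ∀ m : M, (a • m = m ∧ a • m * m = 1) ∨ (a • m ≠ m ∧ a • m * m = v) := by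
  have hinv : ∀ y : M, y⁻¹ = y := fun y => inv_eq_of_mul_eq_one_right (sq y)
  have hM := comm_of_sq' sq
  obtain ⟨m₀, hm₀⟩ : ∃ m : M, m ∉ cv M ({a} : Set H) := by
    by_contra hc
    push Not at hc
    rw [(eq_top_iff' _).2 hc, index_top] at ha
    omega
  rw [mem_cv_singleton] at hm₀
  refine ⟨a • m₀ * m₀, fun h1 => hm₀ ?_, fun m => ?_⟩
  · rw [mul_eq_one_iff_eq_inv, hinv] at h1
    exact h1
  · by_cases hm : a • m = m
    · exact Or.inl ⟨hm, by rw [hm, sq]⟩
    · right
      refine ⟨hm, ?_⟩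
      have h1 : m * m₀ ∈ cv M ({a} : Set H) := by
        rw [mul_mem_iff_of_index_two ha]
        exact ⟨fun h2 => absurd (mem_cv_singleton.1 h2) hm, fun h2 => absurd (mem_cv_singleton.1 h2) hm₀⟩
      rw [mem_cv_singleton, smul_mul'] at h1
      -- `a m * a m₀ = m * m₀`
      calc a • m * m = (a • m * a • m₀) * (a • m₀ * m) := by
            rw [mul_assoc, ← mul_assoc (a • m₀), sq, one_mul]
        _ = (m * m₀) * (a • m₀ * m) := by rw [h1]
        _ = (m₀ * m) * (m * a • m₀) := by rw [hM m m₀, hM (a • m₀) m]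
        _ = m₀ * (m * m) * a • m₀ := by simp only [mul_assoc]
        _ = a • m₀ * m₀ := by rw [sq, mul_one, hM]

/-- **Two commuting transvections with different axes whose product is a transvection have the same centre.** -/
theorem tv_eq (sq : ∀ m : M, m * m = 1) {a b : H} (hab : a * b = b * a)
    (ha : (cv M ({a} : Set H)).index = 2) (hb : (cv M ({b} : Set H)).index = 2)
    (hc : (cv M ({a * b} : Set H)).index = 2) (hne : cv M ({a} : Set H) ≠ cv M ({b} : Set H)) [Finite M] {v : M}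
    (hv : ∀ m : M, (a • m = m ∧ a • m * m = 1) ∨ (a • m ≠ m ∧ a • m * m = v)) :
    ∀ m : M, (b • m = m ∧ b • m * m = 1) ∨ (b • m ≠ m ∧ b • m * m = v) := by
  have hinv : ∀ y : M, y⁻¹ = y := fun y => inv_eq_of_mul_eq_one_right (sq y)
  have hM := comm_of_sq' sq
  obtain ⟨w, hw1, hw⟩ := tv sq hb
  obtain ⟨c, hc1, hcc⟩ := tv sq hc
  -- `m ∈ H_a - H_b`, `n ∈ H_b - H_a`
  have key : ∀ {N L : Subgroup M}, N.index = 2 → L.index = 2 → N ≠ L → ∃ m ∈ N, m ∉ L := by
    intro N L hN hL hNL
    by_contra hcon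
    push Not at hcon
    have h1 : N ≤ L := hcon
    have h2 := relIndex_mul_index h1
    rw [hN, hL] at h2
    have h3 : N.relIndex L = 1 := by omega
    exact hNL (le_antisymm h1 (relIndex_eq_one.1 h3))
  obtain ⟨m, hma, hmb⟩ := key ha hb hne
  obtain ⟨n, hnb, hna⟩ := key hb ha hne.symm
  rw [mem_cv_singleton] at hma hmb hnb hna
  have hmb' : b • m * m = w := ((hw m).resolve_left fun h1 => hmb h1.1).2
  have hna' : a • n * n = v := ((hv n).resolve_left fun h1 => hna h1.1).2
  -- `ab m = a (b m) = b (a m) = b m`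
  have h1 : (a * b) • m = b • m := by rw [hab, mul_smul, hma]
  have h2 : (a * b) • n = a • n := by rw [mul_smul, hnb]
  have h3 : (a * b) • m * m = c := ((hcc m).resolve_left fun h4 => hmb (by rw [← h1]; exact h4.1)).2
  have h4 : (a * b) • n * n = c := ((hcc n).resolve_left fun h4 => hna (by rw [← h2]; exact h4.1)).2
  have h5 : w = v := by rw [← hmb', ← hna', ← h1, h3, ← h4, h2]
  rw [← h5]
  exact hw

/-- **`R` nonabelian of 2-rank at most 2, irreducible modulo `⟨z⟩`, contains `A`**: impossible. -/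
theorem false_of_rank_two_aux [Finite H] [Finite M] (h : InX H M K T A) {z : H} (zz : z * z = 1) (z1 : z ≠ 1)
    {P R : Subgroup H} (zR : z ∈ R) (cR : ∀ r ∈ R, r * z = z * r) (hP : ∀ p ∈ P, p * z = z * p)
    (hR : ∀ p ∈ P, ∀ r ∈ R, p * r * p⁻¹ ∈ R)
    (irr : ∀ B ≤ R, (∀ p ∈ P, ∀ b ∈ B, p * b * p⁻¹ ∈ B) → (∀ b ∈ B, b = 1 ∨ b = z) ∨ B = R)
    (nab : ∃ a ∈ R, ∃ b ∈ R, a * b ≠ b * a) (rk : ∀ B ≤ R, (∀ b ∈ B, b * b = 1) → Nat.card B ≤ 4)
    (fus : ∀ r ∈ R, r * r = 1 → r ≠ 1 → ∃ k : H, k * z * k⁻¹ = r) (hAR : A ≤ R) : False := by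
  have sq := h.sq
  have hM := comm_of_sq' sq
  have hinv : ∀ y : M, y⁻¹ = y := fun y => inv_eq_of_mul_eq_one_right (sq y)
  have h4 : Nat.card A = 4 := le_antisymm (rk A hAR h.el) h.four
  -- `z ∈ A`
  have hz : z ∈ A := by
    have hzc : ∀ x ∈ A, x * z = z * x := fun x hx => cR x (hAR hx)
    have hz2 : ∀ b : H, b * z * z = b := fun b => by rw [mul_assoc, zz, mul_one]
    -- `N = A ⟨z⟩`
    let N : Subgroup H :=
      { carrier := {b | b ∈ A ∨ b * z ∈ A}
        one_mem' := Or.inl A.one_mem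
        mul_mem' := by
          rintro a b (ha | ha) (hb | hb)
          · exact Or.inl (A.mul_mem ha hb)
          · exact Or.inr (by rw [mul_assoc]; exact A.mul_mem ha hb)
          · refine Or.inr ?_
            have h5 : a * b * z = (a * z) * b := by rw [mul_assoc, hzc b hb, ← mul_assoc]
            rw [h5]
            exact A.mul_mem ha hb
          · refine Or.inl ?_
            have h5 : a * b = (a * z) * (b * z) := by
              have h6 := hzc _ hb
              rw [hz2] at h6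
              rw [mul_assoc, ← h6]
            rw [h5]
            exact A.mul_mem ha hb
        inv_mem' := by
          rintro a (ha | ha)
          · exact Or.inl (A.inv_mem ha)
          · refine Or.inr ?_
            have h5 : a⁻¹ * z = (a * z)⁻¹ := by
              have h6 := hzc _ (A.inv_mem ha)
              have h7 : z⁻¹ = z := inv_eq_of_mul_eq_one_right zz
              have h8 : (a * z)⁻¹ * z = a⁻¹ := by
                rw [h6, mul_inv_rev, h7, ← mul_assoc, zz, one_mul]
              rw [← h8, hz2]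
            rw [h5]
            exact A.inv_mem ha }
    have hN : N ≤ R := by
      rintro b (hb | hb)
      · exact hAR hb
      · have h5 := R.mul_mem (hAR hb) zR
        rwa [hz2] at h5
    have h8 : Nat.card N ≤ 4 := by
      refine rk N hN fun b hb => ?_
      have hbz : b * z = z * b := cR b (hN hb)
      rcases hb with hb | hb
      · exact h.el b hb
      · have h5 := h.el _ hb
        calc b * b = b * b * (z * z) := by rw [zz, mul_one]
          _ = b * (b * z) * z := by simp only [mul_assoc]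
          _ = b * (z * b) * z := by rw [hbz]
          _ = b * z * (b * z) := by simp only [mul_assoc]
          _ = 1 := h5
    have h9 : A = N := Subgroup.eq_of_le_of_card_ge (fun x hx => Or.inl hx) (by rw [h4]; exact h8)
    rw [h9]
    exact Or.inr (by rw [zz]; exact A.one_mem)
  rcases lt_or_eq h hz with h5 | hE
  swap
  · -- `EQ(z)`
    refine false_of_irr h hz hE hP hAR hR (fun B hB hBP => ?_) nab
    rcases irr B hB hBP with h6 | h6
    · left
      have h7 : (B : Set H) ⊆ {1, z} := fun b hb => h6 b hb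
      have h8 := Set.ncard_le_ncard h7 (Set.toFinite _)
      have h9 : ({1, z} : Set H).ncard ≤ 2 := (Set.ncard_insert_le _ _).trans (by rw [Set.ncard_singleton])
      have h10 : Nat.card B = (B : Set H).ncard := rfl
      omega
    · exact Or.inr h6
  · -- `z` is a transvection; all involutions of `R` are
    have htv : ∀ a ∈ A, a ≠ 1 → (cv M ({a} : Set H)).index = 2 := by
      intro a ha ha1
      obtain ⟨k, hk⟩ := fus a (hAR ha) (h.el a ha) ha1
      have h6 : (cv M ({a} : Set H)).index = (cv M ({z} : Set H)).index := by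
        rw [← hk]
        have h7 : cv M ({k * z * k⁻¹} : Set H) = (cv M ({z} : Set H)).map (MulDistribMulAction.toMulEquiv M k).toMonoidHom := by
          ext m
          rw [mem_cv_singleton]
          constructor
          · intro h8
            refine ⟨k⁻¹ • m, ?_, ?_⟩
            · rw [SetLike.mem_coe, mem_cv_singleton, ← mul_smul]
              have h9 : z * k⁻¹ = k⁻¹ * (k * z * k⁻¹) := by group
              rw [h9, mul_smul, h8]
            · exact smul_inv_smul k m
          · rintro ⟨n, hn, rfl⟩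
            rw [SetLike.mem_coe, mem_cv_singleton] at hn
            change (k * z * k⁻¹) • k • n = k • n
            rw [← mul_smul, inv_mul_cancel_right, mul_smul, hn]
        rw [h7]
        exact index_map_equiv _ (MulDistribMulAction.toMulEquiv M k)
      have h7 : (cv M ({z} : Set H)).index ≠ 1 := by
        intro h8
        rw [index_eq_one] at h8
        apply z1
        refine h.faith z fun m => ?_
        have h9 : m ∈ cv M ({z} : Set H) := h8 ▸ mem_top m
        exact mem_cv_singleton.1 h9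
      have h8 : (cv M ({z} : Set H)).index ∣ 4 := by
        rw [← h4, ← h.exact]
        exact index_dvd_of_le (cv_anti (Set.singleton_subset_iff.2 hz))
      rw [h4] at h5
      have h9 : (cv M ({z} : Set H)).index ≠ 0 := index_ne_zero_of_finite
      have h10 : (cv M ({z} : Set H)).index ≠ 3 := by
        intro h11
        rw [h11] at h8
        omega
      omega
    obtain ⟨v, hv1, hv⟩ := tv sq (htv z hz z1)
    -- `u ∈ A`, `u ≠ 1, z`
    obtain ⟨u, hu, hu1, huz⟩ : ∃ u ∈ A, u ≠ 1 ∧ u ≠ z := by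
      by_contra hcon
      push Not at hcon
      have h7 : (A : Set H) ⊆ {1, z} := fun b hb => by
        by_cases hb1 : b = 1
        · exact Or.inl hb1
        · exact Or.inr (hcon b hb hb1)
      have h8 := Set.ncard_le_ncard h7 (Set.toFinite _)
      have h9 : ({1, z} : Set H).ncard ≤ 2 := (Set.ncard_insert_le _ _).trans (by rw [Set.ncard_singleton])
      have h10 : Nat.card A = (A : Set H).ncard := rfl
      omega
    have hzu1 : z * u ≠ 1 := fun h6 => huz (by
      rw [mul_eq_one_iff_eq_inv] at h6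
      rw [h6]
      exact (inv_eq_of_mul_eq_one_right (h.el u hu)).symm)
    have hAgen : cv M (A : Set H) = cv M ({z} : Set H) ⊓ cv M ({u} : Set H) := by
      refine le_antisymm (le_inf (cv_anti (Set.singleton_subset_iff.2 hz)) (cv_anti (Set.singleton_subset_iff.2 hu))) ?_
      intro m hm
      have hm1 : z • m = m := mem_cv_singleton.1 (mem_inf.1 hm).1
      have hm2 : u • m = m := mem_cv_singleton.1 (mem_inf.1 hm).2
      -- the stabiliser of `m` in `A` has more than 2 elements
      let St : Subgroup H := MulAction.stabilizer H m ⊓ A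
      have hSt : St ≤ A := inf_le_right
      have h6 : Nat.card St ∣ 4 := by rw [← h4]; exact card_dvd_of_le hSt
      have h7 : ({1, z, u} : Set H) ⊆ (St : Set H) := by
        rintro x (rfl | rfl | rfl)
        · exact St.one_mem
        · exact ⟨hm1, hz⟩
        · exact ⟨hm2, hu⟩
      have h8 := Set.ncard_le_ncard h7 (Set.toFinite _)
      have h9 : ({1, z, u} : Set H).ncard = 3 := by
        rw [Set.ncard_eq_three]
        exact ⟨1, z, u, z1.symm, hu1.symm, huz.symm, rfl⟩
      have h10 : Nat.card St = (St : Set H).ncard := rfl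
      have h11 : Nat.card St = 4 := by
        have h12 : Nat.card St ≤ 4 := Nat.le_of_dvd (by norm_num) h6
        have h13 : Nat.card St ≠ 3 := fun h14 => by rw [h14] at h6; omega
        omega
      have h12 : St = A := Subgroup.eq_of_le_of_card_ge hSt (by rw [h11, h4])
      intro a ha
      have h13 : a ∈ St := h12 ▸ ha
      exact h13.1
    have hne : cv M ({z} : Set H) ≠ cv M ({u} : Set H) := by
      intro h6
      rw [← h6, inf_idem] at hAgen
      have h7 := h.exact
      rw [hAgen, htv z hz z1, h4] at h7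
      omega
    have hvu := tv_eq sq (cR u (hAR hu)).symm (htv z hz z1) (htv u hu hu1) (htv _ (A.mul_mem hz hu) hzu1) hne hv
    -- elements commuting with `z` fix `v`
    have hfix : ∀ c : H, c * z = z * c → c • v = v := by
      intro c hc
      obtain ⟨m, hm⟩ : ∃ m : M, z • m * m = v ∧ z • m ≠ m := by
        by_contra hcon
        push Not at hcon
        apply z1
        refine h.faith z fun m => ?_
        rcases hv m with h6 | h6
        · exact h6.1
        · exact hcon m h6.2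
      have h6 : z • (c • m) * (c • m) = c • v := by
        rw [← mul_smul, ← hc, mul_smul, ← smul_mul', hm.1]
      rcases hv (c • m) with h7 | h7
      · exfalso
        apply hv1
        rw [h7.2] at h6
        have h8 : v = c⁻¹ • (1 : M) := by rw [h6, inv_smul_smul]
        rw [h8, smul_one]
      · rw [← h6, h7.2]
    -- `D = {r ∈ R : [M, r] ≤ ⟨v⟩}`
    have hvv : ∀ {x y : M}, (x = 1 ∨ x = v) → (y = 1 ∨ y = v) → (x * y = 1 ∨ x * y = v) := by
      rintro x y (rfl | rfl) (rfl | rfl)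
      · exact Or.inl (mul_one _)
      · exact Or.inr (one_mul _)
      · exact Or.inr (mul_one _)
      · exact Or.inl (sq _)
    let D : Subgroup H :=
      { carrier := {r | r ∈ R ∧ ∀ m : M, r • m * m = 1 ∨ r • m * m = v}
        one_mem' := ⟨R.one_mem, fun m => Or.inl (by rw [one_smul, sq])⟩
        mul_mem' := by
          rintro a b ⟨ha, ha'⟩ ⟨hb, hb'⟩
          refine ⟨R.mul_mem ha hb, fun m => ?_⟩
          have h6 : (a * b) • m * m = a • (b • m * m) * (a • m * m) := by
            rw [mul_smul, smul_mul', mul_assoc, ← mul_assoc (a • m), sq, one_mul]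
          rw [h6]
          refine hvv ?_ (ha' m)
          rcases hb' m with h7 | h7
          · exact Or.inl (by rw [h7, smul_one])
          · exact Or.inr (by rw [h7, hfix a (cR a ha)])
        inv_mem' := by
          rintro a ⟨ha, ha'⟩
          refine ⟨R.inv_mem ha, fun m => ?_⟩
          have h6 := ha' (a⁻¹ • m)
          rw [smul_inv_smul, hM] at h6
          exact h6 }
    have hDm : ∀ r : H, r ∈ D ↔ r ∈ R ∧ ∀ m : M, r • m * m = 1 ∨ r • m * m = v := fun r => Iff.rfl
    have huD : u ∈ D := ⟨hAR hu, fun m => (hvu m).imp (fun h6 => h6.2) (fun h6 => h6.2)⟩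
    rcases irr D (fun r hr => hr.1) (by
      rintro p hp r ⟨hr, hr'⟩
      refine ⟨hR p hp r hr, fun m => ?_⟩
      have h6 : (p * r * p⁻¹) • m * m = p • (r • (p⁻¹ • m) * (p⁻¹ • m)) := by
        rw [smul_mul', smul_inv_smul, ← mul_smul, ← mul_smul, mul_assoc]
      rw [h6]
      rcases hr' (p⁻¹ • m) with h7 | h7
      · exact Or.inl (by rw [h7, smul_one])
      · exact Or.inr (by rw [h7, hfix p (hP p hp)])) with h6 | h6
    · rcases h6 u huD with h7 | h7
      · exact hu1 h7
      · exact huz h7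
    · -- `R` is abelian
      obtain ⟨a, ha, b, hb, hab⟩ := nab
      apply hab
      have ha' := ((hDm a).1 (h6.ge ha)).2
      have hb' := ((hDm b).1 (h6.ge hb)).2
      have key : ∀ c ∈ R, (∀ m : M, c • m * m = 1 ∨ c • m * m = v) → ∀ d ∈ R,
          (∀ m : M, d • m * m = 1 ∨ d • m * m = v) → ∀ m : M, (c * d) • m = (c • m * m) * (d • m * m) * m := by
        intro c hc hc' d hd hd' m
        have h7 : c • (d • m * m) = d • m * m := by
          rcases hd' m with h8 | h8
          · rw [h8, smul_one]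
          · rw [h8, hfix c (cR c hc)]
        calc (c * d) • m = c • ((d • m * m) * m) := by rw [mul_smul, mul_assoc, sq, mul_one]
          _ = (d • m * m) * c • m := by rw [smul_mul', h7]
          _ = (d • m * m) * (c • m * (m * m)) := by rw [sq, mul_one]
          _ = (d • m * m) * (c • m * m) * m := by simp only [mul_assoc]
          _ = (c • m * m) * (d • m * m) * m := by rw [hM (d • m * m) (c • m * m)]
      have h7 : (b * a)⁻¹ * (a * b) = 1 := by
        refine h.faith _ fun m => ?_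
        rw [mul_smul, inv_smul_eq_iff, key a ha ha' b hb hb', key b hb hb' a ha ha', hM (a • m * m) (b • m * m)]
      exact (inv_mul_eq_one.1 h7).symm

/-- **`R` nonabelian of 2-rank at most 2, irreducible modulo `⟨z⟩`, contains a conjugate of `A`**: impossible. -/
theorem false_of_rank_two [Finite H] [Finite M] (h : InX H M K T A) {z : H} (zz : z * z = 1) (z1 : z ≠ 1)
    {P R : Subgroup H} (zR : z ∈ R) (cR : ∀ r ∈ R, r * z = z * r) (hP : ∀ p ∈ P, p * z = z * p)
    (hR : ∀ p ∈ P, ∀ r ∈ R, p * r * p⁻¹ ∈ R)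
    (irr : ∀ B ≤ R, (∀ p ∈ P, ∀ b ∈ B, p * b * p⁻¹ ∈ B) → (∀ b ∈ B, b = 1 ∨ b = z) ∨ B = R)
    (nab : ∃ a ∈ R, ∃ b ∈ R, a * b ≠ b * a) (rk : ∀ B ≤ R, (∀ b ∈ B, b * b = 1) → Nat.card B ≤ 4)
    (fus : ∀ r ∈ R, r * r = 1 → r ≠ 1 → ∃ k : H, k * z * k⁻¹ = r)
    {g : H} (hg : ∀ a ∈ A, g⁻¹ * a * g ∈ R) : False := by
  have hcj : ∀ x : H, (MulAut.conj g).toMonoidHom x = g * x * g⁻¹ := fun x => rfl
  refine false_of_rank_two_aux h (z := g * z * g⁻¹) (P := P.map (MulAut.conj g).toMonoidHom)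
    (R := R.map (MulAut.conj g).toMonoidHom) ?_ ?_ ?_ ?_ ?_ ?_ ?_ ?_ ?_ ?_ ?_
  · calc g * z * g⁻¹ * (g * z * g⁻¹) = g * (z * z) * g⁻¹ := by group
      _ = 1 := by rw [zz]; group
  · intro h1
    apply z1
    have h2 : z = g⁻¹ * (g * z * g⁻¹) * g := by group
    rw [h2, h1]; group
  · exact ⟨z, zR, rfl⟩
  · rintro _ ⟨r, hr, rfl⟩
    rw [hcj]
    calc g * r * g⁻¹ * (g * z * g⁻¹) = g * (r * z) * g⁻¹ := by group
      _ = g * (z * r) * g⁻¹ := by rw [cR r hr]
      _ = _ := by group
  · rintro _ ⟨r, hr, rfl⟩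
    rw [hcj]
    calc g * r * g⁻¹ * (g * z * g⁻¹) = g * (r * z) * g⁻¹ := by group
      _ = g * (z * r) * g⁻¹ := by rw [hP r hr]
      _ = _ := by group
  · rintro _ ⟨p, hp, rfl⟩ _ ⟨r, hr, rfl⟩
    exact ⟨p * r * p⁻¹, hR p hp r hr, by rw [map_mul, map_mul, map_inv]⟩
  · intro B hB hBP
    have h5 := irr (B.comap (MulAut.conj g).toMonoidHom) (fun b hb => by
        obtain ⟨r, hr, hrb⟩ := hB hb
        rwa [← (MulAut.conj g).injective hrb]) (fun p hp b hb => by
        have h6 := hBP _ ⟨p, hp, rfl⟩ _ hb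
        rw [mem_comap, map_mul, map_mul, map_inv]
        exact h6)
    rcases h5 with h5 | h5
    · left
      intro b hb
      obtain ⟨r, hr, rfl⟩ := hB hb
      rcases h5 r hb with rfl | rfl
      · left; exact map_one _
      · right; rfl
    · right
      rw [← h5]
      exact (map_comap_eq_self_of_surjective (MulAut.conj g).surjective B).symm
  · obtain ⟨a, ha, b, hb, hab⟩ := nab
    refine ⟨_, ⟨a, ha, rfl⟩, _, ⟨b, hb, rfl⟩, fun h5 => hab ?_⟩
    rw [← map_mul, ← map_mul] at h5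
    exact (MulAut.conj g).injective h5
  · intro B hB hel
    have h1 := rk (B.comap (MulAut.conj g).toMonoidHom) (fun b hb => by
        obtain ⟨r, hr, hrb⟩ := hB hb
        rwa [← (MulAut.conj g).injective hrb]) (fun b hb => (MulAut.conj g).injective (by
          rw [map_mul, map_one]; exact hel _ hb))
    have h2 : (B.comap (MulAut.conj g).toMonoidHom).map (MulAut.conj g).toMonoidHom = B :=
      map_comap_eq_self_of_surjective (MulAut.conj g).surjective B
    rw [← h2, card_map_of_injective (MulAut.conj g).injective]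
    exact h1
  · rintro _ ⟨r, hr, rfl⟩ hrr hr1
    obtain ⟨k, hk⟩ := fus r hr ((MulAut.conj g).injective (by rw [map_mul, map_one]; exact hrr))
      (fun h1 => hr1 (by rw [h1, map_one]))
    refine ⟨g * k * g⁻¹, ?_⟩
    rw [hcj, ← hk]; group
  · intro a ha
    refine ⟨g⁻¹ * a * g, hg a ha, ?_⟩
    rw [hcj]; group

end Cfsg.Agent.Omega.ML.Ex.Extra

end

section


/-!
# A 2-central involution `z` with an extraspecial-like centraliser is not a transvection (helper181); K-free

`H` acts faithfully on `M` (exponent 2), `z ∈ R` an involution, `R` nonabelian, `P ≤ C_H(z)` normalises `R` and every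
`P`-invariant `B < R` is contained in `⟨z⟩`.

* **`false_of_tv`** : `z`, `u`, `z u` are not all transvections, `u ∈ R - ⟨z⟩`;
* `comm_z` : `u ∈ R - ⟨z⟩` has a conjugate `z u` under `R`;
* **`index_ne_two`** : if some conjugate of `z` is in `R - ⟨z⟩` then `|M : C_M(z)| ≠ 2`.
-/

set_option autoImplicit false

namespace Cfsg.Agent.Omega.ML.Ex.NoTv

open Subgroup Cfsg.Agent.Omega.ML.Ex Cfsg.Agent.Omega.ML.Ex.Extra Cfsg.Agent.ClassTwoFusion.Quad

open scoped commutatorElement

universe u v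

variable {H : Type u} [Group H] {M : Type v} [Group M] [MulDistribMulAction H M]

/-- the local situation -/
structure Loc (z : H) (P R : Subgroup H) : Prop where
  zz : z * z = 1
  z1 : z ≠ 1
  zR : z ∈ R
  cR : ∀ r ∈ R, r * z = z * r
  cP : ∀ p ∈ P, p * z = z * p
  nR : ∀ p ∈ P, ∀ r ∈ R, p * r * p⁻¹ ∈ R
  irr : ∀ B ≤ R, (∀ p ∈ P, ∀ b ∈ B, p * b * p⁻¹ ∈ B) → (∀ b ∈ B, b = 1 ∨ b = z) ∨ B = R
  nab : ∃ a ∈ R, ∃ b ∈ R, a * b ≠ b * a

/-- `R` acts as an abelian group on `M`: impossible. -/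
theorem Loc.false_of_comm {z : H} {P R : Subgroup H} (L : Loc z P R) (faith : ∀ h : H, (∀ m : M, h • m = m) → h = 1)
    (hc : ∀ a ∈ R, ∀ b ∈ R, ∀ m : M, (a * b) • m = (b * a) • m) : False := by
  obtain ⟨a, ha, b, hb, hab⟩ := L.nab
  apply hab
  have h7 : (b * a)⁻¹ * (a * b) = 1 := by
    refine faith _ fun m => ?_
    rw [mul_smul, inv_smul_eq_iff]
    exact hc a ha b hb m
  exact (inv_mul_eq_one.1 h7).symm

/-- **`z`, `u`, `z u` are not all transvections.** -/
theorem Loc.false_of_tv [Finite M] {z : H} {P R : Subgroup H} (L : Loc z P R) (sq : ∀ m : M, m * m = 1)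
    (faith : ∀ h : H, (∀ m : M, h • m = m) → h = 1) {u : H} (hu : u ∈ R) (hu1 : u ≠ 1) (huz : u ≠ z)
    (iz : (cv M ({z} : Set H)).index = 2) (iu : (cv M ({u} : Set H)).index = 2)
    (izu : (cv M ({z * u} : Set H)).index = 2) : False := by
  have hM := comm_of_sq' sq
  have hinv : ∀ y : M, y⁻¹ = y := fun y => inv_eq_of_mul_eq_one_right (sq y)
  by_cases hne : cv M ({z} : Set H) = cv M ({u} : Set H)
  · -- the same axis
    have hax : ∀ c : H, c * z = z * c → ∀ m : M, z • m = m → z • c • m = c • m := by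
      intro c hc m hm
      rw [← mul_smul, ← hc, mul_smul, hm]
    let D : Subgroup H :=
      { carrier := {r | r ∈ R ∧ ∀ m : M, z • m = m → r • m = m}
        one_mem' := ⟨R.one_mem, fun m _ => one_smul H m⟩
        mul_mem' := by
          rintro a b ⟨ha, ha'⟩ ⟨hb, hb'⟩
          exact ⟨R.mul_mem ha hb, fun m hm => by rw [mul_smul, hb' m hm, ha' m hm]⟩
        inv_mem' := by
          rintro a ⟨ha, ha'⟩
          exact ⟨R.inv_mem ha, fun m hm => by rw [inv_smul_eq_iff, ha' m hm]⟩ }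
    have hDm : ∀ r : H, r ∈ D ↔ r ∈ R ∧ ∀ m : M, z • m = m → r • m = m := fun r => Iff.rfl
    have huD : u ∈ D := ⟨hu, fun m hm => by
      have h1 : m ∈ cv M ({z} : Set H) := mem_cv_singleton.2 hm
      rw [hne] at h1
      exact mem_cv_singleton.1 h1⟩
    rcases L.irr D (fun r hr => hr.1) (by
      rintro p hp r ⟨hr, hr'⟩
      refine ⟨L.nR p hp r hr, fun m hm => ?_⟩
      have h1 : p⁻¹ * z = z * p⁻¹ := by
        rw [inv_mul_eq_iff_eq_mul, ← mul_assoc, L.cP p hp, mul_inv_cancel_right]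
      rw [mul_smul, mul_smul, hr' _ (hax _ h1 m hm), smul_inv_smul]) with h6 | h6
    · rcases h6 u huD with h7 | h7
      · exact hu1 h7
      · exact huz h7
    · refine L.false_of_comm faith fun a ha b hb m => ?_
      have ha' := ((hDm a).1 (h6.ge ha)).2
      have hb' := ((hDm b).1 (h6.ge hb)).2
      -- `[m, c] ∈ C_M(z)` for all `c ∈ R`
      have key : ∀ c ∈ R, z • (c • m * m) = c • m * m := by
        intro c hc
        by_cases hm : z • m = m
        · rw [smul_mul', hax c (L.cR c hc) m hm, hm]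
        · have h1 : z • c • m ≠ c • m := by
            intro h2
            apply hm
            rw [← mul_smul, ← L.cR c hc, mul_smul] at h2
            exact smul_left_cancel _ h2
          have h3 : c • m * m ∈ cv M ({z} : Set H) := by
            rw [mul_mem_iff_of_index_two iz]
            exact ⟨fun h2 => absurd (mem_cv_singleton.1 h2) h1, fun h2 => absurd (mem_cv_singleton.1 h2) hm⟩
          exact mem_cv_singleton.1 h3
      have e1 : ∀ c ∈ R, (∀ m : M, z • m = m → c • m = m) → ∀ d ∈ R, (c * d) • m = (d • m * m) * (c • m * m) * m := by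
        intro c _ hc' d hd
        calc (c * d) • m = c • ((d • m * m) * m) := by rw [mul_smul, mul_assoc, sq, mul_one]
          _ = (d • m * m) * c • m := by rw [smul_mul', hc' _ (key d hd)]
          _ = (d • m * m) * (c • m * (m * m)) := by rw [sq, mul_one]
          _ = (d • m * m) * (c • m * m) * m := by simp only [mul_assoc]
      rw [e1 a ha ha' b hb, e1 b hb hb' a ha, hM (b • m * m) (a • m * m)]
  · obtain ⟨v, hv1, hv⟩ := tv sq iz
    have hvu := tv_eq sq (L.cR u hu).symm iz iu izu hne hv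
    -- elements commuting with `z` fix `v`
    have hfix : ∀ c : H, c * z = z * c → c • v = v := by
      intro c hc
      obtain ⟨m, hm⟩ : ∃ m : M, z • m * m = v ∧ z • m ≠ m := by
        by_contra hcon
        push Not at hcon
        apply L.z1
        refine faith z fun m => ?_
        rcases hv m with h6 | h6
        · exact h6.1
        · exact hcon m h6.2
      have h6 : z • (c • m) * (c • m) = c • v := by
        rw [← mul_smul, ← hc, mul_smul, ← smul_mul', hm.1]
      rcases hv (c • m) with h7 | h7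
      · exfalso
        apply hv1
        rw [h7.2] at h6
        have h8 : v = c⁻¹ • (1 : M) := by rw [h6, inv_smul_smul]
        rw [h8, smul_one]
      · rw [← h6, h7.2]
    have hvv : ∀ {x y : M}, (x = 1 ∨ x = v) → (y = 1 ∨ y = v) → (x * y = 1 ∨ x * y = v) := by
      rintro x y (rfl | rfl) (rfl | rfl)
      · exact Or.inl (mul_one _)
      · exact Or.inr (one_mul _)
      · exact Or.inr (mul_one _)
      · exact Or.inl (sq _)
    let D : Subgroup H :=
      { carrier := {r | r ∈ R ∧ ∀ m : M, r • m * m = 1 ∨ r • m * m = v}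
        one_mem' := ⟨R.one_mem, fun m => Or.inl (by rw [one_smul, sq])⟩
        mul_mem' := by
          rintro a b ⟨ha, ha'⟩ ⟨hb, hb'⟩
          refine ⟨R.mul_mem ha hb, fun m => ?_⟩
          have h6 : (a * b) • m * m = a • (b • m * m) * (a • m * m) := by
            rw [mul_smul, smul_mul', mul_assoc, ← mul_assoc (a • m), sq, one_mul]
          rw [h6]
          refine hvv ?_ (ha' m)
          rcases hb' m with h7 | h7
          · exact Or.inl (by rw [h7, smul_one])
          · exact Or.inr (by rw [h7, hfix a (L.cR a ha)])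
        inv_mem' := by
          rintro a ⟨ha, ha'⟩
          refine ⟨R.inv_mem ha, fun m => ?_⟩
          have h6 := ha' (a⁻¹ • m)
          rw [smul_inv_smul, hM] at h6
          exact h6 }
    have hDm : ∀ r : H, r ∈ D ↔ r ∈ R ∧ ∀ m : M, r • m * m = 1 ∨ r • m * m = v := fun r => Iff.rfl
    have huD : u ∈ D := ⟨hu, fun m => (hvu m).imp (fun h6 => h6.2) (fun h6 => h6.2)⟩
    rcases L.irr D (fun r hr => hr.1) (by
      rintro p hp r ⟨hr, hr'⟩
      refine ⟨L.nR p hp r hr, fun m => ?_⟩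
      have h6 : (p * r * p⁻¹) • m * m = p • (r • (p⁻¹ • m) * (p⁻¹ • m)) := by
        rw [smul_mul', smul_inv_smul, ← mul_smul, ← mul_smul, mul_assoc]
      rw [h6]
      rcases hr' (p⁻¹ • m) with h7 | h7
      · exact Or.inl (by rw [h7, smul_one])
      · exact Or.inr (by rw [h7, hfix p (L.cP p hp)])) with h6 | h6
    · rcases h6 u huD with h7 | h7
      · exact hu1 h7
      · exact huz h7
    · refine L.false_of_comm faith fun a ha b hb m => ?_
      have ha' := ((hDm a).1 (h6.ge ha)).2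
      have hb' := ((hDm b).1 (h6.ge hb)).2
      have key : ∀ c ∈ R, (∀ m : M, c • m * m = 1 ∨ c • m * m = v) → ∀ d ∈ R,
          (∀ m : M, d • m * m = 1 ∨ d • m * m = v) → ∀ m : M, (c * d) • m = (c • m * m) * (d • m * m) * m := by
        intro c hc hc' d hd hd' m
        have h7 : c • (d • m * m) = d • m * m := by
          rcases hd' m with h8 | h8
          · rw [h8, smul_one]
          · rw [h8, hfix c (L.cR c hc)]
        calc (c * d) • m = c • ((d • m * m) * m) := by rw [mul_smul, mul_assoc, sq, mul_one]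
          _ = (d • m * m) * c • m := by rw [smul_mul', h7]
          _ = (d • m * m) * (c • m * (m * m)) := by rw [sq, mul_one]
          _ = (d • m * m) * (c • m * m) * m := by simp only [mul_assoc]
          _ = (c • m * m) * (d • m * m) * m := by rw [hM (d • m * m) (c • m * m)]
      rw [key a ha ha' b hb hb', key b hb hb' a ha ha', hM (a • m * m) (b • m * m)]

/-- `u ∈ R - ⟨z⟩` is moved by `R`. -/
theorem Loc.exists_ne_comm {z : H} {P R : Subgroup H} (L : Loc z P R) {u : H} (hu : u ∈ R) (hu1 : u ≠ 1) (huz : u ≠ z) :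
    ∃ r ∈ R, r * u ≠ u * r := by
  by_contra hcon
  push Not at hcon
  let D : Subgroup H := R ⊓ centralizer (R : Set H)
  rcases L.irr D inf_le_left (by
    intro p hp r hr
    refine mem_inf.2 ⟨L.nR p hp r (mem_inf.1 hr).1, mem_centralizer_iff.2 fun c hc => ?_⟩
    have h1 := L.nR p⁻¹ (P.inv_mem hp) c hc
    rw [inv_inv] at h1
    have h2 := mem_centralizer_iff.1 (mem_inf.1 hr).2 _ h1
    calc c * (p * r * p⁻¹) = p * (p⁻¹ * c * p * r) * p⁻¹ := by group
      _ = p * (r * (p⁻¹ * c * p)) * p⁻¹ := by rw [h2]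
      _ = p * r * p⁻¹ * c := by group) with h6 | h6
  · rcases h6 u (mem_inf.2 ⟨hu, mem_centralizer_iff.2 hcon⟩) with h7 | h7
    · exact hu1 h7
    · exact huz h7
  · obtain ⟨a, ha, b, hb, hab⟩ := L.nab
    exact hab (mem_centralizer_iff.1 (mem_inf.1 (h6.ge hb)).2 a ha)

/-- commutators of `R` are in `{1, z}` -/
theorem Loc.comm [Finite H] {z : H} {P R : Subgroup H} (L : Loc z P R) (h2 : IsPGroup 2 R) {a b : H} (ha : a ∈ R)
    (hb : b ∈ R) : a * b * a⁻¹ * b⁻¹ = 1 ∨ a * b * a⁻¹ * b⁻¹ = z := by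
  have hp : Fact (Nat.Prime 2) := ⟨Nat.prime_two⟩
  have hnil := h2.isNilpotent
  have hne : Nontrivial R := by
    obtain ⟨a, ha, b, hb, hab⟩ := L.nab
    refine ⟨⟨a, ha⟩, 1, fun h => hab ?_⟩
    have h1 : a = 1 := congrArg Subtype.val h
    rw [h1, one_mul, mul_one]
  have hlt := IsSolvable.commutator_lt_top_of_nontrivial R
  have hD : ⁅R, R⁆ ≤ R := commutator_le_self R
  have hmem : ⁅a, b⁆ ∈ ⁅R, R⁆ := commutator_mem_commutator ha hb
  rcases L.irr ⁅R, R⁆ hD (by
    intro p hp r hr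
    have h3 : (⁅R, R⁆).map (MulAut.conj p).toMonoidHom ≤ ⁅R, R⁆ := by
      rw [map_commutator]
      have h4 : R.map (MulAut.conj p).toMonoidHom ≤ R := by
        rintro _ ⟨r, hr, rfl⟩
        exact L.nR p hp r hr
      exact commutator_mono h4 h4
    exact h3 ⟨r, hr, rfl⟩) with h6 | h6
  · exact h6 _ hmem
  · exfalso
    apply hlt.ne
    have h7 : (_root_.commutator R).map R.subtype = ⁅R, R⁆ := by
      rw [_root_.commutator_def, map_commutator, ← MonoidHom.range_eq_map, range_subtype]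
    apply map_injective R.subtype_injective
    rw [h7, h6, ← MonoidHom.range_eq_map, range_subtype]

/-- `z u` is conjugate to `u` under `R`, `u ∈ R - ⟨z⟩`. -/
theorem Loc.exists_conj [Finite H] {z : H} {P R : Subgroup H} (L : Loc z P R) (h2 : IsPGroup 2 R) {u : H} (hu : u ∈ R)
    (hu1 : u ≠ 1) (huz : u ≠ z) : ∃ r ∈ R, r * u * r⁻¹ = z * u := by
  obtain ⟨r, hr, hru⟩ := L.exists_ne_comm hu hu1 huz
  refine ⟨r, hr, ?_⟩
  rcases L.comm h2 hr hu with h1 | h1
  · exfalso
    apply hru
    rw [mul_inv_eq_one, mul_inv_eq_iff_eq_mul] at h1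
    exact h1
  · rw [mul_inv_eq_iff_eq_mul] at h1
    exact h1

/-- conjugation does not change the index -/
theorem index_conj (k a : H) : (cv M ({k * a * k⁻¹} : Set H)).index = (cv M ({a} : Set H)).index := by
  have h7 : cv M ({k * a * k⁻¹} : Set H) = (cv M ({a} : Set H)).map (MulDistribMulAction.toMulEquiv M k).toMonoidHom := by
    ext m
    rw [mem_cv_singleton]
    constructor
    · intro h8
      refine ⟨k⁻¹ • m, ?_, ?_⟩
      · rw [SetLike.mem_coe, mem_cv_singleton, ← mul_smul]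
        have h9 : a * k⁻¹ = k⁻¹ * (k * a * k⁻¹) := by group
        rw [h9, mul_smul, h8]
      · exact smul_inv_smul k m
    · rintro ⟨n, hn, rfl⟩
      rw [SetLike.mem_coe, mem_cv_singleton] at hn
      change (k * a * k⁻¹) • k • n = k • n
      rw [← mul_smul, inv_mul_cancel_right, mul_smul, hn]
  rw [h7]
  exact index_map_equiv _ (MulDistribMulAction.toMulEquiv M k)

/-- **`z` is not a transvection if it has a conjugate in `R - ⟨z⟩`.** -/
theorem Loc.index_ne_two [Finite H] [Finite M] {z : H} {P R : Subgroup H} (L : Loc z P R) (h2 : IsPGroup 2 R)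
    (sq : ∀ m : M, m * m = 1) (faith : ∀ h : H, (∀ m : M, h • m = m) → h = 1) {k : H} (hk : k * z * k⁻¹ ∈ R)
    (hkz : k * z * k⁻¹ ≠ z) : (cv M ({z} : Set H)).index ≠ 2 := by
  intro iz
  have hu1 : k * z * k⁻¹ ≠ 1 := by
    intro h1
    apply L.z1
    have h3 : z = k⁻¹ * (k * z * k⁻¹) * k := by group
    rw [h3, h1]; group
  obtain ⟨r, hr, hru⟩ := L.exists_conj h2 hk hu1 hkz
  have iu : (cv M ({k * z * k⁻¹} : Set H)).index = 2 := by rw [index_conj, iz]
  exact L.false_of_tv sq faith hk hu1 hkz iz iu (by rw [← hru, index_conj, iu])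

end Cfsg.Agent.Omega.ML.Ex.NoTv

end

section


/-!
# `z` is not a transvection, from a sheet `SheetX z P R` (helper181)

`K ≤ H`, `SheetX z P R` in `K`, some `K`-conjugate of `z` is in `R - ⟨z⟩`: `|M : C_M(z)| ≠ 2` on every faithful
`H`-module `M` of exponent 2.
-/

set_option autoImplicit false

namespace Cfsg.Agent.Omega.ML.Ex.NoTv

open Subgroup Cfsg.Agent.OddHalf.D8.Sheet Cfsg.Agent.OddHalf.D8.JTwo.Sheet Cfsg.Agent.ClassTwoFusion.Quad

universe u v

variable {H : Type u} [Group H] {M : Type v} [Group M] [MulDistribMulAction H M]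

/-- `Loc` in `H` from the sheet in `K`. -/
theorem loc_of_sheet {K : Subgroup H} {z : K} {P R : Subgroup K} (hz : SheetX z P R) :
    Loc (z : H) (P.map K.subtype) (R.map K.subtype) := by
  have hinj := K.subtype_injective
  have hmem : ∀ x : K, (x : H) ∈ R.map K.subtype ↔ x ∈ R := by
    intro x
    constructor
    · rintro ⟨r, hr, hrx⟩
      rwa [← hinj hrx]
    · exact fun hx => ⟨x, hx, rfl⟩
  refine ⟨congrArg Subtype.val hz.zz, fun h1 => hz.z1 (Subtype.ext h1), (hmem z).2 hz.zR, ?_, ?_, ?_, ?_, ?_⟩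
  · rintro _ ⟨r, hr, rfl⟩
    exact congrArg Subtype.val (hz.cen r (hz.RP hr))
  · rintro _ ⟨p, hp, rfl⟩
    exact congrArg Subtype.val (hz.cen p hp)
  · rintro _ ⟨p, hp, rfl⟩ _ ⟨r, hr, rfl⟩
    exact ⟨_, hz.Rn p hp r hr, by simp⟩
  · intro B hB hBP
    rcases hz.Rmin (B.comap K.subtype) (fun x hx => (hmem x).1 (hB hx)) (fun p hp b hb => by
      have h2 := hBP _ ⟨p, hp, rfl⟩ _ hb
      rw [mem_comap, map_mul, map_mul, map_inv]
      exact h2) with h3 | h3
    · left
      intro b hb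
      obtain ⟨r, hr, rfl⟩ := hB hb
      rcases h3 r hb with rfl | rfl
      · exact Or.inl rfl
      · exact Or.inr rfl
    · right
      rw [← h3]
      refine (map_comap_eq_self ?_).symm
      rw [range_subtype]
      exact hB.trans (map_subtype_le _)
  · obtain ⟨a, ha, b, hb, hab⟩ := hz.Rna
    exact ⟨_, ⟨a, ha, rfl⟩, _, ⟨b, hb, rfl⟩, fun h1 => hab (hinj (by rw [map_mul, map_mul]; exact h1))⟩

/-- **`|M : C_M(z)| ≠ 2`** if `z` has a conjugate in `R - ⟨z⟩`. -/
theorem index_ne_two_of_sheet [Finite H] [Finite M] {K : Subgroup H} {z : K} {P R : Subgroup K} (hz : SheetX z P R)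
    (sq : ∀ m : M, m * m = 1) (faith : ∀ h : H, (∀ m : M, h • m = m) → h = 1) {k : H}
    (hk : k * (z : H) * k⁻¹ ∈ R.map K.subtype) (hkz : k * (z : H) * k⁻¹ ≠ z) :
    (cv M ({(z : H)} : Set H)).index ≠ 2 :=
  (loc_of_sheet hz).index_ne_two (hz.R2.map _) sq faith hk hkz

end Cfsg.Agent.Omega.ML.Ex.NoTv

end
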