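import Cfsg.Agent.Mrg.Omega.ML.Ex.DefN
import Cfsg.Agent.Mrg.Omega.ML.MinIrr
import Cfsg.Agent.Mrg.Omega.NOThree.NoOver
import Cfsg.Agent.Mrg.Omega.NO3b.EndX.Def
import Cfsg.Agent.Mrg.Omega.NO3b.Closed.Point

section


/-!
# THEOREM RED (#21158 = #21163 = #21287): the literal structures (helper995)

* `Mn T B lam` : the INPUT: `X` faithful on `M = ⟨lam^X⟩`, `T` a Sylow 2-subgroup fixing `lam`, no normal subgroup of odd
  order, `B` an exact atom with `|B| ≥ 4` and `B ≤ O₂(R)` for all `T ≤ R < X`, `T` in two maximal subgroups;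
* `cm M E = [M,E]`;
* `Cmp T B K E lam` : one component: `K ⊴ X`, `X = KT`, `C_X(K) = 1`, `K = ⟨E^T⟩`, `E` simple, `K = E × C_K(E)`,
  the other `T`-conjugates of `E` are in `C_K(E)`, `B` normalises `E`;
* `CmpM T B K E lam` : with the module facts for `N = [M,E]`, `Y = E N_T(E)`.
-/

set_option autoImplicit false

namespace Cfsg.Agent.Omega.ML.Ex.Red

open Subgroup Cfsg Cfsg.Agent.ZN Cfsg.Agent.Omega.NOThree.NoOver Cfsg.Agent.Omega.ML.CD
open Cfsg.Agent.ClassTwoFusion.Quad Cfsg.Agent.Omega.ML.MinFrame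
open Cfsg.Agent.MinSimple.VModule (o2_isPGroup o2_le le_o2 le_normalizer_o2)

universe u v

variable {X : Type u} [Group X] {M : Type v} [Group M] [MulDistribMulAction X M]

/-- **The input of RED.** -/
structure Mn (T B : Subgroup X) (lam : M) : Prop where
  sq : ∀ m : M, m * m = 1
  faith : ∀ x : X, (∀ m : M, x • m = m) → x = 1
  gen : orb (⊤ : Subgroup X) lam = ⊤
  fixT : ∀ t ∈ T, t • lam = lam
  odd : ∀ N : Subgroup X, N.Normal → Odd (Nat.card N) → N = ⊥
  two : IsPGroup 2 T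
  syl : ¬ 2 ∣ T.index
  el : ∀ b ∈ B, b * b = 1
  four : 4 ≤ Nat.card B
  exact : (cv M (B : Set X)).index = Nat.card B
  atom : ∀ C : Subgroup X, C ≤ B → C ≠ ⊥ → C ≠ B → Nat.card C < (cv M (C : Set X)).index
  low : ∀ R : Subgroup X, T ≤ R → R ≠ ⊤ → B ≤ o2 R
  nmax : ¬ ∃ L : Subgroup X, L ≠ ⊤ ∧ ∀ R : Subgroup X, T ≤ R → R ≠ ⊤ → R ≤ L

variable (M) in
/-- `[M,E]` -/
def cm (E : Subgroup X) : Subgroup M := closure {m | ∃ e ∈ E, ∃ n : M, m = e • n * n}

theorem mem_cm {E : Subgroup X} {e : X} (he : e ∈ E) (n : M) : e • n * n ∈ cm M E := subset_closure ⟨e, he, n, rfl⟩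

theorem cm_le {E : Subgroup X} {U : Subgroup M} (h : ∀ e ∈ E, ∀ n : M, e • n * n ∈ U) : cm M E ≤ U := by
  rw [cm, closure_le]
  rintro _ ⟨e, he, n, rfl⟩
  exact h e he n

/-- `[M,E]` is invariant under `N(E)` -/
theorem smul_mem_cm {E : Subgroup X} {g : X} (hg : g ∈ normalizer (E : Set X)) {m : M} (hm : m ∈ cm M E) :
    g • m ∈ cm M E := by
  have h1 : cm M E ≤ (cm M E).comap (MulDistribMulAction.toMonoidHom M g) := by
    refine cm_le fun e he n => ?_
    change g • (e • n * n) ∈ cm M E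
    have e1 : g • (e • n * n) = (g * e * g⁻¹) • (g • n) * (g • n) := by
      rw [smul_mul', mul_smul, mul_smul, inv_smul_smul]
    rw [e1]
    exact mem_cm ((mem_normalizer_iff.1 hg e).1 he) _
  exact h1 hm

/-- **One component.** -/
structure Cmp (T B K E : Subgroup X) (lam : M) : Prop where
  mn : Mn T B lam
  normK : K.Normal
  cenK : centralizer (K : Set X) = ⊥
  gen : K ⊔ T = ⊤
  EK : E ≤ K
  simple : IsSimpleGroup E
  nc : ¬ E ≤ centralizer (E : Set X)
  /-- `K = ⟨E^T⟩` -/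
  tcl : K ≤ tcl T E
  /-- `K = E × C_K(E)` -/
  sup : E ⊔ (K ⊓ centralizer (E : Set X)) = K
  inf : E ⊓ centralizer (E : Set X) = ⊥
  conj : ∀ t ∈ T, t ∉ normalizer (E : Set X) → E.map (MulAut.conj t).toMonoidHom ≤ centralizer (E : Set X)
  BE : B ≤ normalizer (E : Set X)

/-- **One component and the module `N = [M,E]`** of `Y = E N_T(E)`. -/
structure CmpM (T B K E : Subgroup X) (lam : M) : Prop where
  cmp : Cmp T B K E lam
  /-- `C_K(E)` centralises `N` -/
  cenN : ∀ f ∈ K, f ∈ centralizer (E : Set X) → ∀ n ∈ cm M E, f • n = n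
  /-- every proper `Y`-submodule of `N` is centralised by `E` -/
  irr : ∀ W : Subgroup M, W ≤ cm M E → (∀ e ∈ E, ∀ w ∈ W, e • w ∈ W) →
    (∀ t ∈ T, t ∈ normalizer (E : Set X) → ∀ w ∈ W, t • w ∈ W) → W = cm M E ∨ ∀ e ∈ E, ∀ w ∈ W, e • w = w
  /-- `E` does not centralise `N` -/
  ne : ¬ ∀ e ∈ E, ∀ n ∈ cm M E, e • n = n
  /-- a vector of `N` fixed by `N_T(E)`, not by `E` -/
  point : ∃ z ∈ cm M E, (∀ t ∈ T, t ∈ normalizer (E : Set X) → t • z = z) ∧ ¬ ∀ e ∈ E, e • z = z
  /-- every vector of `⟨lam^E⟩` is in `N` or in `N lam` -/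
  orbE : ∀ e ∈ E, e • lam * lam ∈ cm M E
  /-- `C_B(N) = 1` -/
  faithB : ∀ b ∈ B, (∀ n ∈ cm M E, b • n = n) → b = 1
  exactN : (cv M (B : Set X)).relIndex (cm M E) = Nat.card B
  atomN : ∀ C : Subgroup X, C ≤ B → C ≠ ⊥ → C ≠ B → Nat.card C < (cv M (C : Set X)).relIndex (cm M E)

end Cfsg.Agent.Omega.ML.Ex.Red

end

section


/-!
# THEOREM RED, steps (1), (3): the components (helper995)

For `h : Mn T B lam`:

* `Mn.sub_bot`, `Mn.odd_bot`, `Mn.nilp_bot` : no subnormal 2-subgroup, subgroup of odd order, nilpotent subgroup;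
* `Mn.exists_component` : some component is not centralised by `B`;
* **`Mn.exists_cmp`** : `∃ K E, Cmp T B K E lam ∧ ¬ B ≤ C(E)`.
-/

set_option autoImplicit false

namespace Cfsg.Agent.Omega.ML.Ex.Red

open Subgroup Cfsg Cfsg.Agent.ZN Cfsg.Agent.Omega.NOThree.NoOver Cfsg.Agent.Omega.ML.CD
open Cfsg.Agent.ClassTwoFusion.Quad Cfsg.Agent.Omega.ML.MinFrame
open Cfsg.Agent.MinSimple.VModule (o2_isPGroup o2_le le_o2 le_normalizer_o2 o2_le_of_sylow)
open Cfsg.Agent.SignalizersComponents.Components Cfsg.Agent.SignalizersComponents.CompBasic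

universe u v

section grp

variable {X : Type*} [Group X]

/-- `x y ∈ T`, `x ∈ E`, `y ∈ C(E)`, `Z(E) = 1` : `x ∈ T` if `T ∩ E` is a Sylow 2-subgroup of `E` -/
theorem mem_of_mul_mem [Finite X] {T E : Subgroup X} (hT : IsPGroup 2 T) (hE : ¬ 2 ∣ T.relIndex E)
    (hZ : E ⊓ centralizer (E : Set X) = ⊥) {x y : X} (hx : x ∈ E) (hy : y ∈ centralizer (E : Set X))
    (hxy : x * y ∈ T) : x ∈ T := by
  have : Fact (Nat.Prime 2) := ⟨Nat.prime_two⟩
  have hcom : ∀ a ∈ E, ∀ b ∈ centralizer (E : Set X), a * b = b * a := fun a ha b hb => mem_centralizer_iff.1 hb a ha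
  let Q : Subgroup X :=
    { carrier := {a | a ∈ E ∧ ∃ b ∈ centralizer (E : Set X), a * b ∈ T}
      one_mem' := ⟨E.one_mem, 1, Subgroup.one_mem _, by simp [T.one_mem]⟩
      mul_mem' := by
        rintro a c ⟨ha, b, hb, hab⟩ ⟨hc, d, hd, hcd⟩
        refine ⟨E.mul_mem ha hc, b * d, Subgroup.mul_mem _ hb hd, ?_⟩
        have e : a * c * (b * d) = a * b * (c * d) := by
          calc a * c * (b * d) = a * (c * b) * d := by group
            _ = a * (b * c) * d := by rw [hcom c hc b hb]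
            _ = _ := by group
        rw [e]
        exact T.mul_mem hab hcd
      inv_mem' := by
        rintro a ⟨ha, b, hb, hab⟩
        refine ⟨E.inv_mem ha, b⁻¹, Subgroup.inv_mem _ hb, ?_⟩
        have e : a⁻¹ * b⁻¹ = (a * b)⁻¹ := by rw [hcom a ha b hb]; group
        rw [e]
        exact T.inv_mem hab }
  have hQE : Q ≤ E := fun a ha => ha.1
  have hTQ : T ⊓ E ≤ Q := fun a ha => ⟨ha.2, 1, Subgroup.one_mem _, by simpa using ha.1⟩
  have hQ2 : IsPGroup 2 Q := by
    rintro ⟨a, ha, b, hb, hab⟩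
    obtain ⟨k, hk⟩ := hT ⟨_, hab⟩
    refine ⟨k, Subtype.ext ?_⟩
    have h1 : (a * b) ^ 2 ^ k = 1 := congrArg Subtype.val hk
    have h2 : Commute a b := hcom a ha b hb
    rw [h2.mul_pow] at h1
    have h3 : a ^ 2 ^ k = (b ^ 2 ^ k)⁻¹ := mul_eq_one_iff_eq_inv.1 h1
    have h4 : a ^ 2 ^ k ∈ E ⊓ centralizer (E : Set X) :=
      ⟨E.pow_mem ha _, h3 ▸ Subgroup.inv_mem _ (Subgroup.pow_mem _ hb _)⟩
    rw [hZ] at h4
    exact mem_bot.1 h4
  have h1 : (T ⊓ E).relIndex Q ∣ T.relIndex E := by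
    rw [← inf_relIndex_right T E, ← relIndex_mul_relIndex _ _ _ hTQ hQE]
    exact dvd_mul_right _ _
  have h2 : (T ⊓ E).relIndex Q = 1 := by
    obtain ⟨n, hn⟩ := IsPGroup.iff_card.1 hQ2
    have h3 : (T ⊓ E).relIndex Q ∣ 2 ^ n := by
      rw [← hn]
      exact relIndex_dvd_card _ _
    obtain ⟨j, -, hj⟩ := (Nat.dvd_prime_pow Nat.prime_two).1 h3
    rcases Nat.eq_zero_or_pos j with h4 | h4
    · rw [hj, h4, pow_zero]
    · exact absurd ((hj ▸ dvd_pow_self 2 h4.ne').trans h1) hE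
  have h3 : Q ≤ T ⊓ E := relIndex_eq_one.1 h2
  exact (h3 ⟨hx, y, hy, hxy⟩).1

end grp

variable {X : Type u} [Group X] [Finite X] {M : Type v} [Group M] [MulDistribMulAction X M]
  {T B : Subgroup X} {lam : M}

namespace Mn

omit [Finite X] in
theorem comm (h : Mn T B lam) (x y : M) : x * y = y * x := comm_of_sq' h.sq x y

omit [Finite X] in
theorem B_ne_bot (h : Mn T B lam) : B ≠ ⊥ := by
  intro h1
  have h2 := h.four
  rw [h1, card_bot] at h2
  omega

omit [Finite X] in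
theorem B_comm (h : Mn T B lam) : ∀ a ∈ B, ∀ b ∈ B, a * b = b * a := by
  intro a ha b hb
  have h1 : ∀ z ∈ B, z⁻¹ = z := fun z hz => inv_eq_of_mul_eq_one_right (h.el z hz)
  calc a * b = (a * b)⁻¹ := (h1 _ (B.mul_mem ha hb)).symm
    _ = b⁻¹ * a⁻¹ := mul_inv_rev _ _
    _ = b * a := by rw [h1 _ ha, h1 _ hb]

omit [Finite X] in
/-- the stabiliser of `lam` is proper -/
theorem stab_ne_top (h : Mn T B lam) : MulAction.stabilizer X lam ≠ ⊤ := by
  intro h1
  apply h.B_ne_bot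
  rw [eq_bot_iff]
  intro b _
  rw [mem_bot]
  apply h.faith
  have h2 : b ∈ fxr X (orb (⊤ : Subgroup X) lam) := by
    rw [mem_fxr_orb]
    intro g _
    have h3 : ∀ x : X, x • lam = lam := fun x => by
      have : x ∈ MulAction.stabilizer X lam := h1 ▸ mem_top x
      exact this
    rw [h3 g, h3 b]
  rw [h.gen] at h2
  exact fun m => h2 m (mem_top m)

omit [Finite X] in
theorem ne_top (h : Mn T B lam) : T ≠ ⊤ := fun h1 => h.stab_ne_top (by
  rw [eq_top_iff, ← h1]
  exact fun t ht => h.fixT t ht)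

omit [Finite X] in
theorem B_le_o2 (h : Mn T B lam) : B ≤ o2 T := h.low T le_rfl h.ne_top

omit [Finite X] in
theorem B_le (h : Mn T B lam) : B ≤ T := h.B_le_o2.trans (o2_le T)

theorem o2_eq_bot (h : Mn T B lam) {N : Subgroup X} (hN : N.Normal) (h2 : IsPGroup 2 N) : N = ⊥ := by
  rw [eq_bot_iff]
  intro x hx
  rw [mem_bot]
  apply h.faith
  have h1 : N ≤ T := by
    have h3 : N ≤ o2 (⊤ : Subgroup X) := Cfsg.Agent.MinSimple.VModule.le_o2 le_top h2
      (MinFrame.le_normalizer_of fun g _ x hx => hN.conj_mem x hx g)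
    exact h3.trans (o2_le_of_sylow h.two (by rw [relIndex_top_right]; exact h.syl))
  have h3 : x ∈ fxr X (orb (⊤ : Subgroup X) lam) := by
    rw [mem_fxr_orb]
    intro g _
    have h4 : g⁻¹ * x * g ∈ T := by
      have := hN.conj_mem x hx g⁻¹
      rw [inv_inv] at this
      exact h1 this
    have h5 := h.fixT _ h4
    rw [mul_smul, mul_smul, inv_smul_eq_iff] at h5
    exact h5
  rw [h.gen] at h3
  exact fun m => h3 m (mem_top m)

theorem sub_bot (h : Mn T B lam) (N : Subgroup X) (hN : N.IsSubnormal) (h2 : IsPGroup 2 N) : N = ⊥ := by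
  have h1 := h.o2_eq_bot (Lib.Cores.pCore_normal (G := X) 2) (Lib.Cores.pCore_isPGroup 2)
  exact le_bot_iff.1 (h1 ▸ subnormal_pGroup_le_pCore hN h2)

theorem odd_bot (h : Mn T B lam) (N : Subgroup X) (hN : N.IsSubnormal) (hO : Odd (Nat.card N)) : N = ⊥ := by
  have h1 : (Nat.card N).Coprime 2 := Nat.coprime_two_right.2 hO
  have h2 := subnormal_coprime_le_pPrimeCore hN h1
  have h3 := h.odd _ (Lib.Cores.pPrimeCore_normal (G := X) 2)
    (Nat.coprime_two_right.1 (Lib.Cores.pPrimeCore_coprime 2))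
  exact le_bot_iff.1 (h3 ▸ h2)

theorem nilp_bot (h : Mn T B lam) (N : Subgroup X) (hN : N.IsSubnormal) (hn : Group.IsNilpotent N) : N = ⊥ :=
  h.odd_bot N hN (odd_of_nilpotent h.sub_bot hN hn)

/-- some component is not centralised by `B` -/
theorem exists_component (h : Mn T B lam) : ∃ E : Subgroup X, IsComponent E ∧ ¬ B ≤ centralizer (E : Set X) := by
  by_contra hc
  push Not at hc
  have hfit : fittingSubgroup X = ⊥ :=
    h.nilp_bot _ (Normal.isSubnormal Lib.Cores.fittingSubgroup_normal) Lib.Cores.fittingSubgroup_isNilpotent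
  have h1 : B ≤ centralizer (generalizedFittingSubgroup X : Set X) := by
    have h2 : generalizedFittingSubgroup X ≤ centralizer (B : Set X) := by
      rw [Lib.GenFitting.genFitting_def, hfit, sup_bot_eq, layer_le_iff]
      exact fun L hL => le_centralizer_iff.1 (hc L hL)
    exact le_centralizer_iff.1 h2
  have h3 := Lib.GenFitting.centralizer_genFitting_le (G := X)
  have hF := Lib.GenFitting.genFitting_normal (G := X)
  set C := centralizer (generalizedFittingSubgroup X : Set X) with hC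
  have hCn : C.Normal := by rw [hC]; infer_instance
  have h4 : C = ⊥ := by
    refine h.nilp_bot C (Normal.isSubnormal hCn) ?_
    let _ : CommGroup C := { (inferInstance : Group C) with
      mul_comm := fun x y => Subtype.ext (mem_centralizer_iff.1 y.2 x (h3 x.2)) }
    exact CommGroup.isNilpotent
  exact h.B_ne_bot (le_bot_iff.1 (h4 ▸ h1))

variable {E : Subgroup X}

/-- `X = ⟨E^T⟩ T` -/
theorem sup_eq_top (h : Mn T B lam) (hL : IsComponent E) (hLA : ¬ B ≤ centralizer (E : Set X)) :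
    tcl T E ⊔ T = ⊤ := by
  by_contra hne
  have h1 := h.low _ le_sup_right hne
  apply hLA
  intro a ha
  rw [mem_centralizer_iff]
  exact fun x hx => comm_of_o2 h.sub_bot (Fr.tcl_subnormal hL) le_sup_left
    (sup_le le_normalizer (le_normalizer_tcl T E)) (le_tcl T E hx) (h1 ha)

theorem tcl_normal (h : Mn T B lam) (hL : IsComponent E) (hLA : ¬ B ≤ centralizer (E : Set X)) :
    (tcl T E).Normal := by
  rw [← normalizer_eq_top_iff, ← top_le_iff, ← h.sup_eq_top hL hLA]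
  exact sup_le le_normalizer (le_normalizer_tcl T E)

/-- `Z(E) = 1` -/
theorem center_bot (h : Mn T B lam) (hL : IsComponent E) : E ⊓ centralizer (E : Set X) = ⊥ := by
  have h1 : ((E ⊓ centralizer (E : Set X)).subgroupOf E).Normal :=
    (normal_subgroupOf_iff_le_normalizer inf_le_left).2 (MinFrame.le_normalizer_of fun g hg x hx => by
      have e : g * x * g⁻¹ = x := by rw [mem_centralizer_iff.1 hx.2 g hg, mul_inv_cancel_right]
      rw [e]
      exact hx)
  refine h.nilp_bot _ (IsSubnormal.trans inf_le_left h1.isSubnormal hL.1) ?_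
  let _ : CommGroup (E ⊓ centralizer (E : Set X) : Subgroup X) :=
    { (inferInstance : Group (E ⊓ centralizer (E : Set X) : Subgroup X)) with
      mul_comm := fun x y => Subtype.ext (mem_centralizer_iff.1 y.2.2 x x.2.1) }
  exact CommGroup.isNilpotent

theorem simple (h : Mn T B lam) (hL : IsComponent E) : IsSimpleGroup E := by
  have h1 : center E = ⊥ := by
    rw [eq_bot_iff]
    intro x hx
    have h2 : (x : X) ∈ E ⊓ centralizer (E : Set X) := by
      refine ⟨x.2, mem_centralizer_iff.2 fun y hy => ?_⟩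
      exact congrArg Subtype.val (mem_center_iff.1 hx ⟨y, hy⟩)
    rw [h.center_bot hL, mem_bot] at h2
    exact mem_bot.2 (Subtype.ext h2)
  have h2 : IsSimpleGroup (E ⧸ center E) := hL.2.2
  have e : (E ⧸ center E) ≃* E := (QuotientGroup.quotientMulEquivOfEq h1).trans QuotientGroup.quotientBot
  exact Final.simple_congr e h2

theorem not_comm (h : Mn T B lam) (hL : IsComponent E) : ¬ E ≤ centralizer (E : Set X) := by
  intro h1
  have h2 := h.center_bot hL
  rw [inf_eq_left.2 h1] at h2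
  have hs := h.simple hL
  obtain ⟨x, hx⟩ := exists_ne (1 : E)
  exact hx (Subtype.ext (mem_bot.1 (h2 ▸ x.2)))

/-- `E` has even order -/
theorem inf_ne_bot (h : Mn T B lam) (hL : IsComponent E) : T ⊓ E ≠ ⊥ := by
  intro h1
  have h2 := h.odd_bot E hL.1 (odd_of_relIndex (not_dvd_relIndex_of_subnormal h.two h.syl hL.1) h1)
  have hs := h.simple hL
  obtain ⟨x, hx⟩ := exists_ne (1 : E)
  exact hx (Subtype.ext (mem_bot.1 (h2 ▸ x.2)))

/-- `C_X(K) = 1` -/
theorem cen_bot (h : Mn T B lam) {K : Subgroup X} (hK : K.Normal) (hKT : K ⊔ T = ⊤) :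
    centralizer (K : Set X) = ⊥ := by
  have hCn : (centralizer (K : Set X)).Normal := inferInstance
  have h1 : K ⊓ centralizer (K : Set X) = ⊥ := by
    refine h.nilp_bot _ (Normal.isSubnormal (normal_inf_normal _ _)) ?_
    let _ : CommGroup (K ⊓ centralizer (K : Set X) : Subgroup X) :=
      { (inferInstance : Group (K ⊓ centralizer (K : Set X) : Subgroup X)) with
        mul_comm := fun x y => Subtype.ext (mem_centralizer_iff.1 y.2.2 x x.2.1) }
    exact CommGroup.isNilpotent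
  refine h.o2_eq_bot hCn ?_
  rintro ⟨x, hx⟩
  have hx2 : x ∈ K ⊔ T := hKT ▸ mem_top x
  obtain ⟨y, hy, t, ht, rfl⟩ := mem_sup_of_normal_left.1 hx2
  obtain ⟨k, hk⟩ := h.two ⟨t, ht⟩
  refine ⟨k, Subtype.ext ?_⟩
  have h2 : t ^ 2 ^ k = 1 := congrArg Subtype.val hk
  have h3 : (y * t) ^ 2 ^ k ∈ K := by
    rw [← QuotientGroup.eq_one_iff, QuotientGroup.mk_pow, QuotientGroup.mk_mul,
      (QuotientGroup.eq_one_iff y).2 hy, one_mul, ← QuotientGroup.mk_pow, h2, QuotientGroup.mk_one]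
  have h4 : (y * t) ^ 2 ^ k ∈ K ⊓ centralizer (K : Set X) := ⟨h3, Subgroup.pow_mem _ hx _⟩
  rw [h1] at h4
  exact mem_bot.1 h4

/-- **(3) `B` normalises `E`.** -/
theorem B_le_normalizer (h : Mn T B lam) (hL : IsComponent E) (hLA : ¬ B ≤ centralizer (E : Set X)) :
    B ≤ normalizer (E : Set X) := by
  intro b hb
  by_contra hcon
  have hbT := h.B_le hb
  set K := tcl T E with hKdef
  have hKn : K.Normal := h.tcl_normal hL hLA
  have hKT : K ⊔ T = ⊤ := h.sup_eq_top hL hLA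
  have hKl : K ≤ layer X := Fr.tcl_le_layer hL
  set L₂ : Subgroup X := E.map (MulAut.conj b).toMonoidHom with hL₂def
  have hL₂ : IsComponent L₂ := isComponent_conj b hL
  have hne : L₂ ≠ E := fun h1 => hcon (mem_normalizer_of_map h1)
  have hL₂c : L₂ ≤ centralizer (E : Set X) := component_le_centralizer_of_ne hL₂ hL hne
  have hrel := not_dvd_relIndex_of_subnormal h.two h.syl hL.1
  set S : Subgroup X := T ⊓ E with hS
  -- `R ∩ K` normalises `S`
  have hRK : ∀ R : Subgroup X, T ≤ R → R ≠ ⊤ → ∀ r ∈ R, r ∈ K → ∀ s ∈ S, r * s * r⁻¹ ∈ S := by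
    intro R hTR hR r hr hrK s hs
    have hlow := h.low R hTR hR
    have hoT : o2 R ≤ T := o2_le_of_sylow h.two fun h2 => h.syl (h2.trans (relIndex_dvd_index_of_le hTR))
    have hrE : r ∈ normalizer (E : Set X) := layer_le_normalizer_component hL (hKl hrK)
    have hrL : r ∈ normalizer (L₂ : Set X) := layer_le_normalizer_component hL₂ (hKl hrK)
    have h1 : s * (b * s⁻¹ * b⁻¹) ∈ o2 R := by
      have h2 := conj_mem_of_le (le_normalizer_o2 R) (hTR hs.1) (hlow hb)
      have h3 := Subgroup.mul_mem _ h2 (Subgroup.inv_mem _ (hlow hb))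
      have e : s * b * s⁻¹ * b⁻¹ = s * (b * s⁻¹ * b⁻¹) := by group
      rwa [e] at h3
    have h2 : (r * s * r⁻¹) * (r * (b * s⁻¹ * b⁻¹) * r⁻¹) ∈ T := by
      have h3 := hoT (conj_mem_of_le (le_normalizer_o2 R) hr h1)
      have e : r * (s * (b * s⁻¹ * b⁻¹)) * r⁻¹ = (r * s * r⁻¹) * (r * (b * s⁻¹ * b⁻¹) * r⁻¹) := by group
      rwa [e] at h3
    have h3 : r * s * r⁻¹ ∈ E := (mem_normalizer_iff.1 hrE s).1 hs.2
    have h4 : r * (b * s⁻¹ * b⁻¹) * r⁻¹ ∈ L₂ := (mem_normalizer_iff.1 hrL _).1 ⟨s⁻¹, E.inv_mem hs.2, rfl⟩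
    exact ⟨mem_of_mul_mem h.two hrel (h.center_bot hL) h3 (hL₂c h4) h2, h3⟩
  -- the subgroup `⟨S^T⟩`
  set S' : Subgroup X := tcl T S with hS'
  have hS'T : S' ≤ T := tcl_le fun t ht => by
    rintro _ ⟨x, hx, rfl⟩
    exact T.mul_mem (T.mul_mem ht hx.1) (T.inv_mem ht)
  refine h.nmax ⟨normalizer (S' : Set X), ?_, ?_⟩
  · intro h1
    have h2 := h.o2_eq_bot (normalizer_eq_top_iff.1 h1) (h.two.to_le hS'T)
    exact h.inf_ne_bot hL (le_bot_iff.1 (h2 ▸ le_tcl T S))
  · intro R hTR hR r hr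
    have hr2 : r ∈ K ⊔ T := hKT ▸ mem_top r
    obtain ⟨k, hk, t, ht, rfl⟩ := mem_sup_of_normal_left.1 hr2
    have hkR : k ∈ R := by
      have := R.mul_mem hr (R.inv_mem (hTR ht))
      rwa [mul_inv_cancel_right] at this
    refine Subgroup.mul_mem _ ?_ (le_normalizer_tcl T S ht)
    have key : R ⊓ K ≤ normalizer (S' : Set X) := by
      refine le_normalizer_of_map_le fun g hg => map_sup_le _ fun t' ht' => ?_
      have hg' : t'⁻¹ * g * t' ∈ R ⊓ K := by
        refine ⟨R.mul_mem (R.mul_mem (R.inv_mem (hTR ht')) hg.1) (hTR ht'), ?_⟩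
        have := hKn.conj_mem g hg.2 t'⁻¹
        rwa [inv_inv] at this
      rintro _ ⟨s, hs, rfl⟩
      have h5 := hRK R hTR hR _ hg'.1 hg'.2 s hs
      refine map_conj_le_tcl ht' ⟨_, h5, ?_⟩
      change t' * (t'⁻¹ * g * t' * s * (t'⁻¹ * g * t')⁻¹) * t'⁻¹ = g * t' * s * (g * t')⁻¹
      group
    exact key ⟨hkR, hk⟩

/-- **Steps (1), (3).** -/
theorem exists_cmp (h : Mn T B lam) : ∃ K E : Subgroup X, Cmp T B K E lam ∧ ¬ B ≤ centralizer (E : Set X) := by
  obtain ⟨E, hL, hLA⟩ := h.exists_component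
  have hKn := h.tcl_normal hL hLA
  have hKT := h.sup_eq_top hL hLA
  have hconj : ∀ t ∈ T, t ∉ normalizer (E : Set X) →
      E.map (MulAut.conj t).toMonoidHom ≤ centralizer (E : Set X) := fun t _ htn =>
    component_le_centralizer_of_ne (isComponent_conj t hL) hL fun h1 => htn (mem_normalizer_of_map h1)
  refine ⟨tcl T E, E, ⟨h, hKn, h.cen_bot hKn hKT, hKT, le_tcl T E, h.simple hL, h.not_comm hL, le_rfl, ?_,
    h.center_bot hL, hconj, h.B_le_normalizer hL hLA⟩, hLA⟩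
  refine le_antisymm (sup_le (le_tcl T E) inf_le_left) (tcl_le fun t ht => ?_)
  by_cases h1 : t ∈ normalizer (E : Set X)
  · rw [map_conj_eq_of_mem h1]
    exact le_sup_left
  · exact le_sup_of_le_right (le_inf (map_conj_le_tcl ht) (hconj t ht h1))

end Mn

end Cfsg.Agent.Omega.ML.Ex.Red

end

section


/-!
# THEOREM RED, steps (U), (2), (4), (5): the module `N = [M,E]` (helper995)

* `Mn.alt` (U): `|B : C_B(U)| ≤ |U : C_U(B)|` implies `[U,B] = 1`, or `C_B(U) = 1` and `M = U C_M(B)`;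
* `Cmp.le_of_normal` : `K` is in every normal subgroup `≠ 1`;  `Cmp.fix_of_mod` : `K` perfect;
* **`Cmp.sub`** (2): every `X`-submodule of `M` is centralised by `K` or contains `[M,K]`;
* **`Cmp.toM`** : `CmpM T B K E lam`.
-/

set_option autoImplicit false

namespace Cfsg.Agent.Omega.ML.Ex.Red

open Subgroup Cfsg Cfsg.Agent.ZN Cfsg.Agent.Omega.NOThree.NoOver Cfsg.Agent.Omega.ML.CD
open Cfsg.Agent.ClassTwoFusion.Quad Cfsg.Agent.Omega.ML.MinFrame
open Cfsg.Agent.MinSimple.VModule (o2_isPGroup o2_le le_o2 le_normalizer_o2 o2_le_of_sylow)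

universe u v

variable {X : Type u} [Group X] [Finite X] {M : Type v} [Group M] [Finite M] [MulDistribMulAction X M]
  {T B K E : Subgroup X} {lam : M}

omit [Finite X] [Finite M] in
theorem smul_mul_self_iff (sq : ∀ m : M, m * m = 1) {x : X} {m : M} : x • m * m = 1 ↔ x • m = m := by
  constructor
  · intro h1
    have h2 := congrArg (· * m) h1
    simpa [mul_assoc, sq] using h2
  · intro h1
    rw [h1, sq]

omit [Finite M] in
/-- `|M : C_M(B)|` against a supplement -/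
theorem relIndex_of_sup (comm : ∀ x y : M, x * y = y * x) {U C : Subgroup M} (h : U ⊔ C = ⊤) :
    C.relIndex U = C.index := by
  have hn : C.Normal := ⟨fun x hx g => by rw [comm g x, mul_inv_cancel_right]; exact hx⟩
  rw [← relIndex_sup_right, h, relIndex_top_right]

namespace Mn

/-- **(U)** -/
theorem alt (h : Mn T B lam) {U : Subgroup M}
    (hU : (fxr X U).relIndex B ≤ (cv M (B : Set X)).relIndex U) :
    B ≤ fxr X U ∨ (B ⊓ fxr X U = ⊥ ∧ U ⊔ cv M (B : Set X) = ⊤) := by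
  set D : Subgroup X := B ⊓ fxr X U with hD
  have hDB : D ≤ B := inf_le_left
  have hUD : U ≤ cv M (D : Set X) := cv_inf_eq_iff.2 inf_le_right
  have h1 : (fxr X U).relIndex B = D.relIndex B := by rw [hD, inf_comm, inf_relIndex_right]
  have h2 : Nat.card B = D.relIndex B * Nat.card D := card_eq_relIndex_mul hDB
  have h3 : (cv M (B : Set X)).relIndex U ≤ (cv M (B : Set X)).relIndex (cv M (D : Set X)) :=
    relIndex_le_of_le_right hUD (relIndex_ne _ _)
  have hle : cv M (B : Set X) ≤ cv M (D : Set X) := cv_anti (SetLike.coe_subset_coe.2 hDB)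
  have h4 : (cv M (B : Set X)).relIndex (cv M (D : Set X)) * (cv M (D : Set X)).index = Nat.card B := by
    rw [relIndex_mul_index hle, h.exact]
  have hpos : 0 < D.relIndex B := Nat.pos_of_ne_zero (relIndex_ne _ _)
  have h5 : (cv M (D : Set X)).index ≤ Nat.card D := by
    have h6 : D.relIndex B * (cv M (D : Set X)).index ≤ D.relIndex B * Nat.card D := by
      rw [← h2, ← h4]
      exact Nat.mul_le_mul_right _ ((h1 ▸ hU).trans h3)
    exact Nat.le_of_mul_le_mul_left h6 hpos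
  by_cases hb : D = ⊥
  · right
    refine ⟨hb, ?_⟩
    have hn : (cv M (B : Set X)).Normal := ⟨fun x hx g => by rw [h.comm g x, mul_inv_cancel_right]; exact hx⟩
    have h6 : Nat.card B ≤ (cv M (B : Set X)).relIndex U := by
      rw [h1, hb, relIndex_bot_left] at hU
      exact hU
    have h7 : (cv M (B : Set X)).relIndex (U ⊔ cv M (B : Set X)) * (U ⊔ cv M (B : Set X)).index = Nat.card B := by
      rw [relIndex_mul_index le_sup_right, h.exact]
    rw [relIndex_sup_right] at h7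
    have h8 : (U ⊔ cv M (B : Set X)).index ≠ 0 := index_ne_zero_of_finite
    have h9 : (U ⊔ cv M (B : Set X)).index = 1 := by
      have hBpos : 0 < Nat.card B := Nat.card_pos
      by_contra h10
      have h11 : 2 ≤ (U ⊔ cv M (B : Set X)).index := by omega
      have h12 : Nat.card B * 2 ≤ Nat.card B := by
        calc Nat.card B * 2 ≤ (cv M (B : Set X)).relIndex U * (U ⊔ cv M (B : Set X)).index := Nat.mul_le_mul h6 h11
          _ = Nat.card B := h7
      omega
    exact index_eq_one.1 h9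
  · left
    by_cases hBD : D = B
    · exact hBD ▸ inf_le_right
    · exact absurd (h.atom D hDB hb hBD) (not_lt.2 h5)

end Mn

namespace Cmp

section

omit [Finite X] [Finite M]

theorem ne_bot (h : Cmp T B K E lam) : ∃ x ∈ E, x ≠ 1 := by
  have hs := h.simple
  obtain ⟨x, hx⟩ := exists_ne (1 : E)
  exact ⟨x, x.2, fun h1 => hx (Subtype.ext h1)⟩

/-- `E` is perfect -/
theorem hom_eq_one (h : Cmp T B K E lam) {P : Type*} [CommGroup P] (f : E →* P) (k : E) : f k = 1 := by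
  have hs := h.simple
  rcases (MonoidHom.normal_ker f).eq_bot_or_eq_top with h1 | h1
  · exfalso
    apply h.nc
    intro x hx
    rw [mem_centralizer_iff]
    intro y hy
    have h2 : (⟨y, hy⟩ : E) * ⟨x, hx⟩ = ⟨x, hx⟩ * ⟨y, hy⟩ :=
      (MonoidHom.ker_eq_bot_iff f).1 h1 (by rw [map_mul, map_mul, mul_comm])
    exact congrArg Subtype.val h2
  · have h2 : k ∈ f.ker := h1 ▸ mem_top k
    exact h2

/-- a vector which `E` fixes modulo `W` is in `W'`, if `e • m * m` is `E`-fixed modulo `W` -/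
theorem mem_of_mod (h : Cmp T B K E lam) {W : Subgroup M} {m : M}
    (hm : ∀ e ∈ E, ∀ e' ∈ E, e' • (e • m * m) * (e • m * m) ∈ W) : ∀ e ∈ E, e • m * m ∈ W := by
  have hc := h.mn.comm
  have hsq := h.mn.sq
  have hn : W.Normal := ⟨fun x hx g => by rw [hc g x, mul_inv_cancel_right]; exact hx⟩
  let _ : CommGroup (M ⧸ W) := { (inferInstance : Group (M ⧸ W)) with
    mul_comm := fun x y => by
      obtain ⟨x, rfl⟩ := QuotientGroup.mk_surjective x
      obtain ⟨y, rfl⟩ := QuotientGroup.mk_surjective y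
      rw [← QuotientGroup.mk_mul, hc, QuotientGroup.mk_mul] }
  let f : E →* M ⧸ W :=
    { toFun := fun e => QuotientGroup.mk ((e : X) • m * m)
      map_one' := by
        change (QuotientGroup.mk ((1 : X) • m * m) : M ⧸ W) = 1
        rw [one_smul, hsq]
        rfl
      map_mul' := fun k l => by
        change (QuotientGroup.mk (((k : X) * (l : X)) • m * m) : M ⧸ W) =
          QuotientGroup.mk ((k : X) • m * m) * QuotientGroup.mk ((l : X) • m * m)
        rw [← QuotientGroup.mk_mul, QuotientGroup.eq]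
        have h1 := hm l l.2 k k.2
        have e : (((k : X) * (l : X)) • m * m)⁻¹ * ((k : X) • m * m * ((l : X) • m * m)) =
            (k : X) • ((l : X) • m * m) * ((l : X) • m * m) := by
          rw [inv_eq_of_mul_eq_one_right (hsq _), smul_mul', mul_smul]
          calc (k : X) • (l : X) • m * m * ((k : X) • m * m * ((l : X) • m * m))
              = (k : X) • (l : X) • m * ((m * (k : X) • m) * m) * ((l : X) • m * m) := by simp only [mul_assoc]
            _ = (k : X) • (l : X) • m * (((k : X) • m * m) * m) * ((l : X) • m * m) := by rw [hc m ((k : X) • m)]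
            _ = (k : X) • (l : X) • m * ((k : X) • m) * ((l : X) • m * m) := by
                rw [mul_assoc ((k : X) • m) m m, hsq, mul_one]
        rw [e]
        exact h1 }
  intro e he
  have h1 : f ⟨e, he⟩ = 1 := h.hom_eq_one f _
  exact (QuotientGroup.eq_one_iff _).1 h1

/-- conjugates of `E` fixing `m`: from `K = ⟨E^T⟩` -/
theorem K_le (h : Cmp T B K E lam) {L : Subgroup X} (hL : ∀ t ∈ T, ∀ e ∈ E, t * e * t⁻¹ ∈ L) : K ≤ L :=
  h.tcl.trans (tcl_le fun t ht => by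
    rintro _ ⟨e, he, rfl⟩
    exact hL t ht e he)

/-- `K` is perfect: a vector fixed modulo `C_M(K)` is fixed -/
theorem fix_of_mod (h : Cmp T B K E lam) {m : M} (hm : ∀ k ∈ K, k • m * m ∈ cv M (K : Set X)) :
    m ∈ cv M (K : Set X) := by
  have hc := h.mn.comm
  have hsq := h.mn.sq
  have h1 : K ≤ MulAction.stabilizer X m := by
    refine h.K_le fun t ht e he => ?_
    -- `E^t` fixes `m` iff `E` fixes `t⁻¹ m`
    have h2 : ∀ e ∈ E, e • (t⁻¹ • m) * (t⁻¹ • m) ∈ (⊥ : Subgroup M) := by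
      refine h.mem_of_mod fun e he e' he' => ?_
      have h3 : t * e * t⁻¹ ∈ K := h.normK.conj_mem e (h.EK he) t
      have h4 : t * e' * t⁻¹ ∈ K := h.normK.conj_mem e' (h.EK he') t
      have h5 := hm _ h3 _ h4
      have e1 : e • (t⁻¹ • m) * (t⁻¹ • m) = t⁻¹ • ((t * e * t⁻¹) • m * m) := by
        rw [smul_mul', ← mul_smul, ← mul_smul]
        congr 2
        group
      rw [mem_bot, e1, ← mul_smul]
      have e2 : e' * t⁻¹ = t⁻¹ * (t * e' * t⁻¹) := by group
      rw [e2, mul_smul, h5, hsq]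
    have h3 := mem_bot.1 (h2 e he)
    rw [smul_mul_self_iff hsq] at h3
    rw [MulAction.mem_stabilizer_iff, mul_smul, mul_smul, h3, smul_inv_smul]
  exact fun k hk => h1 hk

theorem smul_mem_cvK (h : Cmp T B K E lam) (g : X) {m : M} (hm : m ∈ cv M (K : Set X)) :
    g • m ∈ cv M (K : Set X) := by
  intro k hk
  have h1 : g⁻¹ * k * g ∈ K := by
    have := h.normK.conj_mem k hk g⁻¹
    rwa [inv_inv] at this
  have h2 := hm _ h1
  rw [mul_smul, mul_smul, inv_smul_eq_iff] at h2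
  exact h2

/-- `K` normalises `E` -/
theorem K_le_normalizer (h : Cmp T B K E lam) : K ≤ normalizer (E : Set X) := by
  conv_lhs => rw [← h.sup]
  exact sup_le le_normalizer (inf_le_right.trans (centralizer_le_normalizer _))

/-- **`K` is in every normal subgroup `≠ 1`.** -/
theorem le_of_normal (h : Cmp T B K E lam) {N : Subgroup X} (hN : N.Normal) (hne : N ≠ ⊥) : K ≤ N := by
  have hs := h.simple
  have hKn := h.normK
  -- `N ∩ K` does not centralise `E`
  have hnc : ¬ N ⊓ K ≤ centralizer (E : Set X) := by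
    intro h1
    have hNK : (N ⊓ K).Normal := normal_inf_normal _ _
    have h2 : K ≤ centralizer ((N ⊓ K : Subgroup X) : Set X) := by
      refine h.K_le fun t _ e he => ?_
      rw [mem_centralizer_iff]
      intro x hx
      have h3 : t⁻¹ * x * t ∈ N ⊓ K := by
        have := hNK.conj_mem x hx t⁻¹
        rwa [inv_inv] at this
      have h4 := mem_centralizer_iff.1 (h1 h3) e he
      calc x * (t * e * t⁻¹) = t * (t⁻¹ * x * t * e) * t⁻¹ := by group
        _ = t * (e * (t⁻¹ * x * t)) * t⁻¹ := by rw [← h4]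
        _ = t * e * t⁻¹ * x := by group
    have h3 : N ⊓ K = ⊥ := by
      have h4 := le_centralizer_iff.1 h2
      rw [h.cenK] at h4
      exact le_bot_iff.1 h4
    apply hne
    rw [eq_bot_iff, ← h.cenK]
    intro x hx
    rw [mem_centralizer_iff]
    intro k hk
    have h4 : x * k * x⁻¹ * k⁻¹ ∈ N ⊓ K := by
      refine ⟨?_, K.mul_mem (hKn.conj_mem k hk x) (K.inv_mem hk)⟩
      have h5 := N.mul_mem hx (hN.conj_mem _ (N.inv_mem hx) k)
      have e : x * (k * x⁻¹ * k⁻¹) = x * k * x⁻¹ * k⁻¹ := by group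
      rwa [e] at h5
    rw [h3, mem_bot, mul_inv_eq_one, mul_inv_eq_iff_eq_mul] at h4
    exact h4.symm
  -- so `E ≤ N`
  have hEN : E ≤ N := by
    have h1 : (N.subgroupOf E).Normal := hN.subgroupOf E
    rcases h1.eq_bot_or_eq_top with h2 | h2
    · exfalso
      apply hnc
      rw [subgroupOf_eq_bot, disjoint_iff] at h2
      intro x hx
      rw [mem_centralizer_iff]
      intro e he
      have h3 : x * e * x⁻¹ * e⁻¹ ∈ N ⊓ E := by
        refine ⟨?_, E.mul_mem ((mem_normalizer_iff.1 (h.K_le_normalizer hx.2) e).1 he) (E.inv_mem he)⟩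
        have h5 := N.mul_mem hx.1 (hN.conj_mem _ (N.inv_mem hx.1) e)
        have e1 : x * (e * x⁻¹ * e⁻¹) = x * e * x⁻¹ * e⁻¹ := by group
        rwa [e1] at h5
      rw [h2, mem_bot, mul_inv_eq_one, mul_inv_eq_iff_eq_mul] at h3
      exact h3.symm
    · rwa [subgroupOf_eq_top] at h2
  exact h.K_le fun t _ e he => hN.conj_mem e (hEN he) t

end

/-- **(2)**: an `X`-submodule of `M` is centralised by `K` or contains `[M,K]`. -/
theorem sub (h : Cmp T B K E lam) (hML : Final.MLK.{u, v}) (hKG : IsKGroup X) {U : Subgroup M}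
    (hU : ∀ g : X, ∀ u ∈ U, g • u ∈ U) : (∀ k ∈ K, ∀ u ∈ U, k • u = u) ∨ cm M K ≤ U := by
  have hc := h.mn.comm
  have hsq := h.mn.sq
  by_cases hKU : U ≤ cv M (K : Set X)
  · exact Or.inl fun k hk u hu => hKU hu k hk
  right
  set U' : Subgroup M := U ⊓ cv M (K : Set X) with hU'def
  have hU'i : ∀ g : X, ∀ u ∈ U', g • u ∈ U' := fun g u hu => ⟨hU g u hu.1, h.smul_mem_cvK g hu.2⟩
  have hn : U'.Normal := ⟨fun x hx g => by rw [hc g x, mul_inv_cancel_right]; exact hx⟩
  let _ := modAct (H := X) U' hU'i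
  have hinv : ∀ x : M, x⁻¹ = x := fun x => inv_eq_of_mul_eq_one_right (hsq x)
  have hsm : ∀ (g : X) (x : M), g • (QuotientGroup.mk x : M ⧸ U') = QuotientGroup.mk (g • x) := fun _ _ => rfl
  have hmk : ∀ x y : M, (QuotientGroup.mk x : M ⧸ U') = QuotientGroup.mk y ↔ x * y ∈ U' := by
    intro x y
    rw [QuotientGroup.eq, hinv]
  have hsq' : ∀ x : M ⧸ U', x * x = 1 := fun x => by
    obtain ⟨y, rfl⟩ := QuotientGroup.mk_surjective x
    rw [← QuotientGroup.mk_mul, hsq]
    rfl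
  have hne : U.map (QuotientGroup.mk' U') ≠ ⊥ := by
    rw [Ne, Subgroup.map_eq_bot_iff, QuotientGroup.ker_mk']
    exact fun h1 => hKU (h1.trans inf_le_right)
  obtain ⟨z, hzU, hz1, hzT⟩ := exists_fixed hsq' h.mn.two hne (by
    rintro t _ _ ⟨u, hu, rfl⟩
    exact ⟨t • u, hU t u hu, rfl⟩)
  obtain ⟨u, hu, huz⟩ := hzU
  have huz' : (QuotientGroup.mk u : M ⧸ U') = z := huz
  set R : Subgroup X := MulAction.stabilizer X z with hR
  have hmemR : ∀ g : X, g ∈ R ↔ g • u * u ∈ U' := by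
    intro g
    rw [hR, MulAction.mem_stabilizer_iff, ← huz', hsm, hmk]
  -- `K` does not fix `z`
  have hKz : ¬ K ≤ R := by
    intro h1
    have h2 : u ∈ cv M (K : Set X) := h.fix_of_mod fun k hk => ((hmemR k).1 (h1 hk)).2
    apply hz1
    rw [← huz']
    exact (QuotientGroup.eq_one_iff u).2 ⟨hu, h2⟩
  have hTR : T ≤ R := fun t ht => hzT t ht
  have hRne : R ≠ ⊤ := fun h1 => hKz (h1 ▸ le_top)
  have hlow := h.mn.low R hTR hRne
  have key := hML.act (C := X) (V := M ⧸ U') hKG (T := T) (Q := o2 R) (A := B) (z := z)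
    { sq := hsq'
      two := h.mn.two
      odd := h.mn.syl
      fixT := hzT
      Q2 := fun q hq => by
        obtain ⟨n, hn⟩ := o2_isPGroup R ⟨q, hq⟩
        refine ⟨n, fun v => ?_⟩
        have h1 : q ^ 2 ^ n = 1 := congrArg Subtype.val hn
        rw [h1, one_smul]
      fixQ := fun q hq => o2_le R hq
      nrmQ := fun g hg q hq => ⟨g * q * g⁻¹, conj_mem_of_le (le_normalizer_o2 R) hg hq, fun _ => rfl⟩
      AQ := fun a ha => ⟨a, hlow ha, fun _ => rfl⟩
      Asq := fun a ha v => by rw [← mul_smul, h.mn.el a ha, one_smul] }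
  have hF : fxr X (orb (⊤ : Subgroup X) z) = ⊥ := by
    by_contra h1
    have h2 : (fxr X (orb (⊤ : Subgroup X) z)).Normal := fxr_normal fun g u hu => smul_mem_orb (mem_top g) hu
    exact hKz fun k hk => h.le_of_normal h2 h1 hk z (mem_orb_self _ z)
  rw [hF, relIndex_bot_left] at key
  set Uu : Subgroup M := (orb (⊤ : Subgroup X) z).comap (QuotientGroup.mk' U') with hUu
  have hmap : Uu.map (QuotientGroup.mk' U') = orb (⊤ : Subgroup X) z :=
    Subgroup.map_comap_eq_self_of_surjective (QuotientGroup.mk'_surjective U') _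
  have h1 : Nat.card B ≤ (cv M (B : Set X)).relIndex Uu := by
    refine key.trans ?_
    rw [← hmap, ← relIndex_comap]
    refine relIndex_le_of_le_left ?_ (relIndex_ne _ _)
    intro x hx b hb
    change b • (QuotientGroup.mk x : M ⧸ U') = QuotientGroup.mk x
    rw [hsm, hx b hb]
  have h2 : (fxr X Uu).relIndex B ≤ Nat.card B := Nat.le_of_dvd Nat.card_pos (relIndex_dvd_card _ _)
  have hUuU : Uu ≤ U := by
    intro x hx
    have h3 : orb (⊤ : Subgroup X) z ≤ U.map (QuotientGroup.mk' U') := by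
      refine orb_le fun g _ => ?_
      rw [← huz', hsm]
      exact ⟨g • u, hU g u hu, rfl⟩
    obtain ⟨y, hy, hyx⟩ := h3 hx
    have h4 : (QuotientGroup.mk y : M ⧸ U') = QuotientGroup.mk x := hyx
    rw [hmk] at h4
    have h5 := U.mul_mem hy h4.1
    rwa [← mul_assoc, hsq, one_mul] at h5
  rcases h.mn.alt (h2.trans h1) with h3 | ⟨-, h3⟩
  · exfalso
    have h4 : (cv M (B : Set X)).relIndex Uu = 1 := relIndex_eq_one.2 (cv_inf_eq_iff.2 h3)
    have := h.mn.four
    omega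
  · let L : Subgroup X :=
      { carrier := {x | ∀ m : M, x • m * m ∈ U}
        one_mem' := fun m => by
          rw [one_smul, hsq]
          exact one_mem _
        mul_mem' := fun {x y} hx hy m => by
          have e : (x * y) • m * m = (x • y • m * (y • m)) * (y • m * m) := by
            rw [mul_smul, mul_assoc, ← mul_assoc (y • m) (y • m), hsq, one_mul]
          rw [e]
          exact mul_mem (hx _) (hy m)
        inv_mem' := fun {x} hx m => by
          have h1 := hx (x⁻¹ • m)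
          rw [smul_inv_smul, hc] at h1
          exact h1 }
    have hLn : L.Normal := ⟨fun x hx y m => by
      have h1 := hU y _ (hx (y⁻¹ • m))
      rw [smul_mul', smul_inv_smul, ← mul_smul, ← mul_smul] at h1
      exact h1⟩
    have hBL : B ≤ L := by
      intro b hb m
      have h5 : m ∈ Uu ⊔ cv M (B : Set X) := h3 ▸ mem_top m
      have hcn : (cv M (B : Set X)).Normal := ⟨fun x hx g => by rw [hc g x, mul_inv_cancel_right]; exact hx⟩
      obtain ⟨y, hy, c, hcc, rfl⟩ := mem_sup_of_normal_right.1 h5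
      have e : b • (y * c) * (y * c) = b • y * y := by
        rw [smul_mul', hcc b hb, hc y c, mul_assoc, ← mul_assoc c c, hsq, one_mul]
      rw [e]
      exact U.mul_mem (hU b y (hUuU hy)) (hUuU hy)
    have hKL : K ≤ L := h.le_of_normal hLn fun h4 => h.mn.B_ne_bot (le_bot_iff.1 (h4 ▸ hBL))
    exact cm_le fun k hk m => hKL hk m

end Cmp

end Cfsg.Agent.Omega.ML.Ex.Red

end

section


/-!
# Passage to one component: the group theory of (low) and (nmax) (#21158 (3), (7); helper844)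

`K = E F` normal in `X = K T`, `[E, F] = 1 = E ∩ F`, `F = C_K(E)`, `E` simple, the `T`-conjugates of `E` generate `K` and the
others lie in `F`; `T₁ := N_T(E)`.

* `Cp` : this situation;  `AF A` : the elements `a f`, `a ∈ A`;  `hat A` : the intersection of the `T`-conjugates of `A F`;
* `pr_le` : the projection of `T ∩ K` to `E` is `T ∩ E`;
* `hat_inf`, `le_hat`, `tk_le_hat`, `sup_inf_eq`, `sup_ne_top` : `hat A ∩ E = A`, `hat A T < X` for `T₁`-invariant
  `T ∩ E ≤ A < E`;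
* **`low_of`** (low) : `B ≤ O₂(R)` for all `T ≤ R < X` gives `B ≤ O₂(A T₁)` for all those `A`;
* **`exists_max`** (nmax) : if all those `A` lie in one of them, then `T` is in a unique maximal subgroup of `X`.
-/

set_option autoImplicit false

namespace Cfsg.Agent.Omega.ML.Ex.SecLow

open Subgroup Cfsg Cfsg.Agent.ZN
open Cfsg.Agent.MinSimple.VModule (o2_isPGroup o2_le le_o2 le_normalizer_o2)

variable {X : Type*} [Group X]

/-- The situation. -/
structure Cp (T K E F : Subgroup X) : Prop where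
  two : IsPGroup 2 T
  Kn : K.Normal
  gen : K ⊔ T = ⊤
  sylE : ¬ 2 ∣ (T ⊓ E).relIndex E
  EK : E ≤ K
  FK : F ≤ K
  KEF : ∀ k ∈ K, ∃ e ∈ E, ∃ f ∈ F, k = e * f
  cEF : ∀ e ∈ E, ∀ f ∈ F, e * f = f * e
  iEF : ∀ e ∈ E, e ∈ F → e = 1
  cF : ∀ x ∈ K, (∀ e ∈ E, x * e = e * x) → x ∈ F
  conj : ∀ t ∈ T, (∀ e ∈ E, t * e * t⁻¹ ∈ E) ∨ ∀ e ∈ E, t * e * t⁻¹ ∈ F
  KE : K ≤ closure {x | ∃ t ∈ T, ∃ e ∈ E, x = t * e * t⁻¹}
  simple : IsSimpleGroup E
  nt : T ⊓ E ≠ ⊥

/-- `N_T(E)` -/
def T1 (T E : Subgroup X) : Subgroup X := T ⊓ normalizer (E : Set X)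

theorem T1_conj {T E : Subgroup X} {t : X} (ht : t ∈ T1 T E) {e : X} (he : e ∈ E) : t * e * t⁻¹ ∈ E :=
  (mem_normalizer_iff.1 ht.2 e).1 he

namespace Cp

variable {T K E F : Subgroup X}

theorem mem_T1 [Finite X] (_h : Cp T K E F) {t : X} (ht : t ∈ T) (h1 : ∀ e ∈ E, t * e * t⁻¹ ∈ E) : t ∈ T1 T E := by
  refine ⟨ht, ?_⟩
  have h2 : E.map (MulAut.conj t).toMonoidHom = E := by
    apply Subgroup.eq_of_le_of_card_ge
    · rintro _ ⟨e, he, rfl⟩
      exact h1 e he
    · rw [card_map_of_injective (MulAut.conj t).injective]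
  refine mem_normalizer_iff.2 ?_
  intro x
  refine ⟨h1 x, fun hx => ?_⟩
  have h3 : t * x * t⁻¹ ∈ E.map (MulAut.conj t).toMonoidHom := by rw [h2]; exact hx
  obtain ⟨e, he, he2⟩ := h3
  have h4 : e = x := (MulAut.conj t).injective he2
  exact h4 ▸ he

/-- `F` is normalised by `T₁` -/
theorem F_conj (h : Cp T K E F) {t : X} (ht : t ∈ T1 T E) {f : X} (hf : f ∈ F) : t * f * t⁻¹ ∈ F := by
  refine h.cF _ (h.Kn.conj_mem f (h.FK hf) t) ?_
  intro e he
  have h1 : t⁻¹ * e * t ∈ E := by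
    have := T1_conj (inv_mem ht) he
    rwa [inv_inv] at this
  calc t * f * t⁻¹ * e = t * (f * (t⁻¹ * e * t)) * t⁻¹ := by group
    _ = t * ((t⁻¹ * e * t) * f) * t⁻¹ := by rw [h.cEF _ h1 f hf]
    _ = e * (t * f * t⁻¹) := by group

/-- the elements `a f` -/
def AF (h : Cp T K E F) (A : Subgroup X) (hA : A ≤ E) : Subgroup X where
  carrier := {x | ∃ a ∈ A, ∃ f ∈ F, x = a * f}
  one_mem' := ⟨1, one_mem _, 1, one_mem _, by rw [mul_one]⟩
  mul_mem' := by
    rintro _ _ ⟨a, ha, f, hf, rfl⟩ ⟨b, hb, g, hg, rfl⟩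
    refine ⟨a * b, mul_mem ha hb, f * g, mul_mem hf hg, ?_⟩
    calc a * f * (b * g) = a * (f * b) * g := by group
      _ = a * (b * f) * g := by rw [h.cEF b (hA hb) f hf]
      _ = _ := by group
  inv_mem' := by
    rintro _ ⟨a, ha, f, hf, rfl⟩
    refine ⟨a⁻¹, inv_mem ha, f⁻¹, inv_mem hf, ?_⟩
    rw [h.cEF a (hA ha) f hf, mul_inv_rev]

theorem mem_AF {h : Cp T K E F} {A : Subgroup X} {hA : A ≤ E} {x : X} :
    x ∈ h.AF A hA ↔ ∃ a ∈ A, ∃ f ∈ F, x = a * f := Iff.rfl

/-- the intersection of the `T`-conjugates of `A F` -/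
def hat (h : Cp T K E F) (A : Subgroup X) (hA : A ≤ E) : Subgroup X where
  carrier := {x | ∀ t ∈ T, t * x * t⁻¹ ∈ h.AF A hA}
  one_mem' := fun t _ => by rw [mul_one, mul_inv_cancel]; exact one_mem _
  mul_mem' := fun {x y} hx hy t ht => by
    have h1 : t * (x * y) * t⁻¹ = (t * x * t⁻¹) * (t * y * t⁻¹) := by group
    rw [h1]
    exact mul_mem (hx t ht) (hy t ht)
  inv_mem' := fun {x} hx t ht => by
    have h1 : t * x⁻¹ * t⁻¹ = (t * x * t⁻¹)⁻¹ := by group
    rw [h1]
    exact inv_mem (hx t ht)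

theorem mem_hat {h : Cp T K E F} {A : Subgroup X} {hA : A ≤ E} {x : X} :
    x ∈ h.hat A hA ↔ ∀ t ∈ T, t * x * t⁻¹ ∈ h.AF A hA := Iff.rfl

theorem hat_le_AF (h : Cp T K E F) {A : Subgroup X} (hA : A ≤ E) : h.hat A hA ≤ h.AF A hA := fun x hx => by
  have := hx 1 (one_mem _)
  rwa [one_mul, inv_one, mul_one] at this

theorem AF_le (h : Cp T K E F) {A : Subgroup X} (hA : A ≤ E) : h.AF A hA ≤ K := by
  rintro _ ⟨a, ha, f, hf, rfl⟩
  exact mul_mem (h.EK (hA ha)) (h.FK hf)

theorem hat_conj (h : Cp T K E F) {A : Subgroup X} (hA : A ≤ E) {t : X} (ht : t ∈ T) {x : X} (hx : x ∈ h.hat A hA) :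
    t * x * t⁻¹ ∈ h.hat A hA := by
  intro s hs
  have h1 : s * (t * x * t⁻¹) * s⁻¹ = (s * t) * x * (s * t)⁻¹ := by group
  rw [h1]
  exact hx _ (mul_mem hs ht)

/-- `A F ∩ E = A` -/
theorem mem_of_AF (h : Cp T K E F) {A : Subgroup X} (hA : A ≤ E) {x : X} (hx : x ∈ h.AF A hA) (hxE : x ∈ E) : x ∈ A := by
  obtain ⟨a, ha, f, hf, rfl⟩ := hx
  have h1 : f ∈ E := by
    have := mul_mem (inv_mem (hA ha)) hxE
    rwa [inv_mul_cancel_left] at this
  rw [h.iEF f h1 hf, mul_one]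
  exact ha

theorem le_hat [Finite X] (h : Cp T K E F) {A : Subgroup X} (hA : A ≤ E)
    (hT : ∀ t ∈ T1 T E, ∀ a ∈ A, t * a * t⁻¹ ∈ A) : A ≤ h.hat A hA := by
  intro a ha t ht
  rcases h.conj t ht with h1 | h1
  · exact ⟨_, hT t (h.mem_T1 ht h1) a ha, 1, one_mem _, (mul_one _).symm⟩
  · exact ⟨1, one_mem _, _, h1 a (hA ha), (one_mul _).symm⟩

/-- the projection of `R ∩ K` to `E` -/
def pr (h : Cp T K E F) (R : Subgroup X) : Subgroup X where
  carrier := {e | e ∈ E ∧ ∃ f ∈ F, e * f ∈ R}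
  one_mem' := ⟨one_mem _, 1, one_mem _, by rw [mul_one]; exact one_mem _⟩
  mul_mem' := by
    rintro e e' ⟨he, f, hf, h1⟩ ⟨he', f', hf', h2⟩
    refine ⟨mul_mem he he', f * f', mul_mem hf hf', ?_⟩
    have h3 : e * e' * (f * f') = (e * f) * (e' * f') := by
      calc e * e' * (f * f') = e * (e' * f) * f' := by group
        _ = e * (f * e') * f' := by rw [h.cEF e' he' f hf]
        _ = _ := by group
    rw [h3]
    exact mul_mem h1 h2
  inv_mem' := by
    rintro e ⟨he, f, hf, h1⟩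
    refine ⟨inv_mem he, f⁻¹, inv_mem hf, ?_⟩
    have h3 : e⁻¹ * f⁻¹ = (e * f)⁻¹ := by
      rw [h.cEF e he f hf, mul_inv_rev]
    rw [h3]
    exact inv_mem h1

theorem pr_le_E (h : Cp T K E F) (R : Subgroup X) : h.pr R ≤ E := fun _ he => he.1

theorem inf_le_pr (h : Cp T K E F) (R : Subgroup X) : R ⊓ E ≤ h.pr R := fun e he =>
  ⟨he.2, 1, one_mem _, by rw [mul_one]; exact he.1⟩

theorem le_AF_pr (h : Cp T K E F) (R : Subgroup X) : R ⊓ K ≤ h.AF (h.pr R) (h.pr_le_E R) := by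
  rintro x ⟨hxR, hxK⟩
  obtain ⟨e, he, f, hf, rfl⟩ := h.KEF x hxK
  exact ⟨e, ⟨he, f, hf, hxR⟩, f, hf, rfl⟩

theorem pr_conj (h : Cp T K E F) {R : Subgroup X} (hR : T ≤ R) : ∀ t ∈ T1 T E, ∀ a ∈ h.pr R, t * a * t⁻¹ ∈ h.pr R := by
  rintro t ht a ⟨ha, f, hf, h1⟩
  refine ⟨T1_conj ht ha, t * f * t⁻¹, h.F_conj ht hf, ?_⟩
  have h2 : t * a * t⁻¹ * (t * f * t⁻¹) = t * (a * f) * t⁻¹ := by group
  rw [h2]
  exact mul_mem (mul_mem (hR ht.1) h1) (inv_mem (hR ht.1))

/-- the projection of `T ∩ K` is `T ∩ E` -/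
theorem pr_T [Finite X] (h : Cp T K E F) : h.pr T ≤ T ⊓ E := by
  have hp : IsPGroup 2 (h.pr T) := by
    rintro ⟨e, he, f, hf, h1⟩
    obtain ⟨k, hk⟩ := h.two ⟨e * f, h1⟩
    refine ⟨k, Subtype.ext ?_⟩
    have h2 : (e * f) ^ (2 ^ k) = 1 := congrArg Subtype.val hk
    have hc : Commute e f := h.cEF e he f hf
    rw [hc.mul_pow] at h2
    have h3 : e ^ (2 ^ k) ∈ F := by
      rw [eq_inv_of_mul_eq_one_left h2]
      exact inv_mem (pow_mem hf _)
    exact h.iEF _ (pow_mem he _) h3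
  have hle : T ⊓ E ≤ h.pr T := h.inf_le_pr T
  have h2 : ¬ 2 ∣ (T ⊓ E).relIndex (h.pr T) := fun h3 => h.sylE (h3.trans (by
    have h4 : h.pr T ≤ E := fun e he => he.1
    exact ⟨_, (relIndex_mul_relIndex (T ⊓ E) (h.pr T) E hle h4).symm⟩))
  obtain ⟨n, hn⟩ := hp.exists_card_eq
  have h3 : (T ⊓ E).relIndex (h.pr T) ∣ 2 ^ n := by
    rw [← hn]
    exact relIndex_dvd_card _ _
  obtain ⟨k, -, hk⟩ := (Nat.dvd_prime_pow Nat.prime_two).1 h3
  rw [← relIndex_eq_one]
  rcases Nat.eq_zero_or_pos k with rfl | hk0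
  · exact hk
  · exact absurd (hk ▸ dvd_pow_self 2 hk0.ne') h2

theorem tk_le_hat [Finite X] (h : Cp T K E F) {A : Subgroup X} (hA : A ≤ E) (hTE : T ⊓ E ≤ A) :
    T ⊓ K ≤ h.hat A hA := by
  rintro x ⟨hxT, hxK⟩ t ht
  obtain ⟨e, he, f, hf, h1⟩ := h.KEF _ (h.Kn.conj_mem x hxK t)
  refine ⟨e, hTE (h.pr_T ⟨he, f, hf, ?_⟩), f, hf, h1⟩
  rw [← h1]
  exact mul_mem (mul_mem ht hxT) (inv_mem ht)

/-- `hat A T ∩ K = hat A` -/
theorem sup_inf [Finite X] (h : Cp T K E F) {A : Subgroup X} (hA : A ≤ E) (hTE : T ⊓ E ≤ A) {x : X}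
    (hx : x ∈ h.hat A hA ⊔ T) (hxK : x ∈ K) : x ∈ h.hat A hA := by
  have hn : T ≤ normalizer (h.hat A hA : Set X) := by
    intro t ht
    rw [mem_normalizer_iff]
    intro x
    refine ⟨fun hx => h.hat_conj hA ht hx, fun hx => ?_⟩
    have h1 := h.hat_conj hA (inv_mem ht) hx
    have h2 : t⁻¹ * (t * x * t⁻¹) * t⁻¹⁻¹ = x := by group
    rwa [h2] at h1
  have h1 := coe_mul_of_right_le_normalizer_left (h.hat A hA) T hn
  have h0 : x ∈ ((h.hat A hA ⊔ T : Subgroup X) : Set X) := hx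
  rw [h1] at h0
  obtain ⟨a, ha, t, ht, rfl⟩ := h0
  have h2 : a ∈ K := h.AF_le hA (h.hat_le_AF hA ha)
  have h3 : t ∈ K := by
    have := mul_mem (inv_mem h2) hxK
    rwa [inv_mul_cancel_left] at this
  exact mul_mem ha (h.tk_le_hat hA hTE ⟨ht, h3⟩)

/-- `hat A T < X` -/
theorem sup_ne_top [Finite X] (h : Cp T K E F) {A : Subgroup X} (hA : A ≤ E) (hTE : T ⊓ E ≤ A) (hne : A ≠ E) :
    h.hat A hA ⊔ T ≠ ⊤ := by
  intro h1
  apply hne
  refine le_antisymm hA fun e he => ?_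
  exact h.mem_of_AF hA (h.hat_le_AF hA (h.sup_inf hA hTE (h1 ▸ mem_top e) (h.EK he))) he

/-- **(low)** -/
theorem low_of [Finite X] (h : Cp T K E F) {B : Subgroup X} (hB : B ≤ T1 T E)
    (low : ∀ R : Subgroup X, T ≤ R → R ≠ ⊤ → B ≤ o2 R) {A : Subgroup X} (hA : A ≤ E) (hTE : T ⊓ E ≤ A)
    (hT : ∀ t ∈ T1 T E, ∀ a ∈ A, t * a * t⁻¹ ∈ A) (hne : A ≠ E) : B ≤ o2 (A ⊔ T1 T E) := by
  have h1 := low _ le_sup_right (h.sup_ne_top hA hTE hne)
  have h2 : A ⊔ T1 T E ≤ h.hat A hA ⊔ T := sup_le_sup (h.le_hat hA hT) inf_le_left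
  refine le_trans (le_inf h1 (hB.trans (le_sup_right : T1 T E ≤ A ⊔ T1 T E))) ?_
  refine le_o2 inf_le_right ((o2_isPGroup _).to_le inf_le_left) ?_
  intro g hg
  rw [mem_normalizer_iff]
  have key : ∀ g ∈ A ⊔ T1 T E, ∀ x ∈ o2 (h.hat A hA ⊔ T) ⊓ (A ⊔ T1 T E),
      g * x * g⁻¹ ∈ o2 (h.hat A hA ⊔ T) ⊓ (A ⊔ T1 T E) := by
    rintro g hg x ⟨hx, hx'⟩
    exact ⟨(mem_normalizer_iff.1 (le_normalizer_o2 _ (h2 hg)) x).1 hx,
      (A ⊔ T1 T E).mul_mem ((A ⊔ T1 T E).mul_mem hg hx') ((A ⊔ T1 T E).inv_mem hg)⟩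
  intro x
  refine ⟨key g hg x, fun hx => ?_⟩
  have h3 := key g⁻¹ ((A ⊔ T1 T E).inv_mem hg) _ hx
  have h4 : g⁻¹ * (g * x * g⁻¹) * g⁻¹⁻¹ = x := by group
  rwa [h4] at h3

/-- `R ∩ K = R ∩ (hat pr(R))` and `pr(R) ≠ E` for `T ≤ R < X` -/
theorem pr_ne [Finite X] (h : Cp T K E F) {R : Subgroup X} (hR : T ≤ R) (hRt : R ≠ ⊤) : h.pr R ≠ E := by
  intro h1
  have hs := h.simple
  -- the normal closure of `T ∩ E` in `E`
  have h2 : ∀ s ∈ T ⊓ E, ∀ e ∈ E, e * s * e⁻¹ ∈ R := by
    intro s hs e he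
    rw [← h1] at he
    obtain ⟨he, f, hf, hef⟩ := he
    have h3 : e * s * e⁻¹ = (e * f) * s * (e * f)⁻¹ := by
      calc e * s * e⁻¹ = e * (s * f) * f⁻¹ * e⁻¹ := by group
        _ = e * (f * s) * f⁻¹ * e⁻¹ := by rw [h.cEF s hs.2 f hf]
        _ = _ := by group
    rw [h3]
    exact mul_mem (mul_mem hef (hR hs.1)) (inv_mem hef)
  let L : Subgroup E := Subgroup.normalClosure ((T ⊓ E).subgroupOf E : Set E)
  have hL : L = ⊤ := by
    rcases hs.eq_bot_or_eq_top_of_normal L inferInstance with h3 | h3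
    · exfalso
      apply h.nt
      rw [eq_bot_iff]
      intro x hx
      have h4 : (⟨x, hx.2⟩ : E) ∈ L := subset_normalClosure (mem_subgroupOf.2 hx)
      rw [h3, mem_bot] at h4
      exact mem_bot.2 (congrArg Subtype.val h4)
    · exact h3
  have hER : E ≤ R := by
    intro e he
    have h3 : (⟨e, he⟩ : E) ∈ L := hL ▸ mem_top _
    have h4 : L ≤ R.subgroupOf E := by
      refine closure_le _ |>.2 ?_
      intro x hx
      obtain ⟨s, hs, hsx⟩ := Group.mem_conjugatesOfSet_iff.1 hx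
      obtain ⟨c, hc⟩ := isConj_iff.1 hsx
      rw [← hc]
      exact h2 s (mem_subgroupOf.1 hs) c c.2
    exact h4 h3
  have hKR : K ≤ R := h.KE.trans (by
    rw [closure_le]
    rintro _ ⟨t, ht, e, he, rfl⟩
    exact mul_mem (mul_mem (hR ht) (hER he)) (inv_mem (hR ht)))
  apply hRt
  rw [eq_top_iff, ← h.gen]
  exact sup_le hKR hR

theorem inf_le_hat [Finite X] (h : Cp T K E F) {R : Subgroup X} (hR : T ≤ R) {A : Subgroup X} (hA : A ≤ E)
    (hp : h.pr R ≤ A) : R ⊓ K ≤ h.hat A hA := by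
  rintro x ⟨hxR, hxK⟩ t ht
  have h1 : t * x * t⁻¹ ∈ R ⊓ K := ⟨R.mul_mem (R.mul_mem (hR ht) hxR) (R.inv_mem (hR ht)), h.Kn.conj_mem x hxK t⟩
  obtain ⟨a, ha, f, hf, e⟩ := h.le_AF_pr R h1
  exact ⟨a, hp ha, f, hf, e⟩

/-- **(nmax)** -/
theorem exists_max [Finite X] (h : Cp T K E F) {A₀ : Subgroup X} (hA : A₀ ≤ E) (hTE : T ⊓ E ≤ A₀) (hne : A₀ ≠ E)
    (hmax : ∀ A : Subgroup X, A ≤ E → T ⊓ E ≤ A → (∀ t ∈ T1 T E, ∀ a ∈ A, t * a * t⁻¹ ∈ A) → A ≠ E → A ≤ A₀) :
    ∃ N : Subgroup X, N ≠ ⊤ ∧ ∀ R : Subgroup X, T ≤ R → R ≠ ⊤ → R ≤ N := by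
  refine ⟨_, h.sup_ne_top hA hTE hne, fun R hR hRt => ?_⟩
  have h1 := hmax (h.pr R) (h.pr_le_E R) ((inf_le_inf_right E hR).trans (h.inf_le_pr R)) (h.pr_conj hR)
    (h.pr_ne hR hRt)
  have h2 := h.inf_le_hat hR hA h1
  intro x hx
  have hKn := h.Kn
  obtain ⟨k, hk, t, ht, rfl⟩ := mem_sup_of_normal_left.1 (h.gen ▸ mem_top x : x ∈ K ⊔ T)
  have h3 : k ∈ R := by
    have := R.mul_mem hx (R.inv_mem (hR ht))
    rwa [mul_inv_cancel_right] at this
  exact mul_mem (mem_sup_left (h2 ⟨h3, hk⟩)) (mem_sup_right ht)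

end Cp

end Cfsg.Agent.Omega.ML.Ex.SecLow

end

section


/-!
# Passage to one component: the quotient `X₁` of `E N_T(E)` (#21158 (7); helper844)

`a : E T₁ → X₁` onto, injective on `E` (`T₁ := N_T(E)`); `K₁`, `T₂`, `B₁` : the images of `E`, `T₁`, `B`.

* `Quo` : this situation;  `normal`, `sup_eq_top`, `simple₁`, `two₁`, `syl₁` : `K₁ ⊴ X₁ = K₁ T₂`, `K₁` simple, `T₂ ∈ Syl₂(X₁)`;
* **`low₁`**, **`nmax₁`** : they are inherited by `X₁`;  `cen_isPGroup` : `C_{X₁}(K₁)` is a 2-group.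
-/

set_option autoImplicit false
set_option linter.style.haveILetI false
set_option linter.unusedVariables false

namespace Cfsg.Agent.Omega.ML.Ex.SecLow

open Subgroup Cfsg Cfsg.Agent.ZN
open Cfsg.Agent.MinSimple.VModule (o2_isPGroup o2_le le_o2 le_normalizer_o2)

variable {X : Type*} [Group X] {X₁ : Type*} [Group X₁]

/-- `E N_T(E)` -/
abbrev YY (T E : Subgroup X) : Subgroup X := E ⊔ T1 T E

theorem E_le_YY {T E : Subgroup X} : E ≤ YY T E := le_sup_left

theorem T1_le_YY {T E : Subgroup X} : T1 T E ≤ YY T E := le_sup_right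

/-- the image of `L ∩ Y` -/
def im {Y : Subgroup X} (a : Y →* X₁) (L : Subgroup X) : Subgroup X₁ := (L.subgroupOf Y).map a

theorem mem_im {Y : Subgroup X} {a : Y →* X₁} {L : Subgroup X} {x : X₁} : x ∈ im a L ↔ ∃ y : Y, (y : X) ∈ L ∧ a y = x :=
  Iff.rfl

theorem apply_mem_im {Y : Subgroup X} {a : Y →* X₁} {L : Subgroup X} {y : Y} (hy : (y : X) ∈ L) : a y ∈ im a L :=
  ⟨y, hy, rfl⟩

theorem im_mono {Y : Subgroup X} {a : Y →* X₁} {L L' : Subgroup X} (h : L ≤ L') : im a L ≤ im a L' := by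
  rintro _ ⟨y, hy, rfl⟩
  exact ⟨y, h hy, rfl⟩

/-- `|X : T| = |K : T ∩ K|` if `X = K T`, `K` normal. -/
theorem index_eq_of_sup {G : Type*} [Group G] [Finite G] {K T : Subgroup G} [K.Normal] (h : K ⊔ T = ⊤) :
    T.index = T.relIndex K := by
  have h1 : K.relIndex T = K.index := by
    rw [← relIndex_top_right, ← h, relIndex_sup_left]
  have h2 := card_mul_index T
  have h3 := card_mul_index K
  have h4 := card_mul_index (K.subgroupOf T)
  have h5 := card_mul_index (T.subgroupOf K)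
  have h6 : Nat.card (K.subgroupOf T) = Nat.card (T.subgroupOf K) := by
    have e1 : Nat.card (K.subgroupOf T) = Nat.card ((K ⊓ T : Subgroup G)) := by
      rw [← subgroupOf_map_subtype, card_map_of_injective T.subtype_injective]
    have e2 : Nat.card (T.subgroupOf K) = Nat.card ((T ⊓ K : Subgroup G)) := by
      rw [← subgroupOf_map_subtype, card_map_of_injective K.subtype_injective]
    rw [e1, e2, inf_comm]
  have h7 : (K.subgroupOf T).index = K.index := h1
  have h8 : T.relIndex K = (T.subgroupOf K).index := rfl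
  rw [h8]
  have hpos : 0 < Nat.card (T.subgroupOf K) * K.index :=
    Nat.mul_pos Nat.card_pos (Nat.pos_of_ne_zero index_ne_zero_of_finite)
  apply Nat.eq_of_mul_eq_mul_left hpos
  calc Nat.card (T.subgroupOf K) * K.index * T.index = Nat.card T * T.index := by rw [← h4, h6, h7]
    _ = Nat.card K * K.index := by rw [h2, h3]
    _ = Nat.card (T.subgroupOf K) * K.index * (T.subgroupOf K).index := by rw [← h5]; ring

/-- The situation. -/
structure Quo (T K E F : Subgroup X) (a : YY T E →* X₁) : Prop extends Cp T K E F where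
  surj : Function.Surjective a
  inj : ∀ y : YY T E, (y : X) ∈ E → a y = 1 → y = 1

namespace Quo

variable {T K E F : Subgroup X} {a : YY T E →* X₁}

theorem YY_conj (_h : Quo T K E F a) {y e : X} (hy : y ∈ YY T E) (he : e ∈ E) : y * e * y⁻¹ ∈ E := by
  have h1 : YY T E ≤ normalizer (E : Set X) := sup_le le_normalizer inf_le_right
  exact (mem_normalizer_iff.1 (h1 hy) e).1 he

/-- `x = e t` -/
theorem exists_mul (_h : Quo T K E F a) {y : X} (hy : y ∈ YY T E) : ∃ e ∈ E, ∃ t ∈ T1 T E, y = e * t := by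
  have h1 := coe_mul_of_right_le_normalizer_left E (T1 T E) inf_le_right
  have h0 : y ∈ ((E ⊔ T1 T E : Subgroup X) : Set X) := hy
  rw [h1] at h0
  obtain ⟨e, he, t, ht, rfl⟩ := h0
  exact ⟨e, he, t, ht, rfl⟩

theorem exists_mul' (h : Quo T K E F a) (x : X₁) : ∃ e t : YY T E, (e : X) ∈ E ∧ (t : X) ∈ T1 T E ∧ x = a e * a t := by
  obtain ⟨y, rfl⟩ := h.surj x
  obtain ⟨e, he, t, ht, h1⟩ := h.exists_mul y.2
  refine ⟨⟨e, E_le_YY he⟩, ⟨t, T1_le_YY ht⟩, he, ht, ?_⟩
  rw [← map_mul]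
  exact congrArg a (Subtype.ext h1)

theorem normal (h : Quo T K E F a) : (im a E).Normal := by
  refine ⟨?_⟩
  rintro _ ⟨e, he, rfl⟩ x
  obtain ⟨y, rfl⟩ := h.surj x
  refine ⟨y * e * y⁻¹, h.YY_conj y.2 he, ?_⟩
  rw [map_mul, map_mul, map_inv]

theorem sup_eq_top (h : Quo T K E F a) : im a E ⊔ im a (T1 T E) = ⊤ := by
  rw [eq_top_iff]
  intro x _
  obtain ⟨e, t, he, ht, rfl⟩ := h.exists_mul' x
  exact mul_mem (mem_sup_left (apply_mem_im he)) (mem_sup_right (apply_mem_im ht))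

/-- `E ≃ K₁` -/
noncomputable def equiv (h : Quo T K E F a) : E ≃* im a E := by
  refine MulEquiv.ofBijective
    ((a.comp (inclusion (E_le_YY (T := T) (E := E)))).codRestrict (im a E) fun e => apply_mem_im e.2) ⟨?_, ?_⟩
  · rw [injective_iff_map_eq_one]
    intro e he
    have h1 := h.inj (inclusion E_le_YY e) e.2 (congrArg Subtype.val he)
    exact Subtype.ext (show (e : X) = 1 from congrArg Subtype.val h1)
  · rintro ⟨_, ⟨y, hy, rfl⟩⟩
    exact ⟨⟨y, hy⟩, rfl⟩

theorem equiv_apply (h : Quo T K E F a) (e : E) : ((h.equiv e : im a E) : X₁) = a (inclusion E_le_YY e) := rfl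

theorem simple₁ (h : Quo T K E F a) : IsSimpleGroup (im a E) := by
  have := h.toCp.simple
  exact h.equiv.symm.isSimpleGroup

theorem two₁ (h : Quo T K E F a) : IsPGroup 2 (im a (T1 T E)) :=
  IsPGroup.map ((h.two.to_le inf_le_left).comap_of_injective _ (Subtype.val_injective)) a

/-- an element of `E` whose image is in `a(T₁)` lies in `T ∩ E` -/
theorem mem_T_of (h : Quo T K E F a) [Finite X] {e : YY T E} (he : (e : X) ∈ E) (h1 : a e ∈ im a (T1 T E)) :
    (e : X) ∈ T ⊓ E := by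
  let P : Subgroup E := (im a (T1 T E)).comap (a.comp (inclusion (E_le_YY (T := T) (E := E))))
  have hP : IsPGroup 2 P := by
    apply h.two₁.comap_of_injective
    rw [injective_iff_map_eq_one]
    intro e he
    have h1 := h.inj (inclusion E_le_YY e) e.2 he
    exact Subtype.ext (show (e : X) = 1 from congrArg Subtype.val h1)
  have hle : (T ⊓ E).subgroupOf E ≤ P := by
    intro x hx
    refine apply_mem_im (L := T1 T E) ?_
    exact ⟨hx.1, le_normalizer x.2⟩
  have h2 : ¬ 2 ∣ ((T ⊓ E).subgroupOf E).relIndex P := fun h3 => h.sylE (h3.trans (by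
    have h4 : ((T ⊓ E).subgroupOf E).relIndex P * P.index = ((T ⊓ E).subgroupOf E).index := relIndex_mul_index hle
    exact ⟨_, h4.symm⟩))
  obtain ⟨n, hn⟩ := hP.exists_card_eq
  have h3 : ((T ⊓ E).subgroupOf E).relIndex P ∣ 2 ^ n := by
    rw [← hn]
    exact relIndex_dvd_card _ _
  obtain ⟨k, -, hk⟩ := (Nat.dvd_prime_pow Nat.prime_two).1 h3
  have h4 : P ≤ (T ⊓ E).subgroupOf E := by
    rw [← relIndex_eq_one]
    rcases Nat.eq_zero_or_pos k with rfl | hk0
    · exact hk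
    · exact absurd (hk ▸ dvd_pow_self 2 hk0.ne') h2
  exact h4 (x := ⟨e, he⟩) h1

/-- `T₂` is a Sylow 2-subgroup of `X₁` -/
theorem syl₁ (h : Quo T K E F a) [Finite X] : ¬ 2 ∣ (im a (T1 T E)).index := by
  intro h1
  have hn := h.normal
  haveI : Finite X₁ := Finite.of_surjective a h.surj
  -- the index divides the index of `T ∩ E` in `E`
  have h2 : (im a (T1 T E)).index = (im a (T1 T E)).relIndex (im a E) :=
    index_eq_of_sup (h.sup_eq_top)
  rw [h2] at h1
  have h3 : (im a (T1 T E)).relIndex (im a E) ∣ (T ⊓ E).relIndex E := by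
    have h4 : (im a (T1 T E)).relIndex (im a E) = ((im a (T1 T E)).subgroupOf (im a E)).index := rfl
    have h5 : ((im a (T1 T E)).subgroupOf (im a E)).index =
        (((im a (T1 T E)).subgroupOf (im a E)).comap h.equiv.toMonoidHom).index :=
      (index_comap_of_surjective _ h.equiv.surjective).symm
    rw [h4, h5]
    apply index_dvd_of_le
    intro x hx
    refine apply_mem_im (L := T1 T E) ?_
    exact ⟨hx.1, le_normalizer x.2⟩
  exact h.sylE (h1.trans h3)

/-- the preimage of `R` -/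
def pre (a : YY T E →* X₁) (R : Subgroup X₁) : Subgroup X := (R.comap a).map (YY T E).subtype

theorem mem_pre {R : Subgroup X₁} {y : YY T E} : (y : X) ∈ pre a R ↔ a y ∈ R := by
  constructor
  · rintro ⟨z, hz, h1⟩
    have h2 : z = y := Subtype.ext h1
    exact h2 ▸ hz
  · intro hy
    exact ⟨y, hy, rfl⟩

theorem pre_le {R : Subgroup X₁} : pre a R ≤ YY T E := map_subtype_le _

theorem T1_le_pre {R : Subgroup X₁} (hR : im a (T1 T E) ≤ R) : T1 T E ≤ pre a R := fun t ht =>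
  (mem_pre (y := ⟨t, T1_le_YY ht⟩)).2 (hR (apply_mem_im (y := ⟨t, T1_le_YY ht⟩) ht))

theorem inf_ne (h : Quo T K E F a) {R : Subgroup X₁} (hR : im a (T1 T E) ≤ R) (hRt : R ≠ ⊤) : pre a R ⊓ E ≠ E := by
  intro h1
  apply hRt
  rw [eq_top_iff, ← h.sup_eq_top]
  refine sup_le ?_ hR
  rintro _ ⟨e, he, rfl⟩
  have h2 : (e : X) ∈ pre a R := by
    have : (e : X) ∈ pre a R ⊓ E := h1.symm ▸ he
    exact this.1
  exact mem_pre.1 h2

theorem T_inf_le {R : Subgroup X₁} (hR : im a (T1 T E) ≤ R) : T ⊓ E ≤ pre a R ⊓ E := fun x hx =>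
  ⟨T1_le_pre hR ⟨hx.1, le_normalizer hx.2⟩, hx.2⟩

theorem inf_conj {R : Subgroup X₁} (hR : im a (T1 T E) ≤ R) :
    ∀ t ∈ T1 T E, ∀ x ∈ pre a R ⊓ E, t * x * t⁻¹ ∈ pre a R ⊓ E := fun t ht x hx =>
  ⟨(pre a R).mul_mem ((pre a R).mul_mem (T1_le_pre hR ht) hx.1) ((pre a R).inv_mem (T1_le_pre hR ht)),
    T1_conj ht hx.2⟩

theorem pre_eq (h : Quo T K E F a) {R : Subgroup X₁} (hR : im a (T1 T E) ≤ R) :
    pre a R ≤ (pre a R ⊓ E) ⊔ T1 T E := by
  intro x hx
  obtain ⟨e, he, t, ht, rfl⟩ := h.exists_mul (pre_le hx)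
  have h1 : e ∈ pre a R := by
    have := (pre a R).mul_mem hx ((pre a R).inv_mem (T1_le_pre hR ht))
    rwa [mul_inv_cancel_right] at this
  exact mul_mem (mem_sup_left ⟨h1, he⟩) (mem_sup_right ht)

/-- **(low)** -/
theorem low₁ (h : Quo T K E F a) [Finite X] {B : Subgroup X} (hB : B ≤ T1 T E)
    (low : ∀ R : Subgroup X, T ≤ R → R ≠ ⊤ → B ≤ o2 R) {R : Subgroup X₁} (hR : im a (T1 T E) ≤ R) (hRt : R ≠ ⊤) :
    im a B ≤ o2 R := by
  have h1 := h.toCp.low_of hB low (inf_le_right : pre a R ⊓ E ≤ E) (T_inf_le hR) (inf_conj hR) (h.inf_ne hR hRt)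
  have h2 : (pre a R ⊓ E) ⊔ T1 T E = pre a R := le_antisymm (sup_le inf_le_left (T1_le_pre hR)) (h.pre_eq hR)
  rw [h2] at h1
  have h3 : im a (o2 (pre a R)) ≤ o2 R := by
    refine le_o2 ?_ ?_ ?_
    · rintro _ ⟨y, hy, rfl⟩
      exact mem_pre.1 (o2_le _ hy)
    · exact IsPGroup.map ((o2_isPGroup _).comap_of_injective _ (Subtype.val_injective)) a
    · have key : ∀ g ∈ R, ∀ x ∈ im a (o2 (pre a R)), g * x * g⁻¹ ∈ im a (o2 (pre a R)) := by
        rintro g hg _ ⟨x, hx, rfl⟩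
        obtain ⟨y, rfl⟩ := h.surj g
        have h4 : (y : X) ∈ pre a R := mem_pre.2 hg
        refine ⟨y * x * y⁻¹, (mem_normalizer_iff.1 (le_normalizer_o2 _ h4) _).1 hx, ?_⟩
        rw [map_mul, map_mul, map_inv]
      intro g hg
      rw [mem_normalizer_iff]
      intro x
      refine ⟨key g hg x, fun hx => ?_⟩
      have h5 := key g⁻¹ (R.inv_mem hg) _ hx
      have h6 : g⁻¹ * (g * x * g⁻¹) * g⁻¹⁻¹ = x := by group
      rwa [h6] at h5
  exact (im_mono h1).trans h3

/-- `K₁ ≰ T₂` -/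
theorem not_le (h : Quo T K E F a) [Finite X] (hE : ¬ E ≤ T) : im a (T1 T E) ≠ ⊤ := by
  intro h1
  apply hE
  intro e he
  exact (h.mem_T_of (e := ⟨e, E_le_YY he⟩) he (h1 ▸ mem_top _)).1

/-- **(nmax)** -/
theorem nmax₁ (h : Quo T K E F a) [Finite X] (hE : ¬ E ≤ T)
    (nmax : ¬ ∃ N : Subgroup X, N ≠ ⊤ ∧ ∀ R : Subgroup X, T ≤ R → R ≠ ⊤ → R ≤ N) :
    ¬ ∃ N : Subgroup X₁, N ≠ ⊤ ∧ ∀ R : Subgroup X₁, im a (T1 T E) ≤ R → R ≠ ⊤ → R ≤ N := by
  rintro ⟨N, hN, hmax⟩
  have hT : im a (T1 T E) ≤ N := hmax _ le_rfl (h.not_le hE)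
  apply nmax
  refine h.toCp.exists_max (inf_le_right : pre a N ⊓ E ≤ E) (T_inf_le hT) (h.inf_ne hT hN) ?_
  intro A hA hTA hAc hAE
  have h1 : im a (A ⊔ T1 T E) ≠ ⊤ := by
    intro h1
    apply hAE
    refine le_antisymm hA fun e he => ?_
    have h2 : a ⟨e, E_le_YY he⟩ ∈ im a (A ⊔ T1 T E) := h1 ▸ mem_top _
    obtain ⟨y, hy, h3⟩ := h2
    have h4 : T1 T E ≤ normalizer (A : Set X) := by
      intro t ht
      rw [mem_normalizer_iff]
      intro x
      refine ⟨fun hx => hAc t ht x hx, fun hx => ?_⟩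
      have h5 := hAc t⁻¹ (inv_mem ht) _ hx
      have h6 : t⁻¹ * (t * x * t⁻¹) * t⁻¹⁻¹ = x := by group
      rwa [h6] at h5
    have h5 := coe_mul_of_right_le_normalizer_left A (T1 T E) h4
    have h0 : (y : X) ∈ ((A ⊔ T1 T E : Subgroup X) : Set X) := hy
    rw [h5] at h0
    obtain ⟨x, hx, t, ht, hxt⟩ := h0
    have h6 : (x⁻¹ * e : X) ∈ E := mul_mem (inv_mem (hA hx)) he
    have h7 : a ⟨x⁻¹ * e, E_le_YY h6⟩ = a ⟨t, T1_le_YY ht⟩ := by
      have h8 : (⟨x⁻¹ * e, E_le_YY h6⟩ : YY T E) = (⟨x, E_le_YY (hA hx)⟩ : YY T E)⁻¹ * ⟨e, E_le_YY he⟩ := Subtype.ext rfl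
      have h9 : y = (⟨x, E_le_YY (hA hx)⟩ : YY T E) * ⟨t, T1_le_YY ht⟩ := Subtype.ext hxt.symm
      rw [h8, map_mul, map_inv, ← h3, h9, map_mul, inv_mul_cancel_left]
    have h8 := h.mem_T_of (e := ⟨x⁻¹ * e, E_le_YY h6⟩) h6 (h7 ▸ apply_mem_im (y := ⟨t, T1_le_YY ht⟩) ht)
    have h9 := A.mul_mem hx (hTA h8)
    have h10 : x * (x⁻¹ * e) = e := by group
    rw [← h10]
    exact h9
  have h2 := hmax _ (im_mono le_sup_right) h1
  intro x hx
  exact ⟨(mem_pre (y := ⟨x, E_le_YY (hA hx)⟩)).2 (h2 (apply_mem_im (y := ⟨x, E_le_YY (hA hx)⟩) (mem_sup_left hx))),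
    hA hx⟩

/-- `C_{X₁}(K₁)` is a 2-group if `E` is not abelian -/
theorem cen_isPGroup (h : Quo T K E F a) [Finite X] (hab : ∀ e ∈ E, (∀ f ∈ E, e * f = f * e) → e = 1) :
    IsPGroup 2 (centralizer (im a E : Set X₁)) := by
  have hn := h.normal
  rintro ⟨c, hc⟩
  -- modulo `K₁` the group is a 2-group
  obtain ⟨e, t, he, ht, h1⟩ := h.exists_mul' c
  obtain ⟨k, hk⟩ := h.two₁ ⟨a t, apply_mem_im ht⟩
  have hk' : (a t) ^ (2 ^ k) = 1 := congrArg Subtype.val hk
  refine ⟨k, Subtype.ext ?_⟩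
  show c ^ (2 ^ k) = 1
  -- `c ^ (2 ^ k) ∈ K₁ ∩ C(K₁)`
  have h2 : c ^ (2 ^ k) ∈ im a E := by
    have h3 : (QuotientGroup.mk' (im a E)) (c ^ (2 ^ k)) = 1 := by
      have h0 : (QuotientGroup.mk' (im a E)) (a e) = 1 := (QuotientGroup.eq_one_iff _).2 (apply_mem_im he)
      rw [map_pow, h1, map_mul, h0, one_mul, ← map_pow, hk', map_one]
    exact (QuotientGroup.eq_one_iff _).1 h3
  obtain ⟨f, hf, h3⟩ := h2
  have h4 : ∀ g ∈ E, (f : X) * g = g * f := by
    intro g hg
    have h5 : (g : X) * f * g⁻¹ * (f : X)⁻¹ ∈ E := mul_mem (mul_mem (mul_mem hg hf) (inv_mem hg)) (inv_mem hf)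
    have h6 := h.inj ((⟨g, E_le_YY hg⟩ : YY T E) * f * (⟨g, E_le_YY hg⟩ : YY T E)⁻¹ * f⁻¹) h5 (by
      have h7 := mem_centralizer_iff.1 (pow_mem hc (2 ^ k)) (a ⟨g, E_le_YY hg⟩) (apply_mem_im (y := ⟨g, E_le_YY hg⟩) hg)
      rw [map_mul, map_mul, map_mul, map_inv, map_inv, h3, h7, mul_inv_cancel_right, mul_inv_cancel])
    have h7 := congrArg Subtype.val h6
    have h8 : (g : X) * f * g⁻¹ * (f : X)⁻¹ = 1 := h7
    rw [mul_inv_eq_one, mul_inv_eq_iff_eq_mul] at h8
    exact h8.symm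
  have h5 : f = 1 := Subtype.ext (hab f hf h4)
  rw [← h3, h5, map_one]

end Quo

end Cfsg.Agent.Omega.ML.Ex.SecLow

end

section


/-!
# THEOREM RED: the group theory of one component (helper844)

* `le_of_normal_two` : a normal 2-subgroup lies in `T`;
* `Cmp.cp` : the situation `Cp T K E C_K(E)` of `SecLow`;  `Cmp.nt` : `T ∩ E ≠ 1`;
* `Cmp.perfE`, `Cmp.perfF` : `E`, `C_K(E)` are perfect;  `Cmp.B_le` : `B ≤ N_T(E)`.
-/

set_option autoImplicit false

namespace Cfsg.Agent.Omega.ML.Ex.Red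

open Subgroup Cfsg Cfsg.Agent.ZN Cfsg.Agent.Omega.NOThree.NoOver Cfsg.Agent.Omega.ML.CD
open Cfsg.Agent.ClassTwoFusion.Quad Cfsg.Agent.Omega.ML.MinFrame Cfsg.Agent.Omega.ML.Ex.SecLow
open Cfsg.Agent.MinSimple.VModule (o2_isPGroup o2_le le_o2 le_normalizer_o2)

universe u v

variable {X : Type u} [Group X]

/-- a normal 2-subgroup lies in the Sylow 2-subgroup `T` -/
theorem le_of_normal_two [Finite X] {T N : Subgroup X} (hT : IsPGroup 2 T) (hTi : ¬ 2 ∣ T.index) (hN : N.Normal)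
    (h2 : IsPGroup 2 N) : N ≤ T := by
  have : Fact (Nat.Prime 2) := ⟨Nat.prime_two⟩
  have h1 : IsPGroup 2 (N ⊔ T : Subgroup X) := h2.to_sup_of_normal_left hT
  have h3 := (hT.toSylow hTi).is_maximal' h1 (le_sup_right : T ≤ N ⊔ T)
  have h4 : N ⊔ T = T := h3
  exact le_sup_left.trans h4.le

theorem comm_le_self (F : Subgroup X) : ⁅F, F⁆ ≤ F := by
  rw [commutator_le]
  intro x hx y hy
  exact F.mul_mem (F.mul_mem (F.mul_mem hx hy) (F.inv_mem hx)) (F.inv_mem hy)

/-- a simple 2-group is abelian -/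
theorem comm_of_two {E : Subgroup X} [Finite X] (hs : IsSimpleGroup E) (h2 : IsPGroup 2 E) :
    E ≤ centralizer (E : Set X) := by
  have : Fact (Nat.Prime 2) := ⟨Nat.prime_two⟩
  have h1 := h2.center_nontrivial
  rcases hs.eq_bot_or_eq_top_of_normal (center E) inferInstance with h3 | h3
  · rw [h3] at h1
    exact absurd h1 (not_nontrivial _)
  · intro x hx
    rw [mem_centralizer_iff]
    intro y hy
    have h4 : (⟨x, hx⟩ : E) ∈ center E := h3 ▸ mem_top _
    exact congrArg Subtype.val (mem_center_iff.1 h4 ⟨y, hy⟩)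

variable {M : Type v} [Group M] [MulDistribMulAction X M] {T B K E : Subgroup X} {lam : M}

namespace Cmp

theorem K_le' (h : Cmp T B K E lam) : K ≤ normalizer (E : Set X) := by
  rw [← h.sup]
  exact sup_le le_normalizer (inf_le_right.trans (centralizer_le_normalizer _))

theorem subnormal (h : Cmp T B K E lam) : E.IsSubnormal :=
  IsSubnormal.trans h.EK ((normal_subgroupOf_iff_le_normalizer h.EK).2 h.K_le').isSubnormal h.normK.isSubnormal

theorem sylE (h : Cmp T B K E lam) [Finite X] : ¬ 2 ∣ (T ⊓ E).relIndex E := by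
  rw [inf_relIndex_right]
  exact not_dvd_relIndex_of_subnormal h.mn.two h.mn.syl h.subnormal

theorem sylK (h : Cmp T B K E lam) [Finite X] : ¬ 2 ∣ (T ⊓ K).relIndex K := by
  rw [inf_relIndex_right]
  exact not_dvd_relIndex_of_subnormal h.mn.two h.mn.syl h.normK.isSubnormal

theorem KEF (h : Cmp T B K E lam) : ∀ k ∈ K, ∃ e ∈ E, ∃ f ∈ K ⊓ centralizer (E : Set X), k = e * f := by
  intro k hk
  rw [← h.sup] at hk
  exact sup_eq_mul (inf_le_right.trans (centralizer_le_normalizer _)) hk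

theorem cEF (_h : Cmp T B K E lam) : ∀ e ∈ E, ∀ f ∈ K ⊓ centralizer (E : Set X), e * f = f * e := fun e he _ hf =>
  mem_centralizer_iff.1 hf.2 e he

theorem iEF (h : Cmp T B K E lam) : ∀ e ∈ E, e ∈ K ⊓ centralizer (E : Set X) → e = 1 := fun e he hf =>
  mem_bot.1 (h.inf ▸ (⟨he, hf.2⟩ : e ∈ E ⊓ centralizer (E : Set X)))

theorem mem_centralizer_singleton {x g : X} : g ∈ centralizer ({x} : Set X) ↔ x * g = g * x := by
  rw [mem_centralizer_iff]
  exact ⟨fun h => h x rfl, by rintro h _ rfl; exact h⟩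

/-- `T ∩ E ≠ 1` -/
theorem nt (h : Cmp T B K E lam) [Finite X] : T ⊓ E ≠ ⊥ := by
  intro h1
  have hs := h.simple
  have hE : Odd (Nat.card E) := odd_of_relIndex
    (not_dvd_relIndex_of_subnormal h.mn.two h.mn.syl h.subnormal) h1
  -- `T ∩ K ≤ C(E)`
  have h2 : ∀ x ∈ T, x ∈ K → x ∈ centralizer (E : Set X) := by
    intro x hx hxK
    obtain ⟨e, he, f, hf, rfl⟩ := h.KEF x hxK
    obtain ⟨k, hk⟩ := h.mn.two ⟨e * f, hx⟩
    have h3 : (e * f) ^ (2 ^ k) = 1 := congrArg Subtype.val hk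
    have hc : Commute e f := h.cEF e he f hf
    rw [hc.mul_pow] at h3
    have h4 : e ^ (2 ^ k) ∈ K ⊓ centralizer (E : Set X) := by
      rw [eq_inv_of_mul_eq_one_left h3]
      exact inv_mem (pow_mem hf _)
    have h5 := h.iEF _ (pow_mem he _) h4
    have h6 : e ^ Nat.card E = 1 := congrArg Subtype.val (pow_card_eq_one' (x := (⟨e, he⟩ : E)))
    have h7 : e = 1 := by
      have h8 : e ∈ (⊥ : Subgroup X) := mem_of_pow_mem (m := 2 ^ k) (n := Nat.card E)
        (Nat.Coprime.pow_left _ (Nat.coprime_two_left.2 hE)) (mem_bot.2 h5) (mem_bot.2 h6)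
      exact mem_bot.1 h8
    rw [h7, one_mul]
    exact hf.2
  -- `T ∩ K ≤ C(K) = 1`
  have h3 : T ⊓ K = ⊥ := by
    rw [eq_bot_iff, ← h.cenK]
    rintro x ⟨hx, hxK⟩
    have h4 : MinFrame.tcl T E ≤ centralizer ({x} : Set X) := by
      refine tcl_le fun t ht => ?_
      rintro _ ⟨e, he, rfl⟩
      rw [mem_centralizer_singleton]
      have h5 := mem_centralizer_iff.1 (h2 (t⁻¹ * x * t) (T.mul_mem (T.mul_mem (T.inv_mem ht) hx) ht) (by
        have := h.normK.conj_mem x hxK t⁻¹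
        rwa [inv_inv] at this)) e he
      change x * (t * e * t⁻¹) = t * e * t⁻¹ * x
      symm
      calc t * e * t⁻¹ * x = t * (e * (t⁻¹ * x * t)) * t⁻¹ := by group
        _ = t * ((t⁻¹ * x * t) * e) * t⁻¹ := by rw [h5]
        _ = x * (t * e * t⁻¹) := by group
    rw [mem_centralizer_iff]
    intro k hk
    exact (mem_centralizer_singleton.1 (h4 (h.tcl hk))).symm
  have h4 := h.mn.odd K h.normK (odd_of_relIndex
    (not_dvd_relIndex_of_subnormal h.mn.two h.mn.syl h.normK.isSubnormal) h3)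
  obtain ⟨x, hx⟩ := exists_ne (1 : E)
  exact hx (Subtype.ext (mem_bot.1 (h4 ▸ h.EK x.2)))

/-- **the situation of `SecLow`** -/
theorem cp (h : Cmp T B K E lam) [Finite X] : Cp T K E (K ⊓ centralizer (E : Set X)) where
  two := h.mn.two
  Kn := h.normK
  gen := h.gen
  sylE := h.sylE
  EK := h.EK
  FK := inf_le_left
  KEF := h.KEF
  cEF := h.cEF
  iEF := h.iEF
  cF := fun x hx hc => ⟨hx, mem_centralizer_iff.2 fun e he => (hc e he).symm⟩
  conj := fun t ht => by
    by_cases h1 : t ∈ normalizer (E : Set X)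
    · exact Or.inl fun e he => (mem_normalizer_iff.1 h1 e).1 he
    · exact Or.inr fun e he => ⟨h.normK.conj_mem e (h.EK he) t, h.conj t ht h1 ⟨e, he, rfl⟩⟩
  KE := h.tcl.trans (tcl_le fun t ht => by
    rintro _ ⟨e, he, rfl⟩
    exact subset_closure ⟨t, ht, e, he, rfl⟩)
  simple := h.simple
  nt := h.nt

/-- `E ≰ T` -/
theorem not_le (h : Cmp T B K E lam) [Finite X] : ¬ E ≤ T := fun h1 =>
  h.nc (comm_of_two h.simple (h.mn.two.to_le h1))

theorem T_ne_top (h : Cmp T B K E lam) [Finite X] : T ≠ ⊤ := fun h1 => h.not_le (h1 ▸ le_top)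

/-- `B ≤ N_T(E)` -/
theorem B_le (h : Cmp T B K E lam) [Finite X] : B ≤ T1 T E :=
  le_inf ((h.mn.low T le_rfl h.T_ne_top).trans (o2_le T)) h.BE

/-- `E` is perfect -/
theorem perfE (h : Cmp T B K E lam) : ⁅E, E⁆ = E := by
  have hs := h.simple
  rcases hs.eq_bot_or_eq_top_of_normal (commutator E) inferInstance with h1 | h1
  · exfalso
    apply h.nc
    rw [commutator_eq_bot_iff_center_eq_top] at h1
    intro x hx
    rw [mem_centralizer_iff]
    intro y hy
    have h4 : (⟨x, hx⟩ : E) ∈ center E := h1 ▸ mem_top _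
    exact congrArg Subtype.val (mem_center_iff.1 h4 ⟨y, hy⟩)
  · have h2 : (commutator E).map E.subtype = ⁅E, E⁆ := by
      rw [commutator_def, map_commutator, ← MonoidHom.range_eq_map, range_subtype]
    rw [← h2, h1, ← MonoidHom.range_eq_map, range_subtype]

/-- an element of `E` commuting with `E` is trivial -/
theorem eq_one_of_comm (h : Cmp T B K E lam) {e : X} (he : e ∈ E) (hc : ∀ f ∈ E, e * f = f * e) : e = 1 :=
  mem_bot.1 (h.inf ▸ (⟨he, mem_centralizer_iff.2 fun f hf => (hc f hf).symm⟩ : e ∈ E ⊓ centralizer (E : Set X)))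

/-- `K` is perfect -/
theorem perfK (h : Cmp T B K E lam) : K ≤ ⁅K, K⁆ := by
  refine h.tcl.trans (tcl_le fun t _ => ?_)
  have h1 : E.map (MulAut.conj t).toMonoidHom = ⁅E.map (MulAut.conj t).toMonoidHom, E.map (MulAut.conj t).toMonoidHom⁆ := by
    conv_lhs => rw [← h.perfE, map_commutator]
  have h2 : E.map (MulAut.conj t).toMonoidHom ≤ K := by
    rintro _ ⟨e, he, rfl⟩
    exact h.normK.conj_mem e (h.EK he) t
  rw [h1]
  exact commutator_mono h2 h2

/-- `C_K(E)` is perfect -/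
theorem perfF (h : Cmp T B K E lam) :
    ⁅K ⊓ centralizer (E : Set X), K ⊓ centralizer (E : Set X)⁆ = K ⊓ centralizer (E : Set X) := by
  obtain ⟨F, hF⟩ : ∃ F, F = K ⊓ centralizer (E : Set X) := ⟨_, rfl⟩
  have hc : ∀ (e : E) (f : F), Commute (E.subtype e) (F.subtype f) := fun e f =>
    h.cEF e e.2 f (hF ▸ f.2)
  have h1 : ⁅K, K⁆ ≤ E ⊔ ⁅F, F⁆ := by
    rw [commutator_le]
    intro x hx y hy
    obtain ⟨e, he, f, hf, rfl⟩ := h.KEF x hx
    obtain ⟨e', he', f', hf', rfl⟩ := h.KEF y hy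
    rw [← hF] at hf hf'
    have h2 := map_commutatorElement (MonoidHom.noncommCoprod E.subtype F.subtype hc)
      ((⟨e, he⟩ : E), (⟨f, hf⟩ : F)) ((⟨e', he'⟩ : E), (⟨f', hf'⟩ : F))
    have h3 : (MonoidHom.noncommCoprod E.subtype F.subtype hc) ((⟨e, he⟩ : E), (⟨f, hf⟩ : F)) = e * f := rfl
    have h4 : (MonoidHom.noncommCoprod E.subtype F.subtype hc) ((⟨e', he'⟩ : E), (⟨f', hf'⟩ : F)) = e' * f' := rfl
    rw [h3, h4] at h2
    rw [← h2]
    exact mul_mem (mem_sup_left ((⟨e, he⟩ : E) * (⟨e', he'⟩ : E) * (⟨e, he⟩ : E)⁻¹ * (⟨e', he'⟩ : E)⁻¹).2)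
      (mem_sup_right (commutator_mem_commutator hf hf'))
  rw [← hF]
  refine le_antisymm (comm_le_self F) fun f hf => ?_
  have hfK : f ∈ K := by
    rw [hF] at hf
    exact hf.1
  have hn : ⁅F, F⁆ ≤ normalizer (E : Set X) := (comm_le_self F).trans (by
    rw [hF]
    exact inf_le_right.trans (centralizer_le_normalizer _))
  obtain ⟨e, he, g, hg, rfl⟩ := sup_eq_mul hn (h1 (h.perfK hfK))
  have hg' : g ∈ F := comm_le_self F hg
  have h2 : e ∈ F := by
    have := F.mul_mem hf (F.inv_mem hg')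
    rwa [mul_inv_cancel_right] at this
  rw [h.iEF e he (hF ▸ h2), one_mul]
  exact hg

end Cmp

end Cfsg.Agent.Omega.ML.Ex.Red

end

section


/-!
# THEOREM RED: sub-exactness on the irreducible quotient from (ML) (helper995)

* `InN0 H N K T A` : `InN` without the field `subK`;
* **`InN0.inN`** : `MLK → IsKGroup H → InN0 H N K T A → InN H N K T A`.
-/

set_option autoImplicit false

namespace Cfsg.Agent.Omega.ML.Ex

open Subgroup Cfsg Cfsg.Agent.ZN Cfsg.Agent.Omega.NOThree.NoOver Cfsg.Agent.Omega.ML.CD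
open Cfsg.Agent.ClassTwoFusion.Quad Cfsg.Agent.Omega.ML.MinFrame
open Cfsg.Agent.MinSimple.VModule (o2_isPGroup o2_le le_o2 le_normalizer_o2)

universe u v w

/-- `InN` without `subK`. -/
structure InN0 (H : Type u) [Group H] (N : Type v) [Group N] [MulDistribMulAction H N] (K T A : Subgroup H) :
    Prop where
  sq : ∀ m : N, m * m = 1
  faith : ∀ h : H, (∀ m : N, h • m = m) → h = 1
  /-- every proper submodule is centralised by `K` -/
  irrK : ∀ W : Subgroup N, (∀ h : H, ∀ w ∈ W, h • w ∈ W) → W = ⊤ ∨ ∀ k ∈ K, ∀ w ∈ W, k • w = w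
  /-- `N = ⟨z^H⟩`, `z` fixed by `T` -/
  point : ∃ z : N, (∀ t ∈ T, t • z = z) ∧ orb (⊤ : Subgroup H) z = ⊤
  norm : K.Normal
  simple : IsSimpleGroup K
  cen : centralizer (K : Set H) = ⊥
  gen : K ⊔ T = ⊤
  two : IsPGroup 2 T
  syl : ¬ 2 ∣ T.index
  AT : A ≤ T
  el : ∀ a ∈ A, a * a = 1
  four : 4 ≤ Nat.card A
  exact : (cv N (A : Set H)).index = Nat.card A
  atom : ∀ C : Subgroup H, C ≤ A → C ≠ ⊥ → C ≠ A → Nat.card C < (cv N (C : Set H)).index
  low : ∀ R : Subgroup H, T ≤ R → R ≠ ⊤ → A ≤ o2 R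
  nmax : ¬ ∃ L : Subgroup H, L ≠ ⊤ ∧ ∀ R : Subgroup H, T ≤ R → R ≠ ⊤ → R ≤ L

variable {H : Type u} [Group H] {N : Type v} [Group N] [MulDistribMulAction H N] {K T A : Subgroup H}

namespace InN0

theorem comm (h : InN0 H N K T A) (x y : N) : x * y = y * x := comm_of_sq' h.sq x y

/-- `K` is perfect -/
theorem hom_eq_one (h : InN0 H N K T A) {P : Type w} [CommGroup P] (f : K →* P)
    (k : K) : f k = 1 := by
  have hs := h.simple
  rcases (MonoidHom.normal_ker f).eq_bot_or_eq_top with h1 | h1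
  · have h2 : ∀ x y : K, x * y = y * x := fun x y =>
      (MonoidHom.ker_eq_bot_iff f).1 h1 (by rw [map_mul, map_mul, mul_comm])
    have h3 : K ≤ centralizer (K : Set H) := by
      intro x hx
      rw [mem_centralizer_iff]
      exact fun y hy => congrArg Subtype.val (h2 ⟨y, hy⟩ ⟨x, hx⟩)
    rw [h.cen, le_bot_iff] at h3
    obtain ⟨x, hx⟩ := exists_ne (1 : K)
    exact absurd (Subtype.ext (mem_bot.1 (h3 ▸ x.2))) hx
  · have h2 : k ∈ f.ker := h1 ▸ mem_top k
    exact h2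

theorem ck_normal (h : InN0 H N K T A) : (InN.ck N K).Normal :=
  ⟨fun x hx g => by rw [h.comm g x, mul_inv_cancel_right]; exact hx⟩

theorem smul_mem_ck (h : InN0 H N K T A) (g : H) (m : N) (hm : m ∈ InN.ck N K) : g • m ∈ InN.ck N K := by
  intro k hk
  have h1 : g⁻¹ * k * g ∈ K := by
    have := h.norm.conj_mem k hk g⁻¹
    rwa [inv_inv] at this
  have h2 := hm _ h1
  rw [mul_smul, mul_smul, inv_smul_eq_iff] at h2
  exact h2

/-- `K` does not centralise `N` -/
theorem ck_ne_top (h : InN0 H N K T A) : InN.ck N K ≠ ⊤ := by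
  intro h1
  have hs := h.simple
  obtain ⟨x, hx⟩ := exists_ne (1 : K)
  apply hx
  refine Subtype.ext (h.faith x fun m => ?_)
  have h2 : m ∈ InN.ck N K := h1 ▸ mem_top m
  exact h2 x x.2

/-- a vector fixed by `K` modulo `C_N(K)` is fixed by `K` -/
theorem mem_ck_of (h : InN0 H N K T A) {m : N} (hm : ∀ k ∈ K, k • m * m ∈ InN.ck N K) : m ∈ InN.ck N K := by
  let _ : CommGroup N := { (inferInstance : Group N) with mul_comm := h.comm }
  let f : K →* N :=
    { toFun := fun k => (k : H) • m * m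
      map_one' := by
        change (1 : H) • m * m = 1
        rw [one_smul, h.sq]
      map_mul' := fun k l => by
        change ((k : H) * (l : H)) • m * m = ((k : H) • m * m) * ((l : H) • m * m)
        have h1 : (k : H) • ((l : H) • m * m) = (l : H) • m * m := hm l l.2 k k.2
        rw [smul_mul'] at h1
        rw [mul_smul]
        have h2 : (k : H) • (l : H) • m = ((l : H) • m * m) * ((k : H) • m) := by
          rw [← h1, mul_assoc, h.sq, mul_one]
        rw [h2, mul_assoc, h.comm] }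
  intro k hk
  have h1 := h.hom_eq_one f ⟨k, hk⟩
  have h2 : k • m * m = 1 := h1
  have h3 := congrArg (· * m) h2
  simpa [mul_assoc, h.sq] using h3

/-- `H` is faithful on `N / C_N(K)` -/
theorem faith_quot (h : InN0 H N K T A) {g : H} (hg : ∀ m : N, g • m * m ∈ InN.ck N K) : g = 1 := by
  have hs := h.simple
  let F : Subgroup H :=
    { carrier := {x | ∀ m : N, x • m * m ∈ InN.ck N K}
      one_mem' := fun m => by
        rw [one_smul, h.sq]
        exact one_mem _
      mul_mem' := fun {x y} hx hy m => by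
        have e : (x * y) • m * m = (x • y • m * (y • m)) * (y • m * m) := by
          rw [mul_smul, mul_assoc, ← mul_assoc (y • m) (y • m), h.sq, one_mul]
        rw [e]
        exact mul_mem (hx _) (hy m)
      inv_mem' := fun {x} hx m => by
        have h1 := hx (x⁻¹ • m)
        rw [smul_inv_smul, h.comm] at h1
        exact h1 }
  have hF : ∀ {x : H}, x ∈ F ↔ ∀ m : N, x • m * m ∈ InN.ck N K := Iff.rfl
  have hFn : F.Normal := ⟨fun x hx y m => by
    have h1 := h.smul_mem_ck y _ (hx (y⁻¹ • m))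
    rw [smul_mul', smul_inv_smul, ← mul_smul, ← mul_smul] at h1
    exact h1⟩
  have hFK : F ⊓ K = ⊥ := by
    have h1 : (F.subgroupOf K).Normal := hFn.subgroupOf K
    rcases h1.eq_bot_or_eq_top with h2 | h2
    · rw [subgroupOf_eq_bot, disjoint_iff] at h2
      exact h2
    · exfalso
      rw [subgroupOf_eq_top] at h2
      exact h.ck_ne_top (eq_top_iff.2 fun m _ => h.mem_ck_of fun k hk => h2 hk m)
  have hFc : F ≤ centralizer (K : Set H) := by
    intro x hx
    rw [mem_centralizer_iff]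
    intro k hk
    have h1 : x * k * x⁻¹ * k⁻¹ ∈ F ⊓ K := by
      refine ⟨?_, K.mul_mem (h.norm.conj_mem k hk x) (K.inv_mem hk)⟩
      have h2 := F.mul_mem hx (hFn.conj_mem _ (F.inv_mem hx) k)
      have e : x * (k * x⁻¹ * k⁻¹) = x * k * x⁻¹ * k⁻¹ := by group
      rwa [e] at h2
    rw [hFK, mem_bot, mul_inv_eq_one, mul_inv_eq_iff_eq_mul] at h1
    exact h1.symm
  have h1 : g ∈ centralizer (K : Set H) := hFc (hF.2 hg)
  rw [h.cen] at h1
  exact mem_bot.1 h1

/-- **Sub-exactness on `N / C_N(K)` from (ML).** -/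
theorem subK (h : InN0 H N K T A) [Finite H] [Finite N] (hML : Final.MLK.{u, v}) (hKG : IsKGroup H) {D : Subgroup H}
    (hD : D ≤ A) {V : Subgroup N} (hV : ∀ v ∈ V, ∀ d ∈ D, ∀ k ∈ K, k • (d • v * v) = d • v * v) :
    Nat.card D ≤ V.index := by
  have hnor := h.ck_normal
  let _ := modAct (H := H) (InN.ck N K) h.smul_mem_ck
  have hinv : ∀ x : N, x⁻¹ = x := fun x => inv_eq_of_mul_eq_one_right (h.sq x)
  have hsm : ∀ (g : H) (x : N), g • (QuotientGroup.mk x : N ⧸ InN.ck N K) = QuotientGroup.mk (g • x) :=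
    fun _ _ => rfl
  have hmk : ∀ x y : N, (QuotientGroup.mk x : N ⧸ InN.ck N K) = QuotientGroup.mk y ↔ x * y ∈ InN.ck N K := by
    intro x y
    rw [QuotientGroup.eq, hinv]
  obtain ⟨z, hzT, hz⟩ := h.point
  set zb : N ⧸ InN.ck N K := QuotientGroup.mk z with hzb
  set R : Subgroup H := MulAction.stabilizer H zb with hR
  have hmemR : ∀ g : H, g ∈ R ↔ g • z * z ∈ InN.ck N K := by
    intro g
    rw [hR, MulAction.mem_stabilizer_iff, hzb, hsm, hmk]
  have hTR : T ≤ R := fun t ht => by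
    rw [hmemR, hzT t ht, h.sq]
    exact one_mem _
  have hRne : R ≠ ⊤ := by
    intro h1
    have h2 : z ∈ InN.ck N K := h.mem_ck_of fun k _ => (hmemR k).1 (h1 ▸ mem_top k)
    apply h.ck_ne_top
    rw [eq_top_iff, ← hz]
    exact orb_le fun g _ => h.smul_mem_ck g z h2
  have hA := h.low R hTR hRne
  have key := hML.act (C := H) (V := N ⧸ InN.ck N K) hKG (T := T) (Q := o2 R) (A := D) (z := zb)
    { sq := fun x => by
        obtain ⟨y, rfl⟩ := QuotientGroup.mk_surjective x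
        rw [← QuotientGroup.mk_mul, h.sq]
        rfl
      two := h.two
      odd := h.syl
      fixT := fun t ht => hTR ht
      Q2 := fun q hq => by
        obtain ⟨n, hn⟩ := o2_isPGroup R ⟨q, hq⟩
        refine ⟨n, fun v => ?_⟩
        have h1 : q ^ 2 ^ n = 1 := congrArg Subtype.val hn
        rw [h1, one_smul]
      fixQ := fun q hq => o2_le R hq
      nrmQ := fun g hg q hq => ⟨g * q * g⁻¹, conj_mem_of_le (le_normalizer_o2 R) hg hq, fun _ => rfl⟩
      AQ := fun a ha => ⟨a, hA (hD ha), fun _ => rfl⟩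
      Asq := fun a ha v => by rw [← mul_smul, h.el a (hD ha), one_smul] }
  have horb : orb (⊤ : Subgroup H) zb = ⊤ := by
    rw [eq_top_iff]
    intro x _
    obtain ⟨y, rfl⟩ := QuotientGroup.mk_surjective x
    have h1 : orb (⊤ : Subgroup H) z ≤ (orb (⊤ : Subgroup H) zb).comap (QuotientGroup.mk' (InN.ck N K)) :=
      orb_le fun g _ => smul_mem_orb_self (mem_top g)
    rw [hz] at h1
    exact h1 (mem_top y)
  rw [horb, relIndex_top_right] at key
  have hfx : fxr H (⊤ : Subgroup (N ⧸ InN.ck N K)) = ⊥ := by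
    rw [eq_bot_iff]
    intro g hg
    rw [mem_bot]
    refine h.faith_quot fun m => ?_
    have h1 := hg (QuotientGroup.mk m) (mem_top _)
    rwa [hsm, hmk] at h1
  rw [hfx, relIndex_bot_left] at key
  refine key.trans ?_
  rw [← index_comap_of_surjective _ (QuotientGroup.mk'_surjective (InN.ck N K))]
  refine Nat.le_of_dvd (Nat.pos_of_ne_zero index_ne_zero_of_finite) (index_dvd_of_le ?_)
  intro v hv d hd
  change d • (QuotientGroup.mk v : N ⧸ InN.ck N K) = QuotientGroup.mk v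
  rw [hsm, hmk]
  exact fun k hk => hV v hv d hd k hk

/-- **`InN0` is `InN` for K-groups.** -/
theorem inN (h : InN0 H N K T A) [Finite H] [Finite N] (hML : Final.MLK.{u, v}) (hKG : IsKGroup H) :
    InN H N K T A where
  sq := h.sq
  faith := h.faith
  irrK := h.irrK
  point := h.point
  norm := h.norm
  simple := h.simple
  cen := h.cen
  gen := h.gen
  two := h.two
  syl := h.syl
  AT := h.AT
  el := h.el
  four := h.four
  exact := h.exact
  atom := h.atom
  subK := fun _ hD _ hV => h.subK hML hKG hD hV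
  low := h.low
  nmax := h.nmax

end InN0

end Cfsg.Agent.Omega.ML.Ex

end

section


/-!
# THEOREM RED: the section of one component (helper844)

`a : E N_T(E) → X₁` onto, `X₁` faithful on `N = [M,E]`, compatible with `a`.

* `Sc` : this situation;  `Sc.inj` : `a` is injective on `E`;  `Sc.quo`;
* `CmpM.span` : `N = ⟨e lam · lam⟩`;  `CmpM.le_cc` : `N = [N,E]`;
* `Sc.cen` : `C_{X₁}(K₁) = 1`;
* **`Sc.inN0`** : `InN0 X₁ N K₁ T₁ B₁`, `|B₁| = |B|`;
* `CmpM.rep`, `CmpM.sc` : the quotient of `E N_T(E)` by the kernel on `N`.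
-/

set_option autoImplicit false
set_option linter.style.haveILetI false

namespace Cfsg.Agent.Omega.ML.Ex.Red

open Subgroup Cfsg Cfsg.Agent.ZN Cfsg.Agent.Omega.NOThree.NoOver Cfsg.Agent.Omega.ML.CD
open Cfsg.Agent.ClassTwoFusion.Quad Cfsg.Agent.Omega.ML.MinFrame Cfsg.Agent.Omega.ML.Ex.SecLow
open Cfsg.Agent.MinSimple.VModule (o2_isPGroup o2_le le_o2 le_normalizer_o2)

universe u v w

variable {X : Type u} [Group X] {M : Type v} [Group M] [MulDistribMulAction X M] {T B K E : Subgroup X} {lam : M}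

/-- a perfect group acts trivially on `V` if it acts trivially on `[V, E]`. -/
theorem fix_of_perf (sq : ∀ m : M, m * m = 1) (hE : ⁅E, E⁆ = E) {m : M}
    (h : ∀ e ∈ E, ∀ f ∈ E, f • (e • m * m) = e • m * m) : ∀ e ∈ E, e • m = m := by
  have hcm := comm_of_sq' sq
  have h1 : ⁅E, E⁆ ≤ MulAction.stabilizer X m := by
    rw [commutator_le]
    intro x hx y hy
    have hx1 := h x hx
    have hy1 := h y hy
    obtain ⟨c, hc⟩ : ∃ c, c = (x • m) * m := ⟨_, rfl⟩
    obtain ⟨d, hd⟩ : ∃ d, d = (y • m) * m := ⟨_, rfl⟩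
    rw [← hc] at hx1
    rw [← hd] at hy1
    have e1 : x • m = c * m := by rw [hc, mul_assoc, sq, mul_one]
    have e2 : y • m = d * m := by rw [hd, mul_assoc, sq, mul_one]
    have e3 : x⁻¹ • m = c * m := by
      rw [inv_smul_eq_iff, smul_mul', hx1 x hx, e1, ← mul_assoc, sq, one_mul]
    have e4 : y⁻¹ • m = d * m := by
      rw [inv_smul_eq_iff, smul_mul', hy1 y hy, e2, ← mul_assoc, sq, one_mul]
    rw [MulAction.mem_stabilizer_iff, commutatorElement_def, mul_smul, mul_smul, mul_smul]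
    simp only [e4, smul_mul', hy1 _ (E.inv_mem hx), e3, hy1 y hy, hx1 y hy, e2, hy1 x hx, hx1 x hx, e1]
    calc d * (c * (d * (c * m))) = (d * c) * (d * c) * m := by group
      _ = m := by rw [sq, one_mul]
  rw [hE] at h1
  exact fun e he => h1 he

namespace CmpM

/-- `N` is invariant under `E N_T(E)` -/
theorem smul_mem (_h : CmpM T B K E lam) {y : X} (hy : y ∈ YY T E) {n : M} (hn : n ∈ cm M E) : y • n ∈ cm M E :=
  smul_mem_cm ((sup_le le_normalizer inf_le_right : YY T E ≤ normalizer (E : Set X)) hy) hn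

/-- `X` is not trivial on `lam` -/
theorem lam_moved (h : CmpM T B K E lam) : ¬ ∀ e ∈ E, e • lam = lam := by
  intro h1
  have hs := h.cmp.simple
  have h2 : K ≤ MulAction.stabilizer X lam := h.cmp.tcl.trans (tcl_le fun t ht => by
    rintro _ ⟨e, he, rfl⟩
    rw [MulAction.mem_stabilizer_iff]
    change (t * e * t⁻¹) • lam = lam
    rw [mul_smul, mul_smul, h.cmp.mn.fixT _ (T.inv_mem ht), h1 e he, h.cmp.mn.fixT t ht])
  have h3 : (⊤ : Subgroup X) ≤ MulAction.stabilizer X lam := by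
    rw [← h.cmp.gen]
    exact sup_le h2 fun t ht => h.cmp.mn.fixT t ht
  have h4 : ∀ m : M, m ∈ cv M (Set.univ : Set X) := by
    intro m
    have h5 : orb (⊤ : Subgroup X) lam ≤ cv M (Set.univ : Set X) := orb_le fun g _ x _ => by
      have h6 : g • lam = lam := h3 (mem_top g)
      have h7 : x • lam = lam := h3 (mem_top x)
      rw [h6, h7]
    rw [h.cmp.mn.gen] at h5
    exact h5 (mem_top m)
  obtain ⟨x, hx⟩ := exists_ne (1 : E)
  exact hx (Subtype.ext (h.cmp.mn.faith x fun m => h4 m x (Set.mem_univ _)))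

/-- **`N = ⟨e lam · lam⟩`** -/
theorem span (h : CmpM T B K E lam) : closure {m | ∃ e ∈ E, m = e • lam * lam} = cm M E := by
  have hsq := h.cmp.mn.sq
  have hcm := comm_of_sq' hsq
  have hle : closure {m | ∃ e ∈ E, m = e • lam * lam} ≤ cm M E := by
    rw [closure_le]
    rintro _ ⟨e, he, rfl⟩
    exact h.orbE e he
  obtain ⟨U, hU⟩ : ∃ U, U = closure {m | ∃ e ∈ E, m = e • lam * lam} := ⟨_, rfl⟩
  have hmem : ∀ e ∈ E, e • lam * lam ∈ U := fun e he => hU ▸ subset_closure ⟨e, he, rfl⟩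
  have hinv : ∀ g : X, (∀ e ∈ E, g • (e • lam * lam) ∈ U) → ∀ w ∈ U, g • w ∈ U := by
    intro g hg w hw
    have h1 : U ≤ U.comap (MulDistribMulAction.toMonoidHom M g) := by
      conv_lhs => rw [hU]
      rw [closure_le]
      rintro _ ⟨e, he, rfl⟩
      exact hg e he
    exact h1 hw
  have h1 : ∀ e ∈ E, ∀ w ∈ U, e • w ∈ U := by
    intro g hg
    refine hinv g fun e he => ?_
    have h2 : g • (e • lam * lam) = ((g * e) • lam * lam) * (g • lam * lam) := by
      rw [smul_mul', ← mul_smul, hcm (g • lam) lam, mul_assoc ((g * e) • lam), ← mul_assoc lam lam, hsq, one_mul]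
    rw [h2]
    exact U.mul_mem (hmem _ (E.mul_mem hg he)) (hmem g hg)
  have h2 : ∀ t ∈ T, t ∈ normalizer (E : Set X) → ∀ w ∈ U, t • w ∈ U := by
    intro t ht htn
    refine hinv t fun e he => ?_
    have h3 : t • (e • lam * lam) = (t * e * t⁻¹) • lam * lam := by
      rw [smul_mul', mul_smul, mul_smul, h.cmp.mn.fixT _ (T.inv_mem ht), h.cmp.mn.fixT t ht]
    rw [h3]
    exact hmem _ ((mem_normalizer_iff.1 htn e).1 he)
  rw [← hU] at hle ⊢
  rcases h.irr U hle h1 h2 with h3 | h3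
  · exact h3
  · exact absurd (fix_of_perf hsq h.cmp.perfE fun e he f hf => h3 f hf _ (hmem e he)) h.lam_moved

/-- **`N = [N,E]`** -/
theorem le_cc (h : CmpM T B K E lam) : cm M E ≤ closure {m | ∃ e ∈ E, ∃ n ∈ cm M E, m = (e • n) * n⁻¹} := by
  have hsq := h.cmp.mn.sq
  have hcm := comm_of_sq' hsq
  have hinv' : ∀ x : M, x⁻¹ = x := fun x => inv_eq_of_mul_eq_one_right (hsq x)
  obtain ⟨U, hU⟩ : ∃ U, U = closure {m | ∃ e ∈ E, ∃ n ∈ cm M E, m = (e • n) * n⁻¹} := ⟨_, rfl⟩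
  have hmem : ∀ e ∈ E, ∀ n ∈ cm M E, e • n * n ∈ U := fun e he n hn =>
    hU ▸ subset_closure ⟨e, he, n, hn, by rw [hinv']⟩
  have hle : U ≤ cm M E := by
    rw [hU, closure_le]
    rintro _ ⟨e, he, n, hn, rfl⟩
    rw [hinv']
    exact mem_cm he n
  have hinv : ∀ g ∈ normalizer (E : Set X), ∀ w ∈ U, g • w ∈ U := by
    intro g hg w hw
    have h1 : U ≤ U.comap (MulDistribMulAction.toMonoidHom M g) := by
      conv_lhs => rw [hU]
      rw [closure_le]
      rintro _ ⟨e, he, n, hn, rfl⟩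
      change g • ((e • n) * n⁻¹) ∈ U
      rw [hinv']
      have e1 : g • (e • n * n) = (g * e * g⁻¹) • (g • n) * (g • n) := by
        rw [smul_mul', mul_smul, mul_smul, inv_smul_smul]
      rw [e1]
      exact hmem _ ((mem_normalizer_iff.1 hg e).1 he) _ (smul_mem_cm hg hn)
    exact h1 hw
  rw [← hU]
  rcases h.irr U hle (fun e he => hinv e (le_normalizer he)) (fun t _ ht => hinv t ht) with h1 | h1
  · exact h1.ge
  · exfalso
    apply h.ne
    intro e he n hn
    exact fix_of_perf hsq h.cmp.perfE (fun e he f hf => h1 f hf _ (hmem e he n hn)) e he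

end CmpM

/-- **The section.** -/
structure Sc (T B K E : Subgroup X) (lam : M) {X₁ : Type w} [Group X₁] [MulDistribMulAction X₁ (cm M E)]
    (a : YY T E →* X₁) : Prop where
  cmpM : CmpM T B K E lam
  surj : Function.Surjective a
  act : ∀ (y : YY T E) (n : cm M E), ((a y • n : cm M E) : M) = (y : X) • (n : M)
  faith : ∀ x : X₁, (∀ n : cm M E, x • n = n) → x = 1

namespace Sc

variable {X₁ : Type w} [Group X₁] [MulDistribMulAction X₁ (cm M E)] {a : YY T E →* X₁}

theorem a_eq_one (h : Sc T B K E lam a) {y : YY T E} : a y = 1 ↔ ∀ n ∈ cm M E, (y : X) • n = n := by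
  constructor
  · intro h1 n hn
    have h2 := h.act y ⟨n, hn⟩
    rw [h1, one_smul] at h2
    exact h2.symm
  · intro h1
    exact h.faith _ fun n => Subtype.ext (by rw [h.act, h1 n n.2])

/-- `a` is injective on `E` -/
theorem inj (h : Sc T B K E lam a) (y : YY T E) (hy : (y : X) ∈ E) (h1 : a y = 1) : y = 1 := by
  have hs := h.cmpM.cmp.simple
  rcases hs.eq_bot_or_eq_top_of_normal (a.comp (inclusion (E_le_YY (T := T) (E := E)))).ker inferInstance with h2 | h2
  · have h3 : (⟨y, hy⟩ : E) ∈ (a.comp (inclusion (E_le_YY (T := T) (E := E)))).ker := h1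
    rw [h2, mem_bot] at h3
    exact Subtype.ext (show (y : X) = 1 from congrArg Subtype.val h3)
  · exfalso
    apply h.cmpM.ne
    intro e he
    have h3 : (⟨e, he⟩ : E) ∈ (a.comp (inclusion (E_le_YY (T := T) (E := E)))).ker := h2 ▸ mem_top _
    have h4 : a ⟨e, E_le_YY he⟩ = 1 := h3
    exact h.a_eq_one.1 h4

theorem quo (h : Sc T B K E lam a) [Finite X] : Quo T K E (K ⊓ centralizer (E : Set X)) a where
  toCp := h.cmpM.cmp.cp
  surj := h.surj
  inj := h.inj

/-- **`C_{X₁}(K₁) = 1`** -/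
theorem cen (h : Sc T B K E lam a) [Finite X] : centralizer (im a E : Set X₁) = ⊥ := by
  have hq := h.quo
  have hfin : Finite X₁ := Finite.of_surjective a h.surj
  have hn := hq.normal
  have hcn : (centralizer (im a E : Set X₁)).Normal := by
    refine ⟨fun c hc g => ?_⟩
    rw [mem_centralizer_iff]
    intro k hk
    have h1 := mem_centralizer_iff.1 hc (g⁻¹ * k * g) (by
      have := hn.conj_mem k hk g⁻¹
      rwa [inv_inv] at this)
    calc k * (g * c * g⁻¹) = g * ((g⁻¹ * k * g) * c) * g⁻¹ := by group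
      _ = g * (c * (g⁻¹ * k * g)) * g⁻¹ := by rw [h1]
      _ = g * c * g⁻¹ * k := by group
  have h1 := le_of_normal_two hq.two₁ hq.syl₁ hcn (hq.cen_isPGroup fun e he => h.cmpM.cmp.eq_one_of_comm he)
  rw [eq_bot_iff]
  intro c hc
  obtain ⟨t, ht, rfl⟩ := h1 hc
  -- `t` commutes with `E`
  have h2 : ∀ e ∈ E, (t : X) * e = e * t := by
    intro e he
    have h3 : (t : X) * e * (t : X)⁻¹ * e⁻¹ ∈ E := E.mul_mem (hq.YY_conj t.2 he) (E.inv_mem he)
    have h4 := h.inj (t * ⟨e, E_le_YY he⟩ * t⁻¹ * (⟨e, E_le_YY he⟩ : YY T E)⁻¹) h3 (by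
      have h5 := mem_centralizer_iff.1 hc (a ⟨e, E_le_YY he⟩) (apply_mem_im (y := ⟨e, E_le_YY he⟩) he)
      rw [map_mul, map_mul, map_mul, map_inv, map_inv, ← h5, mul_inv_cancel_right, mul_inv_cancel])
    have h5 := congrArg Subtype.val h4
    have h6 : (t : X) * e * (t : X)⁻¹ * e⁻¹ = 1 := h5
    rw [mul_inv_eq_one, mul_inv_eq_iff_eq_mul] at h6
    exact h6
  rw [mem_bot, h.a_eq_one]
  have h3 : cm M E ≤ cv M ({(t : X)} : Set X) := by
    rw [← h.cmpM.span, closure_le]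
    rintro _ ⟨e, he, rfl⟩
    rw [SetLike.mem_coe, mem_cv_singleton, smul_mul', ← mul_smul, h2 e he, mul_smul,
      h.cmpM.cmp.mn.fixT t ht.1]
  exact fun n hn => mem_cv_singleton.1 (h3 hn)

theorem inj_B (h : Sc T B K E lam a) {b : YY T E} (hb : (b : X) ∈ B) (h1 : a b = 1) : b = 1 :=
  Subtype.ext (h.cmpM.faithB b hb (h.a_eq_one.1 h1))

/-- `|a(C)| = |C|` for `C ≤ B` -/
theorem card_im (h : Sc T B K E lam a) [Finite X] {C : Subgroup X} (hC : C ≤ B) : Nat.card (im a C) = Nat.card C := by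
  have hCY : C ≤ YY T E := hC.trans (h.cmpM.cmp.B_le.trans T1_le_YY)
  symm
  refine Nat.card_congr (Equiv.ofBijective (fun c : C => (⟨a ⟨c, hCY c.2⟩, ⟨c, hCY c.2⟩, c.2, rfl⟩ : im a C))
    ⟨?_, ?_⟩)
  · intro c d hcd
    have h1 : a ⟨c, hCY c.2⟩ = a ⟨d, hCY d.2⟩ := congrArg Subtype.val hcd
    have h2 := h.inj_B (b := ⟨c, hCY c.2⟩ * (⟨d, hCY d.2⟩ : YY T E)⁻¹) (B.mul_mem (hC c.2) (B.inv_mem (hC d.2)))
      (by rw [map_mul, map_inv, h1, mul_inv_cancel])
    have h3 := mul_inv_eq_one.1 h2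
    have h4 : (c : X) = d := congrArg (fun y : YY T E => (y : X)) h3
    exact Subtype.ext h4
  · rintro ⟨_, ⟨y, hy, rfl⟩⟩
    exact ⟨⟨y, hy⟩, rfl⟩

/-- `C_N(a(C)) = N ∩ C_M(C)` -/
theorem cv_im (h : Sc T B K E lam a) {C : Subgroup X} (hC : C ≤ YY T E) :
    cv (cm M E) (im a C : Set X₁) = (cv M (C : Set X)).subgroupOf (cm M E) := by
  ext n
  constructor
  · intro hn c hc
    have h1 := hn (a ⟨c, hC hc⟩) (apply_mem_im (y := ⟨c, hC hc⟩) hc)
    have h2 := congrArg Subtype.val h1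
    rw [h.act] at h2
    exact h2
  · rintro hn _ ⟨y, hy, rfl⟩
    apply Subtype.ext
    rw [h.act]
    exact hn y hy

/-- **`InN0` for the section** -/
theorem inN0 (h : Sc T B K E lam a) [Finite X] : InN0 X₁ (cm M E) (im a E) (im a (T1 T E)) (im a B) := by
  have hq := h.quo
  have hfin : Finite X₁ := Finite.of_surjective a h.surj
  have hBY : B ≤ YY T E := h.cmpM.cmp.B_le.trans T1_le_YY
  -- submodules
  have hirr : ∀ W : Subgroup (cm M E), (∀ x : X₁, ∀ w ∈ W, x • w ∈ W) →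
      W = ⊤ ∨ ∀ e ∈ E, ∀ w ∈ W, e • (w : M) = w := by
    intro W hW
    have hmem : ∀ y ∈ YY T E, ∀ w ∈ W.map (cm M E).subtype, y • w ∈ W.map (cm M E).subtype := by
      rintro y hy _ ⟨w, hw, rfl⟩
      refine ⟨a ⟨y, hy⟩ • w, hW _ w hw, ?_⟩
      exact h.act ⟨y, hy⟩ w
    rcases h.cmpM.irr (W.map (cm M E).subtype) (map_subtype_le _) (fun e he => hmem e (E_le_YY he))
      (fun t ht htn => hmem t (T1_le_YY ⟨ht, htn⟩)) with h1 | h1
    · left
      rw [eq_top_iff]
      intro w _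
      have h2 : (w : M) ∈ W.map (cm M E).subtype := by
        rw [h1]
        exact w.2
      obtain ⟨w', hw', h3⟩ := h2
      have h4 : w' = w := Subtype.ext h3
      exact h4 ▸ hw'
    · right
      intro e he w hw
      exact h1 e he _ ⟨w, hw, rfl⟩
  exact
    { sq := fun n => Subtype.ext (h.cmpM.cmp.mn.sq n)
      faith := h.faith
      irrK := fun W hW => by
        rcases hirr W hW with h1 | h1
        · exact Or.inl h1
        · right
          rintro _ ⟨y, hy, rfl⟩ w hw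
          apply Subtype.ext
          rw [h.act]
          exact h1 y hy w hw
      point := by
        obtain ⟨z, hz, hzT, hzE⟩ := h.cmpM.point
        refine ⟨⟨z, hz⟩, ?_, ?_⟩
        · rintro _ ⟨t, ht, rfl⟩
          apply Subtype.ext
          rw [h.act]
          exact hzT t ht.1 ht.2
        · rcases hirr (orb (⊤ : Subgroup X₁) ⟨z, hz⟩) (fun x w hw => smul_mem_orb (mem_top x) hw) with h1 | h1
          · exact h1
          · exact absurd (fun e he => h1 e he _ (mem_orb_self _ _)) hzE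
      norm := hq.normal
      simple := hq.simple₁
      cen := h.cen
      gen := hq.sup_eq_top
      two := hq.two₁
      syl := hq.syl₁
      AT := im_mono h.cmpM.cmp.B_le
      el := by
        rintro _ ⟨b, hb, rfl⟩
        rw [← map_mul]
        have h1 : b * b = 1 := Subtype.ext (h.cmpM.cmp.mn.el b hb)
        rw [h1, map_one]
      four := by
        rw [h.card_im le_rfl]
        exact h.cmpM.cmp.mn.four
      exact := by
        rw [h.cv_im hBY, h.card_im le_rfl]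
        exact h.cmpM.exactN
      atom := fun C hC hC1 hC2 => by
        have h1 : im a (Quo.pre a C ⊓ B) = C := by
          apply le_antisymm
          · rintro _ ⟨y, hy, rfl⟩
            exact Quo.mem_pre.1 hy.1
          · intro c hc
            obtain ⟨b, hb, rfl⟩ := hC hc
            exact ⟨b, ⟨Quo.mem_pre.2 hc, hb⟩, rfl⟩
        have h2 : (cv (cm M E) (C : Set X₁)).index = (cv M ((Quo.pre a C ⊓ B : Subgroup X) : Set X)).relIndex (cm M E) := by
          rw [← h1, h.cv_im (inf_le_right.trans hBY), h1]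
          rfl
        rw [h2, ← h1, h.card_im inf_le_right, h1]
        refine h.cmpM.atomN _ inf_le_right ?_ ?_
        · intro h3
          apply hC1
          rw [← h1, h3, eq_bot_iff]
          rintro _ ⟨y, hy, rfl⟩
          have h4 : y = 1 := Subtype.ext (mem_bot.1 hy)
          rw [h4, map_one]
          exact one_mem _
        · intro h3
          apply hC2
          rw [← h1, h3]
      low := fun R hR hRt => hq.low₁ h.cmpM.cmp.B_le h.cmpM.cmp.mn.low hR hRt
      nmax := hq.nmax₁ h.cmpM.cmp.not_le h.cmpM.cmp.mn.nmax }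

end Sc

/-! ### The quotient by the kernel on `N` -/

namespace CmpM

/-- the action of `E N_T(E)` on `N` -/
def rep (h : CmpM T B K E lam) : YY T E →* MulAut (cm M E) where
  toFun y :=
    { toFun := fun n => ⟨(y : X) • (n : M), h.smul_mem y.2 n.2⟩
      invFun := fun n => ⟨(y : X)⁻¹ • (n : M), h.smul_mem (inv_mem y.2) n.2⟩
      left_inv := fun n => Subtype.ext (inv_smul_smul (y : X) (n : M))
      right_inv := fun n => Subtype.ext (smul_inv_smul (y : X) (n : M))
      map_mul' := fun m n => Subtype.ext (smul_mul' (y : X) (m : M) n) }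
  map_one' := by
    ext n
    exact one_smul X (n : M)
  map_mul' x y := by
    ext n
    exact mul_smul (x : X) (y : X) (n : M)

theorem rep_apply (h : CmpM T B K E lam) (y : YY T E) (n : cm M E) : ((h.rep y n : cm M E) : M) = (y : X) • (n : M) := rfl

/-- `X₁` -/
abbrev Xq (h : CmpM T B K E lam) : Type u := YY T E ⧸ h.rep.ker

/-- the action of `X₁` on `N` -/
@[reducible] noncomputable def qact (h : CmpM T B K E lam) : MulDistribMulAction h.Xq (cm M E) :=
  MulDistribMulAction.compHom (cm M E) (QuotientGroup.kerLift h.rep)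

/-- **the section** -/
theorem sc (h : CmpM T B K E lam) : letI := h.qact; Sc T B K E lam (QuotientGroup.mk' h.rep.ker) := by
  letI := h.qact
  refine ⟨h, QuotientGroup.mk'_surjective _, fun y n => rfl, fun x hx => ?_⟩
  apply QuotientGroup.kerLift_injective h.rep
  rw [map_one]
  ext n
  exact congrArg Subtype.val (hx n)

end CmpM

end Cfsg.Agent.Omega.ML.Ex.Red

end

section


/-!
# The exact end, part (5) of #22122: the atom (helper354)

* `AbsI.sub` : `|C| ≤ |M : C_M(C)|` for `C ≤ B` (from (ML));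
* `AbsI.two_lt_index` : no transvections: `2 < |M : C_M(b)|` for `b ≠ 1`;
* **`AbsI.exists_mn`** : there is an exact atom `1 ≠ B₁ ≤ B`, and `Red.Mn T B₁ v` (the input of THEOREM RED) holds for all
  `1 ≠ v ∈ lam`.
-/

set_option autoImplicit false
set_option linter.unusedSectionVars false

namespace Cfsg.Agent.Omega.NO3b.EndX

open Subgroup Cfsg Cfsg.Agent.ZN Cfsg.Agent.ClassTwoFusion.Quad Cfsg.Agent.Omega.ML.MinFrame
open Cfsg.Agent.Omega.ML.Final Cfsg.Agent.Omega.NOThree.NoOver Cfsg.Agent.Omega.ML.CD Cfsg.Agent.Omega.ML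
open Cfsg.Agent.MinSimple.VModule (o2_isPGroup o2_le le_o2 le_normalizer_o2)

universe u v

variable {H : Type u} [Group H] {M : Type v} [Group M] [MulDistribMulAction H M] {T B Y : Subgroup H}
  {lam : Subgroup M}

namespace AbsI

theorem fixT_atm (h : AbsI T B Y lam) {v : M} (hv : v ∈ lam) : ∀ t ∈ T, t • v = v := by
  intro t ht
  by_cases h1 : v = 1
  · rw [h1, smul_one]
  · exact (h.stab v hv h1 t).2 (h.TY ht)

theorem orb_top_atm (h : AbsI T B Y lam) {v : M} (h1 : v ≠ 1) : orb (⊤ : Subgroup H) v = ⊤ := by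
  refine (h.irr _ fun g w hw => smul_mem_orb (mem_top g) hw).resolve_left fun h2 => h1 ?_
  have h3 := mem_orb_self (⊤ : Subgroup H) v
  rwa [h2, mem_bot] at h3

theorem exists_v (h : AbsI T B Y lam) : ∃ v ∈ lam, v ≠ 1 := by
  have h1 := h.four
  have h2 : lam ≠ ⊥ := by
    intro h3
    rw [h3, card_bot] at h1
    omega
  obtain ⟨a, ha⟩ := ne_bot_iff_exists_ne_one.1 h2
  exact ⟨a, a.2, fun h3 => ha (Subtype.ext h3)⟩

variable [Finite H] [Finite M]

/-- **sub-exactness** -/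
theorem sub (h : AbsI T B Y lam) (ml : MLK.{u, v}) (hK : IsKGroup H) {C : Subgroup H} (hC : C ≤ B) :
    Nat.card C ≤ (cv M (C : Set H)).index := by
  obtain ⟨v, hv, h1⟩ := h.exists_v
  have hBY : B ≤ o2 Y := h.low Y h.TY h.Yne
  have hD : Dat T (o2 Y) C v := by
    refine ⟨h.sq, h.two, h.syl, h.fixT_atm hv, ?_, ?_, ?_, ?_, ?_⟩
    · intro q hq
      obtain ⟨n, hn⟩ := o2_isPGroup Y ⟨q, hq⟩
      have h2 : q ^ 2 ^ n = 1 := congrArg Subtype.val hn
      exact ⟨n, fun w => by rw [h2, one_smul]⟩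
    · exact fun q hq => (h.stab v hv h1 q).2 (o2_le Y hq)
    · intro g hg q hq
      exact ⟨_, (mem_normalizer_iff.1 (le_normalizer_o2 Y ((h.stab v hv h1 g).1 hg)) q).1 hq, fun _ => rfl⟩
    · exact fun a ha => ⟨a, hBY (hC ha), fun _ => rfl⟩
    · intro a ha w
      rw [← mul_smul, h.el a (hC ha), one_smul]
  have key := ml.act hK hD
  rw [h.orb_top_atm h1] at key
  have h2 : fxr H (⊤ : Subgroup M) = ⊥ := by
    rw [eq_bot_iff]
    exact fun x hx => mem_bot.2 (h.faith x fun m => hx m (mem_top m))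
  rwa [h2, relIndex_bot_left, relIndex_top_right] at key

/-- `H` contains no transvections -/
theorem two_lt_index (h : AbsI T B Y lam) {b : H} (hb1 : b ≠ 1) : 2 < (cv M ({b} : Set H)).index := by
  by_contra hlt
  have h2 : (cv M ({b} : Set H)).index ≤ 2 := not_lt.1 hlt
  -- `b` fixes all conjugates of `Y`-points
  have key : ∀ g : H, ∀ m ∈ lam, b • g • m = g • m := by
    intro g
    have hlam : Nat.card lam ≤ 2 * Nat.card (lam ⊓ (cv M ({b} : Set H)).comap
        (MulDistribMulAction.toMonoidHom M g) : Subgroup M) := by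
      set W := (cv M ({b} : Set H)).comap (MulDistribMulAction.toMonoidHom M g) with hW
      have h3 : W.index ≤ 2 := by
        rw [hW, index_comap_of_surjective]
        · exact h2
        · intro m
          exact ⟨g⁻¹ • m, smul_inv_smul g m⟩
      have h4 : W.relIndex lam ≤ W.index := by
        have h5 := relIndex_top_right W
        rw [← h5]
        exact relIndex_le_of_le_right le_top (by rw [h5]; exact index_ne_zero_of_finite)
      have h6 : W.relIndex lam * Nat.card (lam ⊓ W : Subgroup M) = Nat.card lam := by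
        have h7 : Nat.card (W.subgroupOf lam) = Nat.card (lam ⊓ W : Subgroup M) := by
          rw [← inf_subgroupOf_left W lam]
          exact Nat.card_congr (subgroupOfEquivOfLe inf_le_left).toEquiv
        rw [← h7, mul_comm]
        exact card_mul_index (W.subgroupOf lam)
      rw [← h6]
      exact Nat.mul_le_mul_right _ (h4.trans h3)
    have h7 : (lam ⊓ (cv M ({b} : Set H)).comap (MulDistribMulAction.toMonoidHom M g) : Subgroup M) ≠ ⊥ := by
      intro h8
      rw [h8, card_bot] at hlam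
      have := h.four
      omega
    obtain ⟨⟨m, hm⟩, hm1⟩ := ne_bot_iff_exists_ne_one.1 h7
    have hm0 : m ≠ 1 := fun h9 => hm1 (Subtype.ext h9)
    have h10 : b • g • m = g • m := hm.2 b rfl
    have h11 : (g⁻¹ * b * g) • m = m := by
      rw [mul_smul, mul_smul, h10, inv_smul_smul]
    have h12 := (h.stab m hm.1 hm0 _).1 h11
    intro m' hm'
    by_cases hm'1 : m' = 1
    · rw [hm'1, smul_one, smul_one]
    · have h13 := (h.stab m' hm' hm'1 _).2 h12
      rw [mul_smul, mul_smul, inv_smul_eq_iff] at h13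
      exact h13
  obtain ⟨v, hv, h1⟩ := h.exists_v
  refine hb1 (h.faith b fun m => ?_)
  have h14 : orb (⊤ : Subgroup H) v ≤ cv M ({b} : Set H) := orb_le fun g _ x hx => by
    rw [Set.mem_singleton_iff.1 hx]
    exact key g v hv
  rw [h.orb_top_atm h1] at h14
  exact h14 (mem_top m) b rfl

/-- **the exact atom and the input of THEOREM RED** -/
theorem exists_mn (h : AbsI T B Y lam) (ml : MLK.{u, v}) (hK : IsKGroup H) (hodd : OddFree H) (hn : ¬ Nmax T) :
    ∃ B₁ ≤ B, B₁ ≠ ⊥ ∧ ∀ v ∈ lam, v ≠ 1 → Ex.Red.Mn T B₁ v := by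
  obtain ⟨B₁, ⟨hle, hne, hex⟩, hmin⟩ := (Set.toFinite {C : Subgroup H | C ≤ B ∧ C ≠ ⊥ ∧
    (cv M (C : Set H)).index = Nat.card C}).exists_minimal ⟨B, le_rfl, h.Bne, h.exact⟩
  refine ⟨B₁, hle, hne, fun v hv h1 => ?_⟩
  have h4 : 4 ≤ Nat.card B₁ := by
    obtain ⟨⟨b, hb⟩, hb1⟩ := ne_bot_iff_exists_ne_one.1 hne
    have hb0 : b ≠ 1 := fun h2 => hb1 (Subtype.ext h2)
    have h3 : cv M (B₁ : Set H) ≤ cv M ({b} : Set H) := cv_anti (Set.singleton_subset_iff.2 hb)
    have h5 : (cv M ({b} : Set H)).index ≤ Nat.card B₁ := by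
      rw [← hex]
      exact Nat.le_of_dvd (Nat.pos_of_ne_zero index_ne_zero_of_finite) (index_dvd_of_le h3)
    have h6 := h.two_lt_index hb0
    obtain ⟨n, hn⟩ := IsPGroup.iff_card.1 (h.two.to_le (hle.trans h.BT))
    rw [hn] at h5 ⊢
    match n, h5 with
    | 0, h5 => rw [pow_zero] at h5; omega
    | 1, h5 => rw [pow_one] at h5; omega
    | n + 2, _ => rw [pow_add]; have := Nat.one_le_two_pow (n := n); omega
  exact {
    sq := h.sq
    faith := h.faith
    gen := h.orb_top_atm h1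
    fixT := h.fixT_atm hv
    odd := fun N hN hN2 => hodd N hN hN2
    two := h.two
    syl := h.syl
    el := fun b hb => h.el b (hle hb)
    four := h4
    exact := hex
    atom := fun C hC hC1 hC2 => lt_of_le_of_ne (h.sub ml hK (hC.trans hle)) fun h5 =>
      hC2 (le_antisymm hC (hmin ⟨hC.trans hle, hC1, h5.symm⟩ hC))
    low := fun R hR hR1 => hle.trans (h.low R hR hR1)
    nmax := hn }

end AbsI

end Cfsg.Agent.Omega.NO3b.EndX

end

section


/-!
# The exact end of NotFF (v2): normal subgroups of odd order (helper379, on #22122, #22039 (3), (4))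

`H = X / C_X(U / D)`, `M = U / D`, `lam`, the labels `L(v) = [v, T]` with intersection `1`.

* `OddF H lam` : a normal subgroup of odd order of `H` centralises `⋂ ⟨v^H⟩` (`1 ≠ v ∈ lam`);
* `Sec.oddF` : `OddF` from the labels and the strong fix;
* `Abs.oddFree` : `Abs` and `OddF` give `OddFree H` (`M = ⟨v^H⟩ C_M(O²(H))` for all `v`);
* **`Sec.oddFree`** : `OddFree H` from `Sec`, `Abs`, the labels and the strong fix;
* **`Sec.oddFree_of_out`** : the same over `Out`.
-/

set_option autoImplicit false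

namespace Cfsg.Agent.Omega.NO3b.EndX

open Subgroup Cfsg Cfsg.Agent.ZN Cfsg.Agent.ZN.ChoiceBase Cfsg.Agent.ZN.ChoiceSit
open Cfsg.Agent.Omega.NO3b.EZero (cl)
open Cfsg.Agent.Omega.ML.MinFrame Cfsg.Agent.Omega.NO3b.ClosedPt
open Cfsg.Agent.ClassTwoFusion.Quad
open Cfsg.Agent.MinSimple.VModule (oddGen)
open Cfsg.Agent.Omega.ML.Final (MLK)

universe u v

/-- a normal subgroup of odd order centralises the intersection of the `⟨v^H⟩`, `1 ≠ v ∈ lam` -/
def OddF (H : Type u) [Group H] {M : Type v} [Group M] [MulDistribMulAction H M] (lam : Subgroup M) : Prop :=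
  ∀ F : Subgroup H, F.Normal → Odd (Nat.card F) → ∀ m : M,
    (∀ v ∈ lam, v ≠ 1 → m ∈ orb (⊤ : Subgroup H) v) → ∀ f ∈ F, f • m = m

section

variable {G : Type u} [Group G] {T D X U lam : Subgroup G} {H : Type u} [Group H] {M : Type u} [Group M]
  [MulDistribMulAction H M] {π : X →* H} {p : U →* M}

theorem Sec.conj_mem (s : Sec T D X U lam π p) {x u : G} (hx : x ∈ X) (hu : u ∈ U) : x * u * x⁻¹ ∈ U :=
  (mem_normalizer_iff.1 (s.XU hx) u).1 hu

theorem Sec.p_conj (s : Sec T D X U lam π p) (x : X) (u : U) :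
    p ⟨x * u * (x : G)⁻¹, s.conj_mem x.2 u.2⟩ = π x • p u := s.eqv x u _ rfl

/-- elements of the kernel of `π` act trivially on `U / D` -/
theorem Sec.comm_mem (s : Sec T D X U lam π p) {x : X} (hx : π x = 1) {u : G} (hu : u ∈ U) :
    (x : G) * u * (x : G)⁻¹ * u⁻¹ ∈ D := by
  have h1 := s.p_conj x ⟨u, hu⟩
  rw [hx, one_smul] at h1
  have h2 : p (⟨x * u * (x : G)⁻¹, s.conj_mem x.2 hu⟩ * (⟨u, hu⟩ : U)⁻¹) = 1 := by
    rw [map_mul, map_inv, h1, mul_inv_cancel]
  exact (s.ker _).1 h2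

/-- **`OddF`** from the labels and the strong fix -/
theorem Sec.oddF [Finite G] (s : Sec T D X U lam π p) (two : IsPGroup 2 T) (comm : U ≤ centralizer (U : Set G))
    (com : ∀ v ∈ lam, ∀ t ∈ T, t * v * t⁻¹ * v⁻¹ ∈ D)
    (lab : ∀ v ∈ lam, v ∉ D → ∀ c ∈ X, c * v * c⁻¹ * v⁻¹ ∈ D → InL T v (c * v * c⁻¹ * v⁻¹))
    (inf : ∀ d : G, (∀ w ∈ lam, w ∉ D → InL T w d) → d = 1)
    (fix : ∀ Y ≤ X, T ≤ normalizer (Y : Set G) → ∀ w ∈ U, (∀ t ∈ T ⊓ Y, t * w = w * t) → ∀ y ∈ Y, y * w = w * y) :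
    OddF H ((lam.subgroupOf U).map p) := by
  intro F hF hodd m hm f hf
  have hTD : T ≤ centralizer (D : Set G) := s.TX.trans s.XD
  -- the preimage of `F`
  set Y : Subgroup G := (F.comap π).map X.subtype with hY
  have hYX : Y ≤ X := by
    rintro _ ⟨x, -, rfl⟩
    exact x.2
  have memY : ∀ x : X, (x : G) ∈ Y ↔ π x ∈ F := by
    intro x
    constructor
    · rintro ⟨x', hx', he⟩
      have : x' = x := Subtype.ext he
      rw [← this]
      exact hx'
    · intro h
      exact ⟨x, h, rfl⟩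
  have hTY : T ≤ normalizer (Y : Set G) := by
    refine le_normalizer_of fun t ht y hy => ?_
    have h1 : π ⟨y, hYX hy⟩ ∈ F := (memY ⟨y, hYX hy⟩).1 hy
    have h2 : π (⟨t, s.TX ht⟩ * ⟨y, hYX hy⟩ * ⟨t, s.TX ht⟩⁻¹) ∈ F := by
      rw [map_mul, map_mul, map_inv]
      exact hF.conj_mem _ h1 _
    exact (memY (⟨t, s.TX ht⟩ * ⟨y, hYX hy⟩ * ⟨t, s.TX ht⟩⁻¹)).2 h2
  -- `T ⊓ Y` is in the kernel
  have hker : ∀ t (ht : t ∈ T ⊓ Y), π ⟨t, s.TX ht.1⟩ = 1 := by
    intro t ht
    have h1 : π ⟨t, s.TX ht.1⟩ ∈ F := (memY ⟨t, s.TX ht.1⟩).1 ht.2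
    obtain ⟨k, hk⟩ := two ⟨t, ht.1⟩
    have h2 : t ^ 2 ^ k = 1 := congrArg Subtype.val hk
    have h3 : (π ⟨t, s.TX ht.1⟩) ^ 2 ^ k = 1 := by
      rw [← map_pow]
      have : (⟨t, s.TX ht.1⟩ : X) ^ 2 ^ k = 1 := Subtype.ext h2
      rw [this, map_one]
    have h4 : orderOf (π ⟨t, s.TX ht.1⟩) ∣ 2 ^ k := orderOf_dvd_of_pow_eq_one h3
    have h5 : orderOf (π ⟨t, s.TX ht.1⟩) ∣ Nat.card F := F.orderOf_dvd_natCard h1
    have h6 : Nat.Coprime (2 ^ k) (Nat.card F) := (Nat.coprime_two_left.2 hodd).pow_left k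
    have h7 : orderOf (π ⟨t, s.TX ht.1⟩) = 1 := Nat.eq_one_of_dvd_coprimes h6 h4 h5
    exact orderOf_eq_one_iff.1 h7
  -- `m = p w`
  obtain ⟨w, rfl⟩ := s.psurj m
  -- `T ⊓ Y` centralises `w`
  have hw : ∀ t ∈ T ⊓ Y, t * (w : G) = w * t := by
    intro t ht
    have htD : ∀ u ∈ U, t * u * t⁻¹ * u⁻¹ ∈ D := fun u hu => s.comm_mem (hker t ht) hu
    have h1 : t * (w : G) * t⁻¹ * (w : G)⁻¹ = 1 := by
      refine inf _ fun v hv hvD => ?_
      obtain ⟨L, hLD, hL⟩ := exists_L hTD (com v hv)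
      rw [← hL]
      -- the homomorphism `u ↦ [t, u]`
      have hmul : ∀ a ∈ U, ∀ b ∈ U, t * (a * b) * t⁻¹ * (a * b)⁻¹ =
          (t * a * t⁻¹ * a⁻¹) * (t * b * t⁻¹ * b⁻¹) := by
        intro a ha b hb
        have h2 : (t * b * t⁻¹ * b⁻¹) * a = a * (t * b * t⁻¹ * b⁻¹) :=
          (mem_centralizer_iff.1 (comm (s.DU (htD b hb))) a ha).symm
        calc t * (a * b) * t⁻¹ * (a * b)⁻¹ = (t * a * t⁻¹ * a⁻¹) * (a * (t * b * t⁻¹ * b⁻¹)) * a⁻¹ := by group
          _ = (t * a * t⁻¹ * a⁻¹) * ((t * b * t⁻¹ * b⁻¹) * a) * a⁻¹ := by rw [h2]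
          _ = _ := by group
      have hD1 : ∀ d ∈ D, t * d * t⁻¹ * d⁻¹ = 1 := by
        intro d hd
        rw [← mem_centralizer_iff.1 (hTD ht.1) d hd]
        group
      let N : Subgroup M :=
        { carrier := {m | ∀ u : U, p u = m → t * (u : G) * t⁻¹ * (u : G)⁻¹ ∈ L}
          one_mem' := by
            intro u hu
            rw [hD1 _ ((s.ker u).1 hu)]
            exact one_mem _
          mul_mem' := by
            intro a b ha hb u hu
            obtain ⟨u₁, h₁⟩ := s.psurj a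
            have h₂ : p (u₁⁻¹ * u) = b := by
              rw [map_mul, map_inv, h₁, hu]
              group
            have h3 := hmul u₁ u₁.2 (u₁⁻¹ * u : U) (u₁⁻¹ * u : U).2
            have h4 : (u₁ : G) * ((u₁⁻¹ * u : U) : G) = u := by
              rw [Subgroup.coe_mul, Subgroup.coe_inv]
              group
            rw [h4] at h3
            rw [h3]
            exact mul_mem (ha u₁ h₁) (hb _ h₂)
          inv_mem' := by
            intro a ha u hu
            have h₂ : p u⁻¹ = a := by rw [map_inv, hu, inv_inv]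
            have h3 := hmul u u.2 (u⁻¹ : U) (u⁻¹ : U).2
            have h4 : (u : G) * ((u⁻¹ : U) : G) = 1 := by
              rw [Subgroup.coe_inv]
              group
            rw [h4] at h3
            have h5 : t * 1 * t⁻¹ * 1⁻¹ = 1 := by group
            rw [h5] at h3
            have h6 := ha _ h₂
            have h7 : t * (u : G) * t⁻¹ * (u : G)⁻¹ =
                (t * ((u⁻¹ : U) : G) * t⁻¹ * ((u⁻¹ : U) : G)⁻¹)⁻¹ := eq_inv_of_mul_eq_one_left h3.symm
            rw [h7]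
            exact inv_mem h6 }
      have hvU : v ∈ U := s.lamU hv
      have hpv : p ⟨v, hvU⟩ ∈ (lam.subgroupOf U).map p := ⟨⟨v, hvU⟩, hv, rfl⟩
      have hpv1 : p ⟨v, hvU⟩ ≠ 1 := fun h => hvD ((s.ker ⟨v, hvU⟩).1 h)
      have h3 := hm _ hpv hpv1
      have h4 : orb (⊤ : Subgroup H) (p ⟨v, hvU⟩) ≤ N := by
        refine orb_le fun g _ => ?_
        obtain ⟨x, rfl⟩ := s.surj g
        intro u hu
        -- `u = (x v x⁻¹) d`
        set a : U := ⟨x * v * (x : G)⁻¹, s.conj_mem x.2 hvU⟩ with ha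
        have hpa : p a = π x • p ⟨v, hvU⟩ := s.p_conj x ⟨v, hvU⟩
        have hd : ((a⁻¹ * u : U) : G) ∈ D := by
          refine (s.ker _).1 ?_
          rw [map_mul, map_inv, hpa, hu, inv_mul_cancel]
        have h5 := hmul a a.2 (a⁻¹ * u : U) (a⁻¹ * u : U).2
        have h6 : (a : G) * ((a⁻¹ * u : U) : G) = u := by
          rw [Subgroup.coe_mul, Subgroup.coe_inv]
          group
        rw [h6, hD1 _ hd, mul_one] at h5
        rw [h5]
        -- `[t, x v x⁻¹] = [x⁻¹ t x, v]`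
        set c : X := x⁻¹ * ⟨t, s.TX ht.1⟩ * x with hc
        have hc1 : π c = 1 := by
          rw [hc, map_mul, map_mul, map_inv, hker t ht]
          group
        have hcD : (c : G) * v * (c : G)⁻¹ * v⁻¹ ∈ D := s.comm_mem hc1 hvU
        have hcL : (c : G) * v * (c : G)⁻¹ * v⁻¹ ∈ L := (hL _).2 (lab v hv hvD c c.2 hcD)
        have h7 : (x : G) * ((c : G) * v * (c : G)⁻¹ * v⁻¹) * (x : G)⁻¹ = (c : G) * v * (c : G)⁻¹ * v⁻¹ := by
          rw [← mem_centralizer_iff.1 (s.XD x.2) _ hcD]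
          group
        have h8 : t * (a : G) * t⁻¹ * (a : G)⁻¹ = (c : G) * v * (c : G)⁻¹ * v⁻¹ := by
          rw [← h7]
          have e1 : (c : G) = (x : G)⁻¹ * t * x := by rw [hc]; rfl
          have e2 : (a : G) = x * v * (x : G)⁻¹ := rfl
          rw [e1, e2]
          group
        rw [h8]
        exact hcL
      exact h4 h3 w rfl
    have h2 : t * (w : G) = (t * (w : G) * t⁻¹ * (w : G)⁻¹) * (w * t) := by group
    rw [h2, h1, one_mul]
  -- conclusion
  obtain ⟨y, rfl⟩ := s.surj f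
  have hy : (y : G) ∈ Y := (memY y).2 hf
  have h1 := fix Y hYX hTY w w.2 hw y hy
  have h2 := s.p_conj y w
  rw [← h2]
  congr 1
  refine Subtype.ext ?_
  change (y : G) * w * (y : G)⁻¹ = w
  rw [h1]
  group

end

section

variable {H : Type u} [Group H] {M : Type v} [Group M] [MulDistribMulAction H M] {T B Y : Subgroup H}
  {lam : Subgroup M}

/-- **`Abs` and `OddF` give `OddFree`** -/
theorem Abs.oddFree [Finite H] [Finite M] (hML : MLK.{u, v}) (hK : IsKGroup H) (h : Abs T B Y lam)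
    (hF : OddF H lam) : OddFree H := by
  intro F hFn hFo
  have hA := h.toABS
  have hKn := hA.K_normal
  -- `F` centralises `[M, K]`
  have fix : ∀ k : H, k ∈ oddGen (⊤ : Subgroup H) → ∀ m : M, ∀ f ∈ F, f • ((k • m) * m⁻¹) = (k • m) * m⁻¹ := by
    intro k hk m
    refine hF F hFn hFo _ fun v hv hv1 => ?_
    have h1 : m ∈ hA.CK ⊔ orb (⊤ : Subgroup H) v := by
      rw [hA.sup_top hML hK hv hv1]
      exact mem_top m
    have hn := hA.norm hA.CK
    obtain ⟨c, hc, u, hu, rfl⟩ := mem_sup_of_normal_left.1 h1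
    have h2 : k • c = c := hc k hk
    have h3 : (k • (c * u)) * (c * u)⁻¹ = (k • u) * u⁻¹ := by
      rw [smul_mul', h2, hA.comm c (k • u), hA.comm c u]
      group
    rw [h3]
    exact mul_mem (ABS.orb_inv v k hu) (inv_mem hu)
  rw [eq_bot_iff, ← hA.ker_bot]
  intro f hf m k hk
  -- `k • [m, f] = [m, f]`
  set c : M := m⁻¹ * (k • m) with hc
  have hkm : k • m = m * c := by rw [hc]; group
  have hc' : c = (k • m) * m⁻¹ := by rw [hc, hA.comm]
  set f' : H := k * f * k⁻¹ with hf'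
  have hf'F : f' ∈ F := hFn.conj_mem f hf k
  have hfc : ∀ g ∈ F, g • c = c := fun g hg => by rw [hc']; exact fix k hk m g hg
  have h1 : k • ((f • m) * m⁻¹) = (f' • m) * m⁻¹ := by
    have e1 : k • f • m = f' • k • m := by
      rw [hf', smul_smul, smul_smul]
      congr 1
      group
    rw [smul_mul', smul_inv', e1, hkm, smul_mul', hfc f' hf'F]
    group
  -- `z = [m, f'] [m, f]⁻¹` is fixed by `F`
  set z : M := (f' • m) * (f • m)⁻¹ with hz
  have hz' : z = (k • ((f • m) * m⁻¹)) * ((f • m) * m⁻¹)⁻¹ := by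
    rw [h1, hz]
    group
  have hzF : ∀ g ∈ F, g • z = z := fun g hg => by rw [hz']; exact fix k hk _ g hg
  set g : H := f⁻¹ * f' with hg
  have hgF : g ∈ F := mul_mem (inv_mem hf) hf'F
  have h2 : g • m = z * m := by
    have e1 : f' • m = z * (f • m) := by rw [hz]; group
    have e2 : g • m = f⁻¹ • f' • m := by rw [hg, mul_smul]
    rw [e2, e1, smul_mul', hzF _ (inv_mem hf), inv_smul_smul]
  have h3 : ∀ n : ℕ, (g ^ n) • m = z ^ n * m := by
    intro n
    induction n with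
    | zero => rw [pow_zero, pow_zero, one_smul, one_mul]
    | succ n ih =>
      rw [pow_succ, mul_smul, h2, smul_mul', ih, hzF _ (pow_mem hgF n), ← mul_assoc, ← pow_succ']
  have h4 := h3 (orderOf g)
  rw [pow_orderOf_eq_one, one_smul] at h4
  have h5 : z ^ orderOf g = 1 := (mul_eq_right.1 h4.symm)
  have h6 : Odd (orderOf g) := Odd.of_dvd_nat hFo (F.orderOf_dvd_natCard hgF)
  obtain ⟨j, hj⟩ := h6
  have h7 : z = 1 := by
    rw [hj, pow_succ, pow_mul, pow_two, hA.sq, one_pow, one_mul] at h5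
    exact h5
  rw [h1, ← mul_inv_eq_one]
  have h8 : (f' • m) * m⁻¹ * ((f • m) * m⁻¹)⁻¹ = z := by rw [hz]; group
  rw [h8, h7]

end

section

variable {G : Type u} [Group G] {T D X U lam : Subgroup G} {H : Type u} [Group H] {M : Type u} [Group M]
  [MulDistribMulAction H M] {π : X →* H} {p : U →* M}

/-- **`OddFree H`** from the labels and the strong fix -/
theorem Sec.oddFree [Finite G] [Finite H] [Finite M] (hML : MLK.{u, u}) (hK : IsKGroup H)
    (s : Sec T D X U lam π p) {B Y : Subgroup H} (h : Abs ((T.subgroupOf X).map π) B Y ((lam.subgroupOf U).map p))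
    (two : IsPGroup 2 T) (comm : U ≤ centralizer (U : Set G))
    (com : ∀ v ∈ lam, ∀ t ∈ T, t * v * t⁻¹ * v⁻¹ ∈ D)
    (lab : ∀ v ∈ lam, v ∉ D → ∀ c ∈ X, c * v * c⁻¹ * v⁻¹ ∈ D → InL T v (c * v * c⁻¹ * v⁻¹))
    (inf : ∀ d : G, (∀ w ∈ lam, w ∉ D → InL T w d) → d = 1)
    (fix : ∀ Y ≤ X, T ≤ normalizer (Y : Set G) → ∀ w ∈ U, (∀ t ∈ T ⊓ Y, t * w = w * t) → ∀ y ∈ Y, y * w = w * y) :
    OddFree H :=
  h.oddFree hML hK (s.oddF two comm com lab inf fix)

/-- **`OddFree H`** over `Out` -/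
theorem Sec.oddFree_of_out [Finite G] {S Z V D B lam T₀ X U : Subgroup G} {H : Type u} [Group H] [Finite H]
    {M : Type u} [Group M] [Finite M] [MulDistribMulAction H M] {π : X →* H} {p : U →* M} {e : End S Z V D B}
    (o : Out e lam T₀) (hs : FixS S Z V) (hML : MLK.{u, u}) (hK : IsKGroup H)
    (s : Sec (S ⊓ centralizer (D : Set G)) D X U lam π p) (hU : U ≤ cl V (centralizer (Z : Set G)))
    {B' Y : Subgroup H} (h : Abs (((S ⊓ centralizer (D : Set G)).subgroupOf X).map π) B' Y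
      ((lam.subgroupOf U).map p)) : OddFree H := by
  have hfl := e.flag
  refine s.oddFree hML hK h (hfl.two.to_le inf_le_left) ?_ (fun v hv t ht => o.good.comm v hv t ht) ?_ o.good.inf
    fun Y hY hT w hw hf => e.clo.toRR.tr0 hfl hs (hY.trans s.XD) hT w (hU hw) hf
  · exact fun a ha => mem_centralizer_iff.2 fun b hb => hfl.Wcomm b (hU hb) a (hU ha)
  · intro v hv hvD c hc hcD
    set T := S ⊓ centralizer (D : Set G) with hT
    have hvV := o.good.leV hv
    have hcom : ∀ t ∈ T, t * v * t⁻¹ * v⁻¹ ∈ D := fun t ht => o.good.comm v hv t ht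
    have h1 : c ∈ sv D v := ⟨s.XD hc, hcD⟩
    rw [e.clo.c2 hfl hvV hcom, e.clo.cent_plus hfl hvV hcom] at h1
    obtain ⟨c₀, hc₀, t, ht, rfl⟩ := sup_eq_mul (norm_cent (norm_sup (inf_le_right : T ≤ _) hcom)) h1
    refine ⟨t, ht, ?_⟩
    have h2 := mem_centralizer_iff.1 hc₀
    have h3 := h2 v ((le_sup_right : zpowers v ≤ D ⊔ zpowers v) (mem_zpowers v))
    have h4 := h2 _ ((le_sup_left : D ≤ D ⊔ zpowers v) (hcom t ht))
    calc t * v * t⁻¹ * v⁻¹ = (t * v * t⁻¹ * v⁻¹) * c₀ * v * c₀⁻¹ * v⁻¹ := by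
            rw [mul_assoc (t * v * t⁻¹ * v⁻¹) c₀ v, ← h3]
            group
      _ = c₀ * t * v * (c₀ * t)⁻¹ * v⁻¹ := by
            rw [h4]
            group

end

end Cfsg.Agent.Omega.NO3b.EndX

end

section


/-!
# The exact end of NotFF (v2): normal subgroups of odd order

**`Abs.odd_bot`** : if every normal odd subgroup `F` centralises the intersection of the `U_v` (379's `OddF`), then
`H` has no normal subgroup `≠ 1` of odd order (`OddFree H`).
-/

set_option autoImplicit false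

namespace Cfsg.Agent.Omega.NO3b.EndX

open Subgroup Cfsg Cfsg.Agent.ZN Cfsg.Agent.ClassTwoFusion.Quad Cfsg.Agent.Omega.ML.MinFrame
open Cfsg.Agent.Omega.ML.Final (MLK)
open Cfsg.Agent.MinSimple.VModule

universe u v

/-- no normal subgroups of odd order -/
theorem Abs.odd_bot {H : Type u} [Group H] [Finite H] {M : Type v} [Group M] [Finite M] [MulDistribMulAction H M]
    {T B Y : Subgroup H} {lam : Subgroup M} (hML : MLK.{u, v}) (hK : IsKGroup H) (h : Abs T B Y lam)
    {F : Subgroup H} (hF : F.Normal)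
    (hc : ∀ m : M, (∀ v ∈ lam, v ≠ 1 → m ∈ orb (⊤ : Subgroup H) v) → ∀ f ∈ F, f • m = m) : F = ⊥ := by
  obtain ⟨N, iN, fN, aN, π, hsurj, hsm, hone, hne, hir⟩ := h.toABS.out hML hK
  -- `[M, K] ≤ U_v`
  have key : ∀ k ∈ oddGen (⊤ : Subgroup H), ∀ m : M, ∀ v ∈ lam, v ≠ 1 → (k • m) * m⁻¹ ∈ orb (⊤ : Subgroup H) v := by
    intro k hk m v hv hv1
    have htop := h.toABS.sup_top hML hK hv hv1
    have n1 := h.toABS.norm (orb (⊤ : Subgroup H) v)
    have hm : m ∈ h.toABS.CK ⊔ orb (⊤ : Subgroup H) v := by rw [htop]; exact mem_top m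
    obtain ⟨c, hc', y, hy, rfl⟩ := mem_sup_of_normal_right.1 hm
    have hck : k • c = c := hc' k hk
    have e1 : (k • (c * y)) * (c * y)⁻¹ = (k • y) * y⁻¹ := by
      rw [smul_mul', hck, mul_inv_rev, mul_assoc, ← mul_assoc (k • y), h.toABS.comm ((k • y) * y⁻¹) c⁻¹,
        mul_inv_cancel_left]
    rw [e1]
    exact (orb (⊤ : Subgroup H) v).mul_mem (ABS.orb_inv v k hy) ((orb (⊤ : Subgroup H) v).inv_mem hy)
  have hfk : ∀ k ∈ oddGen (⊤ : Subgroup H), ∀ n : N, (k • n) * n⁻¹ ∈ cv N (F : Set H) := by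
    intro k hk n f hf
    obtain ⟨m, rfl⟩ := hsurj n
    rw [← hsm, ← map_inv, ← map_mul, ← hsm, hc _ (fun v hv hv1 => key k hk m v hv hv1) f hf]
  rcases hir.irr (cv N (F : Set H)) (fun g w hw f hf => by
    have h1 : g⁻¹ * f * g ∈ F := by
      have := hF.conj_mem f hf g⁻¹
      rwa [inv_inv] at this
    have h2 := hw _ h1
    rw [mul_smul, mul_smul, inv_smul_eq_iff] at h2
    exact h2) with h1 | h1
  · exfalso
    have h2 : oddGen (⊤ : Subgroup H) = ⊥ := by
      rw [eq_bot_iff]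
      intro k hk
      refine mem_bot.2 (hir.faith k fun n => ?_)
      have h3 := hfk k hk n
      rw [h1, mem_bot] at h3
      exact mul_inv_eq_one.1 h3
    have h3 := h.toABS.K_sup
    rw [h2, bot_sup_eq] at h3
    exact h.Yne (top_unique (h3.symm.le.trans h.TY))
  · rw [eq_bot_iff]
    intro f hf
    refine mem_bot.2 (hir.faith f fun n => ?_)
    have h3 : n ∈ cv N (F : Set H) := by rw [h1]; exact mem_top n
    exact h3 f hf

end Cfsg.Agent.Omega.NO3b.EndX

end
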