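import Cfsg.Agent.Mrg.Omega.ML.Ex.DefN
import Cfsg.Agent.Mrg.Omega.ML.AltRow
import Cfsg.Agent.Mrg.Omega.ML.RowsList
import Cfsg.Agent.Mrg.Omega.KL.Def
import Cfsg.Agent.Mrg.Omega.KL.Gen

section


/-!
# The end EXT: exact low atoms and two fixed vectors (helper585)

All consumers of the exact rows which have two `T`-fixed vectors `x`, `y` and an overgroup `R` of `T` which fixes `y`
and moves `x` (`[A]` of CARD #18791, (T0+) of #20012, ...).

* `Mv T x y` : these data;
* `SysT H M T A x y` : `H` faithful and irreducible on `M`, `T` a Sylow 2-subgroup of `H` which is in at least two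
  maximal subgroups, `A ≤ T` an exact low atom of order `≥ 4`, `O(H) = 1`, `H` a K-group, `Mv T x y`;
* `ExitN` : (E2), all the rows of the K-list (helper441, 484, 995): `K` is of Lie type in characteristic 2 or `U₃(3)`;
* `RedT` : (E1), reduction to one component (RED #21158 with the two vectors);
* `LieT`, `UThreeT` : (E3), (E4), the two exits;
* **`SysT.false_of`** : then `SysT` is impossible;  `Ext` : this statement, `ext_of`;
* `exists_mover` : in the middle `Sys` of THEOREM KL some minimal parabolic moves `x`.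
-/

set_option autoImplicit false

namespace Cfsg.Agent.Omega.ML.Ex.Two

open Subgroup Cfsg Cfsg.Agent.ZN Cfsg.Agent.ClassTwoFusion.Quad Cfsg.Agent.Omega.ML.CD
open Cfsg.Agent.Omega.ML.Rows (IsUThreeThree)
open Cfsg.Agent.MinSimple.MinParabolic (IsMinPar)

universe u v

/-- `x`, `y` non-trivial `T`-fixed vectors, some overgroup of `T` fixes `y` and moves `x` -/
structure Mv {H : Type u} [Group H] {M : Type v} [Group M] [MulDistribMulAction H M] (T : Subgroup H) (x y : M) :
    Prop where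
  x1 : x ≠ 1
  y1 : y ≠ 1
  tx : ∀ t ∈ T, t • x = x
  ty : ∀ t ∈ T, t • y = y
  mv : ∃ R : Subgroup H, T ≤ R ∧ (∀ r ∈ R, r • y = y) ∧ ∃ r ∈ R, r • x ≠ x

/-- **the common situation of the consumers** -/
structure SysT (H : Type u) [Group H] (M : Type v) [Group M] [MulDistribMulAction H M] (T A : Subgroup H)
    (x y : M) : Prop extends Mv T x y where
  sq : ∀ m : M, m * m = 1
  faith : ∀ h : H, (∀ m : M, h • m = m) → h = 1
  irr : ∀ W : Subgroup M, (∀ h : H, ∀ w ∈ W, h • w ∈ W) → W = ⊥ ∨ W = ⊤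
  two : IsPGroup 2 T
  syl : ¬ 2 ∣ T.index
  AT : A ≤ T
  el : ∀ a ∈ A, a * a = 1
  four : 4 ≤ Nat.card A
  exact : (cv M (A : Set H)).index = Nat.card A
  atom : ∀ C : Subgroup H, C ≤ A → C ≠ ⊥ → C ≠ A → Nat.card C < (cv M (C : Set H)).index
  low : ∀ R : Subgroup H, T ≤ R → R ≠ ⊤ → A ≤ o2 R
  nmax : ¬ ∃ N : Subgroup H, N ≠ ⊤ ∧ ∀ R : Subgroup H, T ≤ R → R ≠ ⊤ → R ≤ N
  odd : ∀ N : Subgroup H, N.Normal → Odd (Nat.card N) → N = ⊥
  KH : IsKGroup H

/-- **(E2)** : all the rows of the exact K-list -/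
def ExitN : Prop :=
  ∀ (H : Type u) [Group H] [Finite H] (N : Type v) [Group N] [Finite N] [MulDistribMulAction H N]
    (K T A : Subgroup H), InN H N K T A → IsKnownSimple' K → IsLieTypeChar 2 K ∨ IsUThreeThree K

/-- **(E1)** : reduction to one component -/
def RedT : Prop :=
  ∀ (H : Type u) [Group H] [Finite H] (M : Type v) [Group M] [Finite M] [MulDistribMulAction H M]
    (T A : Subgroup H) (x y : M), SysT H M T A x y →
    ∃ (H₁ : Type u) (_ : Group H₁) (_ : Finite H₁) (M₁ : Type v) (_ : Group M₁) (_ : Finite M₁)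
      (_ : MulDistribMulAction H₁ M₁) (K₁ T₁ A₁ : Subgroup H₁) (x₁ y₁ : M₁),
      InX H₁ M₁ K₁ T₁ A₁ ∧ Atm M₁ A₁ ∧ Mv T₁ x₁ y₁ ∧ IsKnownSimple' K₁

/-- **(E3)** : `K` of Lie type in characteristic 2 -/
def LieT : Prop :=
  ∀ (H : Type u) [Group H] [Finite H] (M : Type v) [Group M] [Finite M] [MulDistribMulAction H M]
    (K T A : Subgroup H) (x y : M), InX H M K T A → Mv T x y → IsLieTypeChar 2 K → False

/-- **(E4)** : `K = U₃(3)` -/
def UThreeT : Prop :=
  ∀ (H : Type u) [Group H] [Finite H] (M : Type v) [Group M] [Finite M] [MulDistribMulAction H M]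
    (K T A : Subgroup H) (x y : M), InX H M K T A → Atm M A → Mv T x y → IsUThreeThree K → False

section

variable {H : Type u} [Group H] [Finite H] {M : Type v} [Group M] [Finite M] [MulDistribMulAction H M]
  {K T A : Subgroup H} {x y : M}

/-- **EXT for one component.** -/
theorem false_of_inX (h2 : ExitN.{u, v}) (h3 : LieT.{u, v}) (h4 : UThreeT.{u, v}) (hI : InX H M K T A)
    (hat : Atm M A) (hm : Mv T x y) (hK : IsKnownSimple' K) : False := by
  rcases h2 H M K T A (InN.of_inX hI hat) hK with h | h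
  · exact h3 H M K T A x y hI hm h
  · exact h4 H M K T A x y hI hat hm h

/-- **EXT.** -/
theorem SysT.false_of (h1 : RedT.{u, v}) (h2 : ExitN.{u, v}) (h3 : LieT.{u, v}) (h4 : UThreeT.{u, v})
    (h : SysT H M T A x y) : False := by
  obtain ⟨H₁, _, _, M₁, _, _, _, K₁, T₁, A₁, x₁, y₁, hI, hat, hm, hK⟩ := h1 H M T A x y h
  exact false_of_inX h2 h3 h4 hI hat hm hK

/-- **EXT** as one hypothesis of the consumers -/
def Ext : Prop :=
  ∀ (H : Type u) [Group H] [Finite H] (M : Type v) [Group M] [Finite M] [MulDistribMulAction H M]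
    (T A : Subgroup H) (x y : M), SysT H M T A x y → False

theorem ext_of (h1 : RedT.{u, v}) (h2 : ExitN.{u, v}) (h3 : LieT.{u, v}) (h4 : UThreeT.{u, v}) : Ext.{u, v} :=
  fun _ _ _ _ _ _ _ _ _ _ _ h => h.false_of h1 h2 h3 h4

omit [Finite M] in
/-- some minimal parabolic moves `x` -/
theorem exists_mover {V : Subgroup M} (h : KL.Def.Sys T A V x y) : ∃ P : Subgroup H, IsMinPar T P ∧
    ∃ p ∈ P, p • x ≠ x := by
  by_contra hcon
  push Not at hcon
  have h1 : ∀ g : H, g • x = x := by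
    have h2 : (⊤ : Subgroup H) ≤ MulAction.stabilizer H x := by
      refine Cfsg.Agent.MinSimple.MinParabolic.le_of_forall (S := T) le_top ?_ ?_
      · intro g hg
        exact MulAction.mem_stabilizer_iff.2 (h.nx g hg.2)
      · intro P hP _ p hp
        exact MulAction.mem_stabilizer_iff.2 (hcon P hP p hp)
    intro g
    exact MulAction.mem_stabilizer_iff.1 (h2 (mem_top g))
  have h3 : ∀ k : H, ∀ w ∈ zpowers x, k • w ∈ zpowers x := by
    rintro k w ⟨n, rfl⟩
    refine ⟨n, ?_⟩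
    change x ^ n = k • (x ^ n)
    rw [smul_zpow', h1 k]
  rcases h.irr _ h3 with h4 | h4
  · exact h.x1 (by rwa [zpowers_eq_bot] at h4)
  · have h5 : y ∈ zpowers x := h4 ▸ mem_top y
    obtain ⟨n, hn⟩ := h5
    have hn' : x ^ n = y := hn
    rcases Int.even_or_odd' n with ⟨m, hm | hm⟩
    · rw [hm, zpow_mul, show x ^ (2 : ℤ) = 1 from by rw [zpow_two, h.sq], one_zpow] at hn'
      exact h.y1 hn'.symm
    · rw [hm, zpow_add, zpow_mul, show x ^ (2 : ℤ) = 1 from by rw [zpow_two, h.sq], one_zpow, one_mul,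
        zpow_one] at hn'
      exact h.xy hn'

end

end Cfsg.Agent.Omega.ML.Ex.Two

end

section


/-!
# The END of `|Z| ≥ 8` (#22648 (3) (d), #22713 (6) (7), #22781 (4), split #22922) from EXT (helper699)

* `ZSys.exists_mv'` : some `T`-minimal `P` moves some `x ∈ Z#` and fixes some `y ∈ Z#`;
* **`ZSys.sysT`** : `ZSys 2 T A Z ⟹ ∃ x y, SysT H M T A x y`;
* **`ZSys.false_of (hE : Ext) : ZSys 2 T A Z → False`**;
* **`ZPre.false_of (ml : MLK) (hE : Ext) : ZPre 2 T A Z → False`**.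
-/

set_option autoImplicit false

namespace Cfsg.Agent.Omega.KL.ZR

open Subgroup Cfsg Cfsg.Agent.ZN Cfsg.Agent.ClassTwoFusion.Quad Cfsg.Agent.Omega.ML.MinFrame
open Cfsg.Agent.Omega.ML.Ex.Two (Mv SysT Ext)
open Cfsg.Agent.Omega.ML.Final (MLK)
open Cfsg.Agent.MinSimple.MinParabolic (IsMinPar)

universe u v

variable {H : Type u} [Group H] [Finite H] {M : Type v} [Group M] [MulDistribMulAction H M] {T A : Subgroup H}
  {Z : Subgroup M} {c : ℕ}

/-- **some `T`-minimal `P` moves some `x ∈ Z#` and fixes some `y ∈ Z#`** -/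
theorem ZSys.exists_mv' (h : ZSys c T A Z) : ∃ P : Subgroup H, IsMinPar T P ∧ ∃ x ∈ Z, ∃ y ∈ Z, x ≠ 1 ∧ y ≠ 1 ∧
    (∃ p ∈ P, p • x ≠ x) ∧ ∀ p ∈ P, p • y = y := by
  have hZ : Z ≠ ⊥ := by
    intro h1
    have h4 := h.Z4
    rw [h1, card_bot] at h4
    omega
  have hT : T ≠ ⊥ := by
    intro h1
    exact h.A1 (le_bot_iff.1 (h1 ▸ h.AT))
  obtain ⟨P, hP, x, hx, p, hp, hpx⟩ := exists_mover h.faith h.irr h.TZ h.nZ hZ hT
  obtain ⟨y, hy, hy1, hPy⟩ := h.fix P hP
  refine ⟨P, hP, x, hx, y, hy, ?_, hy1, ⟨p, hp, hpx⟩, hPy⟩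
  rintro rfl
  exact hpx (smul_one p)

/-- **`ZSys 2` is a `SysT`** -/
theorem ZSys.sysT (h : ZSys 2 T A Z) : ∃ x y : M, SysT H M T A x y := by
  obtain ⟨P, hP, x, hx, y, hy, hx1, hy1, hpx, hPy⟩ := h.exists_mv'
  exact ⟨x, y,
    { x1 := hx1
      y1 := hy1
      tx := fun t ht => h.TZ t ht x hx
      ty := fun t ht => h.TZ t ht y hy
      mv := ⟨P, hP.le, hPy, hpx⟩
      sq := h.sq
      faith := h.faith
      irr := h.irr
      two := h.two
      syl := h.syl
      AT := h.AT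
      el := h.el
      four := h.four
      exact := h.exact
      atom := h.atom
      low := h.low
      nmax := h.nmax
      odd := Odd.odd h
      KH := h.KH }⟩

/-- **the END of `ZSys 2` from EXT** -/
theorem ZSys.false_of [Finite M] (hE : Ext.{u, v}) (h : ZSys 2 T A Z) : False := by
  obtain ⟨x, y, hs⟩ := h.sysT
  exact hE H M T A x y hs

/-- **the END of `|Z| ≥ 8` from EXT** -/
theorem ZPre.false_of [Finite M] (ml : MLK.{u, v}) (hE : Ext.{u, v}) (h : ZPre 2 T A Z) : False :=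
  ZR.false_of ml (fun _ _ _ _ _ _ _ _ _ _ h' => h'.false_of hE) h

end Cfsg.Agent.Omega.KL.ZR

end
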