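import Cfsg.Agent.Mrg.Omega.NO3S.EMany.Low
import Cfsg.Agent.Mrg.Omega.ML.Ex.Two
import Cfsg.Agent.Mrg.Omega.KL.Mor
import Cfsg.Agent.Mrg.Omega.ML.Ex.RedDef
import Cfsg.Agent.Mrg.Omega.ML.Ex.Def
import Cfsg.Agent.Mrg.Omega.ML.Ex.TIE

section


/-!
# `O(H) = 1` for the consumers of EXT (helper529)

`Two.SysT` needs `odd : N ⊴ H` of odd order is trivial (RED and the rows have `K` simple).

* `SysW.sup_ne_top`, `SysW.le_center` : over helper566's `SysW` (no `fixN`): a normal subgroup of odd order is in the center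
  of `H`; `SysW.ne_of_center` : `1 ≠ z ∈ Z(H)` fixes no `m ≠ 1`; `SysW.odd_of` : the form for the consumers with `q ≥ 4`;
* `sysE_of_sys` : `KL.Def.Sys T A V x y → SysE T A x y`;
* `sysE_of_out` : `KLF.Def.Out T A x y → SysE T A x y ∨ SysE T A y x`.
-/

set_option autoImplicit false

namespace Cfsg.Agent.Omega.ML.Ex.TwoOdd

open Subgroup Cfsg Cfsg.Agent.ZN Cfsg.Agent.ClassTwoFusion.Quad Cfsg.Agent.Omega.ML.MinFrame
open Cfsg.Agent.MinSimple.MinParabolic (IsMinPar le_of_forall)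
open Cfsg.Agent.MinSimple.VModule (o2_isPGroup o2_le le_o2 le_normalizer_o2 o2_le_of_sylow)
open Cfsg.Agent.Omega.NO3S.EMany.Low (SysW SysE Km Km_le eq_one_of_odd comm_odd)

universe u v

section

variable {H : Type u} [Group H] [Finite H] {M : Type v} [Group M] [Finite M] [MulDistribMulAction H M]
  {T A : Subgroup H} {x y : M}

omit [Finite M] in
/-- `H ≠ N T` for `N` of odd order -/
theorem SysW.sup_ne_top (h : SysW T A x y) {N : Subgroup H} (hN : N.Normal) (hNo : Odd (Nat.card N)) :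
    N ⊔ T ≠ ⊤ := by
  intro hNT
  let D : Subgroup H := N ⊓ centralizer {z : H | ∃ t ∈ T, ∃ a ∈ A, z = t * a * t⁻¹}
  have hDT : ∀ s ∈ T, ∀ d ∈ D, s * d * s⁻¹ ∈ D := by
    intro s hs d hd
    refine ⟨hN.conj_mem d hd.1 s, mem_centralizer_iff.2 ?_⟩
    rintro _ ⟨t, ht, a, ha, rfl⟩
    have h1 := mem_centralizer_iff.1 hd.2 _ ⟨s⁻¹ * t, mul_mem (inv_mem hs) ht, a, ha, rfl⟩
    have h2 := congrArg (fun w => s * w * s⁻¹) h1
    simp only [mul_inv_rev, inv_inv] at h2
    calc t * a * t⁻¹ * (s * d * s⁻¹) = s * (s⁻¹ * t * a * (t⁻¹ * s) * d) * s⁻¹ := by group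
      _ = s * (d * (s⁻¹ * t * a * (t⁻¹ * s))) * s⁻¹ := h2
      _ = s * d * s⁻¹ * (t * a * t⁻¹) := by group
  have hDn : T ≤ normalizer (D : Set H) := by
    intro s hs
    rw [mem_normalizer_iff]
    intro z
    refine ⟨hDT s hs z, fun hz => ?_⟩
    have h1 := hDT s⁻¹ (inv_mem hs) _ hz
    have h2 : s⁻¹ * (s * z * s⁻¹) * s⁻¹⁻¹ = z := by group
    rwa [h2] at h1
  refine h.nmax ⟨D ⊔ T, ?_, ?_⟩
  · intro htop
    have hcen : ∀ n ∈ N, ∀ t ∈ T, ∀ a ∈ A, t * a * t⁻¹ * n = n * (t * a * t⁻¹) := by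
      intro e he t' ht' a ha
      have h2 : e ∈ ((D ⊔ T : Subgroup H) : Set H) := htop ▸ mem_top e
      rw [coe_mul_of_right_le_normalizer_left D T hDn] at h2
      obtain ⟨d, hd, t, ht, rfl⟩ := h2
      have h3 : t ∈ N := by
        have := N.mul_mem (N.inv_mem hd.1) he
        simpa using this
      have h4 : t = 1 := eq_one_of_odd hNo h.two h3 ht
      rw [h4]
      simp only [mul_one]
      exact mem_centralizer_iff.1 hd.2 _ ⟨t', ht', a, ha, rfl⟩
    let K1 : Subgroup H := closure {z : H | ∃ t ∈ T, ∃ a ∈ A, z = t * a * t⁻¹}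
    have hK1T : K1 ≤ T := by
      rw [closure_le]
      rintro _ ⟨t, ht, a, ha, rfl⟩
      exact T.mul_mem (T.mul_mem ht (h.AT ha)) (T.inv_mem ht)
    have hK1 : K1 ≤ o2 (⊤ : Subgroup H) := by
      refine le_o2 le_top (h.two.to_le hK1T) ?_
      rw [← hNT]
      refine sup_le ?_ ?_
      · intro n hn
        have h1 : n ∈ centralizer (K1 : Set H) := by
          rw [centralizer_closure, mem_centralizer_iff]
          rintro _ ⟨t, ht, a, ha, rfl⟩
          exact hcen n hn t ht a ha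
        exact centralizer_le_normalizer _ h1
      · have hconj : ∀ s ∈ T, ∀ k ∈ K1, s * k * s⁻¹ ∈ K1 := by
          intro s hs k hk
          have h1 : K1 ≤ K1.comap (MulAut.conj s).toMonoidHom := by
            rw [closure_le]
            rintro _ ⟨t, ht, a, ha, rfl⟩
            refine subset_closure ⟨s * t, T.mul_mem hs ht, a, ha, ?_⟩
            change s * (t * a * t⁻¹) * s⁻¹ = _
            group
          exact h1 hk
        intro s hs
        rw [mem_normalizer_iff]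
        intro z
        refine ⟨hconj s hs z, fun hz => ?_⟩
        have h1 := hconj s⁻¹ (inv_mem hs) _ hz
        have h2 : s⁻¹ * (s * z * s⁻¹) * s⁻¹⁻¹ = z := by group
        rwa [h2] at h1
    exact h.lb.nb fun a ha => hK1 (subset_closure ⟨1, one_mem T, a, ha, by group⟩)
  · intro R hTR hR
    have h1 : R ⊓ N ⊔ T = R := by
      apply le_antisymm (sup_le inf_le_left hTR)
      intro r hr
      have h1 : r ∈ N ⊔ T := hNT ▸ mem_top r
      rw [mem_sup_of_normal_left] at h1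
      obtain ⟨n, hn, s, hs, rfl⟩ := h1
      refine mul_mem_sup ⟨?_, hn⟩ hs
      have := R.mul_mem hr (R.inv_mem (hTR hs))
      rwa [mul_inv_cancel_right] at this
    rw [← h1]
    refine sup_le_sup_right ?_ T
    intro e he
    refine ⟨he.2, mem_centralizer_iff.2 ?_⟩
    rintro _ ⟨t, ht, a, ha, rfl⟩
    have h3 : t * a * t⁻¹ ∈ o2 R := (mem_normalizer_iff.1 (le_normalizer_o2 R (hTR ht)) a).1 (h.low R hTR hR ha)
    exact (comm_odd hN hNo he.2 he.1 h3).symm

omit [Finite M] in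
/-- **A normal subgroup of odd order is in the center.** -/
theorem SysW.le_center (h : SysW T A x y) {N : Subgroup H} (hN : N.Normal) (hNo : Odd (Nat.card N)) :
    N ≤ center H := by
  have hgen : Km A ⊔ T = ⊤ := h.lb.gen
  have hNT := SysW.sup_ne_top h hN hNo
  have hAN : Km A ≤ centralizer (N : Set H) := by
    refine Km_le inferInstance fun a ha => mem_centralizer_iff.2 fun n hn => ?_
    exact comm_odd hN hNo hn (mem_sup_left hn) (h.low _ le_sup_right hNT ha)
  have hP : ∀ P : Subgroup H, IsMinPar T P → P ≤ N ⊔ T → False := by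
    intro P hP hPN
    have h4 : P ⊓ N ⊔ T = P := by
      apply le_antisymm (sup_le inf_le_left hP.le)
      intro r hr
      have h1 : r ∈ N ⊔ T := hPN hr
      rw [mem_sup_of_normal_left] at h1
      obtain ⟨n, hn, s, hs, rfl⟩ := h1
      refine mul_mem_sup ⟨?_, hn⟩ hs
      have := P.mul_mem hr (P.inv_mem (hP.le hs))
      rwa [mul_inv_cancel_right] at this
    have h5 : (P ⊓ N).Normal := by
      rw [← normalizer_eq_top_iff, eq_top_iff, ← hgen]
      refine sup_le ?_ ?_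
      · intro k hk
        have h1 : k ∈ centralizer ((P ⊓ N : Subgroup H) : Set H) := by
          rw [mem_centralizer_iff]
          intro z hz
          exact mem_centralizer_iff.1 (hAN hk) z hz.2
        exact centralizer_le_normalizer _ h1
      · intro t ht
        rw [mem_normalizer_iff]
        intro z
        constructor
        · rintro ⟨hz1, hz2⟩
          exact ⟨P.mul_mem (P.mul_mem (hP.le ht) hz1) (P.inv_mem (hP.le ht)), hN.conj_mem z hz2 t⟩
        · rintro ⟨hz1, hz2⟩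
          have h7 : t⁻¹ * (t * z * t⁻¹) * t⁻¹⁻¹ = z := by group
          refine ⟨?_, ?_⟩
          · rw [← h7]
            exact P.mul_mem (P.mul_mem (P.inv_mem (hP.le ht)) hz1) (P.inv_mem (P.inv_mem (hP.le ht)))
          · rw [← h7]
            exact hN.conj_mem _ hz2 t⁻¹
    obtain ⟨m, hm, hPm⟩ := h.fixP P hP
    have h6 : P ⊓ N = ⊥ := h.bot_of_fix h5 hm fun n hn => hPm n hn.1
    rw [h6, bot_sup_eq] at h4
    exact hP.ne h4
  have hNT' : N ⊔ T ≤ normalizer (T : Set H) :=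
    le_of_forall le_sup_right inf_le_right fun P hP1 hP2 => (hP P hP1 hP2).elim
  intro n hn
  have h1 : (⊤ : Subgroup H) ≤ centralizer ({n} : Set H) := by
    rw [← hgen]
    refine sup_le ?_ ?_
    · intro k hk
      rw [mem_centralizer_singleton_iff]
      exact ((mem_centralizer_iff.1 (hAN hk)) n hn).symm
    · intro t ht
      rw [mem_centralizer_singleton_iff]
      -- `[n, t] ∈ N ∩ T = 1`
      have h2 : n * t * n⁻¹ ∈ T := (mem_normalizer_iff.1 (hNT' (mem_sup_left hn)) t).1 ht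
      have h3 : n * t * n⁻¹ * t⁻¹ ∈ N := by
        have h4 : t * n⁻¹ * t⁻¹ ∈ N := hN.conj_mem _ (inv_mem hn) t
        have h5 : n * t * n⁻¹ * t⁻¹ = n * (t * n⁻¹ * t⁻¹) := by group
        rw [h5]
        exact mul_mem hn h4
      have h4 : n * t * n⁻¹ * t⁻¹ = 1 := eq_one_of_odd hNo h.two h3 (mul_mem h2 (inv_mem ht))
      have h5 : n * t = (n * t * n⁻¹ * t⁻¹) * (t * n) := by group
      rw [h5, h4, one_mul]
  rw [mem_center_iff]
  intro g
  exact mem_centralizer_singleton_iff.1 (h1 (mem_top g))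

omit [Finite H] [Finite M] in
/-- `1 ≠ z ∈ Z(H)` fixes no `m ≠ 1` -/
theorem SysW.ne_of_center (h : SysW T A x y) {z : H} (hz : z ∈ center H) (h1 : z ≠ 1) {m : M} (hm : m ≠ 1) :
    z • m ≠ m := by
  intro h2
  have h3 : (zpowers z).Normal := by
    refine ⟨fun a ha g => ?_⟩
    have h4 : a ∈ center H := (zpowers_le.2 hz) ha
    rwa [mem_center_iff.1 h4 g, mul_assoc, mul_inv_cancel, mul_one]
  have h4 : zpowers z = ⊥ := by
    refine h.bot_of_fix h3 hm ?_
    have h5 : zpowers z ≤ MulAction.stabilizer H m := zpowers_le.2 (MulAction.mem_stabilizer_iff.2 h2)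
    exact fun n hn => MulAction.mem_stabilizer_iff.1 (h5 hn)
  exact h1 (zpowers_eq_bot.1 h4)

omit [Finite M] in
/-- **`O(H) = 1` if the center has odd elements only trivially.** -/
theorem SysW.odd_of (h : SysW T A x y) (hz : ∀ z ∈ center H, Odd (orderOf z) → z = 1) {N : Subgroup H}
    (hN : N.Normal) (hNo : Odd (Nat.card N)) : N = ⊥ := by
  rw [eq_bot_iff]
  intro n hn
  refine mem_bot.2 (hz n (SysW.le_center h hN hNo hn) (hNo.of_dvd_nat ?_))
  have := orderOf_dvd_natCard (⟨n, hn⟩ : N)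
  rwa [orderOf_mk] at this

/-! ### THEOREM KL -/

omit [Finite M] in
/-- **the middle of THEOREM KL is helper566's output** -/
theorem sysE_of_sys {V : Subgroup M} (h : KL.Def.Sys T A V x y) : SysE T A x y where
  sq := h.sq
  faith := h.faith
  irr := h.irr
  two := h.two
  syl := h.syl
  AT := h.AT
  el := h.el
  A1 := h.A1
  four := h.four
  exact := h.exact
  atom := h.atom
  low := h.low
  nmax := h.nmax
  KH := h.KH
  x1 := h.x1
  y1 := h.y1
  xy := h.xy
  tx := fun _ ht => h.nx _ (le_normalizer ht)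
  ty := fun _ ht => h.ny _ (le_normalizer ht)
  fixP := by
    intro P hP
    by_cases h1 : ∃ p ∈ P, p • x ≠ x
    · exact ⟨y, h.y1, (h.uni P hP h1).2⟩
    · push Not at h1
      exact ⟨x, h.x1, h1⟩
  mov := by
    obtain ⟨P, hP, hx⟩ := Two.exists_mover h
    exact ⟨P, hP, hx, (h.uni P hP hx).2⟩
  fixN := ⟨x, h.x1, h.nx⟩

omit [Finite M] in
/-- **`O(H) = 1` for the middle of THEOREM KL** -/
theorem odd_of_sys {V : Subgroup M} (h : KL.Def.Sys T A V x y) {N : Subgroup H} (hN : N.Normal)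
    (hNo : Odd (Nat.card N)) : N = ⊥ :=
  (sysE_of_sys h).odd hN hNo

/-! ### THEOREM KLF -/

omit [Finite M] in
/-- `T`-minimal subgroups and `N(T)` generate: somebody moves `m` -/
theorem exists_mover (irr : ∀ W : Subgroup M, (∀ h : H, ∀ w ∈ W, h • w ∈ W) → W = ⊥ ∨ W = ⊤)
    (sq : ∀ m : M, m * m = 1) {m m' : M} (h1 : m ≠ 1) (h1' : m' ≠ 1) (hne : m ≠ m') :
    (∃ P : Subgroup H, IsMinPar T P ∧ ∃ p ∈ P, p • m ≠ m) ∨ ∃ g ∈ normalizer (T : Set H), g • m ≠ m := by
  by_contra hcon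
  push Not at hcon
  obtain ⟨hc1, hc2⟩ := hcon
  have h2 : (⊤ : Subgroup H) ≤ MulAction.stabilizer H m := by
    refine le_of_forall (S := T) le_top ?_ ?_
    · intro g hg
      exact MulAction.mem_stabilizer_iff.2 (hc2 g hg.2)
    · intro P hP _ p hp
      exact MulAction.mem_stabilizer_iff.2 (hc1 P hP p hp)
  have h3 : ∀ k : H, ∀ w ∈ zpowers m, k • w ∈ zpowers m := by
    rintro k w ⟨n, rfl⟩
    refine ⟨n, ?_⟩
    change m ^ n = k • (m ^ n)
    rw [smul_zpow', MulAction.mem_stabilizer_iff.1 (h2 (mem_top k))]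
  rcases irr _ h3 with h4 | h4
  · exact h1 (zpowers_eq_bot.1 h4)
  · have h5 : m' ∈ zpowers m := h4 ▸ mem_top m'
    obtain ⟨n, hn⟩ := h5
    have hn' : m ^ n = m' := hn
    rcases Int.even_or_odd' n with ⟨k, hk | hk⟩
    · rw [hk, zpow_mul, show m ^ (2 : ℤ) = 1 from by rw [zpow_two, sq], one_zpow] at hn'
      exact h1' hn'.symm
    · rw [hk, zpow_add, zpow_mul, show m ^ (2 : ℤ) = 1 from by rw [zpow_two, sq], one_zpow, one_mul,
        zpow_one] at hn'
      exact hne hn'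

omit [Finite M] in
/-- **the output of THEOREM KLF is helper566's output** -/
theorem sysE_of_out (h : KLF.Def.Out T A x y) : SysE T A x y ∨ SysE T A y x := by
  have hA1 : A ≠ ⊥ := by
    rintro rfl
    have := h.four
    rw [card_bot] at this
    omega
  have hfP : ∀ P : Subgroup H, IsMinPar T P → ∃ m : M, m ≠ 1 ∧ ∀ p ∈ P, p • m = m := by
    intro P hP
    by_cases h1 : ∃ p ∈ P, p • x ≠ x
    · exact ⟨y, h.y1, h.mP P hP h1⟩
    · push Not at h1
      exact ⟨x, h.x1, h1⟩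
  have hfN : ∃ m : M, m ≠ 1 ∧ ∀ g ∈ normalizer (T : Set H), g • m = m := by
    by_cases h1 : ∃ g ∈ normalizer (T : Set H), g • x ≠ x
    · exact ⟨y, h.y1, h.mN h1⟩
    · push Not at h1
      exact ⟨x, h.x1, h1⟩
  by_cases hx : ∃ P : Subgroup H, IsMinPar T P ∧ ∃ p ∈ P, p • x ≠ x
  · left
    obtain ⟨P, hP, hPx⟩ := hx
    exact ⟨⟨h.sq, h.faith, h.irr, h.two, h.syl, h.AT, h.el, hA1, h.four, h.exact, h.atom, h.low, h.nmax, h.KX, h.x1,
      h.y1, h.xy, h.fx, h.fy, hfP, ⟨P, hP, hPx, h.mP P hP hPx⟩⟩, hfN⟩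
  · right
    have hNx : ∃ g ∈ normalizer (T : Set H), g • x ≠ x :=
      (exists_mover (T := T) h.irr h.sq h.x1 h.y1 h.xy).resolve_left hx
    have hNy := h.mN hNx
    have hy : ∃ P : Subgroup H, IsMinPar T P ∧ ∃ p ∈ P, p • y ≠ y := by
      refine (exists_mover (T := T) h.irr h.sq h.y1 h.x1 (Ne.symm h.xy)).resolve_right ?_
      rintro ⟨g, hg, h2⟩
      exact h2 (hNy g hg)
    obtain ⟨P, hP, hPy⟩ := hy
    push Not at hx
    exact ⟨⟨h.sq, h.faith, h.irr, h.two, h.syl, h.AT, h.el, hA1, h.four, h.exact, h.atom, h.low, h.nmax, h.KX, h.y1,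
      h.x1, Ne.symm h.xy, h.fy, h.fx, hfP, ⟨P, hP, hPy, hx P hP⟩⟩, hfN⟩

end

end Cfsg.Agent.Omega.ML.Ex.TwoOdd

end

section


/-!
# THEOREM KLF, (9): the output is impossible, from the end EXT (helper903)

* `Out.exists_mover` : the output of THEOREM KLF has an overgroup `R` of `T` (a `T`-minimal subgroup or `N_X(T)`)
  which fixes `y` and moves `x`;
* `Out.odd` : `O(X) = 1` (helper529, helper566);
* `Out.sysT` : the output is a situation `SysT` of EXT (helper585);
* **`Out.false`** : so the output is impossible.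
-/

set_option autoImplicit false

namespace Cfsg.Agent.Omega.KLF.Def

open Subgroup Cfsg Cfsg.Agent.ZN Cfsg.Agent.ClassTwoFusion.Quad Cfsg.Agent.Omega.ML.MinFrame
open Cfsg.Agent.MinSimple.MinParabolic (IsMinPar)

universe u v

namespace Out

section

variable {X : Type u} [Group X] [Finite X] {M : Type v} [Group M] [MulDistribMulAction X M] {T A : Subgroup X}
  {x y : M}

/-- some `T`-minimal subgroup or `N_X(T)` moves `x` and fixes `y` -/
theorem exists_mover (h : Out T A x y) : ∃ R : Subgroup X, T ≤ R ∧ (∀ r ∈ R, r • y = y) ∧ ∃ r ∈ R, r • x ≠ x := by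
  rcases ML.Ex.TwoOdd.exists_mover (T := T) h.irr h.sq h.x1 h.y1 h.xy with ⟨P, hP, hx⟩ | hN
  · exact ⟨P, hP.le, h.mP P hP hx, hx⟩
  · exact ⟨normalizer (T : Set X), le_normalizer, h.mN hN, hN⟩

/-- `O(X) = 1` -/
theorem odd (h : Out T A x y) {N : Subgroup X} (hN : N.Normal) (hNo : Odd (Nat.card N)) : N = ⊥ := by
  rcases ML.Ex.TwoOdd.sysE_of_out h with h1 | h1
  · exact h1.odd hN hNo
  · exact h1.odd hN hNo

/-- **the output of THEOREM KLF is a situation of EXT** -/
theorem sysT (h : Out T A x y) : ML.Ex.Two.SysT X M T A x y where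
  x1 := h.x1
  y1 := h.y1
  tx := h.fx
  ty := h.fy
  mv := h.exists_mover
  sq := h.sq
  faith := h.faith
  irr := h.irr
  two := h.two
  syl := h.syl
  AT := h.AT
  el := h.el
  four := h.four
  exact := h.exact
  atom := h.atom
  low := h.low
  nmax := h.nmax
  odd := fun _ hN hNo => h.odd hN hNo
  KH := h.KX

end

/-- **(9)** : the output of THEOREM KLF is impossible (EXT) -/
theorem false (hE : ML.Ex.Two.Ext.{u, v}) {X : Type u} [Group X] [Finite X] {M : Type v} [Group M] [Finite M]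
    [MulDistribMulAction X M] {T A : Subgroup X} {x y : M} (h : Out T A x y) : False :=
  hE X M T A x y h.sysT

end Out

end Cfsg.Agent.Omega.KLF.Def

end

section


/-!
# THEOREM KLF: the input is impossible (helper903)

`Pre.false` : THEOREM KLF = `Low.exists_out` (helper462) + EXT (helper585) through `Out.sysT`. No case distinction on
the size of the section and no transport of the movers is needed.
-/

set_option autoImplicit false

namespace Cfsg.Agent.Omega.KLF.Def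

open Subgroup Cfsg Cfsg.Agent.Omega.ML.Final

universe u v

/-- **THEOREM KLF** (#21950, #22692 (8) + (9)) -/
theorem Pre.false (ml : MLK.{u, v}) (hE : ML.Ex.Two.Ext.{u, v}) {X : Type u} [Group X] [Finite X] {M : Type v}
    [Group M] [Finite M] [MulDistribMulAction X M] {T A E : Subgroup X} {Y : Subgroup M} {x : M}
    (h : Pre T A E Y x) : False := by
  obtain ⟨R, H, _, _, N, _, _, _, π, U, q, A', y, hx, hy, -, -, -, -, hout⟩ := Low.exists_out ml h
  exact hout.false hE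

end Cfsg.Agent.Omega.KLF.Def

end

section


/-!
# THEOREM RED (#21158), part (3): `B` normalises the components (helper592)

* `CmpG T K E` : the group theory of one component (the fields of `Cmp` without `Mn` and `BE`);
* `CmpG.wr` : for `T ∩ E ≤ P < E`, `P` invariant under `N_T(E)`: `W = ⋂ (P C_K(E))^t` and `WT < X`;
* **`CmpG.le_normalizer`** : low, `T` in two maximal subgroups ⟹ `B ≤ N(E)`.
-/

set_option autoImplicit false

namespace Cfsg.Agent.Omega.ML.Ex.Red

open Subgroup Cfsg Cfsg.Agent.Omega.NOThree.NoOver Cfsg.Agent.Omega.ML.CD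
open Cfsg.Agent.ZN (o2)
open Cfsg.Agent.ClassTwoFusion.Quad Cfsg.Agent.Omega.ML.MinFrame
open Cfsg.Agent.MinSimple.VModule (o2_isPGroup o2_le le_o2 le_normalizer_o2)

universe u v

/-- The group theory of one component. -/
structure CmpG {X : Type u} [Group X] (T K E : Subgroup X) : Prop where
  two : IsPGroup 2 T
  syl : ¬ 2 ∣ T.index
  odd : ∀ N : Subgroup X, N.Normal → Odd (Nat.card N) → N = ⊥
  normK : K.Normal
  cenK : centralizer (K : Set X) = ⊥
  gen : K ⊔ T = ⊤
  EK : E ≤ K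
  simple : IsSimpleGroup E
  nc : ¬ E ≤ centralizer (E : Set X)
  tcl : K ≤ tcl T E
  sup : E ⊔ (K ⊓ centralizer (E : Set X)) = K
  inf : E ⊓ centralizer (E : Set X) = ⊥
  conj : ∀ t ∈ T, t ∉ normalizer (E : Set X) → E.map (MulAut.conj t).toMonoidHom ≤ centralizer (E : Set X)

namespace CmpG

variable {X : Type u} [Group X] {T K E : Subgroup X}

/-- `C_K(E)` -/
abbrev F (K E : Subgroup X) : Subgroup X := K ⊓ centralizer (E : Set X)

theorem FK : F K E ≤ K := inf_le_left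

theorem comm {e f : X} (he : e ∈ E) (hf : f ∈ F K E) : e * f = f * e := mem_centralizer_iff.1 hf.2 e he

/-- `E ≤ N(F)` etc. -/
theorem mem_EF (h : CmpG T K E) {k : X} (hk : k ∈ K) : ∃ e ∈ E, ∃ f ∈ F K E, k = e * f := by
  rw [← h.sup] at hk
  refine sup_eq_mul ?_ hk
  intro f hf
  exact centralizer_le_normalizer _ hf.2

/-- the decomposition is unique -/
theorem unique (h : CmpG T K E) {e e' f f' : X} (he : e ∈ E) (he' : e' ∈ E) (hf : f ∈ F K E) (hf' : f' ∈ F K E)
    (heq : e * f = e' * f') : e = e' ∧ f = f' := by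
  have h1 : e'⁻¹ * e = f' * f⁻¹ := by
    have h2 : e'⁻¹ * (e * f) * f⁻¹ = e'⁻¹ * (e' * f') * f⁻¹ := by rw [heq]
    calc e'⁻¹ * e = e'⁻¹ * (e * f) * f⁻¹ := by group
      _ = e'⁻¹ * (e' * f') * f⁻¹ := h2
      _ = f' * f⁻¹ := by group
  have h2 : e'⁻¹ * e ∈ E ⊓ centralizer (E : Set X) :=
    ⟨E.mul_mem (E.inv_mem he') he, h1 ▸ Subgroup.mul_mem _ hf'.2 (Subgroup.inv_mem _ hf.2)⟩
  rw [h.inf, mem_bot] at h2
  have h3 : e = e' := (inv_mul_eq_one.1 h2).symm
  refine ⟨h3, ?_⟩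
  rw [h3] at heq
  exact mul_left_cancel heq

/-- `P C_K(E)` for `P ≤ E` -/
def PF (K E P : Subgroup X) : Subgroup X := P ⊔ F K E

theorem mem_PF {P : Subgroup X} (hP : P ≤ E) {k : X} : k ∈ PF K E P ↔ ∃ e ∈ P, ∃ f ∈ F K E, k = e * f := by
  constructor
  · intro hk
    refine sup_eq_mul ?_ hk
    intro f hf
    exact centralizer_le_normalizer _ (centralizer_le (SetLike.coe_subset_coe.2 hP) hf.2)
  · rintro ⟨e, he, f, hf, rfl⟩
    exact Subgroup.mul_mem _ (mem_sup_left he) (mem_sup_right hf)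

theorem PF_le (h : CmpG T K E) {P : Subgroup X} (hP : P ≤ E) : PF K E P ≤ K :=
  sup_le (hP.trans h.EK) FK

/-- `⋂ (P C_K(E))^t` -/
def W (T K E P : Subgroup X) : Subgroup X := ⨅ t : T, (PF K E P).map (MulAut.conj (t : X)).toMonoidHom

theorem W_le (P : Subgroup X) : W T K E P ≤ PF K E P := by
  refine (iInf_le _ (1 : T)).trans ?_
  rintro _ ⟨x, hx, rfl⟩
  simpa using hx

theorem mem_W {P : Subgroup X} {x : X} : x ∈ W T K E P ↔ ∀ t ∈ T, t⁻¹ * x * t ∈ PF K E P := by
  constructor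
  · intro hx t ht
    obtain ⟨y, hy, hyx⟩ := (mem_iInf.1 hx) ⟨t, ht⟩
    have h1 : t * y * t⁻¹ = x := hyx
    have h2 : t⁻¹ * x * t = y := by rw [← h1]; group
    rw [h2]
    exact hy
  · intro hx
    refine mem_iInf.2 fun t => ⟨(t : X)⁻¹ * x * t, hx t t.2, ?_⟩
    change (t : X) * ((t : X)⁻¹ * x * t) * (t : X)⁻¹ = x
    group

theorem T_le_normalizer_W (P : Subgroup X) : T ≤ normalizer (W T K E P : Set X) :=
  le_normalizer_of fun g hg x hx => mem_W.2 fun t ht => by
    have h1 := mem_W.1 hx (g⁻¹ * t) (T.mul_mem (T.inv_mem hg) ht)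
    have e : (g⁻¹ * t)⁻¹ * x * (g⁻¹ * t) = t⁻¹ * (g * x * g⁻¹) * t := by group
    rwa [e] at h1

/-- the `T`-conjugates of `F` -/
theorem eq_bot_of (h : CmpG T K E) {x : X} (hx : ∀ t ∈ T, t⁻¹ * x * t ∈ centralizer (E : Set X)) : x = 1 := by
  have h1 : x ∈ centralizer (K : Set X) := by
    have h2 : K ≤ centralizer ({x} : Set X) := by
      refine h.tcl.trans (tcl_le fun t ht => ?_)
      rintro _ ⟨e, he, rfl⟩
      rw [mem_centralizer_singleton_iff]
      have h3 := mem_centralizer_iff.1 (hx t ht) e he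
      change t * e * t⁻¹ * x = x * (t * e * t⁻¹)
      calc t * e * t⁻¹ * x = t * (e * (t⁻¹ * x * t)) * t⁻¹ := by group
        _ = t * ((t⁻¹ * x * t) * e) * t⁻¹ := by rw [h3]
        _ = x * (t * e * t⁻¹) := by group
    rw [mem_centralizer_iff]
    intro k hk
    exact mem_centralizer_singleton_iff.1 (h2 hk)
  rwa [h.cenK, mem_bot] at h1

variable [Finite X]

/-- a 2-subgroup of `K` which contains `T ∩ E` and is normalised by it: its projection is `T ∩ E` -/
theorem le_PF (h : CmpG T K E) : T ⊓ K ≤ PF K E (T ⊓ E) := by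
  have : Fact (Nat.Prime 2) := ⟨Nat.prime_two⟩
  -- `PP = E ∩ (T∩K)F`
  have hFn : T ⊓ K ≤ normalizer ((F K E : Subgroup X) : Set X) := by
    refine inf_le_right.trans ?_
    refine le_normalizer_of fun g hg x hx => ?_
    obtain ⟨e, he, f, hf, rfl⟩ := h.mem_EF hg
    have h1 : f * x * f⁻¹ ∈ F K E := Subgroup.mul_mem _ (Subgroup.mul_mem _ hf hx) (Subgroup.inv_mem _ hf)
    have h2 := comm he h1
    have h3 : e * f * x * (e * f)⁻¹ = f * x * f⁻¹ := by
      calc e * f * x * (e * f)⁻¹ = e * (f * x * f⁻¹) * e⁻¹ := by group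
        _ = (f * x * f⁻¹) * e * e⁻¹ := by rw [h2]
        _ = f * x * f⁻¹ := by group
    rw [h3]
    exact h1
  -- the projection
  let P : Subgroup X :=
    { carrier := {e | e ∈ E ∧ ∃ f ∈ F K E, e * f ∈ T}
      one_mem' := ⟨E.one_mem, 1, one_mem _, by rw [one_mul]; exact T.one_mem⟩
      mul_mem' := by
        rintro a b ⟨ha, f, hf, h1⟩ ⟨hb, g, hg, h2⟩
        refine ⟨E.mul_mem ha hb, f * g, Subgroup.mul_mem _ hf hg, ?_⟩
        have h3 := comm hb hf
        have h4 : a * b * (f * g) = (a * f) * (b * g) := by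
          calc a * b * (f * g) = a * (b * f) * g := by group
            _ = a * (f * b) * g := by rw [h3]
            _ = _ := by group
        rw [h4]
        exact T.mul_mem h1 h2
      inv_mem' := by
        rintro a ⟨ha, f, hf, h1⟩
        refine ⟨E.inv_mem ha, f⁻¹, Subgroup.inv_mem _ hf, ?_⟩
        have h3 := comm ha hf
        have h4 : a⁻¹ * f⁻¹ = (a * f)⁻¹ := by rw [h3, mul_inv_rev]
        rw [h4]
        exact T.inv_mem h1 }
  have hP2 : IsPGroup 2 P := by
    rintro ⟨e, he, f, hf, h1⟩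
    obtain ⟨k, hk⟩ := h.two ⟨_, h1⟩
    refine ⟨k, Subtype.ext ?_⟩
    have h2 : (e * f) ^ 2 ^ k = 1 := congrArg Subtype.val hk
    have h3 : Commute e f := comm he hf
    rw [h3.mul_pow] at h2
    have h4 : e ^ 2 ^ k ∈ E ⊓ centralizer (E : Set X) :=
      ⟨E.pow_mem he _, by rw [mul_eq_one_iff_eq_inv.1 h2]; exact Subgroup.inv_mem _ (Subgroup.pow_mem _ hf.2 _)⟩
    rw [h.inf] at h4
    exact mem_bot.1 h4
  have hPE : P ≤ E := fun x hx => hx.1
  have hSP : T ⊓ E ≤ P := fun x hx => ⟨hx.2, 1, one_mem _, by rw [mul_one]; exact hx.1⟩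
  -- `T ∩ E` is a Sylow subgroup of `E`
  have hEs : E.IsSubnormal := by
    have h1 : (E.subgroupOf K).Normal := (normal_subgroupOf_iff_le_normalizer h.EK).2 (by
      rw [← h.sup]
      exact sup_le le_normalizer fun f hf => centralizer_le_normalizer _ hf.2)
    exact IsSubnormal.trans h.EK h1.isSubnormal h.normK.isSubnormal
  have h1 := not_dvd_relIndex_of_subnormal h.two h.syl hEs
  have hPS : P = T ⊓ E := by
    have h2 : IsPGroup 2 ((T ⊓ E).subgroupOf E) :=
      (h.two.to_le inf_le_left).comap_of_injective E.subtype E.subtype_injective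
    have h3 : ¬ 2 ∣ ((T ⊓ E).subgroupOf E).index := by
      rw [← inf_relIndex_right] at h1
      exact h1
    have h4 := (h2.toSylow h3).is_maximal' (Q := P.subgroupOf E)
      (hP2.comap_of_injective E.subtype E.subtype_injective) (by
        intro x hx
        exact hSP hx)
    apply le_antisymm _ hSP
    intro x hx
    have h5 : (⟨x, hx.1⟩ : E) ∈ P.subgroupOf E := hx
    rw [h4] at h5
    exact h5
  intro x hx
  obtain ⟨e, he, f, hf, rfl⟩ := h.mem_EF hx.2
  rw [mem_PF inf_le_right]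
  refine ⟨e, ?_, f, hf, rfl⟩
  rw [← hPS]
  exact ⟨he, f, hf, hx.1⟩

/-- `WT ∩ K = W`, for `T ∩ E ≤ P` -/
theorem inf_W_sup (h : CmpG T K E) {P : Subgroup X} (hP : P ≤ E) (hTP : T ⊓ E ≤ P) :
    (W T K E P ⊔ T) ⊓ K ≤ W T K E P := by
  rintro x ⟨hx, hxK⟩
  obtain ⟨w, hw, t, ht, rfl⟩ := sup_eq_mul (T_le_normalizer_W P) hx
  have hwK : w ∈ K := h.PF_le hP (W_le P hw)
  have htK : t ∈ K := by
    have h1 := K.mul_mem (K.inv_mem hwK) hxK
    rwa [inv_mul_cancel_left] at h1
  refine Subgroup.mul_mem _ hw (mem_W.2 fun s hs => ?_)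
  have h1 : s⁻¹ * t * s ∈ T ⊓ K := ⟨T.mul_mem (T.mul_mem (T.inv_mem hs) ht) hs, by
    have := h.normK.conj_mem t htK s⁻¹
    rwa [inv_inv] at this⟩
  exact sup_le_sup_right hTP _ (h.le_PF h1)

/-- `WT < X` for `P < E` -/
theorem sup_ne_top (h : CmpG T K E) {P : Subgroup X} (hP : P ≤ E) (hne : P ≠ E) (hTP : T ⊓ E ≤ P) :
    W T K E P ⊔ T ≠ ⊤ := by
  intro h1
  apply hne
  apply le_antisymm hP
  intro e he
  have h2 : e ∈ W T K E P := h.inf_W_sup hP hTP ⟨h1 ▸ mem_top e, h.EK he⟩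
  obtain ⟨p, hp, f, hf, h3⟩ := (mem_PF hP).1 (W_le P h2)
  have h4 := (h.unique he (hP hp) (one_mem _) hf (by rw [mul_one]; exact h3)).1
  rwa [h4]

omit [Finite X] in
/-- `P ≤ W` if `P` is invariant under `N_T(E)` -/
theorem le_W (h : CmpG T K E) {P : Subgroup X} (hP : P ≤ E)
    (hn : ∀ t ∈ T, t ∈ normalizer (E : Set X) → ∀ p ∈ P, t * p * t⁻¹ ∈ P) : P ≤ W T K E P := by
  intro x hx
  refine mem_W.2 fun t ht => ?_
  by_cases htE : t⁻¹ ∈ normalizer (E : Set X)
  · have h1 := hn _ (T.inv_mem ht) htE x hx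
    rw [inv_inv] at h1
    exact mem_sup_left h1
  · have h1 : t⁻¹ * x * t ∈ centralizer (E : Set X) := by
      have h2 := h.conj _ (T.inv_mem ht) htE ⟨x, hP hx, rfl⟩
      have e : t⁻¹ * x * t⁻¹⁻¹ = t⁻¹ * x * t := by rw [inv_inv]
      rw [← e]
      exact h2
    refine mem_sup_right ⟨?_, h1⟩
    have h2 := h.normK.conj_mem x (h.EK (hP hx)) t⁻¹
    rwa [inv_inv] at h2

/-- `E` is not a 2-group etc.: `K` is not of odd order -/
theorem inf_ne_bot (h : CmpG T K E) : T ⊓ E ≠ ⊥ := by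
  have : Fact (Nat.Prime 2) := ⟨Nat.prime_two⟩
  intro h1
  -- `T ∩ K = 1`
  have h2 : T ⊓ K = ⊥ := by
    rw [eq_bot_iff]
    intro x hx
    rw [mem_bot]
    refine h.eq_bot_of fun t ht => ?_
    have h3 : t⁻¹ * x * t ∈ T ⊓ K := ⟨T.mul_mem (T.mul_mem (T.inv_mem ht) hx.1) ht, by
      have := h.normK.conj_mem x hx.2 t⁻¹
      rwa [inv_inv] at this⟩
    obtain ⟨e, he, f, hf, h4⟩ := (mem_PF inf_le_right).1 (h.le_PF h3)
    rw [h1, mem_bot] at he
    rw [h4, he, one_mul]
    exact hf.2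
  have h3 := not_dvd_relIndex_of_subnormal h.two h.syl h.normK.isSubnormal
  have h4 := h.odd K h.normK (odd_of_relIndex h3 h2)
  apply h.nc
  intro x hx
  have h5 := h.EK hx
  rw [h4, mem_bot] at h5
  rw [h5]
  exact one_mem _

/-- **(3a)** `T ∩ E ≤ P < E`, `P` invariant under `N_T(E)`, `b ∈ O₂(WT)` does not normalise `E`: `P = T ∩ E` -/
theorem eq_of_not_mem (h : CmpG T K E) {P : Subgroup X} (hP : P ≤ E) (hTP : T ⊓ E ≤ P)
    (hn : ∀ t ∈ T, t ∈ normalizer (E : Set X) → ∀ p ∈ P, t * p * t⁻¹ ∈ P) {b : X} (hb : b ∈ o2 (W T K E P ⊔ T))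
    (hbT : b ∈ T) (hbE : b ∉ normalizer (E : Set X)) : P = T ⊓ E := by
  have : Fact (Nat.Prime 2) := ⟨Nat.prime_two⟩
  have hcen := h.conj b hbT hbE
  -- `P` is a 2-group
  have hP2 : IsPGroup 2 P := by
    rintro ⟨x, hx⟩
    have hxR : x ∈ W T K E P ⊔ T := mem_sup_left (h.le_W hP hn hx)
    have h1 : x⁻¹ * (b * x * b⁻¹) ∈ o2 (W T K E P ⊔ T) := by
      have h2 := conj_mem_of_le (le_normalizer_o2 (W T K E P ⊔ T)) (Subgroup.inv_mem _ hxR) hb
      have h3 := Subgroup.mul_mem _ h2 (Subgroup.inv_mem _ hb)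
      have e : x⁻¹ * b * x⁻¹⁻¹ * b⁻¹ = x⁻¹ * (b * x * b⁻¹) := by group
      rwa [e] at h3
    obtain ⟨k, hk⟩ := o2_isPGroup _ ⟨_, h1⟩
    have hk1 : (x⁻¹ * (b * x * b⁻¹)) ^ 2 ^ k = 1 := congrArg Subtype.val hk
    have hbx : b * x * b⁻¹ ∈ centralizer (E : Set X) := hcen ⟨x, hP hx, rfl⟩
    have hc : Commute x⁻¹ (b * x * b⁻¹) := Commute.inv_left (mem_centralizer_iff.1 hbx x (hP hx))
    rw [hc.mul_pow, inv_pow, inv_mul_eq_one] at hk1
    have h4 : x ^ 2 ^ k ∈ E ⊓ centralizer (E : Set X) := ⟨E.pow_mem (hP hx) _, hk1 ▸ Subgroup.pow_mem _ hbx _⟩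
    rw [h.inf, mem_bot] at h4
    exact ⟨k, Subtype.ext h4⟩
  -- `T ∩ E` is a Sylow subgroup of `E`
  have hEs : E.IsSubnormal := by
    have h1 : (E.subgroupOf K).Normal := (normal_subgroupOf_iff_le_normalizer h.EK).2 (by
      rw [← h.sup]
      exact sup_le le_normalizer fun f hf => centralizer_le_normalizer _ hf.2)
    exact IsSubnormal.trans h.EK h1.isSubnormal h.normK.isSubnormal
  have h1 := not_dvd_relIndex_of_subnormal h.two h.syl hEs
  have h2 : IsPGroup 2 ((T ⊓ E).subgroupOf E) :=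
    (h.two.to_le inf_le_left).comap_of_injective E.subtype E.subtype_injective
  have h3 : ¬ 2 ∣ ((T ⊓ E).subgroupOf E).index := by
    rw [← inf_relIndex_right] at h1
    exact h1
  have h4 := (h2.toSylow h3).is_maximal' (Q := P.subgroupOf E)
    (hP2.comap_of_injective E.subtype E.subtype_injective) (by
      intro x hx
      exact hTP hx)
  apply le_antisymm _ hTP
  intro x hx
  have h5 : (⟨x, hP hx⟩ : E) ∈ P.subgroupOf E := hx
  rw [h4] at h5
  exact h5

/-- **(3b)** if `T ∩ E` is the only `N_T(E)`-invariant subgroup `P`, `T ∩ E ≤ P < E`, then `T` is maximal in `X` -/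
theorem eq_of_only (h : CmpG T K E) (hP : ∀ P : Subgroup X, P ≤ E → P ≠ E → T ⊓ E ≤ P →
    (∀ t ∈ T, t ∈ normalizer (E : Set X) → ∀ p ∈ P, t * p * t⁻¹ ∈ P) → P = T ⊓ E) {R : Subgroup X} (hTR : T ≤ R)
    (hR : R ≠ ⊤) : R ≤ T := by
  have : Fact (Nat.Prime 2) := ⟨Nat.prime_two⟩
  -- the projection of `R ∩ K`
  let P : Subgroup X :=
    { carrier := {e | e ∈ E ∧ ∃ f ∈ F K E, e * f ∈ R}
      one_mem' := ⟨E.one_mem, 1, one_mem _, by rw [one_mul]; exact R.one_mem⟩
      mul_mem' := by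
        rintro a b ⟨ha, f, hf, h1⟩ ⟨hb, g, hg, h2⟩
        refine ⟨E.mul_mem ha hb, f * g, Subgroup.mul_mem _ hf hg, ?_⟩
        have h3 := comm hb hf
        have h4 : a * b * (f * g) = (a * f) * (b * g) := by
          calc a * b * (f * g) = a * (b * f) * g := by group
            _ = a * (f * b) * g := by rw [h3]
            _ = _ := by group
        rw [h4]
        exact R.mul_mem h1 h2
      inv_mem' := by
        rintro a ⟨ha, f, hf, h1⟩
        refine ⟨E.inv_mem ha, f⁻¹, Subgroup.inv_mem _ hf, ?_⟩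
        have h3 := comm ha hf
        have h4 : a⁻¹ * f⁻¹ = (a * f)⁻¹ := by rw [h3, mul_inv_rev]
        rw [h4]
        exact R.inv_mem h1 }
  have hPE : P ≤ E := fun x hx => hx.1
  have hSP : T ⊓ E ≤ P := fun x hx => ⟨hx.2, 1, one_mem _, by rw [mul_one]; exact hTR hx.1⟩
  have hcT : ∀ t ∈ T, t ∈ normalizer (E : Set X) → ∀ f ∈ F K E, t * f * t⁻¹ ∈ F K E := by
    intro t ht htE f hf
    refine ⟨h.normK.conj_mem f hf.1 t, mem_centralizer_iff.2 ?_⟩
    intro e he
    have h1 : t⁻¹ * e * t ∈ E := by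
      have := (mem_normalizer_iff.1 (inv_mem htE) e).1 he
      rwa [inv_inv] at this
    have h2 := mem_centralizer_iff.1 hf.2 _ h1
    calc e * (t * f * t⁻¹) = t * ((t⁻¹ * e * t) * f) * t⁻¹ := by group
      _ = t * (f * (t⁻¹ * e * t)) * t⁻¹ := by rw [h2]
      _ = t * f * t⁻¹ * e := by group
  have hPn : ∀ t ∈ T, t ∈ normalizer (E : Set X) → ∀ p ∈ P, t * p * t⁻¹ ∈ P := by
    rintro t ht htE p ⟨hp, f, hf, h1⟩
    refine ⟨(mem_normalizer_iff.1 htE p).1 hp, t * f * t⁻¹, hcT t ht htE f hf, ?_⟩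
    have h2 := R.mul_mem (R.mul_mem (hTR ht) h1) (R.inv_mem (hTR ht))
    have e : t * (p * f) * t⁻¹ = t * p * t⁻¹ * (t * f * t⁻¹) := by group
    rwa [e] at h2
  by_cases hne : P = E
  · -- `E ≤ R`
    exfalso
    apply hR
    have hER : E ≤ R := by
      -- `N = ⟨S₁^E⟩`
      have hsim := h.simple
      have hNn : ((R ⊓ E).subgroupOf E).Normal := by
        refine ⟨fun n hn g => ?_⟩
        have hg : ∀ g ∈ E, ∃ f ∈ F K E, g * f ∈ R := fun g hg => by
          have hg' : g ∈ P := by rw [hne]; exact hg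
          exact hg'.2
        obtain ⟨f, hf, h1⟩ := hg g g.2
        refine ⟨?_, (g * n * g⁻¹ : E).2⟩
        have h2 := R.mul_mem (R.mul_mem h1 hn.1) (R.inv_mem h1)
        have h3 := comm n.2 hf
        have e : (g : X) * f * n * ((g : X) * f)⁻¹ = g * n * (g : X)⁻¹ := by
          calc (g : X) * f * n * ((g : X) * f)⁻¹ = g * (f * n) * f⁻¹ * (g : X)⁻¹ := by group
            _ = g * (n * f) * f⁻¹ * (g : X)⁻¹ := by rw [h3]
            _ = g * n * (g : X)⁻¹ := by group
        change (g : X) * n * (g : X)⁻¹ ∈ R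
        rw [← e]
        exact h2
      rcases hNn.eq_bot_or_eq_top with h1 | h1
      · exfalso
        apply h.inf_ne_bot
        rw [eq_bot_iff]
        intro x hx
        have h2 : (⟨x, hx.2⟩ : E) ∈ (R ⊓ E).subgroupOf E := ⟨hTR hx.1, hx.2⟩
        rw [h1, mem_bot] at h2
        exact mem_bot.2 (congrArg Subtype.val h2)
      · intro x hx
        have h2 : (⟨x, hx⟩ : E) ∈ (R ⊓ E).subgroupOf E := h1 ▸ mem_top _
        exact h2.1
    rw [← top_le_iff, ← h.gen]
    refine sup_le (h.tcl.trans (tcl_le fun t ht => ?_)) hTR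
    rintro _ ⟨x, hx, rfl⟩
    exact R.mul_mem (R.mul_mem (hTR ht) (hER hx)) (R.inv_mem (hTR ht))
  · have hPS := hP P hPE hne hSP hPn
    -- `R ∩ K` is a 2-group
    have h2 : IsPGroup 2 (R ⊓ K : Subgroup X) := by
      rintro ⟨x, hx⟩
      -- a common power
      obtain ⟨n, hn⟩ := (IsPGroup.iff_card.1 (h.two.to_le (inf_le_left : T ⊓ E ≤ T)))
      refine ⟨n, Subtype.ext ?_⟩
      change x ^ 2 ^ n = 1
      refine h.eq_bot_of fun t ht => ?_
      have h1 : t⁻¹ * x * t ∈ R ⊓ K := ⟨R.mul_mem (R.mul_mem (R.inv_mem (hTR ht)) hx.1) (hTR ht), by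
        have := h.normK.conj_mem x hx.2 t⁻¹
        rwa [inv_inv] at this⟩
      obtain ⟨e, he, f, hf, h3⟩ := h.mem_EF h1.2
      have h4 : e ∈ P := ⟨he, f, hf, h3 ▸ h1.1⟩
      rw [hPS] at h4
      have h5 : e ^ 2 ^ n = 1 := by
        have h6 : (⟨e, h4⟩ : (T ⊓ E : Subgroup X)) ^ Nat.card (T ⊓ E : Subgroup X) = 1 := pow_card_eq_one'
        rw [hn] at h6
        exact congrArg Subtype.val h6
      have h6 : t⁻¹ * x ^ 2 ^ n * t = (t⁻¹ * x * t) ^ 2 ^ n := by
        have := conj_pow (a := t⁻¹) (b := x) (i := 2 ^ n)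
        rw [inv_inv] at this
        exact this.symm
      have h7 : Commute e f := comm he hf
      rw [h6, h3, h7.mul_pow, h5, one_mul]
      exact Subgroup.pow_mem _ hf.2 _
    -- `R = (R ∩ K) T`
    have h3 : R ≤ (R ⊓ K) ⊔ T := by
      intro x hx
      have h4 : x ∈ K ⊔ T := h.gen ▸ mem_top x
      have := h.normK
      obtain ⟨k, hk, t, ht, rfl⟩ := mem_sup_of_normal_left.1 h4
      refine Subgroup.mul_mem _ (mem_sup_left ⟨?_, hk⟩) (mem_sup_right ht)
      have h5 := R.mul_mem hx (R.inv_mem (hTR ht))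
      rwa [mul_inv_cancel_right] at h5
    have h4 : IsPGroup 2 ((R ⊓ K) ⊔ T : Subgroup X) := by
      refine h2.to_sup_of_normal_left' h.two ?_
      intro t ht
      exact ((le_normalizer_of fun g hg x hx => ⟨R.mul_mem (R.mul_mem (hTR hg) hx.1) (R.inv_mem (hTR hg)),
        h.normK.conj_mem x hx.2 g⟩) : T ≤ normalizer ((R ⊓ K : Subgroup X) : Set X)) ht
    have h5 := (h.two.toSylow h.syl).is_maximal' (Q := (R ⊓ K) ⊔ T) h4 (fun x hx => mem_sup_right hx)
    exact h3.trans h5.le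

/-- **(3)** `B` normalises `E`. -/
theorem le_normalizer (h : CmpG T K E) {B : Subgroup X} (low : ∀ R : Subgroup X, T ≤ R → R ≠ ⊤ → B ≤ o2 R)
    (nmax : ¬ ∃ L : Subgroup X, L ≠ ⊤ ∧ ∀ R : Subgroup X, T ≤ R → R ≠ ⊤ → R ≤ L) : B ≤ normalizer (E : Set X) := by
  have : Fact (Nat.Prime 2) := ⟨Nat.prime_two⟩
  intro b hb
  by_contra hbE
  by_cases hT : T = ⊤
  · apply nmax
    refine ⟨⊥, ?_, fun R h1 h2 => absurd (top_le_iff.1 (hT ▸ h1)) h2⟩
    intro h1
    apply h.nc
    intro x _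
    have h2 : x ∈ (⊥ : Subgroup X) := h1 ▸ mem_top x
    rw [mem_bot.1 h2]
    exact one_mem _
  · have hbT : b ∈ T := o2_le T (low T le_rfl hT hb)
    refine nmax ⟨T, hT, fun R h1 h2 => h.eq_of_only (fun P hP hne hTP hn => ?_) h1 h2⟩
    exact h.eq_of_not_mem hP hTP hn (low _ le_sup_right (h.sup_ne_top hP hne hTP) hb) hbT hbE

end CmpG

end Cfsg.Agent.Omega.ML.Ex.Red

end

section


/-!
# The dichotomy (D) of the exact K-list (helper441 #21600, helper269): `|M : C_M(x)| < |A|` or EQ(x)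

* `quad_of_eq` : EQ(x), i.e. `C_M(x) = C_M(A)` for one `x ∈ A`, makes `A` quadratic (`A` abelian);
* `InX.quad` : an atom `A` is quadratic on `M`;
* `InX.eq_bot_of_normal` : `H` has no normal subgroup `≠ 1` of exponent 2;
* `InX.tie` : EQ(x), i.e. `C_M(x) = C_M(A)`, gives `TieX A (EE F) F x`, `F = C_M(A)`;
* **`InX.lt_or_tie`** : `|M : C_M(x)| < |A|` or `TieX A (EE F) F x`, for `x ∈ A#`;
* `NoTie A x` : there is no elementary abelian `E` with `A ≤ E ⊴ C_H(x)`, `N_H(E) ≠ H`, `x^g ∈ E → g ∈ N_H(E)`;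
* **`InX.index_lt`** : `NoTie A x → |M : C_M(x)| < |A|`;
* `InX.index_le_two` : `|A| = 4`, `NoTie A x` : `|M : C_M(x)| ≤ 2`;
* **`InX.false_of_four`** : `|A| = 4`, `A` an atom, `NoTie A x` for one `x ∈ A#` : impossible.
-/

set_option autoImplicit false

namespace Cfsg.Agent.Omega.ML.Ex

open Subgroup Cfsg Cfsg.Agent.ZN Cfsg.Agent.ClassTwoFusion.Quad Cfsg.Agent.Omega.ML.Ex.TIE
  Cfsg.Agent.Omega.ML.Ex.TieX

universe u v

variable {H : Type u} [Group H] {M : Type v} [Group M] [MulDistribMulAction H M] {K T A : Subgroup H}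

/-- EQ(x) makes an abelian `A` quadratic: `[M, x] ≤ C_M(x) = C_M(A)` and `M / C_M(x) ≅ [M, x]` over `A`. -/
theorem quad_of_eq (hM : ∀ m : M, m * m = 1) (hA : ∀ a ∈ A, ∀ b ∈ A, a * b = b * a) (hel : ∀ a ∈ A, a * a = 1)
    {x : H} (hx : x ∈ A) (eq : cv M ({x} : Set H) = cv M (A : Set H)) :
    ∀ a ∈ A, ∀ b ∈ A, ∀ m : M, b • ((a • m) * m⁻¹) = (a • m) * m⁻¹ := by
  have hinv : ∀ z : M, z⁻¹ = z := fun z => inv_eq_of_mul_eq_one_right (hM z)
  have hcm : ∀ y z : M, y * z = z * y := by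
    intro y z
    calc y * z = (y * z)⁻¹ := (hinv _).symm
      _ = z⁻¹ * y⁻¹ := mul_inv_rev _ _
      _ = z * y := by rw [hinv, hinv]
  have hxf : ∀ m : M, x • ((x • m) * m⁻¹) = (x • m) * m⁻¹ := by
    intro m
    rw [smul_mul', smul_inv', smul_smul, hel x hx, one_smul, hinv, hinv, hcm]
  have hmem : ∀ m : M, x • m = m → ∀ b ∈ A, b • m = m := by
    intro m hm b hb
    have h1 : m ∈ cv M ({x} : Set H) := by
      intro y hy
      rw [Set.mem_singleton_iff.1 hy]
      exact hm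
    rw [eq] at h1
    exact h1 b hb
  intro a ha b hb m
  refine hmem _ ?_ b hb
  have h2 := hmem _ (hxf m) a ha
  rw [smul_mul', smul_inv', smul_smul, hA a ha x hx, ← smul_smul, hinv, hinv] at h2
  -- `x a m * a m = x m * m`
  rw [smul_mul', smul_inv', hinv, hinv]
  calc x • a • m * x • m = (x • a • m * a • m) * (a • m * x • m) := by
        rw [mul_assoc, ← mul_assoc (a • m) (a • m), hM, one_mul]
    _ = (x • m * m) * (a • m * x • m) := by rw [h2]
    _ = a • m * m := by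
        rw [hcm (a • m), mul_assoc, ← mul_assoc m, hcm m, ← mul_assoc, ← mul_assoc, hM, one_mul, hcm]

namespace InX

/-- `|A| |C_M(A)| = |M|` -/
theorem card_eq_mul (h : InX H M K T A) : Nat.card A * Nat.card (cv M (A : Set H)) = Nat.card M := by
  rw [← h.exact, mul_comm]
  exact card_mul_index _

/-- An atom `A` is quadratic on `M`. -/
theorem quad (h : InX H M K T A) (hat : Atm M A) [Finite H] [Finite M] :
    ∀ a ∈ A, ∀ b ∈ A, ∀ m : M, b • ((a • m) * m⁻¹) = (a • m) * m⁻¹ := by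
  refine quad_of_atom h.sq h.A_comm h.A_ne_bot h.card_eq_mul.ge fun D hD hD1 => ?_
  rw [h.card_eq_mul, ← card_mul_index (cv M (D : Set H)), mul_comm]
  exact Nat.mul_lt_mul_of_pos_left (hat D hD.le hD1 hD.ne) Nat.card_pos

/-- no normal subgroup `≠ 1` of exponent 2 -/
theorem eq_bot_of_normal (h : InX H M K T A) {E : Subgroup H} (hE : E.Normal) (el : ∀ e ∈ E, e * e = 1) : E = ⊥ :=
  normal_eq_bot h.norm h.simple h.cen hE el

/-- EQ(x) gives `TieX`. -/
theorem tie (h : InX H M K T A) [Finite H] [Finite M] {x : H} (hx : x ∈ A)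
    (eq : cv M ({x} : Set H) = cv M (A : Set H)) :
    TieX A (EE (cv M (A : Set H)) : Subgroup H) (cv M (A : Set H)) x :=
  exists_tieX h.sq h.faith hx eq (quad_of_eq h.sq h.A_comm h.el hx eq)

/-- `N_H(E) ≠ H` -/
theorem normalizer_ne_top (h : InX H M K T A) {E : Subgroup H} (el : ∀ e ∈ E, e * e = 1) (hAE : A ≤ E) :
    normalizer (E : Set H) ≠ ⊤ := by
  intro h1
  have h2 := h.eq_bot_of_normal (normalizer_eq_top_iff.1 h1) el
  rw [h2, le_bot_iff] at hAE
  exact h.A_ne_bot hAE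

/-- **The dichotomy (D).** -/
theorem lt_or_tie (h : InX H M K T A) [Finite H] [Finite M] {x : H} (hx : x ∈ A) :
    (cv M ({x} : Set H)).index < Nat.card A ∨
      TieX A (EE (cv M (A : Set H)) : Subgroup H) (cv M (A : Set H)) x := by
  by_cases h1 : (cv M ({x} : Set H)).index < Nat.card A
  · exact Or.inl h1
  · right
    refine h.tie hx ?_
    have hle : cv M (A : Set H) ≤ cv M ({x} : Set H) := cv_anti (by simpa using hx)
    refine (Subgroup.eq_of_le_of_card_ge hle ?_).symm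
    have h2 := card_mul_index (cv M ({x} : Set H))
    have h3 := h.card_eq_mul
    have h4 : Nat.card (cv M ({x} : Set H)) * Nat.card A ≤ Nat.card A * Nat.card (cv M (A : Set H)) := by
      rw [h3, ← h2]
      exact Nat.mul_le_mul_left _ (not_lt.1 h1)
    rw [mul_comm] at h4
    exact Nat.le_of_mul_le_mul_left h4 Nat.card_pos

end InX

/-- There is no elementary abelian `E ⊴ C_H(x)` over `A` with `N_H(E) ≠ H` and `x^g ∈ E → g ∈ N_H(E)`. -/
def NoTie (A : Subgroup H) (x : H) : Prop :=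
  ∀ E : Subgroup H, (∀ e ∈ E, e * e = 1) → A ≤ E → x ∈ E → E ≤ centralizer {x} →
    centralizer {x} ≤ normalizer (E : Set H) → normalizer (E : Set H) ≠ ⊤ →
    (∀ g : H, g * x * g⁻¹ ∈ E → g ∈ normalizer (E : Set H)) → False

theorem NoTie.false (hn : ∀ x : H, NoTie A x) (h : InX H M K T A) [Finite H] [Finite M] {x : H}
    (ht : TieX A (EE (cv M (A : Set H)) : Subgroup H) (cv M (A : Set H)) x) : False :=
  hn x _ ht.el ht.le ht.mem ht.le_centralizer ht.cent (h.normalizer_ne_top ht.el ht.le) ht.ti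

/-- **`NoTie A x → |M : C_M(x)| < |A|`.** -/
theorem InX.index_lt (h : InX H M K T A) [Finite H] [Finite M] {x : H} (hx : x ∈ A) (hn : NoTie A x) :
    (cv M ({x} : Set H)).index < Nat.card A := by
  rcases h.lt_or_tie hx with h1 | ht
  · exact h1
  · exact (hn _ ht.el ht.le ht.mem ht.le_centralizer ht.cent (h.normalizer_ne_top ht.el ht.le) ht.ti).elim

/-- **`|A| = 4`** -/
theorem InX.index_le_two (h : InX H M K T A) [Finite H] [Finite M] (h4 : Nat.card A = 4) {x : H} (hx : x ∈ A)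
    (hn : NoTie A x) : (cv M ({x} : Set H)).index ≤ 2 := by
  have h1 := h.index_lt hx hn
  rw [h4] at h1
  obtain ⟨n, hn⟩ := IsPGroup.iff_card.1 h.M_two
  have h7 : (cv M ({x} : Set H)).index ∣ 2 ^ n := by
    rw [← hn]
    exact index_dvd_card _
  obtain ⟨k, -, hk⟩ := (Nat.dvd_prime_pow Nat.prime_two).1 h7
  rw [hk] at h1 ⊢
  match k, h1 with
  | 0, _ => simp
  | 1, _ => simp
  | k + 2, h1 => rw [pow_add] at h1; have := Nat.one_le_two_pow (n := k); omega

/-- **`|A| = 4`**, `A` an atom -/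
theorem InX.false_of_four (h : InX H M K T A) (hat : Atm M A) [Finite H] [Finite M] (h4 : Nat.card A = 4) {x : H}
    (hx : x ∈ A) (hx1 : x ≠ 1) (hn : NoTie A x) : False := by
  have h1 := h.index_lt hx hn
  rw [h.index_four hat h4 hx hx1, h4] at h1
  exact lt_irrefl _ h1

/-- `NoTie` from a bound on the normal elementary abelian subgroups of `C_H(x)` -/
theorem noTie_of_card {x : H} [Finite H]
    (hb : ∀ E : Subgroup H, (∀ e ∈ E, e * e = 1) → x ∈ E → E ≤ centralizer {x} →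
      centralizer {x} ≤ normalizer (E : Set H) → Nat.card E < Nat.card A) : NoTie A x :=
  fun E el hAE hx hle hn _ _ => absurd (card_le_of_le hAE) (not_le.2 (hb E el hx hle hn))

end Cfsg.Agent.Omega.ML.Ex

end
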