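import Cfsg.Agent.Mrg.Omega.ML.Ex.Def
import Cfsg.Agent.Mrg.Omega.ML.LocM24
import Cfsg.Agent.Mrg.Omega.ML.RowsOdd
import Cfsg.Agent.SectRankFour.AutM11
import Cfsg.Agent.Mrg.Omega.TwoF.RowM11
import Cfsg.Agent.Mrg.Omega.ML.Ex.TIE
import Cfsg.Agent.Mrg.Omega.ML.RowM12
import Cfsg.Agent.Mrg.Omega.TwoF.RowPSp
import Cfsg.Agent.Mrg.Omega.ML.MinFrame
import Cfsg.Agent.SporadicA.OctadFix
import Cfsg.Agent.SporadicA.MathieuRecog
import Cfsg.Agent.Mrg.Omega.NOThree.NoOver
import Cfsg.Agent.Mrg.Omega.ML.RowM23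
import Cfsg.Agent.SporadicStructure.M24IndexMain
import Cfsg.Agent.SporadicA.GolayCount
import Cfsg.Agent.Mrg.Omega.TwoF.RowRee
import Cfsg.Agent.Mrg.Omega.ML.RowMJ
import Cfsg.Agent.OddHalf.D4.Spor.J1Out

section


/-!
# Exact and low configurations: group-theoretic tools over `ASx` (helper333; ports of RowsRk, RowsCent, RowsSyl, RowsOdd, ShE)

`ASx S T A` is `Rows.AS S T A` with `gen : S ⊔ T = ⊤` instead of `S ⊔ A = ⊤`.
-/

set_option autoImplicit false

namespace Cfsg.Agent.Omega.ML.Ex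

open Subgroup Cfsg Cfsg.Agent.ZN Cfsg.Agent.Omega.TwoF Cfsg.Agent.Omega.ML.Rows
open Cfsg.Agent.MinSimple.VModule (o2_isPGroup o2_le le_o2 le_normalizer_o2)

universe u v w

/-- The group-theoretic row of the class `𝒮`, bound `n`. -/
def DeadGx (n : ℕ) (𝒮 : ∀ (S : Type u) [Group S], Prop) : Prop :=
  ∀ (X : Type u) [Group X] [Finite X] (S T A : Subgroup X), ASx S T A → 𝒮 S → Nat.card A ≤ n

/-- transport of 'all automorphisms are inner' -/
theorem inner_of_equiv {S : Type*} [Group S] {Y : Type*} [Group Y] (e : S ≃* Y)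
    (hi : ∀ α : MulAut Y, ∃ k : Y, α = MulAut.conj k) (α : MulAut S) : ∃ v : S, α = MulAut.conj v := by
  obtain ⟨g, hg⟩ := hi ((e.symm.trans α).trans e)
  refine ⟨e.symm g, ?_⟩
  ext s
  have h1 := congrArg (fun β : MulAut Y => e.symm (β (e s))) hg
  simpa using h1

/-- bound 4 -/
theorem DeadGx.four {n : ℕ} {𝒮 : ∀ (S : Type u) [Group S], Prop} (h : DeadGx.{u} n 𝒮) (hn : n ≤ 4) :
    DeadGX.{u} 𝒮 := fun X _ _ S T A hA hS => (h X S T A hA hS).trans hn

/-- **A bound `< 4` kills the row.** -/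
theorem DeadGx.deadX {n : ℕ} {𝒮 : ∀ (S : Type u) [Group S], Prop} (h : DeadGx.{u} n 𝒮) (hn : n < 4) :
    DeadX.{u, v} 𝒮 := by
  intro H _ _ M _ _ _ K T A hI hS
  have h1 := h H K T A hI.asx hS
  have h2 := hI.four
  omega

theorem DeadGx.mono {n m : ℕ} {𝒮 : ∀ (S : Type u) [Group S], Prop} (h : DeadGx.{u} n 𝒮) (hnm : n ≤ m) :
    DeadGx.{u} m 𝒮 := fun X _ _ S T A hA hS => (h X S T A hA hS).trans hnm

variable {X : Type u} [Group X] {S T A : Subgroup X}

/-- One overgroup. -/
theorem ASx.card_le_of (h : ASx S T A) {n : ℕ} {R : Subgroup X} (hT : T ≤ R) (hR : R ≠ ⊤)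
    (hc : ∀ B ≤ o2 R, (∀ b ∈ B, b * b = 1) → Nat.card B ≤ n) : Nat.card A ≤ n :=
  hc A (h.low R hT hR) h.el

/-- Two overgroups. -/
theorem ASx.card_le_of₂ (h : ASx S T A) {n : ℕ} {R R' : Subgroup X} (hT : T ≤ R) (hR : R ≠ ⊤) (hT' : T ≤ R')
    (hR' : R' ≠ ⊤) (hc : ∀ B ≤ o2 R ⊓ o2 R', (∀ b ∈ B, b * b = 1) → Nat.card B ≤ n) : Nat.card A ≤ n :=
  hc A (le_inf (h.low R hT hR) (h.low R' hT' hR')) h.el

/-- An overgroup with `|O₂(R)| ≤ n`. -/
theorem ASx.card_le_of_o2 [Finite X] (h : ASx S T A) {n : ℕ} {R : Subgroup X} (hT : T ≤ R) (hR : R ≠ ⊤)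
    (hc : Nat.card (o2 R) ≤ n) : Nat.card A ≤ n :=
  (card_le_of_le (h.low R hT hR)).trans hc

/-- `X` acts faithfully on `S`. -/
theorem ASx.conj_inj (h : ASx S T A) :
    Function.Injective (@MulAut.conjNormal X _ S h.norm) := by
  have hn := h.norm
  rw [injective_iff_map_eq_one]
  intro x hx
  have h1 : x ∈ centralizer (S : Set X) := by
    refine mem_centralizer_iff.2 fun s hs => ?_
    have h2 : ((MulAut.conjNormal x : MulAut S) ⟨s, hs⟩ : X) = s := by rw [hx]; rfl
    rw [MulAut.conjNormal_apply] at h2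
    calc s * x = (x * s * x⁻¹) * x := by rw [h2]
      _ = x * s := by group
  rw [h.cen] at h1
  exact mem_bot.1 h1

/-- **The rank bound.** -/
theorem ASx.card_le_of_rk (h : ASx S T A) {a : ℕ} (hr : RK S a) : Nat.card A ≤ 2 ^ a := by
  have hn := h.norm
  refine hr.card_le_of_injective ((MulAut.conjNormal : X →* MulAut S).comp A.subtype) ?_ fun x =>
    Subtype.ext (by
      rw [pow_two]
      exact h.el x x.2)
  exact h.conj_inj.comp A.subtype_injective

theorem ASx.card_le_four_of_rk (h : ASx S T A) (hr : RK S 2) : Nat.card A ≤ 4 :=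
  h.card_le_of_rk hr

theorem ASx.le_two (h : ASx S T A) : A ≤ T := h.AT

/-- `T` is a maximal 2-subgroup. -/
theorem ASx.le_of_two [Finite X] (h : ASx S T A) {Q : Subgroup X} (hQ : IsPGroup 2 Q) (hT : T ≤ Q) : Q ≤ T := by
  have hp : Fact (Nat.Prime 2) := ⟨Nat.prime_two⟩
  have h3 : ¬ 2 ∣ T.relIndex Q := fun h4 => h.syl (h4.trans (relIndex_dvd_index_of_le hT))
  obtain ⟨n, hn⟩ := (IsPGroup.iff_card.1 hQ)
  have h4 : T.relIndex Q ∣ 2 ^ n := hn ▸ (T.subgroupOf Q).index_dvd_card
  obtain ⟨k, -, hk⟩ := (Nat.dvd_prime_pow Nat.prime_two).1 h4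
  have h5 : k = 0 := by
    by_contra hk0
    exact h3 (hk ▸ dvd_pow_self 2 hk0)
  rw [h5, pow_zero] at hk
  exact relIndex_eq_one.1 hk

/-- `O₂(R) ≤ T` for overgroups of `T`. -/
theorem ASx.o2_le_two [Finite X] (h : ASx S T A) {R : Subgroup X} (hT : T ≤ R) : o2 R ≤ T := by
  have h2 : T ≤ normalizer (o2 R : Set X) := hT.trans (le_normalizer_o2 R)
  exact le_sup_left.trans (h.le_of_two ((o2_isPGroup R).to_sup_of_normal_left' h.two h2) le_sup_right)

/-- **`A` is not a Sylow 2-subgroup.** -/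
theorem ASx.ne_two [Finite X] (h : ASx S T A) (hA : A ≠ ⊥) : A ≠ T := by
  intro hAT
  have hp : Fact (Nat.Prime 2) := ⟨Nat.prime_two⟩
  have hn := h.norm
  have hsim := h.simple
  apply h.nmax
  refine ⟨normalizer (T : Set X), ?_, fun R hTR hR => ?_⟩
  · intro h1
    have h2 : T.Normal := normalizer_eq_top_iff.1 h1
    -- `T ∩ S` is normal in `S`
    have h3 : (T.subgroupOf S).Normal := inferInstance
    rcases hsim.eq_bot_or_eq_top_of_normal _ h3 with h4 | h4
    · -- `T ∩ S = 1`: `[T, S] = 1`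
      have h5 : T ≤ centralizer (S : Set X) := by
        rw [← commutator_eq_bot_iff_le_centralizer, eq_bot_iff]
        refine (commutator_le_inf T S).trans ?_
        rw [subgroupOf_eq_bot, disjoint_iff] at h4
        exact h4.le
      rw [h.cen] at h5
      exact hA (eq_bot_iff.2 (h.le_two.trans h5))
    · -- `S` is a simple 2-group
      have h5 : S ≤ T := subgroupOf_eq_top.1 h4
      have h6 : IsPGroup 2 S := h.two.to_le h5
      have h7 : center S ≠ ⊥ := by
        have := h6.center_nontrivial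
        exact (nontrivial_iff_ne_bot _).1 this
      have h8 : center S = ⊤ := (hsim.eq_bot_or_eq_top_of_normal _ inferInstance).resolve_left h7
      have h9 : S ≤ centralizer (S : Set X) := by
        intro s hs
        refine mem_centralizer_iff.2 fun y hy => ?_
        have h10 : (⟨s, hs⟩ : S) ∈ center S := h8 ▸ mem_top _
        exact congrArg Subtype.val (mem_center_iff.1 h10 ⟨y, hy⟩)
      rw [h.cen] at h9
      obtain ⟨x, hx⟩ := exists_ne (1 : S)
      exact hx (Subtype.ext (mem_bot.1 (h9 x.2)))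
  · have h1 : o2 R = T := le_antisymm (h.o2_le_two hTR) (hAT ▸ h.low R hTR hR)
    have h2 := le_normalizer_o2 R
    rwa [h1] at h2

/-- **`2 |A| ≤ |T|`.** -/
theorem ASx.two_mul_card_le [Finite X] (h : ASx S T A) (hA : A ≠ ⊥) : 2 * Nat.card A ≤ Nat.card T := by
  have h1 : Nat.card A * A.relIndex T = Nat.card T := by
    rw [← Nat.card_congr (subgroupOfEquivOfLe h.le_two).toEquiv]
    exact (A.subgroupOf T).card_mul_index
  have h2 : A.relIndex T ≠ 1 := fun h3 => h.ne_two hA (le_antisymm h.le_two (relIndex_eq_one.1 h3))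
  have h3 : A.relIndex T ≠ 0 := FiniteIndex.index_ne_zero
  rw [← h1, mul_comm]
  exact Nat.mul_le_mul_left _ (by omega)

/-- **Inner automorphisms of 2-power order.** -/
theorem ASx.top_of_inner (h : ASx S T A)
    (hi : ∀ α : MulAut S, (∃ k : ℕ, α ^ 2 ^ k = 1) → ∃ v : S, α = MulAut.conj v) : S = ⊤ := by
  have hn := h.norm
  rw [← h.gen]
  refine (sup_eq_left.2 fun a ha => ?_).symm
  obtain ⟨k, hk⟩ := h.two ⟨a, ha⟩
  obtain ⟨v, hv⟩ := hi (MulAut.conjNormal a) ⟨k, by
    rw [← map_pow, show a ^ 2 ^ k = 1 from congrArg Subtype.val hk, map_one]⟩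
  have h1 : a = v := by
    apply h.conj_inj
    rw [hv]
    ext s
    rw [MulAut.conjNormal_apply, MulAut.conj_apply]
    simp
  rw [h1]
  exact v.2

/-- **All automorphisms inner.** -/
theorem ASx.top_of_inn (h : ASx S T A) (hi : ∀ α : MulAut S, ∃ v : S, α = MulAut.conj v) : S = ⊤ :=
  h.top_of_inner fun α _ => hi α

/-- The centraliser of a nontrivial element is proper. -/
theorem ASx.cent_ne_top (h : ASx S T A) {z : X} (hz1 : z ≠ 1) : centralizer ({z} : Set X) ≠ ⊤ := by
  intro h1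
  have h2 : z ∈ centralizer (S : Set X) := mem_centralizer_iff.2 fun y _ =>
    mem_centralizer_singleton_iff.1 (h1 ▸ mem_top y)
  rw [h.cen] at h2
  exact hz1 (mem_bot.1 h2)

/-- **An involution of `S` centralised by `T`.** -/
theorem ASx.exists_inv [Finite X] (h : ASx S T A) (h2 : 2 ∣ Nat.card S) :
    ∃ z ∈ S, z * z = 1 ∧ z ≠ 1 ∧ T ≤ centralizer ({z} : Set X) := by
  have hp : Fact (Nat.Prime 2) := ⟨Nat.prime_two⟩
  have hn := h.norm
  have h3 : S.subgroupOf T ≠ ⊥ := by
    intro h4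
    rw [subgroupOf_eq_bot, disjoint_iff] at h4
    let T' : Sylow 2 X := h.two.toSylow h.syl
    have h5 : ¬ 2 ∣ (T' : Subgroup X).relIndex S := Cfsg.Agent.Lib.SylowNormalInf.not_dvd_relIndex T' S
    have h6 : (T' : Subgroup X).relIndex S = Nat.card S := by
      show T.relIndex S = _
      rw [← inf_relIndex_right, inf_comm, h4, relIndex_bot_left]
    exact h5 (h6 ▸ h2)
  obtain ⟨z, hz, hzc, hzo⟩ := Cfsg.Agent.Involutions.NormalFour.exists_mem_center_of_normal h.two (S.subgroupOf T) h3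
  have h4 : z * z = 1 := by rw [← pow_two, ← hzo, pow_orderOf_eq_one]
  have h5 : z ≠ 1 := by
    rintro rfl
    rw [orderOf_one] at hzo
    omega
  refine ⟨z, hz, congrArg Subtype.val h4, fun h6 => h5 (Subtype.ext h6), fun t ht => ?_⟩
  exact mem_centralizer_singleton_iff.2 (congrArg Subtype.val (mem_center_iff.1 hzc ⟨t, ht⟩))

/-- `|X : S| ≤ |Aut(S) : Inn(S)|`. -/
theorem ASx.index_le [Finite X] (h : ASx S T A) : S.index ≤ (MulAut.conj : S →* MulAut S).range.index := by
  have hn := h.norm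
  have h1 : S = ((MulAut.conj : S →* MulAut S).range).comap (MulAut.conjNormal : X →* MulAut S) := by
    ext x
    rw [mem_comap]
    constructor
    · intro hx
      refine ⟨⟨x, hx⟩, ?_⟩
      ext s
      rw [MulAut.conjNormal_apply, MulAut.conj_apply]
      simp
    · rintro ⟨v, hv⟩
      have h1 : x = v := by
        apply h.conj_inj
        rw [← hv]
        ext s
        rw [MulAut.conjNormal_apply, MulAut.conj_apply]
        simp
      rw [h1]
      exact v.2
  have hfin : Finite (MulAut S) := Finite.of_injective (fun φ => (φ : S → S)) DFunLike.coe_injective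
  have h2 : S.index = ((MulAut.conj : S →* MulAut S).range).relIndex (MulAut.conjNormal : X →* MulAut S).range := by
    rw [← index_comap, ← h1]
  have hI : ((MulAut.conj : S →* MulAut S).range).Normal := by
    refine ⟨?_⟩
    rintro _ ⟨x, rfl⟩ φ
    refine ⟨φ x, ?_⟩
    ext y
    simp [MulAut.conj_apply]
  rw [h2]
  exact Nat.le_of_dvd (Nat.pos_of_ne_zero FiniteIndex.index_ne_zero) (relIndex_dvd_index_of_normal _ _)

theorem ASx.card_le_mul_index [Finite X] (h : ASx S T A) (Q : Subgroup X) :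
    Nat.card Q ≤ Nat.card (Q.subgroupOf S) * S.index := by
  have hn := h.norm
  have h1 : Nat.card (S.subgroupOf Q) * (S.subgroupOf Q).index = Nat.card Q := (S.subgroupOf Q).card_mul_index
  have h2 : (S.subgroupOf Q).index ≤ S.index :=
    Nat.le_of_dvd (Nat.pos_of_ne_zero FiniteIndex.index_ne_zero) (relIndex_dvd_index_of_normal _ _)
  have h3 : Nat.card (S.subgroupOf Q) = Nat.card (Q.subgroupOf S) := by
    have h4 : Nat.card (S.subgroupOf Q) = Nat.card (Q ⊓ S : Subgroup X) := by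
      rw [← card_map_of_injective Q.subtype_injective, subgroupOf_map_subtype, inf_comm]
    have h5 : Nat.card (Q.subgroupOf S) = Nat.card (Q ⊓ S : Subgroup X) := by
      rw [← card_map_of_injective S.subtype_injective, subgroupOf_map_subtype]
    rw [h4, h5]
  rw [← h1, h3]
  exact Nat.mul_le_mul_left _ h2

/-- **Centralisers of involutions of `S`.** -/
theorem ASx.card_le_of_inv [Finite X] (h : ASx S T A) (h2 : 2 ∣ Nat.card S) {n k : ℕ}
    (hO : ∀ z : S, z * z = 1 → z ≠ 1 → ∀ Q : Subgroup S, Q ≤ centralizer ({z} : Set S) → IsPGroup 2 Q →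
      centralizer ({z} : Set S) ≤ normalizer (Q : Set S) → Nat.card Q ≤ n)
    (hk : (MulAut.conj : S →* MulAut S).range.index ≤ k) : Nat.card A ≤ n * k := by
  obtain ⟨z, hz, hzz, hz1, hT⟩ := h.exists_inv h2
  have hR := h.cent_ne_top hz1
  set R := centralizer ({z} : Set X) with hRd
  have h3 : Nat.card ((o2 R).subgroupOf S) ≤ n := by
    refine hO ⟨z, hz⟩ (Subtype.ext hzz) (fun h4 => hz1 (congrArg Subtype.val h4)) _ ?_ ?_ ?_
    · intro x hx
      exact mem_centralizer_singleton_iff.2 (Subtype.ext (mem_centralizer_singleton_iff.1 (o2_le R hx)))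
    · exact (o2_isPGroup R).comap_subtype
    · intro c hc
      have h4 : (c : X) ∈ R := mem_centralizer_singleton_iff.2
        (congrArg Subtype.val (mem_centralizer_singleton_iff.1 hc))
      have h5 := mem_normalizer_iff.1 (le_normalizer_o2 R h4)
      rw [mem_normalizer_iff]
      intro y
      exact h5 (y : X)
  refine (card_le_of_le (h.low R hT hR)).trans ((h.card_le_mul_index _).trans ?_)
  exact Nat.mul_le_mul h3 (h.index_le.trans hk)

/-- **A conjugate of `A` lies in `O₂(C_X(z))`.** -/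
theorem ASx.conj_of_syl [Finite X] (h : ASx S T A) {z : S} (hz1 : z ≠ 1)
    (hz : ∃ S₀ : Sylow 2 S, z ∈ S₀ ∧ (∀ x ∈ S₀, x * z = z * x) ∧ ∀ y ∈ S₀, (∀ x ∈ S₀, x * y = y * x) → y = 1 ∨ y = z) :
    ∃ g : S, ∀ a ∈ A, (g : X)⁻¹ * a * g ∈ o2 (centralizer ({(z : X)} : Set X)) := by
  obtain ⟨g, hg⟩ := ShE.exists_conj h.norm h.two h.syl hz
  have hgz : (g : X) * z * (g : X)⁻¹ ≠ 1 := by
    intro h1
    apply hz1
    apply Subtype.ext
    calc (z : X) = (g : X)⁻¹ * ((g : X) * z * (g : X)⁻¹) * g := by group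
      _ = 1 := by rw [h1]; group
  have h1 := h.low _ hg (h.cent_ne_top hgz)
  refine ⟨g, fun a ha => ?_⟩
  apply conj_o2_mem (R := centralizer ({(z : X)} : Set X))
    (R' := centralizer ({(g : X) * z * (g : X)⁻¹} : Set X)) (g : X)
  · intro x
    rw [mem_centralizer_singleton_iff, mem_centralizer_singleton_iff]
    constructor
    · intro h2
      calc g * x * (g : X)⁻¹ * (g * z * (g : X)⁻¹) = g * (x * z) * (g : X)⁻¹ := by group
        _ = g * (z * x) * (g : X)⁻¹ := by rw [h2]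
        _ = _ := by group
    · intro h2
      calc x * z = (g : X)⁻¹ * (g * x * (g : X)⁻¹ * (g * z * (g : X)⁻¹)) * g := by group
        _ = (g : X)⁻¹ * (g * z * (g : X)⁻¹ * (g * x * (g : X)⁻¹)) * g := by rw [h2]
        _ = _ := by group
  · rw [mem_comap]
    show (g : X) * ((g : X)⁻¹ * a * g) * (g : X)⁻¹ ∈ _
    have h2 : (g : X) * ((g : X)⁻¹ * a * g) * (g : X)⁻¹ = a := by group
    rw [h2]
    exact h1 ha

/-- **Elementary abelian subgroups of `O₂(C_X(z))`.** -/
theorem ASx.card_le_of_syl [Finite X] (h : ASx S T A) {z : S} (hz1 : z ≠ 1)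
    (hz : ∃ S₀ : Sylow 2 S, z ∈ S₀ ∧ (∀ x ∈ S₀, x * z = z * x) ∧ ∀ y ∈ S₀, (∀ x ∈ S₀, x * y = y * x) → y = 1 ∨ y = z)
    {n : ℕ} (hn : ∀ B ≤ o2 (centralizer ({(z : X)} : Set X)), (∀ b ∈ B, b * b = 1) → Nat.card B ≤ n) :
    Nat.card A ≤ n := by
  obtain ⟨g, hg⟩ := h.conj_of_syl hz1 hz
  have h1 : A.map (MulAut.conj (g : X)⁻¹).toMonoidHom ≤ o2 (centralizer ({(z : X)} : Set X)) := by
    rintro _ ⟨a, ha, rfl⟩
    have h2 := hg a ha
    rw [MulEquiv.toMonoidHom_eq_coe, MonoidHom.coe_coe, MulAut.conj_apply, inv_inv]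
    exact h2
  have h2 := hn _ h1 (by
    rintro _ ⟨a, ha, rfl⟩
    rw [← map_mul, h.el a ha, map_one])
  rwa [card_map_of_injective (MulAut.conj (g : X)⁻¹).injective] at h2

/-- **A subgroup of odd index of `S = X`.** -/
theorem ASx.card_le_of_odd_index [Finite X] (h : ASx S T A) (hS : S = ⊤) {R : Subgroup S} (hR : ¬ 2 ∣ R.index)
    (hR1 : R ≠ ⊤) {n : ℕ} (hn : ∀ Q : Subgroup S, Q ≤ R → IsPGroup 2 Q → R ≤ normalizer (Q : Set S) → Nat.card Q ≤ n) :
    Nat.card A ≤ n := by
  have hall : ∀ x : X, x ∈ S := fun x => hS ▸ mem_top x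
  have h1 : ¬ 2 ∣ (R.map S.subtype).index := by
    have h0 : S.index = 1 := by rw [hS, index_top]
    rwa [index_map_subtype, h0, mul_one]
  obtain ⟨g, hg⟩ := exists_conj_le h.two h1
  -- the conjugate
  set R' : Subgroup X := (R.map S.subtype).comap (MulAut.conj g⁻¹).toMonoidHom with hR'
  have hmem : ∀ x : X, x ∈ R' ↔ (⟨g⁻¹ * x * g, hall _⟩ : S) ∈ R := by
    intro x
    rw [hR', mem_comap]
    constructor
    · rintro ⟨r, hr, hrx⟩
      have h2 : (⟨g⁻¹ * x * g, hall _⟩ : S) = r := by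
        apply Subtype.ext
        change (r : X) = g⁻¹ * x * g⁻¹⁻¹ at hrx
        rw [hrx, inv_inv]
      rwa [h2]
    · intro hr
      refine ⟨_, hr, ?_⟩
      show g⁻¹ * x * g = g⁻¹ * x * g⁻¹⁻¹
      rw [inv_inv]
  have hT : T ≤ R' := by
    intro t ht
    rw [hmem]
    obtain ⟨r, hr, hrx⟩ := hg t ht
    have h2 : (⟨g⁻¹ * t * g, hall _⟩ : S) = r := Subtype.ext hrx.symm
    rwa [h2]
  have hne : R' ≠ ⊤ := by
    intro h2
    apply hR1
    rw [eq_top_iff]
    intro x _
    have h3 : g * x * g⁻¹ ∈ R' := h2 ▸ mem_top _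
    rw [hmem] at h3
    have h4 : (⟨g⁻¹ * (g * x * g⁻¹) * g, hall _⟩ : S) = x := Subtype.ext (by group)
    rwa [h4] at h3
  have h2 := h.low R' hT hne
  -- the subgroup `Q`
  let f : S →* X := (MulAut.conj g).toMonoidHom.comp S.subtype
  have hf : Function.Injective f := (MulAut.conj g).injective.comp S.subtype_injective
  have hfa : ∀ x : S, f x = g * x * g⁻¹ := fun x => rfl
  have h3 : Nat.card ((o2 R').comap f) ≤ n := by
    apply hn
    · intro x hx
      have h4 : f x ∈ R' := o2_le R' hx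
      rw [hmem] at h4
      have h5 : (⟨g⁻¹ * f x * g, hall _⟩ : S) = x := Subtype.ext (by rw [hfa]; group)
      rwa [h5] at h4
    · exact (o2_isPGroup R').comap_of_injective _ hf
    · intro r hr
      have h4 : f r ∈ R' := by
        rw [hmem]
        have h5 : (⟨g⁻¹ * f r * g, hall _⟩ : S) = r := Subtype.ext (by rw [hfa]; group)
        rwa [h5]
      have h5 := mem_normalizer_iff.1 (le_normalizer_o2 R' h4)
      rw [mem_normalizer_iff]
      intro y
      rw [mem_comap, mem_comap, map_mul, map_mul, map_inv]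
      exact h5 (f y)
  have h4 : ((o2 R').comap f).map f = o2 R' := by
    refine map_comap_eq_self fun x _ => ?_
    exact ⟨⟨g⁻¹ * x * g, hall _⟩, by rw [hfa]; group⟩
  have h5 : Nat.card (o2 R') = Nat.card ((o2 R').comap f) := by
    rw [← card_map_of_injective hf, h4]
  exact (card_le_of_le h2).trans (h5 ▸ h3)

/-- **A simple subgroup of odd index.** -/
theorem ASx.card_le_of_odd_index_simple [Finite X] (h : ASx S T A) (hS : S = ⊤) {R : Subgroup S} (hR : ¬ 2 ∣ R.index)
    (hR1 : R ≠ ⊤) (hs : IsSimpleGroup R) (h2 : ¬ IsPGroup 2 R) : Nat.card A ≤ 1 := by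
  refine h.card_le_of_odd_index hS hR hR1 fun Q hQR hQ hN => ?_
  have h3 : (Q.subgroupOf R).Normal := by
    refine ⟨fun q hq g => ?_⟩
    exact (mem_normalizer_iff.1 (hN g.2) q).1 hq
  rcases hs.eq_bot_or_eq_top_of_normal _ h3 with h4 | h4
  · have h5 : Q = ⊥ := by
      rw [eq_bot_iff]
      intro q hq
      have h6 : (⟨q, hQR hq⟩ : R) ∈ Q.subgroupOf R := hq
      rw [h4, mem_bot] at h6
      exact mem_bot.2 (congrArg Subtype.val h6)
    rw [h5, card_bot]
  · exact absurd (hQ.to_le (subgroupOf_eq_top.1 h4)) h2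

section sheet

open Cfsg.Agent.OddHalf.D8.Sheet Cfsg.Agent.OddHalf.D8.JTwo.Sheet

/-- **`A ≤ R^g`.** -/
theorem ASx.le_conj [Finite X] (h : ASx S T A) {z : S} {P R : Subgroup S} (hz : SheetX z P R) :
    ∃ g : S, ∀ a ∈ A, (g : X)⁻¹ * a * g ∈ R.map S.subtype := by
  obtain ⟨g, hg⟩ := h.conj_of_syl hz.z1 hz.syl
  exact ⟨g, fun a ha => ShE.o2_le_R h.norm h.cen hz (hg a ha)⟩

/-- `A ≤ S`. -/
theorem ASx.le_of_sheet [Finite X] (h : ASx S T A) {z : S} {P R : Subgroup S} (hz : SheetX z P R) : A ≤ S := by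
  obtain ⟨g, hg⟩ := h.le_conj hz
  have hS := h.norm
  intro a ha
  obtain ⟨r, -, hr⟩ := hg a ha
  have h1 : a = (g : X) * r * (g : X)⁻¹ := by
    change (r : X) = (g : X)⁻¹ * a * g at hr
    rw [hr]; group
  rw [h1]
  exact hS.conj_mem _ r.2 g

/-- `|A| ≤ n` if the elementary abelian subgroups of `R` have order at most `n`. -/
theorem ASx.card_le_of_sheet [Finite X] (h : ASx S T A) {z : S} {P R : Subgroup S} (hz : SheetX z P R) {n : ℕ}
    (hR : ∀ B ≤ R, (∀ b ∈ B, b * b = 1) → Nat.card B ≤ n) : Nat.card A ≤ n := by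
  obtain ⟨g, hg⟩ := h.le_conj hz
  have h1 : A.map (MulAut.conj (g : X)⁻¹).toMonoidHom ≤ R.map S.subtype := by
    rintro _ ⟨a, ha, rfl⟩
    have h2 := hg a ha
    rw [MulEquiv.toMonoidHom_eq_coe, MonoidHom.coe_coe, MulAut.conj_apply, inv_inv]
    exact h2
  obtain ⟨B, hB, hBA⟩ : ∃ B ≤ R, B.map S.subtype = A.map (MulAut.conj (g : X)⁻¹).toMonoidHom := by
    refine ⟨(A.map (MulAut.conj (g : X)⁻¹).toMonoidHom).comap S.subtype, ?_, ?_⟩
    · intro x hx
      obtain ⟨r, hr, hrx⟩ := h1 hx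
      rwa [← S.subtype_injective hrx]
    · refine map_comap_eq_self ?_
      rw [range_subtype]
      exact h1.trans (map_subtype_le _)
  have h3 : Nat.card B = Nat.card A := by
    rw [← card_map_of_injective S.subtype_injective, hBA, card_map_of_injective (MulAut.conj (g : X)⁻¹).injective]
  rw [← h3]
  refine hR B hB fun b hb => ?_
  have h4 : (b : X) ∈ A.map (MulAut.conj (g : X)⁻¹).toMonoidHom := by
    rw [← hBA]; exact ⟨b, hb, rfl⟩
  obtain ⟨a, ha, hab⟩ := h4
  apply Subtype.ext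
  rw [Subgroup.coe_mul, Subgroup.coe_one, ← hab, ← map_mul, h.el a ha, map_one]

/-- **The row of a class of groups with a sheet of type (E), `R` of rank at most `log n`.** -/
theorem deadGx_of_sheet {n : ℕ} {𝒮 : ∀ (S : Type u) [Group S], Prop}
    (hs : ∀ (S : Type u) [Group S], Finite S → 𝒮 S → ∃ (z : S) (P R : Subgroup S), SheetX z P R ∧
      ∀ B ≤ R, (∀ b ∈ B, b * b = 1) → Nat.card B ≤ n) : DeadGx.{u} n 𝒮 := by
  intro X _ _ S T A h hS
  obtain ⟨z, P, R, hz, hR⟩ := hs S inferInstance hS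
  exact h.card_le_of_sheet hz hR

end sheet

end Cfsg.Agent.Omega.ML.Ex

end

section


/-!
# Exact and low configurations: the row M11 (helper333): `A = 1`

`M11` is sharply 4-transitive on 11 points; a 2-subgroup which is normal in the stabiliser (of odd index 11) of a point is
trivial: it is transitive on the ten other points or trivial.
-/

set_option autoImplicit false

namespace Cfsg.Agent.Omega.ML.Ex.RowM11X

open Subgroup Cfsg Cfsg.Agent.ZN Cfsg.Agent.Omega.TwoF Cfsg.Agent.Omega.ML.Rows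
open Cfsg.Agent.SporadicA.SharpFour

universe u v

theorem card_le_one {G : Type*} [Group G] [Finite G] {α : Type*} [Fintype α] [DecidableEq α] [MulAction G α]
    (h : Sharp4 G α) (h11 : Fintype.card α = 11) (ω : α) (Q : Subgroup G) (hQ : Q ≤ MulAction.stabilizer G ω)
    (hQ2 : IsPGroup 2 Q) (hN : MulAction.stabilizer G ω ≤ normalizer (Q : Set G)) : Nat.card Q ≤ 1 := by
  by_contra hcon
  -- an element moving a point
  obtain ⟨d, hd, hd1⟩ : ∃ d ∈ Q, d ≠ 1 := by
    have h1 : Q ≠ ⊥ := by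
      rintro rfl
      exact hcon (by rw [card_bot])
    obtain ⟨⟨d, hd⟩, hd1⟩ := Q.ne_bot_iff_exists_ne_one.1 h1
    exact ⟨d, hd, fun h2 => hd1 (Subtype.ext h2)⟩
  obtain ⟨a, ha⟩ : ∃ a : α, d • a ≠ a := by
    by_contra hc
    push Not at hc
    have hcard : (4 : ℕ) ≤ (Finset.univ : Finset α).card := by rw [Finset.card_univ, h11]; norm_num
    exact hd1 (Cfsg.Agent.SectRankFour.AutM11.eq_one_of_card h d Finset.univ hcard fun x _ => hc x)
  set b := d • a with hb
  have hdω : d • ω = ω := hQ hd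
  have haω : a ≠ ω := by
    rintro rfl
    exact ha hdω
  have hbω : b ≠ ω := by
    intro h1
    apply haω
    have h2 : d • a = d • ω := by rw [← hb, h1, hdω]
    exact smul_left_cancel d h2
  -- the orbit of `a` under `Q` contains every `c ≠ ω`
  have horb : ∀ c : α, c ≠ ω → c ∈ MulAction.orbit Q a := by
    intro c hc
    by_cases hca : c = a
    · rw [hca]; exact MulAction.mem_orbit_self a
    · -- a fourth point
      have h4 : ∃ e : α, e ≠ ω ∧ e ≠ a ∧ e ≠ b := by
        have h5 : ({ω, a, b} : Finset α).card < (Finset.univ : Finset α).card := by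
          rw [Finset.card_univ, h11]
          exact lt_of_le_of_lt (Finset.card_le_three) (by norm_num)
        obtain ⟨e, -, he⟩ := Finset.exists_mem_notMem_of_card_lt_card h5
        simp only [Finset.mem_insert, Finset.mem_singleton, not_or] at he
        exact ⟨e, he.1, he.2.1, he.2.2⟩
      have h4' : ∃ e : α, e ≠ ω ∧ e ≠ a ∧ e ≠ c := by
        have h5 : ({ω, a, c} : Finset α).card < (Finset.univ : Finset α).card := by
          rw [Finset.card_univ, h11]
          exact lt_of_le_of_lt (Finset.card_le_three) (by norm_num)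
        obtain ⟨e, -, he⟩ := Finset.exists_mem_notMem_of_card_lt_card h5
        simp only [Finset.mem_insert, Finset.mem_singleton, not_or] at he
        exact ⟨e, he.1, he.2.1, he.2.2⟩
      obtain ⟨e, he1, he2, he3⟩ := h4
      obtain ⟨e', he1', he2', he3'⟩ := h4'
      obtain ⟨r, hr1, hr2, hr3, -⟩ := h.exists_map ω a b e ω a c e'
        (nodup4_iff.2 ⟨haω.symm, hbω.symm, he1.symm, ha.symm, he2.symm, he3.symm⟩)
        (nodup4_iff.2 ⟨haω.symm, hc.symm, he1'.symm, Ne.symm hca, he2'.symm, he3'.symm⟩)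
      have h6 : r * d * r⁻¹ ∈ Q := (mem_normalizer_iff.1 (hN (show r ∈ MulAction.stabilizer G ω from hr1)) d).1 hd
      refine ⟨⟨r * d * r⁻¹, h6⟩, ?_⟩
      show (r * d * r⁻¹) • a = c
      have h7 : r⁻¹ • a = a := inv_smul_eq_iff.2 hr2.symm
      rw [mul_smul, mul_smul, h7, ← hb, hr3]
  have hnot : ω ∉ MulAction.orbit Q a := by
    rintro ⟨q, hq⟩
    apply haω
    have h1 : (q : G) • ω = ω := hQ q.2
    have h2 : (q : G) • a = (q : G) • ω := by rw [h1]; exact hq
    exact smul_left_cancel _ h2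
  have hset : MulAction.orbit Q a = {ω}ᶜ := by
    ext c
    rw [Set.mem_compl_singleton_iff]
    exact ⟨fun h1 h2 => hnot (h2 ▸ h1), horb c⟩
  have hcard : Nat.card (MulAction.orbit Q a) = 10 := by
    rw [hset, Nat.card_coe_set_eq, Set.ncard_compl, Set.ncard_singleton, Nat.card_eq_fintype_card, h11]
  have h1 : 10 ∣ Nat.card Q := by
    rw [← hcard]
    exact Nat.card_congr (MulAction.orbitEquivQuotientStabilizer Q a) ▸
      (MulAction.stabilizer Q a).index_dvd_card
  obtain ⟨n, hn⟩ := IsPGroup.iff_card.1 hQ2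
  rw [hn] at h1
  have h3 : 5 ∣ 2 ^ n := (by norm_num : (5 : ℕ) ∣ 10).trans h1
  have h4 := Nat.Prime.dvd_of_dvd_pow Nat.prime_five h3
  omega

/-- **The row `M11`**: `A = 1`. -/
theorem m11 : DeadGx.{u} 1 (fun S _ => Spor.IsoM11 S) := by
  intro X _ _ S T A h hS
  have hS' := hS
  obtain ⟨e⟩ := hS
  have hM : Cfsg.IsM11 S := by
    have hs0 : IsSimpleGroup Spor.M11 := Cfsg.Agent.Omega.TwoF.isM11.1
    exact ⟨e.isSimpleGroup, (Nat.card_congr e.toEquiv).trans Cfsg.Agent.Omega.TwoF.isM11.2⟩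
  have htop : S = ⊤ := h.top_of_inn fun α => Cfsg.Agent.SectRankFour.AutM11.exists_conj hM α
  obtain ⟨α, i1, i2, i3, h11, hsh⟩ := Cfsg.Agent.SectRankFour.AutM11.exists_sharp4 hM
  obtain ⟨ω⟩ : Nonempty α := Fintype.card_pos_iff.1 (by rw [h11]; norm_num)
  have htr : ∀ c : α, c ∈ MulAction.orbit S ω := by
    intro c
    have hex : ∀ x : α, ∃ s t u : α, [x, s, t, u].Nodup := by
      intro x
      have h5 : (4 : ℕ) ≤ (Finset.univ : Finset α).card := by rw [Finset.card_univ, h11]; norm_num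
      obtain ⟨s, hs1, hs2, hs3⟩ := Finset.exists_subsuperset_card_eq (s := {x}) (t := (Finset.univ : Finset α)) (n := 4)
        (Finset.subset_univ _) (by simp) h5
      have hx : x ∈ s := hs1 (Finset.mem_singleton_self x)
      have h6 : (s.erase x).card = 3 := by rw [Finset.card_erase_of_mem hx, hs3]
      obtain ⟨p, q, r, hpq, hpr, hqr, hs⟩ := Finset.card_eq_three.1 h6
      have hp : p ∈ s.erase x := by rw [hs]; simp
      have hq : q ∈ s.erase x := by rw [hs]; simp
      have hr : r ∈ s.erase x := by rw [hs]; simp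
      exact ⟨p, q, r, nodup4_iff.2 ⟨(Finset.ne_of_mem_erase hp).symm, (Finset.ne_of_mem_erase hq).symm,
        (Finset.ne_of_mem_erase hr).symm, hpq, hpr, hqr⟩⟩
    obtain ⟨s, t, u, h1⟩ := hex ω
    obtain ⟨s', t', u', h1'⟩ := hex c
    obtain ⟨g, hg, -⟩ := hsh.exists_map ω s t u c s' t' u' h1 h1'
    exact ⟨g, hg⟩
  have hidx : (MulAction.stabilizer S ω).index = 11 := by
    have h1 : MulAction.orbit S ω = Set.univ := Set.eq_univ_of_forall htr
    have h2 : Nat.card (MulAction.orbit S ω) = 11 := by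
      rw [h1, Nat.card_coe_set_eq, Set.ncard_univ, Nat.card_eq_fintype_card, h11]
    rw [← h2]
    exact (Nat.card_congr (MulAction.orbitEquivQuotientStabilizer S ω)).symm
  refine h.card_le_of_odd_index htop (R := MulAction.stabilizer S ω) (by rw [hidx]; norm_num) ?_
    fun Q hQ hQ2 hN => card_le_one hsh h11 ω Q hQ hQ2 hN
  intro h1
  rw [h1, index_top] at hidx
  norm_num at hidx

/-- **The row is dead.** -/
theorem m11_dead : DeadX.{u, v} (fun S _ => Spor.IsoM11 S) := m11.deadX (by norm_num)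

end Cfsg.Agent.Omega.ML.Ex.RowM11X

end

section


/-!
# Exact and low configurations: the row M12 (helper226)

`|A| ≤ 16` and `|M : C_M(x)| ≥ 16` for all involutions `x` of `K`, so `|A| = 16`, `C_M(x) = C_M(A)` for `x ∈ (A ∩ K)#`,
`E := A ∩ K` is of order 8 and normal in `C_K(x)` for all `x ∈ E#`.  There is no such `E` : no involution of `E` is in
2A (`C(2A) = 2 × S_5`), so `|C_K(x)| = 192` and the orbits of `N_K(E)` on the 7 elements of `E#` have the same length,
so `N_K(E) = C_K(E)` contains a Sylow 2-subgroup, which has a centre of order 2.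
-/

set_option autoImplicit false

namespace Cfsg.Agent.Omega.ML.Ex.RowM12X

open Subgroup Cfsg Cfsg.Agent.Omega.ML.Rows Cfsg.Agent.Omega.ML.InvChain Cfsg.Agent.Omega.ML.InvTool
open Cfsg.Agent.Omega.TwoF Cfsg.Agent.CoThreeStd Cfsg.Agent.CoThreeStd.MTwelve Cfsg.Agent.CoThreeStd.InvTwo
open Cfsg.Agent.ClassTwoFusion.Quad Cfsg.Agent.Omega.ML.Ex.TIE

universe u v

/-! ### The group theory of `M12` -/

section group

/-- the 2-rank of `M12` is at most 3 -/
theorem card_le_eight (B : Subgroup Spor.M12) (hB : ∀ b ∈ B, b * b = 1) : Nat.card B ≤ 8 := by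
  have hp : Fact (Nat.Prime 2) := ⟨Nat.prime_two⟩
  have hB2 : IsPGroup 2 B := fun b => ⟨1, by rw [pow_one, pow_two]; exact Subtype.ext (hB b b.2)⟩
  obtain ⟨P, hP⟩ := hB2.exists_le_sylow
  obtain ⟨e⟩ := Cfsg.Agent.MTwelveType.SylowModel.exists_equiv P
  have h1 : Nat.card B = Nat.card ((B.subgroupOf (P : Subgroup Spor.M12)).map e.symm.toMonoidHom) := by
    rw [← Nat.card_congr ((B.subgroupOf _).equivMapOfInjective e.symm.toMonoidHom e.symm.injective).toEquiv]
    exact Nat.card_congr (subgroupOfEquivOfLe hP).symm.toEquiv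
  rw [h1]
  apply TwoF.RowM12.card_le
  rintro _ ⟨b, hb, rfl⟩
  show e.symm b * e.symm b = 1
  rw [← map_mul, ← map_one e.symm]
  congr 1
  exact Subtype.ext (hB b hb)

theorem perm5 : ∀ σ : Equiv.Perm (Fin 5), σ * σ = 1 →
    (∀ τ : Equiv.Perm (Fin 5), (σ * (τ * σ * τ⁻¹)) * (σ * (τ * σ * τ⁻¹)) = 1) → σ = 1 := by decide +kernel

/-- a normal elementary abelian subgroup of `C(2A)` is `⟨x⟩` or `1` -/
theorem not_A {E : Subgroup Spor.M12} (hE : ∀ e ∈ E, e * e = 1) {x : Spor.M12} (hx : x ∈ E) (hA : InvTwo.IsA x)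
    (hN : centralizer ({x} : Set Spor.M12) ≤ normalizer (E : Set Spor.M12)) {e : Spor.M12} (he : e ∈ E) :
    e = 1 ∨ e = x := by
  obtain ⟨c, rfl⟩ := hA
  have hcomm : ∀ a ∈ E, ∀ b ∈ E, a * b = b * a := by
    intro a ha b hb
    have h1 : ∀ z ∈ E, z⁻¹ = z := fun z hz => inv_eq_of_mul_eq_one_right (hE z hz)
    calc a * b = (a * b)⁻¹ := (h1 _ (E.mul_mem ha hb)).symm
      _ = b⁻¹ * a⁻¹ := mul_inv_rev _ _
      _ = b * a := by rw [h1 _ ha, h1 _ hb]
  have h1 : (c * e * c⁻¹) * y = y * (c * e * c⁻¹) := by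
    have h2 := hcomm e he _ hx
    calc (c * e * c⁻¹) * y = c * (e * (c⁻¹ * y * c)) * c⁻¹ := by group
      _ = c * ((c⁻¹ * y * c) * e) * c⁻¹ := by rw [h2]
      _ = y * (c * e * c⁻¹) := by group
  obtain ⟨σ, hσ⟩ := cent_y _ h1
  have hee : (c * e * c⁻¹) * (c * e * c⁻¹) = 1 := by
    calc (c * e * c⁻¹) * (c * e * c⁻¹) = c * (e * e) * c⁻¹ := by group
      _ = 1 := by rw [hE e he]; group
  -- the conjugates
  have hconj : ∀ τ, (c * e * c⁻¹ * (w τ * (c * e * c⁻¹) * (w τ)⁻¹)) * (c * e * c⁻¹ * (w τ * (c * e * c⁻¹) * (w τ)⁻¹)) = 1 := by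
    intro τ
    have h2 : c⁻¹ * w τ * c ∈ centralizer ({c⁻¹ * y * c} : Set Spor.M12) := by
      rw [mem_centralizer_singleton_iff]
      have h3 := y_comm τ
      calc (c⁻¹ * w τ * c) * (c⁻¹ * y * c) = c⁻¹ * (w τ * y) * c := by group
        _ = c⁻¹ * (y * w τ) * c := by rw [h3]
        _ = (c⁻¹ * y * c) * (c⁻¹ * w τ * c) := by group
    have h3 := (mem_normalizer_iff.1 (hN h2) e).1 he
    have h4 := hE _ (E.mul_mem he h3)
    calc (c * e * c⁻¹ * (w τ * (c * e * c⁻¹) * (w τ)⁻¹)) * (c * e * c⁻¹ * (w τ * (c * e * c⁻¹) * (w τ)⁻¹))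
        = c * ((e * ((c⁻¹ * w τ * c) * e * (c⁻¹ * w τ * c)⁻¹)) * (e * ((c⁻¹ * w τ * c) * e * (c⁻¹ * w τ * c)⁻¹))) * c⁻¹ := by
          group
      _ = 1 := by rw [h4]; group
  have hσ1 : σ = 1 := by
    refine perm5 σ ?_ fun τ => ?_
    · apply w_injective
      rw [map_mul, map_one]
      rcases hσ with h2 | h2
      · rw [← h2, hee]
      · have h3 := hee
        rw [h2] at h3
        calc w σ * w σ = y * y * w σ * w σ := by rw [y_sq, one_mul]
          _ = y * (y * w σ) * w σ := by group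
          _ = y * (w σ * y) * w σ := by rw [y_comm]
          _ = (y * w σ) * (y * w σ) := by group
          _ = 1 := h3
    · apply w_injective
      rw [map_mul, map_one, map_mul, map_mul, map_mul, map_inv]
      rcases hσ with h2 | h2
      · have h3 := hconj τ
        rwa [h2] at h3
      · have h3 := hconj τ
        rw [h2] at h3
        have h4 : y * w σ * (w τ * (y * w σ) * (w τ)⁻¹) = w σ * (w τ * w σ * (w τ)⁻¹) := by
          calc y * w σ * (w τ * (y * w σ) * (w τ)⁻¹) = (y * w σ) * ((w τ * y) * w σ * (w τ)⁻¹) := by group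
            _ = (w σ * y) * ((y * w τ) * w σ * (w τ)⁻¹) := by rw [← y_comm τ, y_comm σ]
            _ = w σ * (y * y) * (w τ * w σ * (w τ)⁻¹) := by group
            _ = _ := by rw [y_sq, mul_one]
        rwa [h4] at h3
  rw [hσ1, map_one, mul_one] at hσ
  rcases hσ with h2 | h2
  · left
    calc e = c⁻¹ * (c * e * c⁻¹) * c := by group
      _ = 1 := by rw [h2]; group
  · right
    calc e = c⁻¹ * (c * e * c⁻¹) * c := by group
      _ = c⁻¹ * y * c := by rw [h2]

/-- the centre of the Sylow 2-subgroup -/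
theorem center_T4 : ∀ x : TwoF.RowM12.T4, (∀ y : TwoF.RowM12.T4, x * y = y * x) → x = 1 ∨ x = Cfsg.Agent.ClassificationK.GTwoModel.T.z 2 := by
  decide +kernel

theorem card_cent_B {x : Spor.M12} (hx : InvTwo.IsB x) : Nat.card (centralizer ({x} : Set Spor.M12)) = 192 := by
  obtain ⟨c, rfl⟩ := hx
  rw [← card_cent_v]
  have h1 : centralizer ({c⁻¹ * (p * r) * c} : Set Spor.M12) =
      (centralizer ({p * r} : Set Spor.M12)).map (MulAut.conj c⁻¹).toMonoidHom := by
    ext g
    rw [mem_centralizer_singleton_iff]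
    constructor
    · intro h
      refine ⟨c * g * c⁻¹, mem_centralizer_singleton_iff.2 ?_, ?_⟩
      · calc c * g * c⁻¹ * (p * r) = c * (g * (c⁻¹ * (p * r) * c)) * c⁻¹ := by group
          _ = c * ((c⁻¹ * (p * r) * c) * g) * c⁻¹ := by rw [h]
          _ = p * r * (c * g * c⁻¹) := by group
      · show c⁻¹ * (c * g * c⁻¹) * c⁻¹⁻¹ = g
        group
    · rintro ⟨k, hk, rfl⟩
      have h2 := mem_centralizer_singleton_iff.1 hk
      show c⁻¹ * k * c⁻¹⁻¹ * (c⁻¹ * (p * r) * c) = c⁻¹ * (p * r) * c * (c⁻¹ * k * c⁻¹⁻¹)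
      calc c⁻¹ * k * c⁻¹⁻¹ * (c⁻¹ * (p * r) * c) = c⁻¹ * (k * (p * r)) * c := by group
        _ = c⁻¹ * ((p * r) * k) * c := by rw [h2]
        _ = _ := by group
  rw [h1]
  exact card_map_of_injective (MulAut.conj c⁻¹).injective

/-- **No `E` of order 8 is normal in the centralizers of its involutions.** -/
theorem no_eight {E : Subgroup Spor.M12} (hE : ∀ e ∈ E, e * e = 1) (h8 : Nat.card E = 8)
    (hN : ∀ x ∈ E, x ≠ 1 → centralizer ({x} : Set Spor.M12) ≤ normalizer (E : Set Spor.M12)) : False := by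
  have hp : Fact (Nat.Prime 2) := ⟨Nat.prime_two⟩
  set N := normalizer (E : Set Spor.M12) with hNd
  -- all the involutions are in 2B
  have hB : ∀ x ∈ E, x ≠ 1 → Nat.card (centralizer ({x} : Set Spor.M12)) = 192 := by
    intro x hx hx1
    rcases inv2.cases x (hE x hx) hx1 with hA | hB
    · exfalso
      have h1 : (E : Set Spor.M12) ⊆ {1, x} := fun e he => by
        rcases not_A hE hx hA (hN x hx hx1) he with h | h
        · exact Or.inl h
        · exact Or.inr h
      have h2 : Nat.card E ≤ 2 := by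
        have h3 := Set.ncard_le_ncard h1 (Set.toFinite _)
        have h4 : ({1, x} : Set Spor.M12).ncard ≤ 2 := Set.ncard_insert_le _ _ |>.trans (by rw [Set.ncard_singleton])
        exact le_trans (le_of_eq (Nat.card_coe_set_eq (E : Set Spor.M12))) (h3.trans h4)
      omega
    · exact card_cent_B hB
  -- the action of `N` on `E#`
  let Y : Type := {e : Spor.M12 // e ∈ E ∧ e ≠ 1}
  have hnm : ∀ (g : N) (e : Y), (g : Spor.M12) * e.1 * (g : Spor.M12)⁻¹ ∈ E ∧
      (g : Spor.M12) * e.1 * (g : Spor.M12)⁻¹ ≠ 1 := by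
    intro g e
    refine ⟨(mem_normalizer_iff.1 g.2 e.1).1 e.2.1, fun h => e.2.2 ?_⟩
    calc e.1 = (g : Spor.M12)⁻¹ * ((g : Spor.M12) * e.1 * (g : Spor.M12)⁻¹) * g := by group
      _ = 1 := by rw [h]; group
  letI : MulAction N Y :=
    { smul := fun g e => ⟨(g : Spor.M12) * e.1 * (g : Spor.M12)⁻¹, hnm g e⟩
      one_smul := fun e => Subtype.ext (by
        show ((1 : N) : Spor.M12) * e.1 * ((1 : N) : Spor.M12)⁻¹ = e.1
        simp)
      mul_smul := fun g g' e => Subtype.ext (by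
        show ((g * g' : N) : Spor.M12) * e.1 * ((g * g' : N) : Spor.M12)⁻¹ = 
          (g : Spor.M12) * ((g' : Spor.M12) * e.1 * (g' : Spor.M12)⁻¹) * (g : Spor.M12)⁻¹
        simp [mul_assoc]) }
  have hsm : ∀ (g : N) (e : Y), ((g • e : Y) : Spor.M12) = (g : Spor.M12) * e.1 * (g : Spor.M12)⁻¹ := fun _ _ => rfl
  have hstab : ∀ e : Y, Nat.card (MulAction.stabilizer N e) = 192 := by
    intro e
    rw [← hB e.1 e.2.1 e.2.2]
    have h1 : (MulAction.stabilizer N e).map N.subtype = centralizer ({e.1} : Set Spor.M12) := by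
      ext g
      rw [mem_centralizer_singleton_iff]
      constructor
      · rintro ⟨k, hk, rfl⟩
        have h2 := congrArg Subtype.val (MulAction.mem_stabilizer_iff.1 hk)
        rw [hsm] at h2
        exact mul_inv_eq_iff_eq_mul.1 h2
      · intro h
        refine ⟨⟨g, hN e.1 e.2.1 e.2.2 (mem_centralizer_singleton_iff.2 h)⟩, ?_, rfl⟩
        apply MulAction.mem_stabilizer_iff.2
        apply Subtype.ext
        rw [hsm]
        exact mul_inv_eq_iff_eq_mul.2 h
    rw [← h1]
    exact (card_map_of_injective N.subtype_injective).symm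
  have horb : ∀ e : Y, Nat.card (MulAction.orbit N e) * 192 = Nat.card N := by
    intro e
    have h1 := MulAction.index_stabilizer N e
    have h2 := (MulAction.stabilizer N e).card_mul_index
    rw [h1, hstab e, ← Nat.card_coe_set_eq, mul_comm] at h2
    exact h2
  -- the number of elements
  have h7 : Nat.card Y = 7 := by
    have h1 : Nat.card Y + 1 = Nat.card E := by
      have h2 : ({e : Spor.M12 | e ∈ E ∧ e ≠ 1} : Set Spor.M12) = (E : Set Spor.M12) \ {1} := by
        ext e; simp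
      have h3 : Nat.card Y = ((E : Set Spor.M12) \ {1}).ncard := by
        rw [← h2]
        exact Nat.card_coe_set_eq _
      rw [h3, Set.ncard_diff_singleton_add_one (one_mem E) (Set.toFinite _)]
      exact (Nat.card_coe_set_eq _).symm
    omega
  have hfinY : Finite Y := Nat.finite_of_card_ne_zero (by rw [h7]; norm_num)
  obtain ⟨e₀⟩ : Nonempty Y := Finite.card_pos_iff.1 (by rw [h7]; norm_num)
  set m := Nat.card (MulAction.orbit N e₀) with hm
  have hcard : Nat.card N = m * 192 := (horb e₀).symm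
  have h1 : Nat.card Y = Nat.card (MulAction.orbitRel.Quotient N Y) * m := by
    have := Fintype.ofFinite (MulAction.orbitRel.Quotient N Y)
    rw [Nat.card_congr (MulAction.selfEquivSigmaOrbits' N Y), Nat.card_sigma]
    have h2 : ∀ ω : MulAction.orbitRel.Quotient N Y, Nat.card ω.orbit = m := by
      intro ω
      rw [MulAction.orbitRel.Quotient.orbit_eq_orbit_out ω Quotient.out_eq']
      have h3 := horb ω.out
      rw [hcard] at h3
      exact Nat.eq_of_mul_eq_mul_right (by norm_num) h3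
    rw [Finset.sum_congr rfl fun ω _ => h2 ω, Finset.sum_const, Finset.card_univ, smul_eq_mul, Nat.card_eq_fintype_card]
  have hm7 : m = 1 := by
    have h2 : m ∣ 7 := ⟨_, by rw [← h7, h1, mul_comm]⟩
    rcases (Nat.dvd_prime (by norm_num : Nat.Prime 7)).1 h2 with h | h
    · exact h
    · exfalso
      have h3 : Nat.card N ∣ Nat.card Spor.M12 := card_subgroup_dvd_card N
      rw [hcard, h, TwoF.RowM12.card_M12] at h3
      norm_num at h3
  have hcN : Nat.card N = 192 := by rw [hcard, hm7, one_mul]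
  -- `N` centralizes `E`
  have hcen : ∀ g ∈ N, ∀ e ∈ E, g * e = e * g := by
    intro g hg e he
    by_cases he1 : e = 1
    · rw [he1, mul_one, one_mul]
    · have h2 : centralizer ({e} : Set Spor.M12) = N :=
        Subgroup.eq_of_le_of_card_ge (hN e he he1) (by rw [hcN, hB e he he1])
      exact mem_centralizer_singleton_iff.1 (h2 ▸ hg)
  -- a Sylow 2-subgroup in `N`
  have hidx : ¬ 2 ∣ N.index := by
    intro h2
    have h3 := N.card_mul_index
    rw [hcN, TwoF.RowM12.card_M12] at h3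
    have h4 : N.index = 495 := by omega
    rw [h4] at h2
    norm_num at h2
  obtain ⟨P⟩ : Nonempty (Sylow 2 Spor.M12) := inferInstance
  obtain ⟨g, hg⟩ := exists_conj_le P.isPGroup' hidx
  -- `g E g⁻¹` centralizes `P`
  have hPE : ∀ t ∈ (P : Subgroup Spor.M12), ∀ e ∈ E, t * (g * e * g⁻¹) = g * e * g⁻¹ * t := by
    intro t ht e he
    have h2 := hcen _ (hg t ht) e he
    calc t * (g * e * g⁻¹) = g * ((g⁻¹ * t * g) * e) * g⁻¹ := by group
      _ = g * (e * (g⁻¹ * t * g)) * g⁻¹ := by rw [h2]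
      _ = _ := by group
  set E' : Subgroup Spor.M12 := E.map (MulAut.conj g).toMonoidHom with hE'
  have hE'2 : IsPGroup 2 E' := by
    rintro ⟨_, e, he, rfl⟩
    refine ⟨1, Subtype.ext ?_⟩
    show (g * e * g⁻¹) ^ 2 ^ 1 = 1
    rw [pow_one, conj_pow, pow_two, hE e he]
    group
  have hle : E' ≤ (P : Subgroup Spor.M12) := by
    have h2 : (P : Subgroup Spor.M12) ≤ normalizer (E' : Set Spor.M12) := by
      refine le_trans ?_ (centralizer_le_normalizer _)
      intro t ht
      rw [mem_centralizer_iff]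
      rintro _ ⟨e, he, rfl⟩
      exact (hPE t ht e he).symm
    have h3 : IsPGroup 2 ((E' ⊔ (P : Subgroup Spor.M12) : Subgroup Spor.M12)) :=
      hE'2.to_sup_of_normal_left' P.isPGroup' h2
    have h4 := P.is_maximal' h3 le_sup_right
    exact h4 ▸ le_sup_left
  obtain ⟨f⟩ := Cfsg.Agent.MTwelveType.SylowModel.exists_equiv P
  -- the centre
  have h5 : (E' : Set Spor.M12) ⊆ {1, ((f (Cfsg.Agent.ClassificationK.GTwoModel.T.z 2) : (P : Subgroup Spor.M12)) : Spor.M12)} := by
    intro x hx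
    have hxP := hle hx
    rcases center_T4 (f.symm ⟨x, hxP⟩) (fun t => by
      apply f.injective
      rw [map_mul, map_mul, f.apply_symm_apply]
      apply Subtype.ext
      obtain ⟨e, he, rfl⟩ := hx
      exact (hPE _ (f t).2 e he).symm) with h6 | h6
    · left
      have h7 := congrArg f h6
      rw [f.apply_symm_apply, map_one] at h7
      exact congrArg Subtype.val h7
    · right
      have h7 := congrArg f h6
      rw [f.apply_symm_apply] at h7
      exact congrArg Subtype.val h7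
  have h6 : Nat.card E' ≤ 2 := by
    have h7 := Set.ncard_le_ncard h5 (Set.toFinite _)
    have h8' := Set.ncard_insert_le (1 : Spor.M12) {((f (Cfsg.Agent.ClassificationK.GTwoModel.T.z 2) : (P : Subgroup Spor.M12)) : Spor.M12)}
    rw [Set.ncard_singleton] at h8'
    exact le_trans (le_of_eq (Nat.card_coe_set_eq (E' : Set Spor.M12))) (h7.trans h8')
  have h9 : Nat.card E' = 8 := by
    rw [← h8]
    exact card_map_of_injective (MulAut.conj g).injective
  omega

end group

/-! ### The module -/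

section module

variable {H : Type u} [Group H] [Finite H] {M : Type v} [Group M] [Finite M] [MulDistribMulAction H M]
  {K T A : Subgroup H}

omit [Finite H] in
theorem two_pow_le (h : InX H M K T A) {n : ℕ} {x : K} (hxx : x * x = 1) (hx : InvAt x n) :
    2 ^ n ≤ (cv M ({(x : H)} : Set H)).index :=
  InvRow.inv_big h.sq h.faith (congrArg Subtype.val hxx) (hx.map K.subtype K.subtype_injective)

omit [Finite H] in
/-- `C_M(x) = C_M(A)`, `|A| = 2 ^ n` -/
theorem cv_eq (h : InX H M K T A) {n : ℕ} (hn : Nat.card A ≤ 2 ^ n) {x : K} (hxA : (x : H) ∈ A) (hx : InvAt x n) :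
    cv M ({(x : H)} : Set H) = cv M (A : Set H) ∧ Nat.card A = 2 ^ n := by
  have hxx : x * x = 1 := Subtype.ext (h.el _ hxA)
  have h1 := two_pow_le h hxx hx
  have hle : cv M (A : Set H) ≤ cv M ({(x : H)} : Set H) := cv_anti (by simpa using hxA)
  have h4 : (cv M (A : Set H)).relIndex (cv M ({(x : H)} : Set H)) * (cv M ({(x : H)} : Set H)).index =
      (cv M (A : Set H)).index := relIndex_mul_index hle
  rw [h.exact] at h4
  have h5 : (cv M (A : Set H)).relIndex (cv M ({(x : H)} : Set H)) ≠ 0 := index_ne_zero_of_finite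
  have h6 : (cv M (A : Set H)).relIndex (cv M ({(x : H)} : Set H)) = 1 := by
    by_contra h7
    have h8 : 2 ≤ (cv M (A : Set H)).relIndex (cv M ({(x : H)} : Set H)) := by omega
    have h9 : 2 * (cv M ({(x : H)} : Set H)).index ≤ Nat.card A := by
      rw [← h4]
      exact Nat.mul_le_mul_right _ h8
    have h10 : 0 < 2 ^ n := by positivity
    omega
  refine ⟨le_antisymm (relIndex_eq_one.1 h6) hle, ?_⟩
  rw [h6, one_mul] at h4
  omega

/-- **The row M12.** -/
theorem deadX : DeadX.{u, v} (fun S _ => Spor.IsoM12 S) := by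
  rintro H _ _ M _ _ _ K T A h ⟨e⟩
  have hn := h.norm
  have h16 : Nat.card A ≤ 2 ^ 4 := h.asx.card_le_of_rk (TwoF.RowM12.rk.equiv e)
  have hinv : ∀ x : K, x * x = 1 → x ≠ 1 → InvAt x 4 := by
    intro x h2 h1
    have h3 := RowM12.invAt (x := e x) (by rw [← map_mul, h2, map_one])
      (fun h => h1 (e.injective (h.trans (map_one e).symm)))
    have h4 := h3.map e.symm.toMonoidHom e.symm.injective
    have h5 : e.symm.toMonoidHom (e x) = x := e.symm_apply_apply x
    rwa [h5] at h4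
  have hidx : K.index ≤ 2 := by
    refine h.asx.index_le.trans ?_
    rw [index_conj_eq e]
    exact Nat.le_of_dvd (by norm_num) TwoF.RowM12.index_dvd
  set E : Subgroup K := A.subgroupOf K with hEd
  have hcA : Nat.card A ≤ Nat.card E * 2 := (h.asx.card_le_mul_index A).trans (Nat.mul_le_mul_left _ hidx)
  have hEel : ∀ x ∈ E, x * x = 1 := fun x hx => Subtype.ext (h.el _ hx)
  have hrk : ∀ B : Subgroup K, (∀ b ∈ B, b * b = 1) → Nat.card B ≤ 8 := by
    intro B hB
    have h1 := card_le_eight (B.map e.toMonoidHom) (by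
      rintro _ ⟨b, hb, rfl⟩
      rw [← map_mul, hB b hb, map_one])
    rwa [card_map_of_injective e.injective] at h1
  -- `E ≠ 1`
  have hE1 : ∃ x ∈ E, x ≠ 1 := by
    by_contra hcon
    push Not at hcon
    have h1 : E = ⊥ := (eq_bot_iff_forall _).2 hcon
    rw [h1, card_bot] at hcA
    have := h.four
    omega
  have heq : ∀ x ∈ E, x ≠ 1 → cv M ({(x : H)} : Set H) = cv M (A : Set H) := fun x hx hx1 =>
    (cv_eq h h16 hx (hinv x (hEel x hx) hx1)).1
  have hA16 : Nat.card A = 16 := by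
    obtain ⟨x, hx, hx1⟩ := hE1
    exact (cv_eq h h16 hx (hinv x (hEel x hx) hx1)).2
  have hE8 : Nat.card E = 8 := by
    have := hrk E hEel
    omega
  set F := cv M (A : Set H) with hF
  -- `E = EE F ∩ K`
  have hEE : E = (EE F : Subgroup H).subgroupOf K := by
    apply Subgroup.eq_of_le_of_card_ge
    · intro x hx
      by_cases hx1 : x = 1
      · rw [hx1]
        exact one_mem _
      · have h1 := heq x hx hx1
        refine ⟨fun m hm => hm _ hx, fun m => ?_⟩
        show ((x : H) • m) * m⁻¹ ∈ F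
        have h2 : (x : H) * x = 1 := h.el _ hx
        rw [← h1, mem_cv_singleton, smul_mul', smul_inv', ← mul_smul, h2, one_smul]
        have h3 : m⁻¹ = m := inv_eq_of_mul_eq_one_left (h.sq m)
        have h4 : ((x : H) • m)⁻¹ = (x : H) • m := inv_eq_of_mul_eq_one_left (h.sq _)
        rw [h3, h4, h.comm]
    · rw [hE8]
      exact hrk _ fun b hb => Subtype.ext (EE_sq h.sq h.faith hb)
  -- the centralizers normalize `E`
  have hnE : ∀ x ∈ E, x ≠ 1 → centralizer ({x} : Set K) ≤ normalizer (E : Set K) := by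
    intro x hx hx1 g hg
    have h1 := heq x hx hx1
    have h2 : (g : H) * x = x * g := congrArg Subtype.val (mem_centralizer_singleton_iff.1 hg)
    have h3 : ∀ m, m ∈ F ↔ (g : H) • m ∈ F := by
      intro m
      rw [← h1, mem_cv_singleton, mem_cv_singleton, ← mul_smul, ← h2, mul_smul]
      exact ⟨fun h => by rw [h], fun h => smul_left_cancel _ h⟩
    have h3' : ∀ m, m ∈ F ↔ (g : H)⁻¹ • m ∈ F := fun m => by rw [h3 ((g : H)⁻¹ • m), smul_inv_smul]
    rw [mem_normalizer_iff]
    intro y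
    rw [hEE]
    constructor
    · intro hy
      exact smul_mem_EE h3 hy
    · intro hy
      have h4 := smul_mem_EE h3' hy
      have h5 : (g : H)⁻¹ * (K.subtype (g * y * g⁻¹)) * (g : H)⁻¹⁻¹ = K.subtype y := by
        rw [map_mul, map_mul, map_inv]
        show (g : H)⁻¹ * ((g : H) * y * (g : H)⁻¹) * (g : H)⁻¹⁻¹ = y
        group
      rw [h5] at h4
      exact h4
  -- transport to the model
  refine no_eight (E := E.map e.toMonoidHom) ?_ ?_ ?_
  · rintro _ ⟨b, hb, rfl⟩
    rw [← map_mul, hEel b hb, map_one]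
  · rw [← hE8]
    exact card_map_of_injective e.injective
  · rintro _ ⟨x, hx, rfl⟩ hx1 g hg
    have h1 : x ≠ 1 := fun h => hx1 (by rw [h, map_one])
    obtain ⟨k, rfl⟩ := e.surjective g
    have h2 : k ∈ centralizer ({x} : Set K) := by
      rw [mem_centralizer_singleton_iff] at hg ⊢
      apply e.injective
      rw [map_mul, map_mul]
      exact hg
    have h3 := mem_normalizer_iff.1 (hnE x hx h1 h2)
    rw [mem_normalizer_iff]
    intro y
    obtain ⟨y, rfl⟩ := e.surjective y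
    constructor
    · rintro ⟨z, hz, hzy⟩
      have h4 : z = y := e.injective hzy
      rw [h4] at hz
      exact ⟨k * y * k⁻¹, (h3 y).1 hz, by simp⟩
    · rintro ⟨z, hz, hzy⟩
      have h4 : z = k * y * k⁻¹ := e.injective (by
        rw [map_mul, map_mul, map_inv]
        exact hzy)
      rw [h4] at hz
      exact ⟨y, (h3 y).2 hz, rfl⟩

end module

end Cfsg.Agent.Omega.ML.Ex.RowM12X

end

section


/-!
# EXACT + LOW rows: products of conjugates of an exact group (helper278)

`H` acts on the finite 2-group `M`; `fab M 1 1 X = |X| |C_M(X)|` is log-supermodular.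

* `Off f A` : `f 1 ≤ f A` and `f C ≤ f 1` for all `C ≤ A` (exact and sub-exact);  `Off.of_exact`;  `Off.cj`;
* `Off.iSup` : **(P)** `f 1 ≤ f D` for every join `D` of such subgroups;  `index_le_of` : `|M : C_M(D)| ≤ |D|`;
* `index_iSup_le` : `|M : C_M(⟨D_1, .., D_k⟩)| ≤ ∏ |M : C_M(D_i)|`;
* `false_of_prime_mem` : an element of odd prime order `r`, `r ∤ 2 ^ j - 1` for `0 < j ≤ m`, is not in a subgroup `L` with
  `|M : C_M(L)| ≤ 2 ^ m`;
* `index_le_of_loc` : the K-fact `Loc H E x p n` and a low exact `A ≠ 1` give `|M : C_M(E)| ≤ 2 ^ n`.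
-/

set_option autoImplicit false

namespace Cfsg.Agent.Omega.ML.Ex.Prod

open Subgroup Cfsg Cfsg.Agent.ClassTwoFusion.Quad Cfsg.Agent.Omega.NOThree.NoOver Cfsg.Agent.Omega.ML.CD
open Cfsg.Agent.ZN Cfsg.Agent.Omega.ML.LocRow Cfsg.Agent.Omega.ML.LocPrime
open Cfsg.Agent.MinSimple.VModule (o2_isPGroup o2_le le_o2 le_normalizer_o2)

universe u v

section ls

variable {H : Type*} [Group H] {f : Subgroup H → ℕ}

/-- exact and sub-exact -/
structure Off (f : Subgroup H → ℕ) (A : Subgroup H) : Prop where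
  ge : f ⊥ ≤ f A
  sub : ∀ C ≤ A, f C ≤ f ⊥

theorem Off.cj (hf : LS f) {A : Subgroup H} (h : Off f A) (g : H) : Off f (cj g A) where
  ge := by rw [hf.conj]; exact h.ge
  sub := by
    intro C hC
    have h1 := h.sub (Cfsg.Agent.Omega.NOThree.NoOver.cj g⁻¹ C) (by rwa [cj_le_iff, inv_inv])
    rwa [hf.conj] at h1

/-- **(P)** -/
theorem Off.iSup [Finite H] (hf : LS f) {ι : Sort*} {A : ι → Subgroup H} (h : ∀ i, Off f (A i)) :
    f ⊥ ≤ f (⨆ i, A i) := by
  obtain ⟨X, hX, hmax⟩ := Set.exists_max_image {X : Subgroup H | X ≤ ⨆ i, A i ∧ f ⊥ ≤ f X} (fun X => Nat.card X)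
    (Set.toFinite _) ⟨⊥, bot_le, le_rfl⟩
  have hle : ∀ i, A i ≤ X := by
    intro i
    have h1 := hf.sup X (A i)
    have h2 : f ⊥ * f ⊥ ≤ f (X ⊔ A i) * f ⊥ :=
      (Nat.mul_le_mul hX.2 (h i).ge).trans (h1.trans (Nat.mul_le_mul_left _ ((h i).sub _ inf_le_right)))
    have h3 : f ⊥ ≤ f (X ⊔ A i) := Nat.le_of_mul_le_mul_right h2 (hf.pos ⊥)
    have h4 := hmax (X ⊔ A i) ⟨sup_le hX.1 (le_iSup A i), h3⟩
    have h5 := eq_of_le_of_card_ge (le_sup_left : X ≤ X ⊔ A i) h4
    exact le_sup_right.trans h5.ge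
  rw [show (⨆ i, A i) = X from le_antisymm (iSup_le hle) hX.1]
  exact hX.2

end ls

section action

variable {H : Type*} [Group H] {M : Type*} [Group M] [MulDistribMulAction H M]

/-- the form with indices -/
theorem Off.of_exact [Finite M] {A : Subgroup H} (exact : (cv M (A : Set H)).index = Nat.card A)
    (sub : ∀ C ≤ A, Nat.card C ≤ (cv M (C : Set H)).index) : Off (fab M 1 1) A where
  ge := by
    have h1 := card_mul_index (cv M (A : Set H))
    unfold fab
    rw [cv_bot, card_bot, pow_one, pow_one, pow_one, pow_one, one_mul, card_top, ← h1, exact, mul_comm]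
  sub := by
    intro C hC
    have h1 := card_mul_index (cv M (C : Set H))
    unfold fab
    rw [cv_bot, card_bot, pow_one, pow_one, pow_one, pow_one, one_mul, card_top, ← h1, mul_comm]
    exact Nat.mul_le_mul_left _ (sub C hC)

theorem index_le_of [Finite M] {D : Subgroup H} (h : fab M 1 1 (⊥ : Subgroup H) ≤ fab M 1 1 D) :
    (cv M (D : Set H)).index ≤ Nat.card D := by
  have h1 := card_mul_index (cv M (D : Set H))
  unfold fab at h
  rw [cv_bot, card_bot, pow_one, pow_one, pow_one, pow_one, one_mul, card_top, ← h1, mul_comm] at h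
  exact Nat.le_of_mul_le_mul_right h Nat.card_pos

/-- **(P)** for the action -/
theorem index_le_card [Finite H] [Finite M] {A : Subgroup H} (h : Off (fab M 1 1) A) {ι : Sort*} (g : ι → H) :
    (cv M ((⨆ i, cj (g i) A : Subgroup H) : Set H)).index ≤ Nat.card (⨆ i, cj (g i) A : Subgroup H) :=
  index_le_of (Off.iSup (ls_fab M 1 1) fun i => h.cj (ls_fab M 1 1) (g i))

theorem cv_sup (A B : Subgroup H) : cv M ((A ⊔ B : Subgroup H) : Set H) = cv M (A : Set H) ⊓ cv M (B : Set H) := by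
  ext m
  constructor
  · intro h
    exact ⟨fun a ha => h a (le_sup_left (a := A) (b := B) ha), fun b hb => h b (le_sup_right (a := A) (b := B) hb)⟩
  · rintro ⟨h1, h2⟩ x hx
    have h3 : A ⊔ B ≤ MulAction.stabilizer H m :=
      sup_le (fun a ha => MulAction.mem_stabilizer_iff.2 (h1 a ha)) fun b hb => MulAction.mem_stabilizer_iff.2 (h2 b hb)
    exact MulAction.mem_stabilizer_iff.1 (h3 hx)

/-- two subgroups -/
theorem index_sup_le [Finite M] (A B : Subgroup H) : (cv M ((A ⊔ B : Subgroup H) : Set H)).index ≤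
    (cv M (A : Set H)).index * (cv M (B : Set H)).index := by
  rw [cv_sup]
  exact index_inf_le

/-- `|M : C_M(A^g)| = |M : C_M(A)|` -/
theorem index_cj [Finite H] [Finite M] (g : H) (A : Subgroup H) :
    (cv M ((cj g A : Subgroup H) : Set H)).index = (cv M (A : Set H)).index := by
  have h1 := (ls_fab (H := H) (M := M) 1 1).conj g A
  have h2 : Nat.card (cj g A) = Nat.card A :=
    (Nat.card_congr (A.equivMapOfInjective _ (MulAut.conj g).injective).toEquiv).symm
  unfold fab at h1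
  rw [pow_one, pow_one, pow_one, pow_one, h2] at h1
  have h3 := Nat.eq_of_mul_eq_mul_left Nat.card_pos h1
  have h4 := card_mul_index (cv M ((cj g A : Subgroup H) : Set H))
  have h5 := card_mul_index (cv M (A : Set H))
  rw [h3, ← h5] at h4
  exact Nat.eq_of_mul_eq_mul_left Nat.card_pos h4

/-- an element of odd prime order `r` with `r ∤ 2 ^ j - 1`, `0 < j ≤ m`, does not centralise a subgroup of index
`≤ 2 ^ m` -/
theorem false_of_prime_mem [Finite M] (sq : ∀ m : M, m * m = 1) (faith : ∀ h : H, (∀ m : M, h • m = m) → h = 1)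
    {W : Subgroup M} {m r : ℕ} (hW : W.index ≤ 2 ^ m) (hr : r.Prime) (hr2 : r ≠ 2)
    (nd : ∀ j, 0 < j → j ≤ m → ¬ r ∣ 2 ^ j - 1) {y : H} (hy : orderOf y = r) (hc : ∀ w ∈ W, y • w = w) : False := by
  have hrf : Fact r.Prime := ⟨hr⟩
  have hcomm := Cfsg.Agent.Omega.ML.LocPrime.smul_mul_inv_mem (C := zpowers y) (U := M) (p := r) (n := m + 1) hr hr2
    (fun k h1 h2 => nd k h1 (by omega)) (IsPGroup.of_card (n := 1) (by rw [Nat.card_zpowers, hy, pow_one])) sq
    (D := cv M ((zpowers y : Subgroup H) : Set H)) ?_ ?_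
  · -- `y` acts trivially on `M / C_M(y)`, so on `M`
    have h1 : ∀ m : M, y • m = m := by
      intro m
      obtain ⟨d, hd⟩ : ∃ d, d = y • m * m⁻¹ := ⟨_, rfl⟩
      have hdc : y • d = d := by
        rw [hd]
        exact hcomm ⟨y, mem_zpowers y⟩ m y (mem_zpowers y)
      have hm : y • m = d * m := by rw [hd, inv_mul_cancel_right]
      have hpow : ∀ i : ℕ, y ^ i • m = d ^ i * m := by
        intro i
        induction i with
        | zero => simp
        | succ i ih => rw [pow_succ', mul_smul, ih, smul_mul', smul_pow', hdc, hm, ← mul_assoc, pow_succ]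
      have h2 := hpow r
      rw [← hy, pow_orderOf_eq_one, one_smul, hy] at h2
      have h3 : d ^ r = 1 := (mul_eq_right.1 h2.symm)
      have h4 : d ^ 2 = 1 := by rw [pow_two]; exact sq d
      have h5 : d = 1 := by
        have h6 : Nat.Coprime r 2 := (Nat.coprime_primes hr Nat.prime_two).2 hr2
        exact orderOf_eq_one_iff.1 (Nat.eq_one_of_dvd_coprimes h6 (orderOf_dvd_of_pow_eq_one h3)
          (orderOf_dvd_of_pow_eq_one h4))
      rw [hm, h5, one_mul]
    have h2 := faith y h1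
    rw [h2, orderOf_one] at hy
    exact hr.one_lt.ne hy
  · intro x d hd z hz
    obtain ⟨i, hi⟩ := x.2
    obtain ⟨j, rfl⟩ := hz
    change (y ^ j) • ((x : H) • d) = (x : H) • d
    have h1 : (x : H) • d = d := hd _ x.2
    rw [h1]
    exact hd _ ⟨j, rfl⟩
  · have h1 : W ≤ cv M ((zpowers y : Subgroup H) : Set H) := by
      intro w hw z hz
      have h2 : zpowers y ≤ MulAction.stabilizer H w := by
        rw [zpowers_le]
        exact MulAction.mem_stabilizer_iff.2 (hc w hw)
      exact MulAction.mem_stabilizer_iff.1 (h2 hz)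
    have h2 : (cv M ((zpowers y : Subgroup H) : Set H)).index ≤ 2 ^ m :=
      (Nat.le_of_dvd (Nat.pos_of_ne_zero index_ne_zero_of_finite) (index_dvd_of_le h1)).trans hW
    exact lt_of_le_of_lt h2 (Nat.pow_lt_pow_right (by norm_num) (by omega))

end action

section loc

variable {H : Type u} [Group H] [Finite H] {M : Type v} [Group M] [Finite M] [MulDistribMulAction H M]
  {T A E : Subgroup H} {x : H} {p n : ℕ}

/-- **the K-fact and a low exact `A ≠ 1` give `|M : C_M(E)| ≤ 2 ^ n`** -/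
theorem index_le_of_loc (L : LocK.Loc H E x p n) (two : IsPGroup 2 T) (syl : ¬ 2 ∣ T.index) (ne : A ≠ ⊥)
    (hA : Off (fab M 1 1) A) (low : ∀ R : Subgroup H, T ≤ R → R ≠ ⊤ → A ≤ o2 R)
    (core : ∀ N : Subgroup H, N.Normal → IsPGroup 2 N → N = ⊥) : (cv M (E : Set H)).index ≤ 2 ^ n := by
  have hf2 : Fact (Nat.Prime 2) := ⟨Nat.prime_two⟩
  -- WLOG `T` normalises `F = E^g`
  obtain ⟨g, hg⟩ := exists_conj_le two syl L.odd
  have hFe : E.map (MulAut.conj g⁻¹).toMonoidHom = cj g⁻¹ E := rfl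
  obtain ⟨F, y, L', hTF, hFi⟩ : ∃ (F : Subgroup H) (y : H), LocK.Loc H F y p n ∧ T ≤ normalizer (F : Set H) ∧
      (cv M (F : Set H)).index = (cv M (E : Set H)).index := by
    refine ⟨_, _, L.map (MulAut.conj g⁻¹), fun t ht => ?_, ?_⟩
    · have key : ∀ s ∈ T, ∀ a ∈ E.map (MulAut.conj g⁻¹).toMonoidHom,
          s * a * s⁻¹ ∈ E.map (MulAut.conj g⁻¹).toMonoidHom := by
        rintro s hs _ ⟨e, he, rfl⟩
        have h1 := (mem_normalizer_iff.1 (hg s hs) e).1 he
        refine ⟨_, h1, ?_⟩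
        change g⁻¹ * (g * s * g⁻¹ * e * (g * s * g⁻¹)⁻¹) * g⁻¹⁻¹ = s * (g⁻¹ * e * g⁻¹⁻¹) * s⁻¹
        group
      refine LocK.mem_normalizer_of (fun a ha => key t ht a ha) fun a ha => ?_
      have h2 := key t⁻¹ (T.inv_mem ht) a ha
      rwa [inv_inv] at h2
    · exact index_cj g⁻¹ E
  rw [← hFi]
  clear hg L hFi hFe
  have hpf : Fact p.Prime := ⟨L'.prime⟩
  have hC : IsPGroup p (zpowers y) := IsPGroup.of_card (n := 1) (by rw [Nat.card_zpowers, L'.ord, pow_one])
  have hyN : y ∈ normalizer (F : Set H) := by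
    rw [Subgroup.mem_normalizer_iff_map_conj_eq]
    refine eq_of_le_of_card_ge ?_ (Nat.card_congr (F.equivMapOfInjective _ (MulAut.conj y).injective).toEquiv).le
    rintro _ ⟨b, hb, rfl⟩
    exact L'.norm b hb
  have hzN : zpowers y ≤ normalizer (F : Set H) := by rwa [zpowers_le]
  have hirr : ∀ E₁ ≤ F, (∀ l ∈ zpowers y, ∀ e ∈ E₁, l * e * l⁻¹ ∈ E₁) → E₁ = ⊥ ∨ E₁ = F := by
    intro E₁ h1 h2
    refine (irr_of L'.prime L'.p2 L'.nd hC L'.sq L'.card.le
      (fun c hc e he => (mem_normalizer_iff.1 (hzN hc) e).1 he) h1 h2).resolve_right fun h3 => ?_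
    obtain ⟨e, he, hne⟩ := L'.ne
    exact hne (h3 y (mem_zpowers y) e he)
  have hF2 : IsPGroup 2 F := fun a => ⟨1, Subtype.ext (by rw [pow_one, pow_two]; exact L'.sq a a.2)⟩
  have hFT : F ≤ T := le_of_norm two syl hF2 hTF
  have hFne : F ≠ ⊥ := by
    intro h
    obtain ⟨e, he, hne⟩ := L'.ne
    rw [h, mem_bot] at he
    rw [he] at hne
    exact hne (by group)
  obtain ⟨R, hR⟩ : ∃ R : Subgroup H, R = normalizer (F : Set H) := ⟨_, rfl⟩
  rw [← hR] at hTF hzN
  have hRne : R ≠ ⊤ := by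
    intro h
    rw [hR] at h
    exact hFne (core F (normalizer_eq_top_iff.1 h) hF2)
  have hconj : ∀ r ∈ R, ∀ e ∈ F, r * e * r⁻¹ ∈ F := fun r hr e he => by
    rw [hR] at hr
    exact (mem_normalizer_iff.1 hr e).1 he
  -- `O₂(R) ≤ F`
  have hoF : o2 R ≤ F := by
    have hZ : ∃ e ∈ F, e ≠ 1 ∧ ∀ q ∈ o2 R, q * e = e * q := by
      have h1 : Nontrivial F := (nontrivial_iff_ne_bot F).2 hFne
      -- `O₂(R)` acts on `F`
      let act : MulDistribMulAction (o2 R) F := cja (o2 R) F fun c hc e he => hconj c (o2_le R hc) e he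
      have h2 := (o2_isPGroup R).card_modEq_card_fixedPoints F
      have h3 : 2 ∣ Nat.card F := by
        obtain ⟨k, hk⟩ := IsPGroup.iff_card.1 hF2
        have h4 : 1 < Nat.card F := Finite.one_lt_card
        rw [hk] at h4 ⊢
        exact dvd_pow_self 2 (by rintro rfl; simp at h4)
      have h4 : 2 ∣ Nat.card (MulAction.fixedPoints (o2 R) F) := (Nat.modEq_zero_iff_dvd.1 (h2.symm.trans
        (Nat.modEq_zero_iff_dvd.2 h3)))
      have h5 : (1 : F) ∈ MulAction.fixedPoints (o2 R) F := fun q => smul_one q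
      have h6 : 1 < Nat.card (MulAction.fixedPoints (o2 R) F) := by
        have h7 : Nat.card (MulAction.fixedPoints (o2 R) F) ≠ 0 := by
          have : Nonempty (MulAction.fixedPoints (o2 R) F) := ⟨⟨1, h5⟩⟩
          exact Nat.card_pos.ne'
        omega
      have h7 : Nontrivial (MulAction.fixedPoints (o2 R) F) := Finite.one_lt_card_iff_nontrivial.1 h6
      obtain ⟨⟨e, he⟩, hne⟩ := exists_ne (⟨1, h5⟩ : MulAction.fixedPoints (o2 R) F)
      refine ⟨e, e.2, fun h8 => hne (Subtype.ext (Subtype.ext h8)), fun q hq => ?_⟩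
      have h8 : (⟨q, hq⟩ : o2 R) • e = e := he ⟨q, hq⟩
      have h9 : q * (e : H) * q⁻¹ = e := congrArg Subtype.val h8
      rwa [mul_inv_eq_iff_eq_mul] at h9
    have h1 := hirr (F ⊓ centralizer (o2 R : Set H)) inf_le_left (by
      intro l hl e he
      refine ⟨hconj l (hzN hl) e he.1, mem_centralizer_iff.2 fun q hq => ?_⟩
      have h2 : l⁻¹ * q * l ∈ o2 R := by
        have h3 := (mem_normalizer_iff.1 (le_normalizer_o2 R (R.inv_mem (hzN hl))) q).1 hq
        rwa [inv_inv] at h3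
      have h4 := mem_centralizer_iff.1 he.2 _ h2
      calc q * (l * e * l⁻¹) = l * ((l⁻¹ * q * l) * e) * l⁻¹ := by group
        _ = l * (e * (l⁻¹ * q * l)) * l⁻¹ := by rw [h4]
        _ = l * e * l⁻¹ * q := by group)
    rcases h1 with h1 | h1
    · obtain ⟨e, he, he1, heq⟩ := hZ
      have h2 : e ∈ F ⊓ centralizer (o2 R : Set H) := ⟨he, mem_centralizer_iff.2 fun q hq => heq q hq⟩
      rw [h1, mem_bot] at h2
      exact absurd h2 he1
    · intro q hq
      refine L'.cent q fun e he => ?_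
      have h2 : e ∈ F ⊓ centralizer (o2 R : Set H) := by rw [h1]; exact he
      exact mem_centralizer_iff.1 h2.2 q hq
  -- `D = ⟨A^R⟩`
  have hAF : A ≤ F := (low R hTF hRne).trans hoF
  obtain ⟨D, hD⟩ : ∃ D : Subgroup H, D = ⨆ r : R, cj (r : H) A := ⟨_, rfl⟩
  have hDle : D ≤ F := by
    rw [hD]
    refine iSup_le fun r => ?_
    rintro _ ⟨a, ha, rfl⟩
    exact hconj r r.2 a (hAF ha)
  have hAD : A ≤ D := by
    rw [hD]
    refine le_trans (le_of_eq (cj_one A).symm) (le_iSup (fun r : R => cj (r : H) A) 1)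
  have hDF : D = F := by
    refine (hirr D hDle fun l hl => ?_).resolve_left fun h => ne (le_bot_iff.1 (h ▸ hAD))
    have h1 : D ≤ D.comap (MulAut.conj l).toMonoidHom := by
      conv_lhs => rw [hD]
      refine iSup_le fun d => ?_
      rintro _ ⟨a, ha, rfl⟩
      rw [mem_comap, hD]
      refine (le_iSup (fun r : R => cj (r : H) A) (⟨l, hzN hl⟩ * d)) ⟨a, ha, ?_⟩
      change (l * (d : H)) * a * (l * (d : H))⁻¹ = l * ((d : H) * a * (d : H)⁻¹) * l⁻¹
      group
    exact fun x hx => h1 hx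
  have h1 := index_le_card (M := M) hA (fun r : R => (r : H))
  rw [← hD, hDF, L'.card] at h1
  exact h1

end loc

end Cfsg.Agent.Omega.ML.Ex.Prod

end

section


/-!
# An element of order 11 in the join of two conjugates of the translation group `2⁴` of `M22` (helper278)
-/

set_option autoImplicit false

namespace Cfsg.Agent.Omega.ML.Ex.Eleven

open Cfsg Cfsg.Agent.SporadicA.GolayBase Cfsg.Agent.SporadicA.GolayPerm
open Cfsg.Agent.SporadicA.OctadStab Cfsg.Agent.SporadicA.OctadFix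
open Cfsg.Agent.Omega.NOThree.NoOver (cj)
open scoped Pointwise

/-- packed elements of the translation group of `oct0` -/
def T₁ : ℕ := 971592882964418941354553515258775584
def T₂ : ℕ := 967812279691448225500382947153381408
def T₃ : ℕ := 975346028712660580592452217730074656
def T₄ : ℕ := 965128854020860192151391391390468128
/-- packed element of `M22` and its inverse -/
def G₀ : ℕ := 976203949472844401778415637369211552
def G₁ : ℕ := 961932971729804105739981527545385632

theorem T₁_ok : transOk T₁ = true := by decide +kernel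
theorem T₂_ok : transOk T₂ = true := by decide +kernel
theorem T₃_ok : transOk T₃ = true := by decide +kernel
theorem T₄_ok : transOk T₄ = true := by decide +kernel

/-- Check of the packed element of `M22`. -/
def gOk (P : ℕ) : Bool := isPerm P && isAut P && Nat.beq (papp P 0) 0 && Nat.beq (papp P 23) 23

theorem G₀_ok : gOk G₀ = true := by decide +kernel
theorem G₁_ok : gOk G₁ = true := by decide +kernel

theorem G_inv : ∀ i < 24, papp G₀ (papp G₁ i) = i := by decide +kernel

/-- the word, on indices -/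
def w (i : ℕ) : ℕ := papp T₁ (papp G₀ (papp T₂ (papp G₁ (papp T₃ (papp G₀ (papp T₄ (papp G₁ i)))))))

theorem w_eleven : ∀ i < 24, w (w (w (w (w (w (w (w (w (w (w i)))))))))) = i := by decide +kernel

theorem w_one : w 1 ≠ 1 := by decide +kernel

theorem exists_fix {P : ℕ} (h : transOk P = true) : ∃ g ∈ fixOct oct0, ∀ x, idx (g x) = papp P (idx x) := by
  unfold transOk at h
  simp only [Bool.and_eq_true, Nat.beq_eq, List.all_eq_true, List.mem_range] at h
  obtain ⟨⟨⟨⟨⟨⟨⟨⟨⟨⟨hperm, haut⟩, f0⟩, f1⟩, f2⟩, f3⟩, f5⟩, f14⟩, f17⟩, f23⟩, hinv⟩ := h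
  refine ⟨permOf P hperm, mem_fixOct.2 ⟨permOf_mem_M24 hperm haut, ?_⟩, fun x => idx_permOf _ _⟩
  intro x hx
  apply idx_injective
  rw [idx_permOf]
  rw [mem_oct0] at hx
  rcases mem_oct0_cases _ (idx_lt x) hx with h | h | h | h | h | h | h | h
  · rw [h, f0]
  · rw [h, f1]
  · rw [h, f2]
  · rw [h, f3]
  · rw [h, f5]
  · rw [h, f14]
  · rw [h, f17]
  · rw [h, f23]

theorem exists_g {P : ℕ} (h : gOk P = true) : ∃ g ∈ Spor.M22, ∀ x, idx (g x) = papp P (idx x) := by
  unfold gOk at h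
  simp only [Bool.and_eq_true, Nat.beq_eq] at h
  obtain ⟨⟨⟨hperm, haut⟩, f0⟩, f23⟩ := h
  refine ⟨permOf P hperm, (Cfsg.Agent.SporadicA.MathieuRecog.mem_M22_iff _).2
    ⟨permOf_mem_M24 hperm haut, ?_, ?_⟩, fun x => idx_permOf _ _⟩
  · apply idx_injective
    rw [idx_permOf]
    exact f23
  · apply idx_injective
    rw [idx_permOf]
    exact f0

/-- **The model fact.** -/
theorem exists_eleven : ∃ g ∈ Spor.M22, ∃ y ∈ (fixOct oct0 ⊔ cj g (fixOct oct0) : Subgroup (Equiv.Perm GolayPt)),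
    orderOf y = 11 := by
  obtain ⟨t₁, h₁, e₁⟩ := exists_fix T₁_ok
  obtain ⟨t₂, h₂, e₂⟩ := exists_fix T₂_ok
  obtain ⟨t₃, h₃, e₃⟩ := exists_fix T₃_ok
  obtain ⟨t₄, h₄, e₄⟩ := exists_fix T₄_ok
  obtain ⟨g, hg, e₅⟩ := exists_g G₀_ok
  obtain ⟨g', hg', e₆⟩ := exists_g G₁_ok
  have hgg : g * g' = 1 := by
    ext1 x
    rw [Equiv.Perm.mul_apply, Equiv.Perm.one_apply]
    apply idx_injective
    rw [e₅, e₆, G_inv _ (idx_lt x)]
  have hg1 : g' = g⁻¹ := (inv_eq_of_mul_eq_one_right hgg).symm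
  obtain ⟨y, hy⟩ : ∃ y, y = t₁ * (g * t₂ * g⁻¹) * t₃ * (g * t₄ * g⁻¹) := ⟨_, rfl⟩
  have hyx : ∀ x, idx (y x) = w (idx x) := by
    intro x
    have e : y x = t₁ (g (t₂ (g' (t₃ (g (t₄ (g' x))))))) := by
      rw [hy, ← hg1]
      simp only [Equiv.Perm.mul_apply]
    rw [e, e₁, e₅, e₂, e₆, e₃, e₅, e₄, e₆]
    rfl
  refine ⟨g, hg, y, ?_, ?_⟩
  · rw [hy]
    have hl : fixOct oct0 ≤ fixOct oct0 ⊔ cj g (fixOct oct0) := le_sup_left
    have hr : cj g (fixOct oct0) ≤ fixOct oct0 ⊔ cj g (fixOct oct0) := le_sup_right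
    exact Subgroup.mul_mem _ (Subgroup.mul_mem _ (Subgroup.mul_mem _ (hl h₁) (hr ⟨t₂, h₂, rfl⟩)) (hl h₃))
      (hr ⟨t₄, h₄, rfl⟩)
  · have : Fact (Nat.Prime 11) := ⟨by norm_num⟩
    apply orderOf_eq_prime
    · ext1 x
      rw [Equiv.Perm.one_apply]
      apply idx_injective
      rw [← w_eleven _ (idx_lt x)]
      simp only [pow_succ, pow_zero, one_mul, Equiv.Perm.mul_apply, hyx]
    · intro h
      have h1 := hyx (pt 1)
      rw [h, Equiv.Perm.one_apply, idx_pt (by norm_num)] at h1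
      exact w_one h1.symm

end Cfsg.Agent.Omega.ML.Ex.Eleven

end

section


/-!
# EXACT + LOW rows: `M22`, `M22:2` (helper278)

`|M : C_M(E)| ≤ 2⁴` for `E = 2⁴ = O₂(2⁴:A6)` (`Prod.index_le_of_loc`), and two conjugates of `E` generate a subgroup
which contains an element of order 11; but a nontrivial module of an element of order 11 has order at least `2¹⁰`.
-/

set_option autoImplicit false

namespace Cfsg.Agent.Omega.ML.Ex.RowM22X

open Subgroup Cfsg
open Cfsg.Agent.SporadicA.OctadFix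
open Cfsg.Agent.UGT.End.Octad
open Cfsg.Agent.J4Type.Aut22
open Cfsg.Agent.Omega.NOThree.NoOver (cj)
open Cfsg.Agent.ClassTwoFusion.Quad
open Cfsg.Agent.Omega.ML.LocK Cfsg.Agent.Omega.ML.LocExt
open Cfsg.Agent.Omega.ML.Ex.Prod
open scoped Pointwise

universe u v

/-- The K-fact of `LocM22` for a given octad. -/
theorem exists_loc_of {K : Subgroup (Equiv.Perm GolayPt)} (hK : K ≤ M24) {O : Finset GolayPt} (hO : O ∈ octads)
    (hE : fixOct O ≤ K) (hodd : ¬ 2 ∣ (MulAction.stabilizer K O).index)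
    (h5 : 5 ∣ Nat.card (MulAction.stabilizer K O)) : ∃ x : K, Loc K ((fixOct O).subgroupOf K) x 5 4 := by
  have hcard := card_fixOct hO
  have hconj : ∀ g : K, (g : Equiv.Perm GolayPt) • O = O → ∀ a ∈ (fixOct O).subgroupOf K,
      g * a * g⁻¹ ∈ (fixOct O).subgroupOf K := by
    intro g hg a ha
    rw [mem_subgroupOf] at ha ⊢
    exact conj_mem (hK g.2) hg ha
  have hinv : ∀ g : K, (g : Equiv.Perm GolayPt) • O = O → ((g⁻¹ : K) : Equiv.Perm GolayPt) • O = O := by
    intro g hg
    conv_lhs => rw [← hg]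
    rw [Subgroup.coe_inv, inv_smul_smul]
  have hcent : ∀ g : K, (∀ a ∈ (fixOct O).subgroupOf K, g * a = a * g) → g ∈ (fixOct O).subgroupOf K := by
    intro g hg
    have hc : ∀ b ∈ fixOct O, (g : Equiv.Perm GolayPt) * b = b * g := by
      intro b hb
      exact congrArg Subtype.val (hg ⟨b, hE hb⟩ (mem_subgroupOf.2 hb))
    have hne : ∃ v ∈ fixOct O, v ≠ 1 := by
      by_contra hcon
      push Not at hcon
      have h1 : fixOct O = ⊥ := (eq_bot_iff_forall _).2 hcon
      rw [h1, card_bot] at hcard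
      omega
    obtain ⟨v, hv, hv1⟩ := hne
    rw [mem_subgroupOf]
    exact mem_fixOct_of_comm hO (hK g.2) (stab_of_comm hO hv hv1 (hc v hv)) hc
  have : Fact (Nat.Prime 5) := ⟨by norm_num⟩
  obtain ⟨x, hx⟩ := exists_prime_orderOf_dvd_card' 5 h5
  have hxO : ((x : K) : Equiv.Perm GolayPt) • O = O := x.2
  have hx5 : orderOf (x : K) = 5 := by rw [Subgroup.orderOf_coe, hx]
  refine ⟨x, ?_⟩
  exact
    { comm := fun a ha b hb => Subtype.ext (mul_comm_fixOct hO (mem_subgroupOf.1 ha) (mem_subgroupOf.1 hb))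
      sq := fun a ha => Subtype.ext (fixOct_sq hO (mem_subgroupOf.1 ha))
      card := by
        rw [Nat.card_congr (subgroupOfEquivOfLe hE).toEquiv, hcard]
        norm_num
      odd := by
        intro h
        refine hodd (h.trans (index_dvd_of_le fun g hg => ?_))
        have hg' : (g : Equiv.Perm GolayPt) • O = O := hg
        refine mem_normalizer_of (hconj g hg') fun a ha => ?_
        have := hconj g⁻¹ (hinv g hg') a ha
        rwa [inv_inv] at this
      cent := hcent
      prime := by norm_num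
      p2 := by norm_num
      ord := hx5
      nd := by
        intro k h0 h1
        interval_cases k <;> omega
      norm := hconj x hxO
      ne := by
        by_contra hcon
        push Not at hcon
        have h1 := hcent _ hcon
        have h2 : (x : K) * x = 1 := Subtype.ext (fixOct_sq hO (mem_subgroupOf.1 h1))
        have h3 := orderOf_dvd_of_pow_eq_one (show (x : K) ^ 2 = 1 by rw [pow_two, h2])
        rw [hx5] at h3
        omega }

/-- the model fact -/
theorem eleven : ∃ O : Finset GolayPt, O ∈ octads ∧ none ∈ O ∧ some 0 ∈ O ∧ ∃ g ∈ Spor.M22,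
    ∃ y ∈ (fixOct O ⊔ cj g (fixOct O) : Subgroup (Equiv.Perm GolayPt)), orderOf y = 11 :=
  ⟨Cfsg.Agent.SporadicA.OctadStab.oct0,
    (Cfsg.Agent.SporadicA.GolayBase.fin_mem_octads_iff (by norm_num)).2 (by decide +kernel),
    Cfsg.Agent.SporadicA.OctadFix.mem_oct0.2 (by decide +kernel),
    Cfsg.Agent.SporadicA.OctadFix.mem_oct0.2 (by decide +kernel), Eleven.exists_eleven⟩

theorem exists_loc11 {K : Subgroup (Equiv.Perm GolayPt)} (hK : Spor.M22 ≤ K) (hK' : K ≤ D22) :
    ∃ (E : Subgroup K) (x g y : K), Loc K E x 5 4 ∧ orderOf y = 11 ∧ y ∈ E ⊔ cj g E := by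
  obtain ⟨O, hO, h0, h1, g, hg, y, hy, hy11⟩ := eleven
  have hi := LocM22X.index_stab hK hK' hO h0 h1
  have hE : fixOct O ≤ K := by
    intro g hg
    rw [mem_fixOct] at hg
    exact hK ((Cfsg.Agent.SporadicA.MathieuRecog.mem_M22_iff g).2 ⟨hg.1, hg.2 _ h0, hg.2 _ h1⟩)
  obtain ⟨x, hx⟩ := exists_loc_of (fun g hg => ((mem_D22_iff g).1 (hK' hg)).1) hO hE (by rw [hi]; omega) (by
    have h2 := card_mul_index (MulAction.stabilizer K O)
    have h3 := card_dvd_of_le hK
    rw [hi] at h2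
    rw [Cfsg.Agent.SporadicA.MathieuRecog.card_M22] at h3
    omega)
  have hle : (fixOct O ⊔ cj g (fixOct O) : Subgroup (Equiv.Perm GolayPt)) ≤
      ((fixOct O).subgroupOf K ⊔ cj ⟨g, hK hg⟩ ((fixOct O).subgroupOf K)).map K.subtype := by
    rw [Subgroup.map_sup]
    refine sup_le_sup ?_ ?_
    · intro a ha
      exact ⟨⟨a, hE ha⟩, mem_subgroupOf.2 ha, rfl⟩
    · rintro _ ⟨a, ha, rfl⟩
      exact ⟨_, ⟨⟨a, hE ha⟩, mem_subgroupOf.2 ha, rfl⟩, rfl⟩
  obtain ⟨y', hy', rfl⟩ := hle hy
  exact ⟨_, x, ⟨g, hK hg⟩, y', hx, by rw [← hy11]; exact (Subgroup.orderOf_coe y').symm, hy'⟩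

/-- `M22` and `M22:2` -/
theorem exists_locX {X : Type*} [Group X] {S : Subgroup X} [S.Normal]
    (hS : ∀ x : X, (∀ s ∈ S, x * s * x⁻¹ = s) → x = 1) (h : Spor.IsoM22 S) :
    ∃ (E : Subgroup X) (x g y : X), Loc X E x 5 4 ∧ orderOf y = 11 ∧ y ∈ E ⊔ cj g E := by
  obtain ⟨e⟩ := h
  obtain ⟨φ, hφ, h1, h2⟩ := exists_embed M22_le_D22 e hS exists_conj fun g hg hm => eq_one_of_centralizes hg hm
  obtain ⟨E, x, g, y, hE, hy, hyE⟩ := exists_loc11 h1 h2
  let f := (MonoidHom.ofInjective hφ).symm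
  refine ⟨_, _, f g, f y, hE.map f, ?_, ?_⟩
  · rw [← hy]
    exact orderOf_injective f.toMonoidHom f.injective y
  · have h3 : f y ∈ (E ⊔ cj g E).map f.toMonoidHom := ⟨y, hyE, rfl⟩
    rw [Subgroup.map_sup] at h3
    have h4 : (cj g E).map f.toMonoidHom ≤ cj (f g) (E.map f.toMonoidHom) := by
      rintro _ ⟨_, ⟨a, ha, rfl⟩, rfl⟩
      refine ⟨f a, ⟨a, ha, rfl⟩, ?_⟩
      change f g * f a * (f g)⁻¹ = f (g * a * g⁻¹)
      rw [map_mul, map_mul, map_inv]
    exact sup_le_sup le_rfl h4 h3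

/-- no normal 2-subgroups -/
theorem core_bot {H : Type u} [Group H] [Finite H] {M : Type v} [Group M] [Finite M] [MulDistribMulAction H M]
    {K T A : Subgroup H} (h : InX H M K T A) {N : Subgroup H} (hN : N.Normal) (hN2 : IsPGroup 2 N) : N = ⊥ := by
  have hf : Fact (Nat.Prime 2) := ⟨Nat.prime_two⟩
  have hall : (∀ m ∈ cv M (N : Set H), m = 1) ∨ ∀ m : M, m ∈ cv M (N : Set H) := by
    rcases h.irr (cv M (N : Set H)) (by
      intro x w hw a ha
      have h1 : x⁻¹ * a * x ∈ N := by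
        have := hN.conj_mem a ha x⁻¹
        rwa [inv_inv] at this
      have h2 := hw _ h1
      calc a • x • w = x • (x⁻¹ * a * x) • w := by rw [← mul_smul, ← mul_smul]; congr 1; group
        _ = x • w := by rw [h2]) with h1 | h1
    · left
      intro m hm
      rw [h1] at hm
      exact mem_bot.1 hm
    · right
      intro m
      rw [h1]
      exact mem_top m
  rw [eq_bot_iff]
  intro n hn
  refine mem_bot.2 (h.faith n fun m => ?_)
  rcases hall with h1 | h1
  · have h2 := hN2.card_modEq_card_fixedPoints M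
    have h3 : Nat.card (MulAction.fixedPoints N M) = 1 := by
      rw [Nat.card_eq_one_iff_unique]
      refine ⟨⟨fun a b => ?_⟩, ⟨⟨1, fun n => smul_one n⟩⟩⟩
      have ha := h1 a fun n hn => a.2 ⟨n, hn⟩
      have hb := h1 b fun n hn => b.2 ⟨n, hn⟩
      exact Subtype.ext (ha.trans hb.symm)
    rw [h3] at h2
    obtain ⟨k, hk⟩ := IsPGroup.iff_card.1 h.M_two
    have h4 : Nat.card M = 1 := by
      rw [hk] at h2 ⊢
      cases k with
      | zero => rfl
      | succ k =>
        exfalso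
        have h5 : 2 ^ (k + 1) % 2 = 1 % 2 := h2
        rw [pow_succ] at h5
        omega
    have h5 := (Nat.card_eq_one_iff_unique.1 h4).1
    exact Subsingleton.elim _ _
  · exact h1 m n hn

/-- **The row `M22`.** -/
theorem deadX : DeadX.{u, v} @Spor.IsoM22 := by
  intro H _ _ M _ _ _ K T A h hS
  have := h.norm
  obtain ⟨E, x, g, y, L, hy, hyE⟩ := exists_locX (X := H) (S := K) (by
    intro x hx
    have h1 : x ∈ centralizer (K : Set H) := by
      refine mem_centralizer_iff.2 fun s hs => ?_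
      have h2 := hx s hs
      rw [mul_inv_eq_iff_eq_mul] at h2
      exact h2.symm
    rw [h.cen] at h1
    exact mem_bot.1 h1) hS
  have hoff := Off.of_exact (M := M) h.exact fun C hC => h.sub C hC
  have hcore : ∀ N : Subgroup H, N.Normal → IsPGroup 2 N → N = ⊥ := by
    intro N hN hN2
    exact core_bot h hN hN2
  have hi := index_le_of_loc (M := M) L h.two h.syl h.A_ne_bot hoff h.low hcore
  have h8 : (cv M ((E ⊔ cj g E : Subgroup H) : Set H)).index ≤ 2 ^ 8 := by
    refine (index_sup_le E (cj g E)).trans ?_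
    rw [index_cj]
    calc _ ≤ 2 ^ 4 * 2 ^ 4 := Nat.mul_le_mul hi hi
      _ = 2 ^ 8 := by norm_num
  refine false_of_prime_mem (M := M) h.sq h.faith h8 (r := 11) (by norm_num) (by norm_num) ?_ hy fun w hw => hw y hyE
  intro j h1 h2
  interval_cases j <;> norm_num

end Cfsg.Agent.Omega.ML.Ex.RowM22X

end

section


/-!
# Exact and low configurations: the group-theoretic row M23 over `ASx` (helper333)
-/

set_option autoImplicit false

namespace Cfsg.Agent.Omega.ML.Ex.RowM23X

open Subgroup Cfsg Cfsg.Agent.ZN Cfsg.Agent.Omega.TwoF Cfsg.Agent.Omega.ML.Rows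

universe u v

/-- **The row `M23`**: `A = 1`. -/
theorem m23 : DeadGx.{u} 1 (fun S _ => Spor.IsoM23 S) := by
  intro X _ _ S T A h hS
  have hp : Fact (Nat.Prime 2) := ⟨Nat.prime_two⟩
  have htop : S = ⊤ := h.top_of_inn fun α => by
    obtain ⟨k, hk⟩ := Cfsg.Agent.KFacts.M23.OutOne.exists_conj' hS α
    exact ⟨k, MulEquiv.ext fun x => hk x⟩
  obtain ⟨e⟩ := hS
  obtain ⟨R, hs, hi, hc⟩ := RowM23.exists_M22
  have e' : R.comap e.toMonoidHom ≃* R :=
    ((R.comap e.toMonoidHom).equivMapOfInjective _ e.injective).trans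
      (MulEquiv.subgroupCongr (map_comap_eq_self_of_surjective e.surjective R))
  refine h.card_le_of_odd_index_simple htop (R := R.comap e.toMonoidHom) ?_ ?_ e'.isSimpleGroup ?_
  · rw [index_comap_of_surjective _ e.surjective, hi]
    norm_num
  · intro h1
    have h2 := index_comap_of_surjective R (f := e.toMonoidHom) e.surjective
    rw [h1, index_top, hi] at h2
    omega
  · intro h1
    obtain ⟨n, hn⟩ := IsPGroup.iff_card.1 h1
    rw [Nat.card_congr e'.toEquiv, hc] at hn
    have h3 : (3 : ℕ) ∣ 2 ^ n := hn ▸ by norm_num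
    have h4 := Nat.Prime.dvd_of_dvd_pow Nat.prime_three h3
    omega

/-- **The row is dead.** -/
theorem m23_dead : DeadX.{u, v} (fun S _ => Spor.IsoM23 S) := m23.deadX (by norm_num)

end Cfsg.Agent.Omega.ML.Ex.RowM23X

end

section


/-!
# EXACT + LOW rows: `M24` (helper278)

As for `M22`: `|M : C_M(E)| ≤ 2⁴` for `E = 2⁴ = O₂(2⁴:A8)`, and two conjugates of `E` generate a subgroup which
contains an element of order 11.
-/

set_option autoImplicit false

namespace Cfsg.Agent.Omega.ML.Ex.RowM24X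

open Subgroup Cfsg
open Cfsg.Agent.SporadicA.OctadFix
open Cfsg.Agent.UGT.End.Octad
open Cfsg.Agent.Omega.NOThree.NoOver (cj)
open Cfsg.Agent.ClassTwoFusion.Quad
open Cfsg.Agent.Omega.ML.LocK
open Cfsg.Agent.Omega.ML.Ex.Prod
open scoped Pointwise

universe u v

theorem index_stab {O : Finset GolayPt} (hO : O ∈ octads) : (MulAction.stabilizer M24 O).index = 759 := by
  refine Cfsg.Agent.SporadicStructure.M24IndexMain.index_octad (fun o o' ho ho' => ?_)
    Cfsg.Agent.SporadicA.GolayCount.octads_ncard hO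
  obtain ⟨g, hg, h⟩ := Cfsg.Agent.SporadicA.OctadStab.exists_smul_eq_oct0 ho
  obtain ⟨k, hk, h'⟩ := Cfsg.Agent.SporadicA.OctadStab.exists_smul_eq_oct0 ho'
  refine ⟨⟨k⁻¹ * g, M24.mul_mem (M24.inv_mem hk) hg⟩, ?_⟩
  change (k⁻¹ * g) • o = o'
  rw [mul_smul, h, ← h', inv_smul_smul]

theorem exists_loc11 : ∃ (E : Subgroup M24) (x g y : M24), Loc M24 E x 5 4 ∧ orderOf y = 11 ∧ y ∈ E ⊔ cj g E := by
  obtain ⟨O, hO, h0, h1, g, hg, y, hy, hy11⟩ := RowM22X.eleven
  have hi := index_stab hO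
  have hE : fixOct O ≤ M24 := fun g hg => (mem_fixOct.1 hg).1
  have hgM : g ∈ M24 := ((Cfsg.Agent.SporadicA.MathieuRecog.mem_M22_iff g).1 hg).1
  obtain ⟨x, hx⟩ := RowM22X.exists_loc_of le_rfl hO hE (by rw [hi]; omega) (by
    have h2 := card_mul_index (MulAction.stabilizer M24 O)
    rw [hi, SporadicA.M24Trans.card_M24] at h2
    omega)
  have hle : (fixOct O ⊔ cj g (fixOct O) : Subgroup (Equiv.Perm GolayPt)) ≤
      ((fixOct O).subgroupOf M24 ⊔ cj ⟨g, hgM⟩ ((fixOct O).subgroupOf M24)).map M24.subtype := by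
    rw [Subgroup.map_sup]
    refine sup_le_sup ?_ ?_
    · intro a ha
      exact ⟨⟨a, hE ha⟩, mem_subgroupOf.2 ha, rfl⟩
    · rintro _ ⟨a, ha, rfl⟩
      exact ⟨_, ⟨⟨a, hE ha⟩, mem_subgroupOf.2 ha, rfl⟩, rfl⟩
  obtain ⟨y', hy', rfl⟩ := hle hy
  exact ⟨_, x, ⟨g, hgM⟩, y', hx, by rw [← hy11]; exact (Subgroup.orderOf_coe y').symm, hy'⟩

/-- transport -/
theorem map_loc11 {X Y : Type*} [Group X] [Group Y] (f : X ≃* Y)
    (h : ∃ (E : Subgroup X) (x g y : X), Loc X E x 5 4 ∧ orderOf y = 11 ∧ y ∈ E ⊔ cj g E) :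
    ∃ (E : Subgroup Y) (x g y : Y), Loc Y E x 5 4 ∧ orderOf y = 11 ∧ y ∈ E ⊔ cj g E := by
  obtain ⟨E, x, g, y, hE, hy, hyE⟩ := h
  refine ⟨_, _, f g, f y, hE.map f, ?_, ?_⟩
  · rw [← hy]
    exact orderOf_injective f.toMonoidHom f.injective y
  · have h3 : f y ∈ (E ⊔ cj g E).map f.toMonoidHom := ⟨y, hyE, rfl⟩
    rw [Subgroup.map_sup] at h3
    have h4 : (cj g E).map f.toMonoidHom ≤ cj (f g) (E.map f.toMonoidHom) := by
      rintro _ ⟨_, ⟨a, ha, rfl⟩, rfl⟩
      refine ⟨f a, ⟨a, ha, rfl⟩, ?_⟩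
      change f g * f a * (f g)⁻¹ = f (g * a * g⁻¹)
      rw [map_mul, map_mul, map_inv]
    exact sup_le_sup le_rfl h4 h3

/-- no outer automorphisms -/
theorem eq_top_of_inner {X : Type*} [Group X] {S : Subgroup X} [S.Normal] (cen : centralizer (S : Set X) = ⊥)
    (inn : ∀ α : MulAut S, ∃ k, α = MulAut.conj k) : S = ⊤ := by
  rw [eq_top_iff]
  intro x _
  obtain ⟨k, hk⟩ := inn (MulAut.conjNormal x)
  have h1 : (k : X)⁻¹ * x ∈ centralizer (S : Set X) := by
    refine mem_centralizer_iff.2 fun s hs => ?_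
    have h2 := congrArg (fun f : MulAut S => ((f ⟨s, hs⟩ : S) : X)) hk
    change x * s * x⁻¹ = k * s * (k : X)⁻¹ at h2
    have h3 : x * s = k * s * (k : X)⁻¹ * x := by rw [← h2]; group
    calc s * ((k : X)⁻¹ * x) = (k : X)⁻¹ * (k * s * (k : X)⁻¹ * x) := by group
      _ = (k : X)⁻¹ * (x * s) := by rw [h3]
      _ = _ := by group
  rw [cen, mem_bot, inv_mul_eq_one] at h1
  rw [← h1]
  exact k.2

/-- the end, for every group with the fact -/
theorem false_of {H : Type u} [Group H] [Finite H] {M : Type v} [Group M] [Finite M] [MulDistribMulAction H M]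
    {K T A : Subgroup H} (h : InX H M K T A)
    (hf : ∃ (E : Subgroup H) (x g y : H), Loc H E x 5 4 ∧ orderOf y = 11 ∧ y ∈ E ⊔ cj g E) : False := by
  obtain ⟨E, x, g, y, L, hy, hyE⟩ := hf
  have hoff := Off.of_exact (M := M) h.exact fun C hC => h.sub C hC
  have hi := index_le_of_loc (M := M) L h.two h.syl h.A_ne_bot hoff h.low fun N hN hN2 => RowM22X.core_bot h hN hN2
  have h8 : (cv M ((E ⊔ cj g E : Subgroup H) : Set H)).index ≤ 2 ^ 8 := by
    refine (index_sup_le E (cj g E)).trans ?_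
    rw [index_cj]
    calc _ ≤ 2 ^ 4 * 2 ^ 4 := Nat.mul_le_mul hi hi
      _ = 2 ^ 8 := by norm_num
  refine false_of_prime_mem (M := M) h.sq h.faith h8 (r := 11) (by norm_num) (by norm_num) ?_ hy fun w hw => hw y hyE
  intro j h1 h2
  interval_cases j <;> norm_num

/-- **The row `M24`.** -/
theorem deadX : DeadX.{u, v} (fun S _ => Spor.IsoM24 S) := by
  intro H _ _ M _ _ _ K T A h hS
  have := h.norm
  have htop := eq_top_of_inner h.cen (RowM24.inner hS)
  obtain ⟨e⟩ := hS
  refine false_of h (map_loc11 (e.symm.trans ((MulEquiv.subgroupCongr htop).trans Subgroup.topEquiv)) exists_loc11)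

end Cfsg.Agent.Omega.ML.Ex.RowM24X

end

section


/-!
# Exact and low configurations: the rows `²G₂(q)` over `ASx` (helper661)

* `exists_conj` : automorphisms of 2-power order of a simple group with elementary abelian Sylow 2-subgroups of order 8
  are inner;
* `card_le_of_eight` : `|A| ≤ n` if `|O₂(C_S(t))| ≤ n` for an involution `t` of such a group `S`;
* **`deadGx : DeadGx 2 IsoRee`**, `dead : DeadX IsoRee`.
-/

set_option autoImplicit false

namespace Cfsg.Agent.Omega.ML.Ex.RowReeX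

open Subgroup Cfsg Cfsg.Agent.StdL2.G23Aut Cfsg.Agent.OddHalf.EightTorus
open Cfsg.Agent.Omega.ML.RowRee (card_o2_le_two comm_of_el)
open Cfsg.Agent.MinSimple.VModule (o2_isPGroup o2_le le_o2 le_normalizer_o2)
open Cfsg.Agent.ZN (o2)

universe u v

/-- **Automorphisms of 2-power order of a simple group with elementary abelian Sylow 2-subgroups of order 8 are
inner.** -/
theorem exists_conj {K : Type u} [Group K] [Finite K] [IsSimpleGroup K] (hna : ∃ a b : K, a * b ≠ b * a)
    (hsyl : ∀ S : Sylow 2 K, Nat.card S = 8 ∧ ∀ x ∈ (S : Subgroup K), x * x = 1)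
    (σ : MulAut K) (hpσ : IsPGroup 2 (zpowers σ)) : ∃ v : K, σ = MulAut.conj v := by
  classical
  have h2 : Fact (Nat.Prime 2) := ⟨Nat.prime_two⟩
  have hc : center K = ⊥ := by
    rcases (inferInstance : (center K).Normal).eq_bot_or_eq_top with h | h
    · exact h
    · exfalso
      obtain ⟨a, b, hab⟩ := hna
      have h1 : b ∈ center K := by rw [h]; trivial
      exact hab (mem_center_iff.1 h1 a)
  have hinj := Cfsg.Agent.UGT.EndBase.conj_inj hc
  set R : Subgroup (MulAut K) := (MulAut.conj : K →* MulAut K).range with hR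
  have hRn : R.Normal := by
    refine ⟨?_⟩
    rintro _ ⟨x, rfl⟩ φ
    exact ⟨φ x, Cfsg.Agent.UGT.EndBase.conj_app φ x⟩
  have e : K ≃* R := MonoidHom.ofInjective hinj
  have hRs : IsSimpleGroup R := e.symm.isSimpleGroup
  obtain ⟨P, hP⟩ := hpσ.exists_le_sylow
  let V : Subgroup (MulAut K) := (P : Subgroup (MulAut K)) ⊓ R
  have hVR : V ≤ R := inf_le_right
  have hVodd : ¬ 2 ∣ V.relIndex R := by
    have h1 := Cfsg.Agent.Lib.SylowNormalInf.not_dvd_relIndex P R
    rwa [← inf_relIndex_right] at h1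
  -- the Sylow subgroup of `K`
  have hSp : IsPGroup 2 (V.comap (MulAut.conj : K →* MulAut K)) :=
    (P.isPGroup'.to_le inf_le_left).comap_of_injective _ hinj
  have hidx : ¬ 2 ∣ (V.comap (MulAut.conj : K →* MulAut K)).index := by
    rw [index_comap]
    exact hVodd
  let S : Sylow 2 K := hSp.toSylow hidx
  have hS : (S : Subgroup K) = V.comap (MulAut.conj : K →* MulAut K) := rfl
  have hmap : (S : Subgroup K).map (MulAut.conj : K →* MulAut K) = V := by
    rw [hS, map_comap_eq, inf_eq_right]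
    exact hVR
  obtain ⟨h8, hsq⟩ := hsyl S
  have hoct : Oct V := by
    refine ⟨?_, ?_⟩
    · rw [← hmap, card_map_of_injective hinj]
      exact h8
    · intro v hv
      rw [← hmap] at hv
      obtain ⟨s, hs, rfl⟩ := hv
      rw [← map_mul, hsq s hs, map_one]
  have hLoc : Auto.Loc R V (1 : MulAut K) := by
    refine ⟨hRs, ?_, hVR, hVodd, hoct, fun _ _ => by rw [mul_one, one_mul], fun g _ => ?_⟩
    · obtain ⟨a, b, hab⟩ := hna
      refine ⟨_, ⟨a, rfl⟩, _, ⟨b, rfl⟩, fun h => hab (hinj ?_)⟩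
      rw [map_mul, map_mul, h]
    · rw [normalizer_eq_top_iff.2 hRn]
      exact mem_top g
  obtain ⟨-, -, -, -, hcomm⟩ := hLoc.main
  have hσN : zpowers σ ≤ normalizer (V : Set (MulAut K)) := by
    have hle : ∀ p ∈ (P : Subgroup (MulAut K)), ∀ v ∈ V, p * v * p⁻¹ ∈ V := by
      intro p hp v hv
      exact ⟨(P : Subgroup (MulAut K)).mul_mem ((P : Subgroup (MulAut K)).mul_mem hp hv.1)
        ((P : Subgroup (MulAut K)).inv_mem hp), hRn.conj_mem v hv.2 p⟩
    intro p hp
    rw [mem_normalizer_iff]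
    intro v
    constructor
    · exact hle p (hP hp) v
    · intro hv
      have h1 := hle p⁻¹ ((P : Subgroup (MulAut K)).inv_mem (hP hp)) _ hv
      have h3 : p⁻¹ * (p * v * p⁻¹) * p⁻¹⁻¹ = v := by group
      rwa [h3] at h1
  have hσV := hcomm (zpowers σ) hpσ (fun _ _ => by rw [mul_one, one_mul]) hσN σ (mem_zpowers σ)
  have hfix : ∀ s ∈ (S : Subgroup K), σ s = s := by
    intro s hs
    apply hinj
    rw [Cfsg.Agent.UGT.EndBase.conj_app]
    have h1 := hσV (MulAut.conj s) (by rw [← hmap]; exact ⟨s, hs, rfl⟩)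
    rw [h1, mul_inv_cancel_right]
  have hScomm : ∀ x ∈ (S : Subgroup K), ∀ y ∈ (S : Subgroup K), x * y = y * x := by
    intro x hx y hy
    have h1 := hsq x hx
    have h3 := hsq y hy
    have h4 := hsq _ ((S : Subgroup K).mul_mem hx hy)
    calc x * y = (x * y)⁻¹ := (inv_eq_of_mul_eq_one_right h4).symm
      _ = y * x := by rw [mul_inv_rev, inv_eq_of_mul_eq_one_right h1, inv_eq_of_mul_eq_one_right h3]
  have hS1 : (S : Subgroup K) ≠ ⊥ := by
    intro h
    have h1 : Nat.card (S : Subgroup K) = 8 := h8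
    rw [h, card_bot] at h1
    omega
  obtain ⟨v, -, hv⟩ := AbelAut.eq_conj hna S hScomm hS1 σ hpσ hfix
  refine ⟨v, ?_⟩
  ext x
  rw [hv x, MulAut.conj_apply]

/-- `S = X`. -/
theorem top_of_eight {X : Type u} [Group X] [Finite X] {S T A : Subgroup X} (h : ASx S T A)
    (hna : ∃ a b : S, a * b ≠ b * a)
    (hsyl : ∀ P : Sylow 2 S, Nat.card P = 8 ∧ ∀ x ∈ (P : Subgroup S), x * x = 1) : S = ⊤ := by
  have hsim := h.simple
  refine h.top_of_inner fun α ⟨k, hk⟩ => exists_conj hna hsyl α ?_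
  intro g
  obtain ⟨i, hi⟩ := mem_zpowers_iff.1 g.2
  refine ⟨k, Subtype.ext ?_⟩
  rw [SubgroupClass.coe_pow, ← hi, ← zpow_natCast, ← zpow_mul, mul_comm, zpow_mul, zpow_natCast, hk, one_zpow]
  rfl

/-- **Elementary abelian Sylow 2-subgroups of order 8.** -/
theorem card_le_of_eight {X : Type u} [Group X] [Finite X] {S T A : Subgroup X} (h : ASx S T A) {n : ℕ}
    (hna : ∃ a b : S, a * b ≠ b * a)
    (hsyl : ∀ P : Sylow 2 S, Nat.card P = 8 ∧ ∀ x ∈ (P : Subgroup S), x * x = 1)
    (t : S) (ht1 : t ≠ 1) (ht2 : t * t = 1) (ho : Nat.card (o2 (centralizer ({t} : Set S))) ≤ n) :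
    Nat.card A ≤ n := by
  classical
  have hsim := h.simple
  have h2 : Fact (Nat.Prime 2) := ⟨Nat.prime_two⟩
  have htop : S = ⊤ := top_of_eight h hna hsyl
  have hTS : T ≤ S := htop ▸ le_top
  -- `T` as a Sylow subgroup of `S`
  have hT' : IsPGroup 2 (T.subgroupOf S) := h.two.comap_subtype
  have hTi : ¬ 2 ∣ (T.subgroupOf S).index := by
    intro h3
    apply h.syl
    have h4 : (T.subgroupOf S).index = T.index := by
      change T.relIndex S = T.index
      rw [htop, relIndex_top_right]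
    rwa [← h4]
  let P : Sylow 2 S := hT'.toSylow hTi
  have hP : (P : Subgroup S) = T.subgroupOf S := rfl
  -- `t` in a Sylow subgroup
  have htp : IsPGroup 2 (zpowers t) := IsPGroup.of_card (n := 1) (by
    rw [Nat.card_zpowers, pow_one]
    exact orderOf_eq_prime (by rw [pow_two, ht2]) ht1)
  obtain ⟨Q, hQ⟩ := htp.exists_le_sylow
  obtain ⟨g, hg⟩ := MulAction.exists_smul_eq S Q P
  set s : S := g * t * g⁻¹ with hs
  have hsP : s ∈ T.subgroupOf S := by
    rw [← hP, ← hg]
    exact ⟨t, hQ (mem_zpowers t), rfl⟩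
  have hs1 : s ≠ 1 := by
    intro h3
    apply ht1
    calc t = g⁻¹ * s * g := by rw [hs]; group
      _ = 1 := by rw [h3]; group
  -- `T` is abelian
  have hTel : ∀ x ∈ T, x * x = 1 := by
    intro x hx
    have h3 := (hsyl P).2 ⟨x, hTS hx⟩ hx
    exact congrArg Subtype.val h3
  have hsT : (s : X) ∈ T := hsP
  have hTR : T ≤ centralizer ({(s : X)} : Set X) := by
    intro x hx
    rw [mem_centralizer_singleton_iff]
    exact comm_of_el hTel hx hsT
  have hR : centralizer ({(s : X)} : Set X) ≠ ⊤ := h.cent_ne_top fun h3 => hs1 (Subtype.ext h3)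
  have hA := h.low _ hTR hR
  refine (card_le_of_le hA).trans ?_
  -- transport to `C_S(t)`
  set O := o2 (centralizer ({(s : X)} : Set X)) with hO
  have hOS : O ≤ S := htop ▸ le_top
  have hc1 : Nat.card O = Nat.card ((O.subgroupOf S).map (MulAut.conj g⁻¹).toMonoidHom) := by
    rw [card_map_of_injective (MulAut.conj g⁻¹).injective, Nat.card_congr (subgroupOfEquivOfLe hOS).toEquiv]
  rw [hc1]
  refine (card_le_of_le ?_).trans ho
  have hgt : g⁻¹ * s * g = t := by rw [hs]; group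
  have hmem : ∀ x : S, x ∈ centralizer ({t} : Set S) → (g * x * g⁻¹ : S) ∈ centralizer ({s} : Set S) := by
    intro x hx
    rw [mem_centralizer_singleton_iff] at hx ⊢
    rw [hs]
    calc g * x * g⁻¹ * (g * t * g⁻¹) = g * (x * t) * g⁻¹ := by group
      _ = g * (t * x) * g⁻¹ := by rw [hx]
      _ = _ := by group
  refine le_o2 ?_ ?_ ?_
  · rintro _ ⟨x, hx, rfl⟩
    have hx1 : ((x : S) : X) ∈ centralizer ({(s : X)} : Set X) := o2_le _ hx
    rw [mem_centralizer_singleton_iff] at hx1 ⊢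
    have hx2 : x * s = s * x := Subtype.ext hx1
    change g⁻¹ * x * (g⁻¹)⁻¹ * t = t * (g⁻¹ * x * (g⁻¹)⁻¹)
    rw [← hgt]
    calc g⁻¹ * x * (g⁻¹)⁻¹ * (g⁻¹ * s * g) = g⁻¹ * (x * s) * g := by group
      _ = g⁻¹ * (s * x) * g := by rw [hx2]
      _ = _ := by group
  · exact ((o2_isPGroup _).comap_of_injective S.subtype S.subtype_injective).map _
  · intro x hx
    refine Cfsg.Agent.MinSimple.VModule.mem_normalizer_of_map_le ?_
    rintro _ ⟨_, ⟨w, hw, rfl⟩, rfl⟩
    have h1 : ((g * x * g⁻¹ : S) : X) ∈ centralizer ({(s : X)} : Set X) := by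
      have h2 := hmem x hx
      rw [mem_centralizer_singleton_iff] at h2 ⊢
      exact congrArg Subtype.val h2
    have h3 : ((g * x * g⁻¹ * w * (g * x * g⁻¹)⁻¹ : S) : X) ∈ O :=
      (mem_normalizer_iff.1 (le_normalizer_o2 _ h1) (w : X)).1 hw
    refine ⟨g * x * g⁻¹ * w * (g * x * g⁻¹)⁻¹, h3, ?_⟩
    change g⁻¹ * (g * x * g⁻¹ * w * (g * x * g⁻¹)⁻¹) * (g⁻¹)⁻¹ = x * (g⁻¹ * w * (g⁻¹)⁻¹) * x⁻¹
    group

/-- transport of the hypotheses of `card_le_of_eight` -/
theorem card_le_of_equiv {X : Type u} [Group X] [Finite X] {S T A : Subgroup X} (h : ASx S T A) {K : Type*} [Group K]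
    (e : S ≃* K) (hna : ∃ a b : K, a * b ≠ b * a)
    (hsyl : ∀ P : Sylow 2 K, Nat.card P = 8 ∧ ∀ x ∈ (P : Subgroup K), x * x = 1)
    {t : K} (ht1 : t ≠ 1) (ht2 : t * t = 1) {Z L : Type*} [Group Z] [Group L] [IsSimpleGroup L]
    (hZ : Nat.card Z = 2) (hL : ¬ IsPGroup 2 L) (c : ↥(centralizer ({t} : Set K)) ≃* Z × L) :
    Nat.card A ≤ 2 := by
  have hfK : Finite K := Finite.of_equiv _ e.toEquiv
  refine card_le_of_eight h ?_ ?_ (e.symm t) ?_ ?_ ?_
  · obtain ⟨a, b, hab⟩ := hna
    exact ⟨e.symm a, e.symm b, fun h1 => hab (e.symm.injective (by rw [map_mul, map_mul, h1]))⟩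
  · intro P
    have hP : IsPGroup 2 ((P : Subgroup S).map e.toMonoidHom) := P.isPGroup'.map _
    have hPi : ¬ 2 ∣ ((P : Subgroup S).map e.toMonoidHom).index := by
      have h1 : ((P : Subgroup S).map e.toMonoidHom).index = (P : Subgroup S).index :=
        index_map_equiv (P : Subgroup S) e
      rw [h1]
      have : Fact (Nat.Prime 2) := ⟨Nat.prime_two⟩
      exact P.not_dvd_index
    obtain ⟨h1, h2⟩ := hsyl (hP.toSylow hPi)
    constructor
    · have h3 : Nat.card ((P : Subgroup S).map e.toMonoidHom) = 8 := h1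
      rwa [card_map_of_injective e.injective] at h3
    · intro x hx
      have h3 := h2 (e x) (mem_map_of_mem e.toMonoidHom hx)
      exact e.injective (by rw [map_mul, h3, map_one])
  · intro h1
    apply ht1
    rw [← e.apply_symm_apply t, h1, map_one]
  · rw [← map_mul, ht2, map_one]
  · let c' : ↥(centralizer ({e.symm t} : Set S)) ≃* ↥(centralizer ({t} : Set K)) :=
      { toFun := fun x => ⟨e x, by
          have h1 := mem_centralizer_singleton_iff.1 x.2
          rw [mem_centralizer_singleton_iff]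
          have h2 := congrArg e h1
          rwa [map_mul, map_mul, e.apply_symm_apply] at h2⟩
        invFun := fun x => ⟨e.symm x, by
          have h1 := mem_centralizer_singleton_iff.1 x.2
          rw [mem_centralizer_singleton_iff]
          have h2 := congrArg e.symm h1
          rwa [map_mul, map_mul] at h2⟩
        left_inv := fun x => Subtype.ext (e.symm_apply_apply _)
        right_inv := fun x => Subtype.ext (e.apply_symm_apply _)
        map_mul' := fun x y => Subtype.ext (map_mul e _ _) }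
    exact card_o2_le_two hZ hL (c'.trans c)

/-- **The row `²G₂(q)`, group-theoretic.** -/
theorem deadGx : DeadGx.{u} 2 fun S _ => Cfsg.Lie.IsoRee S := by
  rintro X _ _ S T A h ⟨F, _, _, m, hm, hF, ⟨e⟩⟩
  obtain ⟨hs, hc⟩ := Cfsg.Agent.S1073.result hm hF
  obtain ⟨a, haH, ha1, ha2⟩ := Cfsg.Agent.S1157.exists_involution hF
  obtain ⟨⟨c⟩, hS⟩ := Cfsg.Agent.S1152.result hF a haH ha1 ha2
  have hF4 : 4 ≤ Nat.card F := by
    rw [Nat.card_eq_fintype_card, hF]
    have := Lie.PairRee.card_ge hm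
    omega
  obtain ⟨hL, -, hp⟩ := Lie.PairRee.psl_facts hF4
  refine card_le_of_equiv h e ?_ hS ha1 ha2 (by simp [Nat.card_eq_fintype_card]) hp c
  by_contra hcon
  push Not at hcon
  exact hc ⟨⟨hcon⟩⟩

/-- **The row `²G₂(q)`.** -/
theorem dead : DeadX.{u, v} fun S _ => Cfsg.Lie.IsoRee S := deadGx.deadX (by norm_num)

end Cfsg.Agent.Omega.ML.Ex.RowReeX

end

section


/-!
# Exact and low configurations: a sheet of type (E) and one inverted element (helper202; ports of ShInv, InvRow)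

* `InX.index_elt_le` : `|M : C_M(x)| ≤ |A|` for `x ∈ A`;
* `InX.false_of_inv` : no `x ∈ A` with `InvAt x n` (helper226), `|A| < 2 ^ n`;
* **`deadX_of_sheetInv`** : groups with a sheet `SheetX z P R`, whose elementary abelian subgroups `B ≤ R` have order at
  most `2 ^ n`, and `InvAt y (n + 1)` for every involution `y ∈ R`, `y ≠ z`, form a row.
-/

set_option autoImplicit false

namespace Cfsg.Agent.Omega.ML.Ex

open Subgroup Cfsg Cfsg.Agent.ZN Cfsg.Agent.Omega.NOThree.NoOver Cfsg.Agent.Omega.ML.CD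
open Cfsg.Agent.OddHalf.D8.Sheet Cfsg.Agent.OddHalf.D8.JTwo.Sheet Cfsg.Agent.Omega.ML.InvChain
open Cfsg.Agent.ClassTwoFusion.Quad

universe u v

variable {H : Type u} [Group H] {M : Type v} [Group M] [Finite M] [MulDistribMulAction H M] {K T A : Subgroup H}

/-- `|M : C_M(x)| ≤ |A|` for `x ∈ A`. -/
theorem InX.index_elt_le (h : InX H M K T A) {x : H} (hx : x ∈ A) : (cv M ({x} : Set H)).index ≤ Nat.card A := by
  rw [← h.exact]
  exact Nat.le_of_dvd (Nat.pos_of_ne_zero index_ne_zero_of_finite)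
    (index_dvd_of_le (cv_anti (Set.singleton_subset_iff.2 hx)))

/-- **Kill by one inverted element.** -/
theorem InX.false_of_inv (h : InX H M K T A) {n : ℕ} (hn : Nat.card A < 2 ^ n) {x : H} (hxA : x ∈ A)
    (hx : InvAt x n) : False := by
  have h1 := InvRow.inv_big h.sq h.faith (h.el x hxA) hx
  have h2 := h.index_elt_le hxA
  omega

omit [Finite M] in
/-- An element of `A` different from `1` and from one further element. -/
theorem InX.exists_mem_ne (h : InX H M K T A) [Finite H] (f : H → H) (hf : Function.Injective f) (z : H) :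
    ∃ x ∈ A, x ≠ 1 ∧ f x ≠ z := by
  classical
  by_contra hcon
  push Not at hcon
  have h3 : Function.Injective (fun a : A => (if (a : H) = 1 then false else true : Bool)) := by
    intro a b hab
    apply Subtype.ext
    by_cases ha : (a : H) = 1
    · by_cases hb : (b : H) = 1
      · rw [ha, hb]
      · simp [ha, hb] at hab
    · by_cases hb : (b : H) = 1
      · simp [ha, hb] at hab
      · exact hf ((hcon a a.2 ha).trans (hcon b b.2 hb).symm)
  have h4 := Nat.card_le_card_of_injective _ h3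
  rw [Nat.card_eq_fintype_card (α := Bool), Fintype.card_bool] at h4
  have := h.four
  omega

/-- **The row of a class of groups with a sheet of type (E), `R` of rank at most `n`, `InvAt y (n + 1)` for the
involutions `y ≠ z` of `R`.** -/
theorem deadX_of_sheetInv {𝒮 : ∀ (S : Type u) [Group S], Prop}
    (hs : ∀ (S : Type u) [Group S], Finite S → 𝒮 S → ∃ (z : S) (P R : Subgroup S) (n : ℕ), SheetX z P R ∧
      (∀ B ≤ R, (∀ b ∈ B, b * b = 1) → Nat.card B ≤ 2 ^ n) ∧
        ∀ y ∈ R, y * y = 1 → y ≠ 1 → y ≠ z → InvAt y (n + 1)) :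
    DeadX.{u, v} 𝒮 := by
  intro H _ _ M _ _ _ K T A h hK
  obtain ⟨z, P, R, n, hz, hR, hI⟩ := hs K inferInstance hK
  have has := h.asx
  have hcard : Nat.card A ≤ 2 ^ n := has.card_le_of_sheet hz hR
  obtain ⟨g, hg⟩ := has.le_conj hz
  obtain ⟨x, hxA, hx1, hx2⟩ := h.exists_mem_ne (fun a => (g : H)⁻¹ * a * g)
    (fun a b hab => mul_left_cancel (mul_right_cancel hab)) (z : H)
  obtain ⟨r, hr, hrx⟩ := hg x hxA
  change (r : H) = (g : H)⁻¹ * x * g at hrx
  have hxx : x * x = 1 := h.el x hxA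
  have hI' : InvAt r (n + 1) := by
    refine hI r hr (Subtype.ext ?_) ?_ ?_
    · rw [Subgroup.coe_mul, hrx, Subgroup.coe_one]
      calc (g : H)⁻¹ * x * g * ((g : H)⁻¹ * x * g) = (g : H)⁻¹ * (x * x) * g := by group
        _ = 1 := by rw [hxx]; group
    · intro h1
      apply hx1
      rw [h1, Subgroup.coe_one] at hrx
      calc x = (g : H) * ((g : H)⁻¹ * x * g) * (g : H)⁻¹ := by group
        _ = 1 := by rw [← hrx]; group
    · intro h1
      exact hx2 (by rw [← hrx, h1])
  have h3 := (hI'.map K.subtype K.subtype_injective).conj (g : H)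
  have h4 : (g : H) * K.subtype r * (g : H)⁻¹ = x := by
    change (g : H) * (r : H) * (g : H)⁻¹ = x
    rw [hrx]; group
  rw [h4] at h3
  exact h.false_of_inv (hcard.trans_lt (Nat.pow_lt_pow_right (by norm_num) (by omega))) hxA h3

end Cfsg.Agent.Omega.ML.Ex

end

section


/-!
# Exact and low configurations: the group-theoretic rows M11 and J1 over `ASx` (helper333)
-/

set_option autoImplicit false

namespace Cfsg.Agent.Omega.ML.Ex.RowMJX

open Subgroup Cfsg Cfsg.Agent.ZN Cfsg.Agent.Omega.TwoF Cfsg.Agent.Omega.ML.Rows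

universe u

/-- **The row `M11`.** -/
theorem m11 : DeadGx.{u} 4 (fun S _ => Spor.IsoM11 S) :=
  fun _ _ _ _ _ _ h hS => h.card_le_four_of_rk (RowMJ.M11.rk hS)

theorem card_le_four_of_eight {X : Type u} [Group X] {S T A : Subgroup X} [Finite X] (h : ASx S T A) (htop : S = ⊤)
    (hsyl : ∀ Q : Sylow 2 S, Nat.card Q = 8 ∧ ∀ x ∈ (Q : Subgroup S), x * x = 1) : Nat.card A ≤ 4 := by
  have hp : Fact (Nat.Prime 2) := ⟨Nat.prime_two⟩
  by_cases hA : A = ⊥
  · rw [hA, card_bot]
    norm_num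
  -- `T` is a Sylow subgroup of `S`
  have hT : Nat.card T = 8 := by
    have h1 : ¬ 2 ∣ (T.subgroupOf S).index := by
      intro h2
      have h3 : (T.subgroupOf S).index = T.index := by
        rw [htop]
        exact relIndex_top_right T
      exact h.syl (h3 ▸ h2)
    have h2 : IsPGroup 2 (T.subgroupOf S) := h.two.comap_subtype
    have h3 := (hsyl (h2.toSylow h1)).1
    have h4 : Nat.card (T.subgroupOf S) = 8 := h3
    rw [← h4]
    exact (Nat.card_congr (subgroupOfEquivOfLe (htop ▸ le_top)).toEquiv).symm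
  have h1 := h.two_mul_card_le hA
  omega

/-- **The row `J1`.** -/
theorem j1 : DeadGx.{u} 4 (fun S _ => Spor.IsoJ1 S) := by
  intro X _ _ S T A h hS
  have htop : S = ⊤ := h.top_of_inn fun α => by
    obtain ⟨e⟩ := hS
    exact inner_of_equiv e Cfsg.Agent.OddHalf.D4.Spor.J1Out.inn α
  exact card_le_four_of_eight h htop (RowMJ.J1.syl hS)

end Cfsg.Agent.Omega.ML.Ex.RowMJX

end
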