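import Cfsg.Agent.Mrg.Omega.ML.Ex.Def
import Cfsg.Agent.Mrg.Omega.ML.AltRow
import Cfsg.Agent.Mrg.Omega.ML.RowsList


/-!
# The K-list for EXACT subgroups (EXL): the list of all rows (helper484)

* `DeadX.mono`, `DeadX.or`;
* `InX.not_primeCyclic` : `K` is not of prime order;
* **`RowsX`** : one field per row of the list (every field has the form `DeadX 𝒮`);
* **`RowsX.exit`** : in the situation `InX` a known `K` is of Lie type in characteristic 2 or `U₃(3) = G₂(2)'` or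
  `A₆ = Sp₄(2)'`;
* `RowsX.known` : the same as `DeadX`.

The exceptions are true examples (`SL₃(8)` on the natural module, `G₂(2)` on `2⁶`, `S₆ = Sp₄(2)` on `2⁴` with a
subgroup `A` which is not an atom).
-/

set_option autoImplicit false

namespace Cfsg.Agent.Omega.ML.Ex

open Subgroup Cfsg Cfsg.Agent.Omega.ML.Known Cfsg.Agent.Omega.ML.Rows

universe u v

/-- smaller classes -/
theorem DeadX.mono {𝒮 𝒮' : ∀ (S : Type u) [Group S], Prop} (h : DeadX.{u, v} 𝒮)
    (h' : ∀ (S : Type u) [Group S], 𝒮' S → 𝒮 S) : DeadX.{u, v} 𝒮' :=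
  fun H _ _ M _ _ _ K T A hI hS => h H M K T A hI (h' _ hS)

theorem DeadX.or {𝒮 𝒮' : ∀ (S : Type u) [Group S], Prop} (h : DeadX.{u, v} 𝒮) (h' : DeadX.{u, v} 𝒮') :
    DeadX.{u, v} fun S _ => 𝒮 S ∨ 𝒮' S :=
  fun H _ _ M _ _ _ K T A hI hS =>
    hS.elim (fun h1 => h H M K T A hI h1) fun h1 => h' H M K T A hI h1

/-- `K` is not abelian -/
theorem InX.not_comm {H : Type u} [Group H] {M : Type v} [Group M] [MulDistribMulAction H M] {K T A : Subgroup H}
    (h : InX H M K T A) : ¬ ∀ a b : K, a * b = b * a := by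
  intro hc
  have h1 : K ≤ centralizer (K : Set H) := by
    intro x hx
    rw [mem_centralizer_iff]
    intro y hy
    exact congrArg Subtype.val (hc ⟨y, hy⟩ ⟨x, hx⟩)
  rw [h.cen] at h1
  have hs := h.simple
  obtain ⟨x, hx⟩ := exists_ne (1 : K)
  exact hx (Subtype.ext (mem_bot.1 (h1 x.2)))

/-- `K` is not of prime order -/
theorem InX.not_primeCyclic {H : Type u} [Group H] {M : Type v} [Group M] [MulDistribMulAction H M]
    {K T A : Subgroup H} (h : InX H M K T A) : ¬ IsPrimeCyclic K := by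
  intro hc
  have h1 : Nat.Prime (Nat.card K) := hc
  have : Fact (Nat.card K).Prime := ⟨h1⟩
  have hcyc : IsCyclic K := isCyclic_of_prime_card (α := K) rfl
  exact h.not_comm fun x y => (IsCyclic.commGroup (α := K)).mul_comm x y

/-- **The rows of the list (EXL).** -/
structure RowsX : Prop where
  alt : DeadX.{u, v} fun S _ => ∃ n : ℕ, 7 ≤ n ∧ n ≠ 8 ∧ Nonempty (S ≃* alternatingGroup (Fin n))
  odd : DeadX.{u, v} fun S _ => OddLie S ∧ ¬ IsLieTypeChar 2 S ∧ ¬ IsUThreeThree S ∧ ¬ IsAlt6 S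
  tits : DeadX.{u, v} @Lie.IsoTits
  m11 : DeadX.{u, v} @Spor.IsoM11
  m12 : DeadX.{u, v} @Spor.IsoM12
  m22 : DeadX.{u, v} @Spor.IsoM22
  m23 : DeadX.{u, v} @Spor.IsoM23
  m24 : DeadX.{u, v} @Spor.IsoM24
  j1 : DeadX.{u, v} @Spor.IsoJ1
  j2 : DeadX.{u, v} @Spor.IsoJ2
  j3 : DeadX.{u, v} @Spor.IsoJ3
  j4 : DeadX.{u, v} @Spor.IsoJ4
  co1 : DeadX.{u, v} @Spor.IsoCo1
  co2 : DeadX.{u, v} @Spor.IsoCo2
  co3 : DeadX.{u, v} @Spor.IsoCo3
  mcl : DeadX.{u, v} @Spor.IsoMcL
  hs : DeadX.{u, v} @Spor.IsoHS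
  suz : DeadX.{u, v} @Spor.IsoSuz
  he : DeadX.{u, v} @Spor.IsoHe
  ru : DeadX.{u, v} @Spor.IsoRu
  on : DeadX.{u, v} @Spor.IsoON
  ly : DeadX.{u, v} @Spor.IsoLy
  fi22 : DeadX.{u, v} @Spor.IsoFi22
  fi23 : DeadX.{u, v} @Spor.IsoFi23
  fi24 : DeadX.{u, v} @Spor.IsoFi24'
  hn : DeadX.{u, v} @Spor.IsoHN
  th : DeadX.{u, v} @Spor.IsoTh
  b : DeadX.{u, v} @Spor.IsoB
  m : DeadX.{u, v} @Spor.IsoM

/-- **All rows: in the situation `InX` a known simple group `K` is of Lie type in characteristic 2 or `U₃(3)` or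
`A₆`.** -/
theorem RowsX.exit (R : RowsX.{u, v}) {H : Type u} [Group H] [Finite H] {M : Type v} [Group M] [Finite M]
    [MulDistribMulAction H M] {K T A : Subgroup H} (hI : InX H M K T A) (hS : IsKnownSimple' K) :
    IsLieTypeChar 2 K ∨ IsUThreeThree K ∨ Nonempty (K ≃* alternatingGroup (Fin 6)) := by
  by_contra hcon
  rw [not_or, not_or] at hcon
  obtain ⟨hc2, hc3, hc6⟩ := hcon
  rcases cases hS with h | h | h | h | h | h | h
  · exact hI.not_primeCyclic h
  · exact hc2 h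
  · exact R.odd H M K T A hI ⟨h.1, h.2, hc3, hc6⟩
  · exact hc6 h
  · exact R.alt H M K T A hI h
  · exact R.tits H M K T A hI h
  · unfold IsSporadicGroup at h
    rcases h with h | h | h | h | h | h | h | h | h | h | h | h | h | h | h | h | h | h | h | h | h | h | h | h | h | h
    · exact R.m11 H M K T A hI h
    · exact R.m12 H M K T A hI h
    · exact R.m22 H M K T A hI h
    · exact R.m23 H M K T A hI h
    · exact R.m24 H M K T A hI h
    · exact R.j1 H M K T A hI h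
    · exact R.j2 H M K T A hI h
    · exact R.j3 H M K T A hI h
    · exact R.j4 H M K T A hI h
    · exact R.co1 H M K T A hI h
    · exact R.co2 H M K T A hI h
    · exact R.co3 H M K T A hI h
    · exact R.mcl H M K T A hI h
    · exact R.hs H M K T A hI h
    · exact R.suz H M K T A hI h
    · exact R.he H M K T A hI h
    · exact R.ru H M K T A hI h
    · exact R.on H M K T A hI h
    · exact R.ly H M K T A hI h
    · exact R.fi22 H M K T A hI h
    · exact R.fi23 H M K T A hI h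
    · exact R.fi24 H M K T A hI h
    · exact R.hn H M K T A hI h
    · exact R.th H M K T A hI h
    · exact R.b H M K T A hI h
    · exact R.m H M K T A hI h

/-- **All rows of the list.** -/
theorem RowsX.known (R : RowsX.{u, v}) :
    DeadX.{u, v} fun S _ => IsKnownSimple' S ∧ ¬ IsLieTypeChar 2 S ∧ ¬ IsUThreeThree S ∧ ¬ IsAlt6 S :=
  fun _ _ _ _ _ _ _ _ _ _ hI hS => (R.exit hI hS.1).elim hS.2.1 fun h => h.elim hS.2.2.1 hS.2.2.2

end Cfsg.Agent.Omega.ML.Ex
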