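import Cfsg.Agent.Mrg.Omega.ML.Ex.RowPspSixX
import Cfsg.Agent.Mrg.Omega.ML.ExLow.NumX
import Cfsg.Agent.Mrg.Omega.ML.Ex.Def
import Cfsg.Agent.Mrg.Omega.ML.RowPsp


/-!
# The K-list EXACT + LOW: the row `PSp₈(3)` (helper831)

`K A` has a faithful irreducible section `N` of `M` with `|N| ≤ |K A| ≤ 3 ^ 36 * 2 ^ 8 < 2 ^ 72` (`NumX.exists_section`);
`|N| ≥ 2 ^ 72` (`PspEightLB.two_pow_le_card`).

* `perfect`, `mv`, `le_fo` : the hypotheses of `NumX` from `InX`;
* **`deadX`** : the row.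
-/

set_option autoImplicit false
set_option linter.unusedVariables false

namespace Cfsg.Agent.Omega.ML.Ex.RowPspEight

open Subgroup Cfsg Cfsg.Agent.Omega.TwoF Cfsg.Agent.Omega.ML.Num Cfsg.Agent.Omega.ML.CD
open Cfsg.Agent.Omega.NOThree.NoOver Cfsg.Agent.ClassTwoFusion.Quad
open Cfsg.Agent.Omega.Lie Cfsg.Agent.Omega.ML.ExLow.NumX
open Cfsg.Agent.Omega.TwoF.RkLin Cfsg.Agent.Omega.TwoF.RkPSL Cfsg.Agent.Omega.TwoF.RkPSp

universe u v w

section inx

variable {H : Type u} [Group H] {M : Type v} [Group M] [MulDistribMulAction H M] {K T A : Subgroup H}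

theorem perfect (h : InX H M K T A) : _root_.commutator K = ⊤ := by
  have hs := h.simple
  rcases hs.eq_bot_or_eq_top_of_normal (_root_.commutator K) inferInstance with h1 | h1
  · exfalso
    have h2 : K ≤ centralizer (K : Set H) := by
      intro x hx
      rw [mem_centralizer_iff]
      intro y hy
      have h3 : (⟨y, hy⟩ : K) * ⟨x, hx⟩ * (⟨y, hy⟩ : K)⁻¹ * (⟨x, hx⟩ : K)⁻¹ ∈ _root_.commutator K :=
        commutator_mem_commutator (mem_top _) (mem_top _)
      rw [h1, mem_bot, mul_inv_eq_one, mul_inv_eq_iff_eq_mul] at h3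
      exact congrArg Subtype.val h3
    rw [h.cen] at h2
    obtain ⟨x, hx⟩ := exists_ne (1 : K)
    exact hx (Subtype.ext (mem_bot.1 (h2 x.2)))
  · exact h1

theorem mv [Finite H] (h : InX H M K T A) : Mv K M := by
  have hs := h.simple
  by_contra hcon
  obtain ⟨x, hx⟩ := exists_ne (1 : K)
  exact hx (Subtype.ext (h.faith x fun m => not_mv hcon x.2 m))

theorem le_fo [Finite H] [Finite M] (h : InX H M K T A) : Nat.card M ≤ fo M A := by
  show Nat.card M ≤ Nat.card A * Nat.card (cv M (A : Set H))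
  rw [← h.exact, mul_comm, card_mul_index]

end inx

/-- The class `PSp₈(3)`. -/
def Cls (S : Type u) [Group S] : Prop :=
  ∃ (F : Type) (_ : Field F) (_ : Fintype F), Fintype.card F = 3 ∧ Nonempty (S ≃* PSp 4 F)

theorem cardB {F : Type w} [Field F] [Fintype F] (hF : Fintype.card F = 3) : CardB.{u} (PSp 4 F) (2 ^ 72) := by
  have : Fact (Nat.Prime 3) := ⟨Nat.prime_three⟩
  have hch : CharP F 3 := PspEightLB.charP_three hF
  have h2 : (2 : F) ≠ 0 := RowPsp.two_ne (p := 3) (by norm_num)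
  have h3 : rk (4 + 4) + 1 = 8 := by decide
  have h4 : Rk.RK.{u} (PSp 4 F) 8 := h3 ▸ RowPsp.rk_of_aut (rkAut h2 (by omega))
  refine CardB.of_out (OutB.of_rk h4) ?_
  have h5 := RowPsp.card_le (F := F) (m := 4) (by rw [hF]; decide) (by omega)
  rw [hF] at h5
  calc Nat.card (PSp 4 F) * 2 ^ 8 ≤ 3 ^ (4 * (2 * 4 + 1)) * 2 ^ 8 := Nat.mul_le_mul_right _ h5
    _ < 2 ^ 72 := by norm_num

/-- **The row `PSp₈(3)`, exact.** -/
theorem deadX : DeadX.{u, v} @Cls.{u} := by
  intro H _ _ M _ _ _ K T A h hS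
  obtain ⟨F, _, _, hF, ⟨e⟩⟩ := hS
  have hs := h.simple
  obtain ⟨N, iN, fN, aN, sqN, ⟨k, m, hm⟩, hN⟩ := exists_section h.norm h.simple (perfect h) h.cen h.sq (mv h) h.el
    h.A_ne_bot (le_fo h) ((cardB.{u} hF).congr e.symm)
  have hcomm := comm_of_sq sqN
  let _ : CommGroup N := { iN with mul_comm := hcomm }
  let ψ : K →* MulAut N :=
    (MulDistribMulAction.toMulAut (K ⊔ A : Subgroup H) N).comp (inclusion (le_sup_left : K ≤ K ⊔ A))
  have hψ : ψ.ker = ⊥ := by
    rcases hs.eq_bot_or_eq_top_of_normal ψ.ker inferInstance with h1 | h1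
    · exact h1
    · exfalso
      apply hm
      have h2 : k ∈ ψ.ker := h1 ▸ mem_top k
      exact congrArg (fun e : MulAut N => e m) (MonoidHom.mem_ker.1 h2)
  let q : Matrix.symplecticGroup (Fin 4) F →* PSp 4 F := QuotientGroup.mk' _
  let ρ : Matrix.symplecticGroup (Fin 4) F →* MulAut N := (ψ.comp e.symm.toMonoidHom).comp q
  have hρ : ∀ o : Fin 4, ∃ s, ρ (PspOdd.z o s) ≠ 1 := by
    intro o
    refine ⟨1, fun h1 => ?_⟩
    have h2 : e.symm (q (PspOdd.z o 1)) ∈ ψ.ker := MonoidHom.mem_ker.2 h1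
    rw [hψ, mem_bot, map_eq_one_iff _ e.symm.injective] at h2
    have : Fact (Nat.Prime 3) := ⟨Nat.prime_three⟩
    have hch : CharP F 3 := PspEightLB.charP_three hF
    exact PspOdd.z_notMem o (RowPsp.two_ne (p := 3) (by norm_num)) ((QuotientGroup.eq_one_iff _).1 h2)
  have h1 := PspEightLB.two_pow_le_card hF sqN ρ (hρ 0) (hρ 1)
  omega

end Cfsg.Agent.Omega.ML.Ex.RowPspEight
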