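import Cfsg.Agent.Mrg.Omega.ML.Ex.RowTitsX
import Cfsg.Agent.Mrg.Omega.ML.Ex.RkX
import Cfsg.Agent.Mrg.Omega.ML.RowPspSix
import Cfsg.Agent.Mrg.Omega.Lie.HeisF

section


/-!
# Exact and low configurations: the row `PSp₆(3)` (helper232)

* `exists_conj` : `A ∩ S ≤ {1, z^g}` (`RowPspSix.Facts`), so `|A| ≤ 4` and `z^g ∈ A`;
* `invAt_z` : `z` inverts an element of order 3 of a Frobenius group of order 39 (in `SL₃(3)`), so `dim [M, z] ≥ 4`;
* **`dead : DeadX IsPspSix`**.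
-/

set_option autoImplicit false

namespace Cfsg.Agent.Omega.ML.Ex.RowPspSixX

open Matrix Subgroup Cfsg Cfsg.Agent.ZN
open Cfsg.Agent.Omega.ML.InvChain Cfsg.Agent.Omega.ML.RowPspSix
open Cfsg.Agent.MinSimple.VModule (o2_isPGroup o2_le le_o2 le_normalizer_o2)

universe u v

/-! ### The involution -/

/-- **`A ∩ S ≤ {1, z^g}`.** -/
theorem exists_conj {X : Type*} [Group X] [Finite X] {S T A : Subgroup X} (h : ASx S T A) {z : S} (hz : Facts z) :
    ∃ g : S, ∀ a ∈ A, a ∈ S → a = 1 ∨ a = ((g * z * g⁻¹ : S) : X) := by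
  classical
  obtain ⟨g, hg⟩ := exists_conj_of_aut h.norm h.two hz.odd hz.aut
  refine ⟨g, ?_⟩
  set w : S := g * z * g⁻¹ with hw
  have hw1 : (w : X) ≠ 1 := by
    intro h2
    have h3 : w = 1 := Subtype.ext h2
    apply hz.ne
    calc z = g⁻¹ * w * g := by rw [hw]; group
      _ = 1 := by rw [h3]; group
  have hle := h.low _ hg (h.cent_ne_top hw1)
  intro a ha haS
  let N : Subgroup S := (o2 (centralizer ({(w : X)} : Set X))).comap (S.subtype.comp (MulAut.conj g).toMonoidHom)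
  have hmem : ∀ x : S, x ∈ N ↔ ((g * x * g⁻¹ : S) : X) ∈ o2 (centralizer ({(w : X)} : Set X)) := fun x => Iff.rfl
  have hN1 : N ≤ centralizer ({z} : Set S) := by
    intro x hx
    rw [hmem] at hx
    have h1 := mem_centralizer_singleton_iff.1 (o2_le _ hx)
    rw [mem_centralizer_singleton_iff]
    have h2 : (g * x * g⁻¹) * w = w * (g * x * g⁻¹) := Subtype.ext h1
    calc x * z = g⁻¹ * ((g * x * g⁻¹) * w) * g := by rw [hw]; group
      _ = g⁻¹ * (w * (g * x * g⁻¹)) * g := by rw [h2]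
      _ = z * x := by rw [hw]; group
  have hN2 : IsPGroup 2 N :=
    (o2_isPGroup _).comap_of_injective _ (S.subtype_injective.comp (MulAut.conj g).injective)
  have hN3 : centralizer ({z} : Set S) ≤ normalizer (N : Set S) := by
    have hk : ∀ x ∈ centralizer ({z} : Set S), ∀ y ∈ N, x * y * x⁻¹ ∈ N := by
      intro x hx y hy
      rw [hmem] at hy ⊢
      have h1 : ((g * x * g⁻¹ : S) : X) ∈ centralizer ({(w : X)} : Set X) := by
        rw [mem_centralizer_singleton_iff] at hx ⊢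
        refine congrArg (Subtype.val (p := (· ∈ S))) (?_ : (g * x * g⁻¹) * w = w * (g * x * g⁻¹))
        calc (g * x * g⁻¹) * w = g * (x * z) * g⁻¹ := by rw [hw]; group
          _ = g * (z * x) * g⁻¹ := by rw [hx]
          _ = _ := by rw [hw]; group
      have h2 := (mem_normalizer_iff.1 (le_normalizer_o2 _ h1) _).1 hy
      have h3 : ((g * (x * y * x⁻¹) * g⁻¹ : S) : X) = ((g * x * g⁻¹ : S) : X) * ((g * y * g⁻¹ : S) : X) *
          ((g * x * g⁻¹ : S) : X)⁻¹ := by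
        rw [← Subgroup.coe_inv, ← Subgroup.coe_mul, ← Subgroup.coe_mul]
        congr 1
        group
      rwa [h3]
    intro x hx
    rw [mem_normalizer_iff]
    intro y
    refine ⟨fun hy => hk x hx y hy, fun hy => ?_⟩
    have h3 := hk x⁻¹ (inv_mem hx) _ hy
    have h4 : x⁻¹ * (x * y * x⁻¹) * x⁻¹⁻¹ = y := by group
    rwa [h4] at h3
  have h1 : (g⁻¹ * ⟨a, haS⟩ * g) ∈ N := by
    rw [hmem]
    have h2 : ((g * (g⁻¹ * ⟨a, haS⟩ * g) * g⁻¹ : S) : X) = a := by
      have h3 : (g * (g⁻¹ * ⟨a, haS⟩ * g) * g⁻¹ : S) = ⟨a, haS⟩ := by group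
      rw [h3]
    rw [h2]
    exact hle ha
  have h5 : (⟨a, haS⟩ : S) = g * (g⁻¹ * ⟨a, haS⟩ * g) * g⁻¹ := by group
  have h6 : (g⁻¹ * ⟨a, haS⟩ * g) * (g⁻¹ * ⟨a, haS⟩ * g) = 1 := by
    have h7 : (⟨a, haS⟩ : S) * ⟨a, haS⟩ = 1 := Subtype.ext (h.el a ha)
    calc (g⁻¹ * ⟨a, haS⟩ * g) * (g⁻¹ * ⟨a, haS⟩ * g) = g⁻¹ * (⟨a, haS⟩ * ⟨a, haS⟩) * g := by group
      _ = 1 := by rw [h7]; group
  rcases hz.o2 N hN2 hN1 hN3 _ h1 h6 with h2 | h2
  · left
    rw [h2, mul_one, mul_inv_cancel] at h5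
    exact congrArg Subtype.val h5
  · right
    rw [h2] at h5
    exact congrArg Subtype.val h5

/-- **The row with `Facts`**: `|Out(S)| ≤ 2`, `InvAt z 3`. -/
theorem false_of_facts {H : Type*} [Group H] [Finite H] {M : Type*} [Group M] [Finite M] [MulDistribMulAction H M]
    {K T A : Subgroup H} (h : InX H M K T A) {z : K} (hz : Facts z)
    (hout : (MulAut.conj : K →* MulAut K).range.index ≤ 2) (hinv : InvAt z 3) : False := by
  obtain ⟨g, hg⟩ := exists_conj h.asx hz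
  have h1 := h.four
  have h2 : K.index ≤ 2 := h.asx.index_le.trans hout
  have h3 : Nat.card (K.subgroupOf A) ≤ 2 := card_subgroupOf_le_two hg
  have h4 := h.asx.card_le_inf_mul
  have h5 : Nat.card A ≤ 4 := h4.trans (Nat.mul_le_mul h3 h2)
  have h6 : ((g * z * g⁻¹ : K) : H) ∈ A := by
    by_contra hc
    have h7 : K.subgroupOf A = ⊥ := by
      rw [eq_bot_iff]
      intro b hb
      rcases hg b b.2 (mem_subgroupOf.1 hb) with e | e
      · exact mem_bot.2 (Subtype.ext e)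
      · exact absurd (e ▸ b.2) hc
    rw [h7, card_bot, one_mul] at h4
    omega
  exact h.false_of_invAt h6 (n := 3) (by omega) ((hinv.conj g).map K.subtype K.subtype_injective)

/-! ### The inverted element -/

section Model

open Cfsg.Agent.ClassicalGeometry.SympAutExists
open Cfsg.Agent.OddHalf.NI.FrameSp (neg neg_coe center_cases)
open Cfsg.Agent.Lib.FieldThree (F3)

/-- `A ⊕ B` with `B = A^{-T}` -/
def lev (A B : Matrix (Fin 3) (Fin 3) F3) (h : A * Bᵀ = 1) : symplecticGroup (Fin 3) F3 :=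
  ⟨fromBlocks A 0 0 B, by
    have h' : B * Aᵀ = 1 := by
      have h1 := congrArg Matrix.transpose h
      rwa [transpose_mul, transpose_transpose, transpose_one] at h1
    rw [SymplecticGroup.mem_iff]
    unfold J
    rw [fromBlocks_transpose, fromBlocks_multiply, fromBlocks_multiply]
    simp [h, h']⟩

theorem lev_coe (A B : Matrix (Fin 3) (Fin 3) F3) (h : A * Bᵀ = 1) :
    (lev A B h : Matrix (Fin 3 ⊕ Fin 3) (Fin 3 ⊕ Fin 3) F3) = fromBlocks A 0 0 B := rfl

/-- an element of order 3 inverted by `D` -/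
def aM : Matrix (Fin 3) (Fin 3) F3 := !![1, 0, 0; -1, 1, 1; 1, 0, 1]
def aN : Matrix (Fin 3) (Fin 3) F3 := !![1, -1, -1; 0, 1, 0; 0, -1, 1]
/-- an element of order 13 normalised by it -/
def bM : Matrix (Fin 3) (Fin 3) F3 := !![-1, -1, 0; 0, 0, 1; -1, 0, 0]
def bN : Matrix (Fin 3) (Fin 3) F3 := !![0, -1, 0; 0, 0, 1; -1, 1, 0]
def dM : Matrix (Fin 3) (Fin 3) F3 := !![-1, 0, 0; 0, -1, 0; 0, 0, 1]

def ga : symplecticGroup (Fin 3) F3 := lev aM aN (by decide +kernel)
def gb : symplecticGroup (Fin 3) F3 := lev bM bN (by decide +kernel)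

theorem ga_coe : (ga : Matrix (Fin 3 ⊕ Fin 3) (Fin 3 ⊕ Fin 3) F3) = fromBlocks aM 0 0 aN := rfl
theorem gb_coe : (gb : Matrix (Fin 3 ⊕ Fin 3) (Fin 3 ⊕ Fin 3) F3) = fromBlocks bM 0 0 bN := rfl

theorem Y_blocks : (Y : Matrix (Fin 3 ⊕ Fin 3) (Fin 3 ⊕ Fin 3) F3) = fromBlocks dM 0 0 dM := by
  rw [Y_coe]
  decide +kernel

theorem pw {A B : Matrix (Fin 3) (Fin 3) F3} (n : ℕ) : (fromBlocks A 0 0 B) ^ n = fromBlocks (A ^ n) 0 0 (B ^ n) := by
  induction n with
  | zero => rw [pow_zero, pow_zero, pow_zero, fromBlocks_one]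
  | succ n ih => rw [pow_succ, ih, fromBlocks_multiply, pow_succ, pow_succ]; simp

theorem ga_pow : ga ^ 3 = 1 := by
  apply Subtype.ext
  rw [SubmonoidClass.coe_pow, ga_coe, pw]
  have h1 : aM ^ 3 = 1 := by
    rw [pow_succ, pow_succ, pow_one]; decide +kernel
  have h2 : aN ^ 3 = 1 := by
    rw [pow_succ, pow_succ, pow_one]; decide +kernel
  rw [h1, h2, fromBlocks_one]
  rfl

theorem gb_pow : gb ^ 13 = 1 := by
  apply Subtype.ext
  rw [SubmonoidClass.coe_pow, gb_coe, pw]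
  have h1 : bM ^ 13 = 1 := by
    rw [show 13 = 3 * 4 + 1 by norm_num, pow_add, pow_mul, pow_one]
    have h3 : bM ^ 3 = !![-1, -1, 0; 0, 0, 1; -1, 0, 0] * !![-1, -1, 0; 0, 0, 1; -1, 0, 0] * !![-1, -1, 0; 0, 0, 1; -1, 0, 0] := by
      rw [pow_succ, pow_succ, pow_one]; rfl
    rw [h3, pow_succ, pow_succ, pow_succ, pow_one]; decide +kernel
  have h2 : bN ^ 13 = 1 := by
    rw [show 13 = 3 * 4 + 1 by norm_num, pow_add, pow_mul, pow_one]
    have h3 : bN ^ 3 = !![0, -1, 0; 0, 0, 1; -1, 1, 0] * !![0, -1, 0; 0, 0, 1; -1, 1, 0] * !![0, -1, 0; 0, 0, 1; -1, 1, 0] := by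
      rw [pow_succ, pow_succ, pow_one]; rfl
    rw [h3, pow_succ, pow_succ, pow_succ, pow_one]; decide +kernel
  rw [h1, h2, fromBlocks_one]
  rfl

theorem ga_ne : pr ga ≠ 1 := by
  intro h
  have h1 : ga ∈ center (symplecticGroup (Fin 3) F3) := (QuotientGroup.eq_one_iff ga).1 h
  have h4 : ∀ X : Matrix (Fin 3 ⊕ Fin 3) (Fin 3 ⊕ Fin 3) F3, X = fromBlocks aM 0 0 aN →
      X (Sum.inl 1) (Sum.inl 0) = -1 := by
    rintro X rfl
    decide +kernel
  have h5 := h4 _ ga_coe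
  rcases center_cases (by norm_num) h1 with h2 | h2
  · rw [h2] at h5
    revert h5
    decide +kernel
  · rw [h2, neg_coe] at h5
    revert h5
    decide +kernel

theorem gb_ne : pr gb ≠ 1 := by
  intro h
  have h1 : gb ∈ center (symplecticGroup (Fin 3) F3) := (QuotientGroup.eq_one_iff gb).1 h
  have h4 : ∀ X : Matrix (Fin 3 ⊕ Fin 3) (Fin 3 ⊕ Fin 3) F3, X = fromBlocks bM 0 0 bN →
      X (Sum.inl 0) (Sum.inl 1) = -1 := by
    rintro X rfl
    decide +kernel
  have h5 := h4 _ gb_coe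
  rcases center_cases (by norm_num) h1 with h2 | h2
  · rw [h2] at h5
    revert h5
    decide +kernel
  · rw [h2, neg_coe] at h5
    revert h5
    decide +kernel

theorem ab : ga * gb = gb ^ 3 * ga := by
  apply Subtype.ext
  rw [Submonoid.coe_mul, Submonoid.coe_mul, SubmonoidClass.coe_pow, ga_coe, gb_coe, pw, fromBlocks_multiply,
    fromBlocks_multiply]
  have h1 : aM * bM = bM ^ 3 * aM := by
    rw [pow_succ, pow_succ, pow_one]; decide +kernel
  have h2 : aN * bN = bN ^ 3 * aN := by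
    rw [pow_succ, pow_succ, pow_one]; decide +kernel
  rw [h1, h2]
  simp

theorem za : Y * ga * Y * ga = 1 := by
  apply Subtype.ext
  rw [Submonoid.coe_mul, Submonoid.coe_mul, Submonoid.coe_mul, ga_coe, Y_blocks]
  simp only [fromBlocks_multiply, Matrix.mul_zero, Matrix.zero_mul, add_zero, zero_add]
  have h1 : dM * aM * dM * aM = 1 := by decide +kernel
  have h2 : dM * aN * dM * aN = 1 := by decide +kernel
  rw [h1, h2, fromBlocks_one]
  rfl

theorem YY : Y * Y = 1 := by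
  apply Subtype.ext
  rw [Submonoid.coe_mul, Y_blocks, fromBlocks_multiply]
  have h1 : dM * dM = 1 := by decide +kernel
  rw [h1]
  simp

theorem invAt_z : InvAt z 4 := by
  have hoa : orderOf (pr ga) = 3 := orderOf_eq_prime (by rw [← pr_pow, ga_pow]; rfl) ga_ne
  have hob : orderOf (pr gb) = 13 := by
    have : Fact (Nat.Prime 13) := ⟨by norm_num⟩
    exact orderOf_eq_prime (by rw [← pr_pow, gb_pow]; rfl) gb_ne
  have hab : pr ga * pr gb * (pr ga)⁻¹ = pr gb ^ 3 := by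
    rw [mul_inv_eq_iff_eq_mul, ← pr_mul, ab, pr_mul, pr_pow]
  have hza : z * pr ga * z⁻¹ = (pr ga)⁻¹ := by
    have h2 : z⁻¹ = z := inv_eq_of_mul_eq_one_left (by
      change pr (Y * Y) = 1
      rw [YY]; rfl)
    rw [h2, eq_inv_iff_mul_eq_one]
    change pr (Y * ga * Y * ga) = 1
    rw [za]; rfl
  refine ⟨pr ga, 8, Chain.step (pr gb) (pr ga) 12 8 3 (Chain.base (pr gb) 12 ?_ ?_ ?_) ?_ ?_ hab ?_ ?_, hza,
    by norm_num⟩
  · rw [hob]; norm_num
  · rw [hob]; norm_num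
  · rw [hob]
    intro j hj1 hj2
    interval_cases j <;> norm_num
  · rw [hoa]; norm_num
  · rw [hoa]; norm_num
  · intro h1
    have h2 : pr gb = pr gb ^ 3 := by rw [← hab, h1, mul_inv_cancel_right]
    have h3 : pr gb ^ 2 = 1 := by
      have h4 : pr gb * pr gb ^ 2 = pr gb * 1 := by rw [mul_one, ← pow_succ']; exact h2.symm
      exact mul_left_cancel h4
    have h4 := orderOf_dvd_of_pow_eq_one h3
    rw [hob] at h4
    norm_num at h4
  · rw [hoa]; norm_num

end Model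

/-- **The row `PSp₆(3)`** -/
theorem dead : DeadX.{u, v} (fun S _ => IsPspSix S) := by
  rintro H _ _ M _ _ _ K T A h ⟨F, _, _, hF, ⟨f⟩⟩
  let e : PSp 3 Cfsg.Agent.Lib.FieldThree.F3 ≃* K :=
    (f.trans (LieClassical.FieldTransfer.pspCongr 3 (Cfsg.Agent.Lib.FieldThree.equivOfCard hF))).symm
  exact false_of_facts h (facts.map e) (index_out e)
    ((invAt_z.map e.toMonoidHom e.injective).mono (by norm_num))

end Cfsg.Agent.Omega.ML.Ex.RowPspSixX

end

section


/-!
# The bound 72 for `PSp₈(3)` (helper831)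

`Sp₈(3)` acting on the elementary abelian 2-group `V`, `z_i` the root groups `U (F E_ii)`, `z_1 ≠ 1` on `V`:

* `|V / C_V(z_1)| ≥ 2 ^ 54` (the Heisenberg group `3^{1+6}` of `z_1`);
* `z_0` acts non-trivially on `C_V(z_1)` (`conic` : otherwise all root elements of `3^6 = Sym²(3)` have the same fixed
  points, but a conic over `F_3` has a point);
* `|C_V(z_1)| ≥ 2 ^ 18` (the Heisenberg group `3^{1+4}` of `z_0` in `C(z_1)`).
-/

set_option autoImplicit false
set_option linter.dupNamespace false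
set_option linter.unusedVariables false
set_option linter.unusedSimpArgs false
set_option linter.unusedSectionVars false

universe u v w

namespace Cfsg.Agent.Omega.ML.Ex.PspEightLB

open Matrix Cfsg Cfsg.Agent.Omega.Lie Cfsg.Agent.Omega.Lie.FHeis Cfsg.Agent.Omega.Lie.HeisLift
  Cfsg.Agent.Omega.Lie.Heis Cfsg.Agent.Omega.TwoF.PspOdd

/-! ### the conic -/

/-- The element of `Sym²` with the coordinates `a, b, c`. -/
def tau {S : Type*} [CommMonoid S] (t0 t1 t2 s01 s02 s12 : S) (a b c : ℕ) : S :=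
  t0 ^ (a * a) * (t1 ^ (b * b) * (t2 ^ (c * c) * (s01 ^ (a * b) * (s02 ^ (a * c) * s12 ^ (b * c)))))

theorem map_tau {S S' : Type*} [CommMonoid S] [CommMonoid S'] (f : S →* S') (t0 t1 t2 s01 s02 s12 : S) (a b c : ℕ) :
    f (tau t0 t1 t2 s01 s02 s12 a b c) = tau (f t0) (f t1) (f t2) (f s01) (f s02) (f s12) a b c := by
  simp only [tau, map_mul, map_pow]

section conic

variable {S V : Type*} [CommRing S] [AddCommGroup V] [Module S V]

theorem persist {r : S} {w : V} (h : r • w = 0) (p : S) : r • (p • w) = 0 := by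
  rw [smul_comm, h, smul_zero]

theorem step {t y : S} (ht : t ^ 3 = 1) (hy : y ^ 3 = 1) {w : V} (hw : w ≠ 0) (hN : (1 + t + t ^ 2) • w = 0) :
    ∃ (p : S) (j : Fin 3), p • w ≠ 0 ∧ (y - t ^ (j : ℕ)) • (p • w) = 0 := by
  by_cases h1 : (y - t ^ 2) • w = 0
  · exact ⟨1, 2, by rwa [one_smul], by rw [one_smul]; exact h1⟩
  by_cases h2 : (y - t) • ((y - t ^ 2) • w) = 0
  · exact ⟨y - t ^ 2, 1, h1, by
      show (y - t ^ 1) • _ = 0
      rwa [pow_one]⟩
  · refine ⟨(y - t) * (y - t ^ 2), 0, by rwa [mul_smul], ?_⟩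
    show (y - t ^ 0) • _ = 0
    rw [pow_zero, ← mul_smul]
    have h3 : (y - 1) * ((y - t) * (y - t ^ 2)) =
        (y ^ 3 - 1) + (y - 1) * (t ^ 3 - 1) + (-(y * (y - 1))) * (1 + t + t ^ 2) := by ring
    rw [h3, ht, hy, sub_self, mul_zero, zero_add, zero_add, mul_smul, hN, smul_zero]

theorem eig_pow {t y : S} {w : V} {j : ℕ} (h : (y - t ^ j) • w = 0) (n : ℕ) : y ^ n • w = t ^ (n * j) • w := by
  have h1 : y • w = t ^ j • w := by rwa [sub_smul, sub_eq_zero] at h
  induction n with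
  | zero => simp
  | succ n ih => rw [pow_succ', mul_smul, ih, smul_comm, h1, ← mul_smul, ← pow_add]; congr 2; ring

theorem conic_aux : ∀ j1 j2 j01 j02 j12 : Fin 3, ∃ a b c : Fin 3, (a, b, c) ≠ (0, 0, 0) ∧
    ((a : ℕ) * a + ((b : ℕ) * b * j1 + ((c : ℕ) * c * j2 + ((a : ℕ) * b * j01 + ((a : ℕ) * c * j02 +
      (b : ℕ) * c * j12))))) % 3 = 0 := by
  decide

/-- **The conic.** -/
theorem conic (h2 : ∀ x : V, x + x = 0) {t0 t1 t2 s01 s02 s12 : S} (c0 : t0 ^ 3 = 1) (c1 : t1 ^ 3 = 1)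
    (c2 : t2 ^ 3 = 1) (c01 : s01 ^ 3 = 1) (c02 : s02 ^ 3 = 1) (c12 : s12 ^ 3 = 1)
    (hfix : ∀ a b c : Fin 3, (a, b, c) ≠ (0, 0, 0) → ∀ x : V, tau t0 t1 t2 s01 s02 s12 a b c • x = x → t0 • x = x)
    (x : V) : t0 • x = x := by
  by_contra hx
  have hw : t0 • x - x ≠ 0 := sub_ne_zero.2 hx
  have hN : (1 + t0 + t0 ^ 2) • (t0 • x - x) = 0 := by
    have h3 : t0 • x - x = (t0 - 1) • x := by rw [sub_smul, one_smul]
    rw [h3, ← mul_smul, show (1 + t0 + t0 ^ 2) * (t0 - 1) = t0 ^ 3 - 1 by ring, c0, sub_self, zero_smul]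
  generalize t0 • x - x = w at hw hN
  obtain ⟨p1, j1, hw1, e1⟩ := step c0 c1 hw hN
  have hN1 := persist hN p1
  obtain ⟨p2, j2, hw2, e2⟩ := step c0 c2 hw1 hN1
  have hN2 := persist hN1 p2
  have e1' := persist e1 p2
  obtain ⟨p3, j3, hw3, e3⟩ := step c0 c01 hw2 hN2
  have hN3 := persist hN2 p3
  have e1'' := persist e1' p3
  have e2'' := persist e2 p3
  obtain ⟨p4, j4, hw4, e4⟩ := step c0 c02 hw3 hN3
  have hN4 := persist hN3 p4
  have f1 := persist e1'' p4
  have f2 := persist e2'' p4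
  have f3 := persist e3 p4
  obtain ⟨p5, j5, hw5, e5⟩ := step c0 c12 hw4 hN4
  have hN5 := persist hN4 p5
  have g1 := persist f1 p5
  have g2 := persist f2 p5
  have g3 := persist f3 p5
  have g4 := persist e4 p5
  generalize p5 • p4 • p3 • p2 • p1 • w = w' at *
  obtain ⟨a, b, c, hne, hQ⟩ := conic_aux j1 j2 j3 j4 j5
  have h3 : tau t0 t1 t2 s01 s02 s12 a b c • w' = w' := by
    rw [tau, mul_smul, mul_smul, mul_smul, mul_smul, mul_smul, eig_pow e5]
    rw [smul_comm (s02 ^ _) (t0 ^ _), eig_pow g4, ← mul_smul (t0 ^ _) (t0 ^ _), ← pow_add]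
    rw [smul_comm (s01 ^ _) (t0 ^ _), eig_pow g3, ← mul_smul (t0 ^ _) (t0 ^ _), ← pow_add]
    rw [smul_comm (t2 ^ _) (t0 ^ _), eig_pow g2, ← mul_smul (t0 ^ _) (t0 ^ _), ← pow_add]
    rw [smul_comm (t1 ^ _) (t0 ^ _), eig_pow g1, ← mul_smul (t0 ^ _) (t0 ^ _), ← pow_add]
    rw [← mul_smul, ← pow_add]
    obtain ⟨k, hk⟩ := Nat.dvd_of_mod_eq_zero hQ
    have h4 : (a : ℕ) * a + ((b : ℕ) * c * j5 + (a : ℕ) * c * j4 + (a : ℕ) * b * j3 + (c : ℕ) * c * j2) +
        (b : ℕ) * b * j1 = 3 * k := by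
      rw [← hk]; ring
    rw [h4, pow_mul, c0, one_pow, one_smul]
  have h4 := hfix a b c hne w' h3
  apply hw5
  have h5 : (1 + t0 + t0 ^ 2) • w' = w' + w' + w' := by
    rw [add_smul, add_smul, one_smul, pow_two, mul_smul, h4, h4]
  rw [h5, h2, zero_add] at hN5
  exact hN5

end conic

/-! ### the symmetric matrices -/

section sym

variable {F : Type u} [Field F] [Fintype F]

variable (F) in
/-- symmetric matrices -/
def symG : AddSubgroup (Matrix (Fin 4) (Fin 4) F) where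
  carrier := {T | Tᵀ = T}
  add_mem' := fun {a b} ha hb => by
    show (a + b)ᵀ = a + b
    rw [transpose_add, show aᵀ = a from ha, show bᵀ = b from hb]
  zero_mem' := transpose_zero
  neg_mem' := fun {a} ha => by
    show (-a)ᵀ = -a
    rw [transpose_neg, show aᵀ = a from ha]

variable (F) in
/-- `T ↦ U T` -/
def uHom : Multiplicative (symG F) →* symplecticGroup (Fin 4) F where
  toFun T := U T.toAdd.1 T.toAdd.2
  map_one' := by
    apply Subtype.ext
    show fromBlocks 1 (0 : Matrix (Fin 4) (Fin 4) F) 0 1 = 1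
    rw [fromBlocks_one]
  map_mul' S T := (U_mul _ _).symm

/-- automorphisms as endomorphisms of the additive group -/
def toEnd (V : Type*) [CommGroup V] : MulAut V →* AddMonoid.End (Additive V) where
  toFun e := MonoidHom.toAdditive e.toMonoidHom
  map_one' := rfl
  map_mul' _ _ := rfl

theorem three_eq (hF : Fintype.card F = 3) : (3 : F) = 0 := by
  have h := Nat.cast_card_eq_zero F
  rw [hF] at h
  exact_mod_cast h

theorem symG_cube (hF : Fintype.card F = 3) (T : Multiplicative (symG F)) : T ^ 3 = 1 := by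
  apply Multiplicative.toAdd.injective
  apply Subtype.ext
  show (3 : ℕ) • (T.toAdd : Matrix (Fin 4) (Fin 4) F) = 0
  ext i j
  show (3 : ℕ) • (T.toAdd : Matrix (Fin 4) (Fin 4) F) i j = 0
  rw [nsmul_eq_mul, Nat.cast_ofNat, three_eq hF, zero_mul]

omit [Fintype F] in
theorem vv_sym {n : ℕ} (v : Fin n → F) : (vecMulVec v v)ᵀ = vecMulVec v v := by
  rw [transpose_vecMulVec]

/-- `v vᵀ` as an element of the group -/
def rk1 (v : Fin 4 → F) : Multiplicative (symG F) := Multiplicative.ofAdd ⟨vecMulVec v v, vv_sym v⟩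

/-- `E_ij + E_ji` -/
def sij (F : Type u) [Field F] (i j : Fin 4) : Multiplicative (symG F) :=
  Multiplicative.ofAdd ⟨single i j 1 + single j i 1, by
    show (single i j (1 : F) + single j i 1)ᵀ = _
    rw [transpose_add, transpose_single, transpose_single, add_comm]⟩

omit [Fintype F] in
theorem tau_eq (a b c : ℕ) :
    tau (rk1 (F := F) ![1, 0, 0, 0]) (rk1 ![0, 1, 0, 0]) (rk1 ![0, 0, 1, 0]) (sij F 0 1) (sij F 0 2)
      (sij F 1 2) a b c = rk1 ![(a : F), b, c, 0] := by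
  apply Multiplicative.toAdd.injective
  apply Subtype.ext
  show (a * a) • vecMulVec (![1, 0, 0, 0] : Fin 4 → F) ![1, 0, 0, 0] +
    ((b * b) • vecMulVec (![0, 1, 0, 0] : Fin 4 → F) ![0, 1, 0, 0] +
    ((c * c) • vecMulVec (![0, 0, 1, 0] : Fin 4 → F) ![0, 0, 1, 0] +
    ((a * b) • (single (0 : Fin 4) (1 : Fin 4) (1 : F) + single 1 0 1) +
    ((a * c) • (single (0 : Fin 4) (2 : Fin 4) (1 : F) + single 2 0 1) +
    (b * c) • (single (1 : Fin 4) (2 : Fin 4) (1 : F) + single 2 1 1))))) =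
    vecMulVec (![(a : F), b, c, 0] : Fin 4 → F) ![(a : F), b, c, 0]
  ext i j
  fin_cases i <;> fin_cases j <;>
    simp [vecMulVec_apply, single_apply, mul_comm]

end sym

/-! ### the action -/

section act

variable {F : Type u} [Field F] {V : Type v} [CommGroup V] (ρ : symplecticGroup (Fin 4) F →* MulAut V)

/-- `C_V(τ_v) ≤ C_V(τ_w)` -/
def Le (v w : Fin 4 → F) : Prop :=
  ∀ x : V, ρ (U (vecMulVec v v) (vv_sym v)) x = x → ρ (U (vecMulVec w w) (vv_sym w)) x = x

variable {ρ}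

theorem D_tau (A : GL (Fin 4) F) (v : Fin 4 → F) :
    D A * U (vecMulVec v v) (vv_sym v) * (D A)⁻¹ =
      U (vecMulVec ((A : Matrix (Fin 4) (Fin 4) F) *ᵥ v) ((A : Matrix (Fin 4) (Fin 4) F) *ᵥ v)) (vv_sym _) := by
  refine D_U A _ _ ?_
  rw [mul_vecMulVec, vecMulVec_mul, vecMul_transpose]

theorem Le.map {v w : Fin 4 → F} (h : Le ρ v w) (A : GL (Fin 4) F) :
    Le ρ ((A : Matrix (Fin 4) (Fin 4) F) *ᵥ v) ((A : Matrix (Fin 4) (Fin 4) F) *ᵥ w) := by
  intro x hx
  rw [← D_tau] at hx ⊢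
  rw [map_mul, map_mul, map_inv, MulAut.mul_apply, MulAut.mul_apply] at hx ⊢
  have h1 : ρ (U (vecMulVec v v) (vv_sym v)) ((ρ (D A))⁻¹ x) = (ρ (D A))⁻¹ x := by
    apply (ρ (D A)).injective
    rw [hx]
    exact (MulAut.apply_inv_self V (ρ (D A)) x).symm
  rw [h _ h1, MulAut.apply_inv_self]

/-- columns `e0, v, e2, e3` -/
theorem le_of_b (h : Le ρ ![0, 1, 0, 0] ![1, 0, 0, 0]) (a b c : F) (hb : b ≠ 0) :
    Le ρ ![a, b, c, 0] ![1, 0, 0, 0] := by
  have hd : (!![1, a, 0, 0; 0, b, 0, 0; 0, c, 1, 0; 0, 0, 0, 1] : Matrix (Fin 4) (Fin 4) F).det ≠ 0 := by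
    simp [det_succ_row_zero, Fin.sum_univ_succ, Fin.succAbove, hb]
  have h1 := h.map (Matrix.GeneralLinearGroup.mkOfDetNeZero _ hd)
  convert h1 using 1
  · show _ = (!![1, a, 0, 0; 0, b, 0, 0; 0, c, 1, 0; 0, 0, 0, 1] : Matrix (Fin 4) (Fin 4) F) *ᵥ _
    ext i
    fin_cases i <;> simp [mulVec, dotProduct, Fin.sum_univ_four]
  · show _ = (!![1, a, 0, 0; 0, b, 0, 0; 0, c, 1, 0; 0, 0, 0, 1] : Matrix (Fin 4) (Fin 4) F) *ᵥ _
    ext i
    fin_cases i <;> simp [mulVec, dotProduct, Fin.sum_univ_four]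

/-- columns `e0, v, e1, e3` -/
theorem le_of_c (h : Le ρ ![0, 1, 0, 0] ![1, 0, 0, 0]) (a b c : F) (hc : c ≠ 0) :
    Le ρ ![a, b, c, 0] ![1, 0, 0, 0] := by
  have hd : (!![1, a, 0, 0; 0, b, 1, 0; 0, c, 0, 0; 0, 0, 0, 1] : Matrix (Fin 4) (Fin 4) F).det ≠ 0 := by
    simp [det_succ_row_zero, Fin.sum_univ_succ, Fin.succAbove, hc]
  have h1 := h.map (Matrix.GeneralLinearGroup.mkOfDetNeZero _ hd)
  convert h1 using 1
  · show _ = (!![1, a, 0, 0; 0, b, 1, 0; 0, c, 0, 0; 0, 0, 0, 1] : Matrix (Fin 4) (Fin 4) F) *ᵥ _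
    ext i
    fin_cases i <;> simp [mulVec, dotProduct, Fin.sum_univ_four]
  · show _ = (!![1, a, 0, 0; 0, b, 1, 0; 0, c, 0, 0; 0, 0, 0, 1] : Matrix (Fin 4) (Fin 4) F) *ᵥ _
    ext i
    fin_cases i <;> simp [mulVec, dotProduct, Fin.sum_univ_four]

theorem le_of_a [Fintype F] (hF : Fintype.card F = 3) (a : F) (ha : a ≠ 0) : Le ρ ![a, 0, 0, 0] ![1, 0, 0, 0] := by
  have h1 : a * a = 1 := by
    have h2 := FiniteField.pow_card_sub_one_eq_one a ha
    rw [hF] at h2
    rw [← h2]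
    ring
  have h2 : vecMulVec (![a, 0, 0, 0] : Fin 4 → F) ![a, 0, 0, 0] =
      vecMulVec (![1, 0, 0, 0] : Fin 4 → F) ![1, 0, 0, 0] := by
    ext i j
    fin_cases i <;> fin_cases j <;> simp [vecMulVec_apply, h1]
  intro x hx
  rwa [U_congr (vv_sym _) (vv_sym _) h2] at hx

omit [CommGroup V] in
theorem charP_three [Fintype F] (hF : Fintype.card F = 3) : CharP F 3 := by
  obtain ⟨r, hr⟩ := CharP.exists F
  have h1 : r ∣ 3 := by
    rw [← CharP.cast_eq_zero_iff F r]
    exact_mod_cast three_eq hF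
  rcases (Nat.dvd_prime Nat.prime_three).1 h1 with h2 | h2
  · subst h2
    have h3 := CharP.cast_eq_zero F 1
    rw [Nat.cast_one] at h3
    exact absurd h3 one_ne_zero
  · rwa [← h2]

theorem cast_ne [Fintype F] (hF : Fintype.card F = 3) {a : Fin 3} (ha : a ≠ 0) : ((a : ℕ) : F) ≠ 0 := by
  have h3 := charP_three hF
  intro h
  rw [CharP.cast_eq_zero_iff F 3] at h
  have := a.2
  apply ha
  apply Fin.ext
  have h5 := Nat.eq_zero_of_dvd_of_lt h this
  exact h5

theorem le_all [Fintype F] (hF : Fintype.card F = 3) (h : Le ρ ![0, 1, 0, 0] ![1, 0, 0, 0]) (a b c : Fin 3)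
    (hne : (a, b, c) ≠ (0, 0, 0)) : Le ρ ![((a : ℕ) : F), (b : ℕ), (c : ℕ), 0] ![1, 0, 0, 0] := by
  by_cases hb : b = 0
  · by_cases hc : c = 0
    · subst hb hc
      have ha : a ≠ 0 := fun h1 => hne (by rw [h1])
      have h1 := le_of_a (ρ := ρ) hF _ (cast_ne hF ha)
      simpa using h1
    · exact le_of_c h _ _ _ (cast_ne hF hc)
  · exact le_of_b h _ _ _ (cast_ne hF hb)

/-- **If `C_V(τ_1) ≤ C_V(τ_0)` then `τ_0` acts trivially.** -/
theorem triv_of_le [Fintype F] (hF : Fintype.card F = 3) (sq : ∀ x : V, x * x = 1)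
    (h : Le ρ ![0, 1, 0, 0] ![1, 0, 0, 0]) (x : V) :
    ρ (U (vecMulVec ![1, 0, 0, 0] ![1, 0, 0, 0]) (vv_sym _)) x = x := by
  let α : Multiplicative (symG F) →* AddMonoid.End (Additive V) := (toEnd V).comp (ρ.comp (uHom F))
  let L : MonoidAlgebra ℤ (Multiplicative (symG F)) →ₐ[ℤ] AddMonoid.End (Additive V) := MonoidAlgebra.lift ℤ _ _ α
  let _ : Module (MonoidAlgebra ℤ (Multiplicative (symG F))) (Additive V) := Module.compHom (Additive V) L.toRingHom
  have hsm : ∀ (e : Multiplicative (symG F)) (y : Additive V),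
      (MonoidAlgebra.of ℤ (Multiplicative (symG F)) e) • y = Additive.ofMul (ρ (uHom F e) (Additive.toMul y)) := by
    intro e y
    show L (MonoidAlgebra.of ℤ (Multiplicative (symG F)) e) y = _
    rw [MonoidAlgebra.lift_of]
    rfl
  have hcube : ∀ e : Multiplicative (symG F), (MonoidAlgebra.of ℤ (Multiplicative (symG F)) e) ^ 3 = 1 := by
    intro e
    rw [← map_pow, symG_cube hF, map_one]
  have h1 := conic (S := MonoidAlgebra ℤ (Multiplicative (symG F))) (V := Additive V) (fun x => sq x)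
    (hcube (rk1 (F := F) ![1, 0, 0, 0])) (hcube (rk1 ![0, 1, 0, 0])) (hcube (rk1 ![0, 0, 1, 0]))
    (hcube (sij F 0 1)) (hcube (sij F 0 2)) (hcube (sij F 1 2)) (fun a b c hne y hy => by
      rw [← map_tau (MonoidAlgebra.of ℤ (Multiplicative (symG F))), tau_eq, hsm] at hy
      rw [hsm]
      exact le_all hF h a b c hne _ hy) (Additive.ofMul x)
  rw [hsm] at h1
  exact h1

end act

/-! ### Heisenberg groups in subgroups -/

section restrict

variable {F : Type*} [Field F] {ι κ : Type*} {G : Type*} [Group G] {z : F → G} {x y : ι → F → G}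

theorem FHeis.restrict (h : FHeis z x y) {k : κ → ι} (hk : Function.Injective k) (C : Subgroup G) (hz : ∀ s, z s ∈ C)
    (hx : ∀ i s, x (k i) s ∈ C) (hy : ∀ i s, y (k i) s ∈ C) :
    FHeis (fun s => (⟨z s, hz s⟩ : C)) (fun i s => (⟨x (k i) s, hx i s⟩ : C)) (fun i s => (⟨y (k i) s, hy i s⟩ : C)) where
  z_add s t := Subtype.ext (h.z_add s t)
  x_add i s t := Subtype.ext (h.x_add _ s t)
  y_add i s t := Subtype.ext (h.y_add _ s t)
  zx i s t := Subtype.ext (h.zx _ s t)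
  zy i s t := Subtype.ext (h.zy _ s t)
  xx i j s t hij := Subtype.ext (h.xx _ _ s t fun h1 => hij (hk h1))
  yx i j s t hij := Subtype.ext (h.yx _ _ s t fun h1 => hij (hk h1))
  conj i s t := Subtype.ext (h.conj _ s t)

end restrict

/-! ### the bound -/

section bound

variable {F : Type u} [Field F] [Fintype F] {V : Type v} [CommGroup V] [Finite V]

/-- fixed points of the root group `z o` -/
def fx (ρ : symplecticGroup (Fin 4) F →* MulAut V) (o : Fin 4) : Subgroup V where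
  carrier := {v | ∀ s, ρ (z o s) v = v}
  one_mem' := fun s => map_one _
  mul_mem' := fun {a b} ha hb s => by rw [map_mul, ha s, hb s]
  inv_mem' := fun {a} ha s => by rw [map_inv, ha s]

theorem order_three : orderOf (2 : ZMod 3) = 2 := by
  have : Fact (Nat.Prime 2) := ⟨Nat.prime_two⟩
  exact orderOf_eq_prime (by decide) (by decide)

/-- `τ_o = z o (-1)` -/
theorem z_eq (hF : Fintype.card F = 3) (o : Fin 4) : z (F := F) o (-1) = U (single o o 1) (sym_z o 1) := by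
  refine U_congr _ _ ?_
  congr 1
  have h3 := three_eq hF
  linear_combination (-1) * h3

theorem z_pow (hF : Fintype.card F = 3) (o : Fin 4) (s : F) : z o s = 1 ∨ z o s = z o (-1) ∨ z o s = (z o (-1))⁻¹ := by
  have hadd : ∀ s t : F, z o (s + t) = z o s * z o t := (fheis o).z_add
  by_cases h0 : s = 0
  · left
    rw [h0, add_zero' hadd]
  · have h2 := FiniteField.pow_card_sub_one_eq_one s h0
    rw [hF] at h2
    have h4 : s * s = 1 := by rw [← h2]; ring
    rcases mul_self_eq_one_iff.1 h4 with h3 | h3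
    · right; right
      rw [h3, ← add_neg' hadd, neg_neg]
    · right; left
      rw [h3]

theorem mem_fx_iff (hF : Fintype.card F = 3) (ρ : symplecticGroup (Fin 4) F →* MulAut V) (o : Fin 4) (x : V) :
    x ∈ fx ρ o ↔ ρ (U (single o o 1) (sym_z o 1)) x = x := by
  rw [← z_eq hF]
  constructor
  · intro h
    exact h _
  · intro h s
    rcases z_pow hF o s with h1 | h1 | h1
    · rw [h1, map_one]; rfl
    · rw [h1, h]
    · rw [h1, map_inv]
      apply (ρ (z o (-1))).injective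
      rw [MulAut.apply_inv_self, h]

theorem le_of_fx (hF : Fintype.card F = 3) (ρ : symplecticGroup (Fin 4) F →* MulAut V) (h : fx ρ 1 ≤ fx ρ 0) :
    Le ρ ![0, 1, 0, 0] ![1, 0, 0, 0] := by
  have h1 : vecMulVec (![0, 1, 0, 0] : Fin 4 → F) ![0, 1, 0, 0] = single 1 1 1 := by
    ext i j
    fin_cases i <;> fin_cases j <;> simp [vecMulVec_apply, single_apply]
  have h2 : vecMulVec (![1, 0, 0, 0] : Fin 4 → F) ![1, 0, 0, 0] = single 0 0 1 := by
    ext i j
    fin_cases i <;> fin_cases j <;> simp [vecMulVec_apply, single_apply]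
  intro x hx
  rw [U_congr _ (sym_z 1 1) h1, ← mem_fx_iff hF] at hx
  rw [U_congr _ (sym_z 0 1) h2, ← mem_fx_iff hF]
  exact h hx

theorem not_le_fx (hF : Fintype.card F = 3) (sq : ∀ x : V, x * x = 1) (ρ : symplecticGroup (Fin 4) F →* MulAut V)
    (hne : ∃ s, ρ (z 0 s) ≠ 1) : ¬ fx ρ 1 ≤ fx ρ 0 := by
  intro h
  have h1 := triv_of_le hF sq (le_of_fx hF ρ h)
  have h2 : vecMulVec (![1, 0, 0, 0] : Fin 4 → F) ![1, 0, 0, 0] = single 0 0 1 := by
    ext i j
    fin_cases i <;> fin_cases j <;> simp [vecMulVec_apply, single_apply]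
  obtain ⟨s, hs⟩ := hne
  apply hs
  ext x
  have h3 : x ∈ fx ρ 0 := by
    rw [mem_fx_iff hF]
    have h4 := h1 x
    rwa [U_congr _ (sym_z 0 1) h2] at h4
  exact h3 s

theorem D_Y_comm {i : Fin 4} (h0 : i ≠ 0) (h1 : i ≠ 1) (s t : F) :
    D (Y h0 s) * z 1 t = z 1 t * D (Y h0 s) := by
  refine D_U_comm _ _ ?_
  have h2 : (1 : Fin 4) ≠ i := h1.symm
  simp only [Y_val, transpose_add, transpose_one, transpose_single, add_mul, mul_add, Matrix.mul_one,
    Matrix.one_mul]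
  simp [h1, h2, single_mul_single_of_ne]

/-- **The bound 72.** -/
theorem two_pow_le_card (hF : Fintype.card F = 3) (sq : ∀ x : V, x * x = 1)
    (ρ : symplecticGroup (Fin 4) F →* MulAut V) (hne0 : ∃ s, ρ (z 0 s) ≠ 1) (hne1 : ∃ s, ρ (z 1 s) ≠ 1) :
    2 ^ 72 ≤ Nat.card V := by
  have hp3 : Fact (Nat.Prime 3) := ⟨Nat.prime_three⟩
  have hch := charP_three hF
  have h2V : IsPGroup 2 V := fun x => ⟨1, by rw [pow_one, pow_two]; exact sq x⟩
  have hcard : Nat.card F = 3 := by rw [Nat.card_eq_fintype_card, hF]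
  set C : Subgroup (symplecticGroup (Fin 4) F) := Subgroup.centralizer (Set.range (z (F := F) 1)) with hC
  have hmem : ∀ {g : symplecticGroup (Fin 4) F}, (∀ t, g * z 1 t = z 1 t * g) → g ∈ C := by
    intro g hg
    rw [hC, Subgroup.mem_centralizer_iff]
    rintro _ ⟨t, rfl⟩
    exact (hg t).symm
  let φ : C →* MulAut V := ρ.comp C.subtype
  have hU : ∀ g, ∀ x ∈ fx ρ 1, φ g x ∈ fx ρ 1 := by
    intro g x hx s
    have h1 := Subgroup.mem_centralizer_iff.1 g.2 _ ⟨s, rfl⟩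
    show ρ (z 1 s) (ρ g x) = ρ g x
    rw [← MulAut.mul_apply, ← map_mul, h1, map_mul, MulAut.mul_apply, hx s]
  -- the Heisenberg group of `z 0`
  have hA : 2 ^ 18 ≤ Nat.card (fx ρ 1) := by
    have hH := FHeis.restrict (fheis (F := F) (0 : Fin 4))
      (k := fun i : {i : Fin 4 // i ≠ 0 ∧ i ≠ 1} => (⟨i.1, i.2.1⟩ : {i : Fin 4 // i ≠ 0}))
      (fun i j hij => Subtype.ext (congrArg (fun a : {i : Fin 4 // i ≠ 0} => (a : Fin 4)) hij)) C
      (fun s => hmem fun t => U_comm _ _) (fun i s => hmem fun t => U_comm _ _)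
      (fun i s => hmem fun t => D_Y_comm i.2.1 i.2.2 s t)
    have h1 := two_pow_le (p := 3) (by norm_num) hH (resAct φ (fx ρ 1) hU) (h2V.to_subgroup _) (by
      have h2 := not_le_fx hF sq ρ hne0
      rw [SetLike.le_def] at h2
      push Not at h2
      obtain ⟨x, hx, hx'⟩ := h2
      have h3 : ∃ s, ρ (z 0 s) x ≠ x := by
        by_contra hcon
        push Not at hcon
        exact hx' hcon
      obtain ⟨s, hs⟩ := h3
      refine ⟨s, fun h4 => hs ?_⟩
      exact congrArg Subtype.val (DFunLike.congr_fun h4 ⟨x, hx⟩))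
    have h5 : Nat.card {i : Fin 4 // i ≠ 0 ∧ i ≠ 1} = 2 := by
      rw [Nat.card_eq_fintype_card]
      decide
    rw [order_three, hcard, h5] at h1
    exact h1
  have hB : 2 ^ 54 ≤ Nat.card (V ⧸ fx ρ 1) := by
    have hf := fheis (F := F) (1 : Fin 4)
    have hH := FHeis.restrict hf (k := id) Function.injective_id C
      (fun s => hmem fun t => add_comm' hf.z_add s t) (fun i s => hmem fun t => (hf.zx i t s).symm)
      (fun i s => hmem fun t => (hf.zy i t s).symm)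
    have h1 := two_pow_le (p := 3) (by norm_num) hH (quoAct φ (fx ρ 1) hU) (h2V.to_quotient _) (by
      by_contra hcon
      push Not at hcon
      obtain ⟨s, hs⟩ := hne1
      apply hs
      ext x
      show ρ (z 1 s) x = x
      have h2 := DFunLike.congr_fun (hcon s) (x : V ⧸ fx ρ 1)
      have h3 : ((ρ (z 1 s) x : V) : V ⧸ fx ρ 1) = (x : V ⧸ fx ρ 1) := h2
      have h4 : x⁻¹ * ρ (z 1 s) x ∈ fx ρ 1 := QuotientGroup.eq.1 h3.symm
      set c := x⁻¹ * ρ (z 1 s) x with hc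
      have h5 : ρ (z 1 s) x = x * c := by rw [hc]; group
      have h6 : ρ (z 1 s) c = c := h4 s
      have h7 : ρ (z 1 s ^ 3) x = x * (c * (c * c)) := by
        rw [pow_succ, pow_two, map_mul, map_mul, MulAut.mul_apply, MulAut.mul_apply, h5, map_mul, map_mul, h5, h6,
          map_mul, h5, h6]
        group
      rw [add_pow_char hf.z_add (p := 3) s, map_one, sq, mul_one, MulAut.one_apply] at h7
      have h8 : c = 1 := by
        have h9 : x * 1 = x * c := by rw [mul_one]; exact h7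
        exact (mul_left_cancel h9).symm
      rw [h5, h8, mul_one])
    have h5 : Nat.card {i : Fin 4 // i ≠ 1} = 3 := by
      rw [Nat.card_eq_fintype_card]
      decide
    rw [order_three, hcard, h5] at h1
    exact h1
  rw [← Subgroup.card_mul_index (fx ρ 1), Subgroup.index_eq_card]
  calc 2 ^ 72 = 2 ^ 18 * 2 ^ 54 := by norm_num
    _ ≤ _ := Nat.mul_le_mul hA hB

end bound

end Cfsg.Agent.Omega.ML.Ex.PspEightLB

end
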