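import Cfsg.Agent.Mrg.Omega.ML.Ex.RedDef
import Cfsg.Agent.Mrg.Omega.NO3b.EndX.RedA

section


/-!
# THEOREM RED, steps (4), (5): from a component to its module (helper995)

* `Cmp.key` (4): `C_B(U) = 1`, `M = U C_M(B)`, `[M,E] ≤ U` for `U = ⟨lam^E⟩`, if `B` does not centralise `E`;
* `Cmp.cen_cm` (5): `C_K(E)` centralises `N = [M,E]`;
* `Cmp.irr_cm` : every proper `E N_T(E)`-submodule of `N` is centralised by `E`;
* **`Cmp.toM`** : `CmpM T B K E lam`;  **`Mn.exists_cmpM`**.
-/

set_option autoImplicit false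

namespace Cfsg.Agent.Omega.ML.Ex.Red

open Subgroup Cfsg Cfsg.Agent.ZN Cfsg.Agent.Omega.NOThree.NoOver Cfsg.Agent.Omega.ML.CD
open Cfsg.Agent.ClassTwoFusion.Quad Cfsg.Agent.Omega.ML.MinFrame
open Cfsg.Agent.MinSimple.VModule (o2_isPGroup o2_le le_o2 le_normalizer_o2 o2_le_of_sylow)

universe u v

variable {X : Type u} [Group X] {M : Type v} [Group M] [MulDistribMulAction X M]
  {T B K E : Subgroup X} {lam : M}

namespace Cmp

theorem isSubnormal (h : Cmp T B K E lam) : E.IsSubnormal := by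
  have hK := h.normK
  exact IsSubnormal.trans h.EK ((normal_subgroupOf_iff_le_normalizer h.EK).2 h.K_le_normalizer).isSubnormal
    (Normal.isSubnormal hK)

/-- `E` moves `lam` -/
theorem not_fix (h : Cmp T B K E lam) : ¬ ∀ e ∈ E, e • lam = lam := by
  intro h1
  apply h.mn.stab_ne_top
  rw [eq_top_iff, ← h.gen]
  refine sup_le (h.K_le fun t ht e he => ?_) fun t ht => h.mn.fixT t ht
  have h2 : t⁻¹ • lam = lam := h.mn.fixT _ (T.inv_mem ht)
  rw [MulAction.mem_stabilizer_iff, mul_smul, mul_smul, h2, h1 e he, h.mn.fixT t ht]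

/-- a subgroup normalised by `E` which contains `B` contains `E` -/
theorem E_le_of (h : Cmp T B K E lam) (mv : ¬ B ≤ centralizer (E : Set X)) {L : Subgroup X}
    (hL : ∀ e ∈ E, ∀ x ∈ L, e * x * e⁻¹ ∈ L) (hB : B ≤ L) : E ≤ L := by
  have hs := h.simple
  have h1 : (L.subgroupOf E).Normal := ⟨fun x hx g => hL g g.2 x hx⟩
  rcases h1.eq_bot_or_eq_top with h2 | h2
  · exfalso
    apply mv
    rw [subgroupOf_eq_bot, disjoint_iff] at h2
    intro b hb
    rw [mem_centralizer_iff]
    intro e he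
    have h3 : b * e * b⁻¹ * e⁻¹ ∈ L ⊓ E := by
      refine ⟨?_, E.mul_mem ((mem_normalizer_iff.1 (h.BE hb) e).1 he) (E.inv_mem he)⟩
      have h5 := L.mul_mem (hB hb) (hL e he _ (L.inv_mem (hB hb)))
      have e1 : b * (e * b⁻¹ * e⁻¹) = b * e * b⁻¹ * e⁻¹ := by group
      rwa [e1] at h5
    rw [h2, mem_bot, mul_inv_eq_one, mul_inv_eq_iff_eq_mul] at h3
    exact h3.symm
  · rwa [subgroupOf_eq_top] at h2

theorem B_le_t1 [Finite X] (h : Cmp T B K E lam) : B ≤ T ⊓ normalizer (E : Set X) := le_inf h.mn.B_le h.BE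

theorem rel [Finite X] (h : Cmp T B K E lam) : ¬ 2 ∣ T.relIndex E :=
  not_dvd_relIndex_of_subnormal h.mn.two h.mn.syl h.isSubnormal

theorem inf_ne_bot [Finite X] (h : Cmp T B K E lam) : T ⊓ E ≠ ⊥ := by
  intro h1
  have h2 := h.mn.odd_bot E h.isSubnormal (odd_of_relIndex h.rel h1)
  obtain ⟨x, hx, hx1⟩ := h.ne_bot
  exact hx1 (mem_bot.1 (h2 ▸ hx))

/-- `N_T(E)` is a Sylow 2-subgroup of `E N_T(E)` -/
theorem syl_Y [Finite X] (h : Cmp T B K E lam) :
    ¬ 2 ∣ (T ⊓ normalizer (E : Set X)).relIndex (E ⊔ (T ⊓ normalizer (E : Set X))) := by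
  rw [relIndex_sup_comm inf_le_right]
  have h2 : (T ⊓ normalizer (E : Set X)).relIndex E = T.relIndex E := by
    rw [← inf_relIndex_right, inf_assoc, inf_eq_right.2 (le_normalizer (H := E)), inf_relIndex_right]
  rw [h2]
  exact h.rel

/-- `⟨lam^Y⟩ = ⟨lam^E⟩` -/
theorem orb_Y (h : Cmp T B K E lam) : orb (E ⊔ (T ⊓ normalizer (E : Set X))) lam = orb E lam := by
  apply le_antisymm
  · refine orb_le fun g hg => ?_
    obtain ⟨e, he, t, ht, rfl⟩ := sup_eq_mul inf_le_right hg
    rw [mul_smul, h.mn.fixT t ht.1]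
    exact smul_mem_orb_self he
  · exact orb_le fun g hg => smul_mem_orb_self (mem_sup_left hg)

theorem smul_orb_E (h : Cmp T B K E lam) {t : X} (ht : t ∈ T) (htn : t ∈ normalizer (E : Set X)) {m : M}
    (hm : m ∈ orb E lam) : t • m ∈ orb E lam := by
  have h1 : t ∈ T ⊓ normalizer (E : Set X) := ⟨ht, htn⟩
  rw [← h.orb_Y] at hm ⊢
  exact smul_mem_orb (mem_sup_right h1) hm

variable [Finite X] [Finite M]

/-- **(4)** -/
theorem key (h : Cmp T B K E lam) (hML : Final.MLK.{u, v}) (hKG : IsKGroup X)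
    (mv : ¬ B ≤ centralizer (E : Set X)) :
    B ⊓ fxr X (orb E lam) = ⊥ ∧ orb E lam ⊔ cv M (B : Set X) = ⊤ ∧ cm M E ≤ orb E lam := by
  have hc := h.mn.comm
  have hsq := h.mn.sq
  set Y : Subgroup X := E ⊔ (T ⊓ normalizer (E : Set X)) with hY
  have hBY : B ≤ Y := h.B_le_t1.trans le_sup_right
  have hBs : B ≤ o2 (MulAction.stabilizer X lam) := h.mn.low _ (fun t ht => h.mn.fixT t ht) h.mn.stab_ne_top
  have hrel := rel_subgroup (p := False) Y (hML Y M (Final.sec_KG.sub X hKG Y) hsq)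
  have h1 := hrel (T ⊓ normalizer (E : Set X)) (o2 (MulAction.stabilizer X lam) ⊓ Y) B lam (mem_top _)
    (h.mn.two.to_le inf_le_left) le_sup_right h.syl_Y (fun t ht => h.mn.fixT t ht.1)
    ((o2_isPGroup _).to_le inf_le_left) inf_le_right (fun q hq => o2_le _ hq.1)
    (fun g hg hgz q hq => ⟨conj_mem_of_le (le_normalizer_o2 _) hgz hq.1,
      Y.mul_mem (Y.mul_mem hg hq.2) (Y.inv_mem hg)⟩) (le_inf hBs hBY) h.mn.el False.elim
  rw [h.orb_Y] at h1
  have hinvE : ∀ e ∈ E, ∀ m ∈ orb E lam, e • m ∈ orb E lam := fun e he m hm => smul_mem_orb he hm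
  rcases h.mn.alt h1 with h2 | ⟨h2, h3⟩
  · exfalso
    have h3 : E ≤ fxr X (orb E lam) := h.E_le_of mv (fun e he x hx => conj_mem_fxr hinvE he hx) h2
    exact h.not_fix fun e he => h3 he lam (mem_orb_self _ _)
  · refine ⟨h2, h3, ?_⟩
    let L : Subgroup X :=
      { carrier := {x | ∀ m : M, x • m * m ∈ orb E lam}
        one_mem' := fun m => by
          rw [one_smul, hsq]
          exact one_mem _
        mul_mem' := fun {x y} hx hy m => by
          have e : (x * y) • m * m = (x • y • m * (y • m)) * (y • m * m) := by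
            rw [mul_smul, mul_assoc, ← mul_assoc (y • m) (y • m), hsq, one_mul]
          rw [e]
          exact mul_mem (hx _) (hy m)
        inv_mem' := fun {x} hx m => by
          have h1 := hx (x⁻¹ • m)
          rw [smul_inv_smul, hc] at h1
          exact h1 }
    have hLn : ∀ e ∈ E, ∀ x ∈ L, e * x * e⁻¹ ∈ L := fun y hy x hx m => by
      have h1 := hinvE y hy _ (hx (y⁻¹ • m))
      rw [smul_mul', smul_inv_smul, ← mul_smul, ← mul_smul] at h1
      exact h1
    have hBL : B ≤ L := by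
      intro b hb m
      have h5 : m ∈ orb E lam ⊔ cv M (B : Set X) := h3 ▸ mem_top m
      have hcn : (cv M (B : Set X)).Normal := ⟨fun x hx g => by rw [hc g x, mul_inv_cancel_right]; exact hx⟩
      obtain ⟨y, hy, c, hcc, rfl⟩ := mem_sup_of_normal_right.1 h5
      have e : b • (y * c) * (y * c) = b • y * y := by
        rw [smul_mul', hcc b hb, hc y c, mul_assoc, ← mul_assoc c c, hsq, one_mul]
      rw [e]
      exact mul_mem (h.smul_orb_E (h.mn.B_le hb) (h.BE hb) hy) hy
    exact cm_le fun e he m => h.E_le_of mv hLn hBL he m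

omit [Finite M] in
/-- **(5)**: `C_K(E)` centralises `[M,E]`. -/
theorem cen_cm (h : Cmp T B K E lam) (hle : cm M E ≤ orb E lam) :
    K ⊓ centralizer (E : Set X) ≤ fxr X (cm M E) := by
  have hs := h.simple
  set Ψ : Subgroup X := fxr X (cm M E) ⊓ centralizer (E : Set X) with hΨ
  have hK : K ≤ E ⊔ Ψ := by
    refine h.K_le fun t ht e he => ?_
    by_cases htn : t ∈ normalizer (E : Set X)
    · exact mem_sup_left ((mem_normalizer_iff.1 htn e).1 he)
    refine mem_sup_right ?_
    have hcE : ∀ x ∈ E, t * x * t⁻¹ ∈ centralizer (E : Set X) := fun x hx => h.conj t ht htn ⟨x, hx, rfl⟩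
    refine ⟨?_, hcE e he⟩
    -- the elements of `E` whose `t`-conjugate centralises `N`
    have h1 : (((fxr X (cm M E)).comap (MulAut.conj t).toMonoidHom).subgroupOf E).Normal := by
      refine ⟨fun x hx g => ?_⟩
      have hx' : t * (x : X) * t⁻¹ ∈ fxr X (cm M E) := hx
      have h2 := conj_mem_fxr (R := normalizer (E : Set X)) (U := cm M E) (fun g hg m hm => smul_mem_cm hg hm)
        (centralizer_le_normalizer _ (hcE g g.2)) hx'
      change t * ((g : X) * x * (g : X)⁻¹) * t⁻¹ ∈ fxr X (cm M E)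
      have e1 : t * ((g : X) * x * (g : X)⁻¹) * t⁻¹ = t * g * t⁻¹ * (t * x * t⁻¹) * (t * g * t⁻¹)⁻¹ := by group
      rw [e1]
      exact h2
    have h2 : E ≤ (fxr X (cm M E)).comap (MulAut.conj t).toMonoidHom := by
      rcases h1.eq_bot_or_eq_top with h3 | h3
      · exfalso
        apply h.inf_ne_bot
        rw [subgroupOf_eq_bot, disjoint_iff] at h3
        rw [eq_bot_iff, ← h3]
        rintro s ⟨hsT, hsE⟩
        refine ⟨?_, hsE⟩
        -- `s^t` fixes `lam` and commutes with `E`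
        have h4 : t * s * t⁻¹ ∈ fxr X (orb E lam) := by
          rw [mem_fxr_orb]
          intro g hg
          have h5 := mem_centralizer_iff.1 (hcE s hsE) g hg
          rw [← mul_smul, ← h5, mul_smul, h.mn.fixT _ (T.mul_mem (T.mul_mem ht hsT) (T.inv_mem ht))]
        exact fun m hm => h4 m (hle hm)
      · rwa [subgroupOf_eq_top] at h3
    exact h2 he
  rintro f ⟨hfK, hfc⟩
  obtain ⟨y, hy, w, hw, rfl⟩ := sup_eq_mul (inf_le_right.trans (centralizer_le_normalizer _)) (hK hfK)
  have h3 : y ∈ E ⊓ centralizer (E : Set X) := by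
    refine ⟨hy, ?_⟩
    have := Subgroup.mul_mem _ hfc (Subgroup.inv_mem _ hw.2)
    rwa [mul_inv_cancel_right] at this
  rw [h.inf, mem_bot] at h3
  rw [h3, one_mul]
  exact hw.1

/-- **Every proper submodule of `N` is centralised by `E`.** -/
theorem irr_cm (h : Cmp T B K E lam) (hML : Final.MLK.{u, v}) (hKG : IsKGroup X)
    (hle : cm M E ≤ orb E lam) {W : Subgroup M} (hW : W ≤ cm M E) (hWE : ∀ e ∈ E, ∀ w ∈ W, e • w ∈ W)
    (hWT : ∀ t ∈ T, t ∈ normalizer (E : Set X) → ∀ w ∈ W, t • w ∈ W) :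
    W = cm M E ∨ ∀ e ∈ E, ∀ w ∈ W, e • w = w := by
  have hc := h.mn.comm
  have hsq := h.mn.sq
  have hF := h.cen_cm hle
  let U : Subgroup M := closure {m | ∃ x : X, ∃ w ∈ W, m = x • w}
  have hUi : ∀ g : X, ∀ u ∈ U, g • u ∈ U := by
    intro g u hu
    have h1 : U ≤ U.comap (MulDistribMulAction.toMonoidHom M g) := by
      change Subgroup.closure _ ≤ _
      rw [closure_le]
      rintro _ ⟨x, w, hw, rfl⟩
      refine subset_closure ⟨g * x, w, hw, ?_⟩
      exact (mul_smul _ _ _).symm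
    exact h1 hu
  rcases h.sub hML hKG hUi with h1 | h1
  · right
    intro e he w hw
    exact h1 e (h.EK he) w (subset_closure ⟨1, w, hw, (one_smul _ _).symm⟩)
  left
  refine le_antisymm hW ?_
  let V : Subgroup M :=
    { carrier := {m | ∀ e ∈ E, e • m * m ∈ W}
      one_mem' := fun e _ => by
        rw [smul_one, one_mul]
        exact one_mem _
      mul_mem' := fun {x y} hx hy e he => by
        have e1 : e • (x * y) * (x * y) = (e • x * x) * (e • y * y) := by
          rw [smul_mul', mul_assoc, mul_assoc, ← mul_assoc (e • y) x y, hc (e • y) x, mul_assoc x (e • y) y]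
        rw [e1]
        exact mul_mem (hx e he) (hy e he)
      inv_mem' := fun {x} hx e he => by
        rw [inv_eq_of_mul_eq_one_right (hsq x)]
        exact hx e he }
  have hUV : U ≤ V := by
    change Subgroup.closure _ ≤ _
    rw [closure_le]
    rintro _ ⟨x, w, hw, rfl⟩
    -- `x = t k`
    have hKn := h.normK
    have hx : x⁻¹ ∈ K ⊔ T := h.gen ▸ mem_top _
    obtain ⟨k, hk, t, ht, hkt⟩ := mem_sup_of_normal_left.1 hx
    have hx2 : x = t⁻¹ * k⁻¹ := by
      rw [← mul_inv_rev, hkt, inv_inv]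
    have hk2 : k⁻¹ ∈ E ⊔ (K ⊓ centralizer (E : Set X)) := by
      rw [h.sup]
      exact K.inv_mem hk
    obtain ⟨e0, he0, f, hf, hef⟩ := sup_eq_mul (inf_le_right.trans (centralizer_le_normalizer _)) hk2
    have hw' : k⁻¹ • w ∈ W := by
      rw [hef, mul_smul, hF hf w (hW hw)]
      exact hWE e0 he0 w hw
    intro e he
    rw [hx2, mul_smul]
    by_cases htn : t ∈ normalizer (E : Set X)
    · have h2 := hWT t⁻¹ (T.inv_mem ht) (Subgroup.inv_mem _ htn) _ hw'
      exact mul_mem (hWE e he _ h2) h2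
    · have h2 : t * e * t⁻¹ ∈ fxr X (cm M E) := hF ⟨h.normK.conj_mem e (h.EK he) t, h.conj t ht htn ⟨e, he, rfl⟩⟩
      have h3 := h2 _ (hW hw')
      have e1 : e • t⁻¹ • k⁻¹ • w = t⁻¹ • k⁻¹ • w := by
        rw [mul_smul, mul_smul] at h3
        have h4 := congrArg (t⁻¹ • ·) h3
        simpa only [inv_smul_smul] using h4
      rw [e1, hsq]
      exact one_mem _
  refine cm_le fun e he m => h.mem_of_mod (fun e he e' he' => ?_) e he
  have h2 : e • m * m ∈ cm M E := mem_cm he m
  have h3 : cm M E ≤ cm M K := cm_le fun e he m => mem_cm (h.EK he) m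
  exact hUV (h1 (h3 h2)) e' he'

omit [Finite X] [Finite M] in
/-- `E` does not centralise `N` -/
theorem ne_cm (h : Cmp T B K E lam) : ¬ ∀ e ∈ E, ∀ n ∈ cm M E, e • n = n := by
  intro h1
  have hsq := h.mn.sq
  obtain ⟨x, hx, hx1⟩ := h.ne_bot
  apply hx1
  apply h.mn.faith
  intro m
  have h2 : ∀ e ∈ E, e • m * m ∈ (⊥ : Subgroup M) := h.mem_of_mod fun e he e' he' => by
    rw [mem_bot, h1 e' he' _ (mem_cm he m), hsq]
  exact (smul_mul_self_iff hsq).1 (mem_bot.1 (h2 x hx))

omit [Finite M] in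
/-- the vector `lam * ∏ lam^E` -/
theorem exists_point (h : Cmp T B K E lam) :
    ∃ z ∈ cm M E, (∀ t ∈ T, t ∈ normalizer (E : Set X) → t • z = z) ∧ ¬ ∀ e ∈ E, e • z = z := by
  classical
  have hc := h.mn.comm
  have hsq := h.mn.sq
  let _ : CommGroup M := { (inferInstance : Group M) with mul_comm := hc }
  have : Fintype E := Fintype.ofFinite E
  let O : Finset M := Finset.univ.image fun e : E => (e : X) • lam
  have hO : ∀ {m : M}, m ∈ O ↔ ∃ e ∈ E, e • lam = m := by
    intro m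
    simp only [O, Finset.mem_image, Finset.mem_univ, true_and, Subtype.exists]
    constructor
    · rintro ⟨e, he, h1⟩
      exact ⟨e, he, h1⟩
    · rintro ⟨e, he, h1⟩
      exact ⟨e, he, h1⟩
  let s : M := ∏ m ∈ O, m
  have hs : ∀ g : X, (∀ m ∈ O, g • m ∈ O) → g • s = s := by
    intro g hg
    have h1 : O.image (fun m => g • m) = O := by
      refine Finset.eq_of_subset_of_card_le (fun x hx => ?_) ?_
      · obtain ⟨m, hm, rfl⟩ := Finset.mem_image.1 hx
        exact hg m hm
      · rw [Finset.card_image_of_injective _ (MulAction.injective g)]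
    calc g • s = ∏ m ∈ O, g • m := Finset.smul_prod'
      _ = ∏ m ∈ O.image (fun m => g • m), m :=
          (Finset.prod_image (f := fun m : M => m) (g := fun m => g • m)
            (fun _ _ _ _ hxy => MulAction.injective g hxy)).symm
      _ = s := by rw [h1]
  have hsE : ∀ e ∈ E, e • s = s := fun e he => hs e fun m hm => by
    obtain ⟨e', he', rfl⟩ := hO.1 hm
    exact hO.2 ⟨e * e', E.mul_mem he he', mul_smul _ _ _⟩
  have hsT : ∀ t ∈ T, t ∈ normalizer (E : Set X) → t • s = s := fun t ht htn => hs t fun m hm => by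
    obtain ⟨e', he', rfl⟩ := hO.1 hm
    refine hO.2 ⟨t * e' * t⁻¹, (mem_normalizer_iff.1 htn e').1 he', ?_⟩
    rw [mul_smul, mul_smul, h.mn.fixT _ (T.inv_mem ht)]
  -- the orbit has odd length
  have hodd : Odd O.card := by
    rw [← Nat.not_even_iff_odd, even_iff_two_dvd]
    intro h2
    apply h.rel
    let St : Subgroup E := (MulAction.stabilizer X lam).subgroupOf E
    have h3 : St.index = O.card := by
      have h4 : Nat.card (E ⧸ St) = Nat.card O := by
        refine Nat.card_congr (Equiv.ofBijective (Quotient.lift (fun e : E => (⟨(e : X) • lam, hO.2 ⟨e, e.2, rfl⟩⟩ : O))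
          ?_) ⟨?_, ?_⟩)
        · intro a b hab
          rw [← Quotient.eq_iff_equiv] at hab
          have h5 : a⁻¹ * b ∈ St := QuotientGroup.eq.1 hab
          have h6 : ((a : X)⁻¹ * b) • lam = lam := h5
          rw [mul_smul, inv_smul_eq_iff] at h6
          exact Subtype.ext h6.symm
        · intro a b hab
          induction a using Quotient.inductionOn with
          | _ a =>
          induction b using Quotient.inductionOn with
          | _ b =>
          have h5 : (a : X) • lam = (b : X) • lam := congrArg Subtype.val hab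
          refine QuotientGroup.eq.2 ?_
          change ((a : X)⁻¹ * b) • lam = lam
          rw [mul_smul, ← h5, inv_smul_smul]
        · rintro ⟨m, hm⟩
          obtain ⟨e, he, rfl⟩ := hO.1 hm
          exact ⟨QuotientGroup.mk ⟨e, he⟩, rfl⟩
      rw [← Nat.card_eq_finsetCard, ← h4]
      rfl
    rw [← h3] at h2
    have h5 : (T.subgroupOf E) ≤ St := fun e he => h.mn.fixT _ he
    exact h2.trans (index_dvd_of_le h5)
  refine ⟨s * lam, ?_, ?_, ?_⟩
  · have h1 : s * lam = ∏ m ∈ O, m * lam := by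
      rw [Finset.prod_mul_distrib, Finset.prod_const]
      congr 1
      obtain ⟨k, hk⟩ := hodd
      rw [hk, pow_succ, pow_mul, pow_two, hsq, one_pow, one_mul]
    rw [h1]
    refine Subgroup.prod_mem _ fun m hm => ?_
    obtain ⟨e, he, rfl⟩ := hO.1 hm
    exact mem_cm he lam
  · intro t ht htn
    rw [smul_mul', hsT t ht htn, h.mn.fixT t ht]
  · intro h1
    apply h.not_fix
    intro e he
    have h2 := h1 e he
    rw [smul_mul', hsE e he] at h2
    exact mul_left_cancel h2

/-- **A component which `B` moves, with its module.** -/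
theorem toM (h : Cmp T B K E lam) (hML : Final.MLK.{u, v}) (hKG : IsKGroup X)
    (mv : ¬ B ≤ centralizer (E : Set X)) : CmpM T B K E lam := by
  obtain ⟨k1, k2, k3⟩ := h.key hML hKG mv
  have hc := h.mn.comm
  have hsq := h.mn.sq
  have hF := h.cen_cm k3
  have hlam : lam ∈ cv M (B : Set X) := fun b hb => h.mn.fixT b (h.mn.B_le hb)
  have hsup : cm M E ⊔ cv M (B : Set X) = ⊤ := by
    rw [eq_top_iff, ← k2]
    refine sup_le (orb_le fun e he => ?_) le_sup_right
    have e1 : e • lam = e • lam * lam * lam := by rw [mul_assoc, hsq, mul_one]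
    rw [e1]
    exact mul_mem (mem_sup_left (mem_cm he lam)) (mem_sup_right hlam)
  refine
    { cmp := h
      cenN := fun f hf hfc n hn => hF ⟨hf, hfc⟩ n hn
      irr := fun W hW hWE hWT => h.irr_cm hML hKG k3 hW hWE hWT
      ne := h.ne_cm
      point := h.exists_point
      orbE := fun e he => mem_cm he lam
      faithB := fun b hb hbn => ?_
      exactN := by rw [relIndex_of_sup hc hsup, h.mn.exact]
      atomN := fun C hC hC1 hC2 => ?_ }
  · have h1 : b ∈ B ⊓ fxr X (orb E lam) := by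
      refine ⟨hb, mem_fxr_orb.2 fun e he => ?_⟩
      have h2 := hbn _ (mem_cm he lam)
      rw [smul_mul', h.mn.fixT b (h.mn.B_le hb)] at h2
      exact mul_right_cancel h2
    rw [k1] at h1
    exact mem_bot.1 h1
  · have h1 : cm M E ⊔ cv M (C : Set X) = ⊤ := by
      rw [eq_top_iff, ← hsup]
      exact sup_le_sup_left (cv_anti (SetLike.coe_subset_coe.2 hC)) _
    rw [relIndex_of_sup hc h1]
    exact h.mn.atom C hC hC1 hC2

end Cmp

/-- **Steps (1)-(5).** -/
theorem Mn.exists_cmpM [Finite X] [Finite M] (h : Mn T B lam) (hML : Final.MLK.{u, v}) (hKG : IsKGroup X) :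
    ∃ K E : Subgroup X, CmpM T B K E lam := by
  obtain ⟨K, E, hC, mv⟩ := h.exists_cmp
  exact ⟨K, E, hC.toM hML hKG mv⟩

end Cfsg.Agent.Omega.ML.Ex.Red

end

section


/-!
# The exact end of NotFF (v2), P6b: `RedP` (helper907)

* `inX_of_inN` : `InN` with `C_N(K) = 1` is `InX`;
* `CB.simp` : the field `simp` of `CompDat` from `SimpP`;
* **`redP_of`** : `MLK → SimpP → RedP`.
-/

set_option autoImplicit false
set_option linter.style.haveILetI false

namespace Cfsg.Agent.Omega.NO3b.EndX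

open Subgroup Cfsg Cfsg.Agent.ZN Cfsg.Agent.ClassTwoFusion.Quad Cfsg.Agent.Omega.ML.MinFrame
open Cfsg.Agent.Omega.ML.Ex Cfsg.Agent.Omega.ML.Ex.Red Cfsg.Agent.Omega.ML.Ex.SecLow Cfsg.Agent.Omega.ML.CD
open Cfsg.Agent.Omega.ML.Final (MLK kgroup_of_surj)

universe u v

/-- `InN` with `C_N(K) = 1` is `InX` -/
theorem inX_of_inN {H : Type u} [Group H] {N : Type v} [Group N] [MulDistribMulAction H N] {K T A : Subgroup H}
    (h : InN H N K T A) (hck : ∀ w : N, (∀ k ∈ K, k • w = w) → w = 1) : InX H N K T A where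
  sq := h.sq
  faith := h.faith
  irr := fun W hW => by
    rcases h.irrK W hW with h1 | h1
    · exact Or.inr h1
    · left
      rw [eq_bot_iff]
      exact fun w hw => mem_bot.2 (hck w fun k hk => h1 k hk w hw)
  norm := h.norm
  simple := h.simple
  cen := h.cen
  gen := h.gen
  two := h.two
  syl := h.syl
  AT := h.AT
  el := h.el
  four := h.four
  exact := h.exact
  sub := fun C hC => h.le_index hC
  low := h.low
  nmax := h.nmax

variable {H : Type u} [Group H] {M : Type v} [Group M] [MulDistribMulAction H M] {T B Y : Subgroup H}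
  {lam : Subgroup M} {B₁ K E : Subgroup H} {z : M}

namespace CB

/-- the field `simp` of `CompDat`, from a section -/
theorem simp_of [Finite H] [Finite M] (h : CB T B Y lam B₁ K E z) (hs : SimpP.{u, v}) (ml : MLK.{u, v})
    (hK : IsKGroup H) {X₁ : Type u} [Group X₁] [MulDistribMulAction X₁ (cm M E)] {a : YY T E →* X₁}
    (s : Sc T B₁ K E z a) :
    ∀ W ≤ cm M E, (∀ w ∈ W, ∀ s ∈ T ⊓ E, s • w = w) →
      (∀ n ∈ E ⊓ normalizer ((T ⊓ E : Subgroup H) : Set H), ∀ w ∈ W, n • w ∈ W) → W ≠ ⊥ →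
      ∀ m ∈ cm M E, (∀ s ∈ T ⊓ E, s • m = m) → m ∈ W := by
  have hfin : Finite X₁ := Finite.of_surjective a s.surj
  have hK₁ : IsKGroup X₁ := kgroup_of_surj hK (YY T E) a s.surj
  have hN := s.inN0.inN ml hK₁
  have hq := s.quo
  have hact := s.act
  have hX : InX X₁ (cm M E) (im a E) (im a (T1 T E)) (im a B₁) := inX_of_inN hN fun w hw => by
    apply Subtype.ext
    refine h.fixE w.2 fun e he => ?_
    have h1 := congrArg Subtype.val (hw (a ⟨e, E_le_YY he⟩) (apply_mem_im (y := ⟨e, E_le_YY he⟩) he))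
    rwa [hact] at h1
  -- `T₁ ∩ K₁` is the image of `T ∩ E`
  have hTE : T ⊓ E ≤ T1 T E := fun x hx => ⟨hx.1, le_normalizer hx.2⟩
  have hTK : im a (T1 T E) ⊓ im a E = im a (T ⊓ E) := by
    apply le_antisymm
    · rintro _ ⟨h1, ⟨y, hy, rfl⟩⟩
      exact apply_mem_im (hq.mem_T_of hy h1)
    · exact le_inf (im_mono hTE) (im_mono inf_le_right)
  have hTEY : T ⊓ E ≤ YY T E := hTE.trans T1_le_YY
  -- `|C_N(T₁)| ≥ 4`
  have h4 : 4 ≤ Nat.card (cv (cm M E) (im a (T1 T E) : Set X₁)) := by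
    rw [s.cv_im T1_le_YY]
    refine (h.a.four.trans h.card_lam_le).trans (le_of_eq ?_)
    refine Nat.card_congr
      { toFun := fun x => ⟨⟨x, x.2.1⟩, x.2.2⟩
        invFun := fun x => ⟨x.1, x.1.2, x.2⟩
        left_inv := fun _ => rfl
        right_inv := fun _ => rfl }
  have hmain := hs X₁ (cm M E) (im a E) (im a (T1 T E)) (im a B₁) hX hN.atom hK₁ h4
  rw [hTK] at hmain
  intro W hW hW1 hW2 hW3 m hm hm1
  have h5 := hmain (W.subgroupOf (cm M E)) ?_ ?_ ?_ ⟨m, hm⟩ ?_
  · exact h5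
  · rintro w hw _ ⟨y, hy, rfl⟩
    apply Subtype.ext
    rw [hact]
    exact hW1 w hw y hy
  · rintro _ ⟨⟨y, hy, rfl⟩, h6⟩ w hw
    change (((a y) • w : cm M E) : M) ∈ W
    rw [hact]
    have hyE : (y : H) ∈ E := hy
    have h6' : a y ∈ normalizer ((im a (T ⊓ E) : Subgroup X₁) : Set X₁) := h6
    refine hW2 y ⟨hy, mem_normalizer_iff.2 fun t => ?_⟩ w hw
    have key : ∀ t : H, t ∈ E → (t ∈ T ⊓ E ↔ (y : H) * t * (y : H)⁻¹ ∈ T ⊓ E) := by
      intro t ht
      have h7 := mem_normalizer_iff.1 h6' (a ⟨t, E_le_YY ht⟩)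
      have h8 : ∀ r : YY T E, (r : H) ∈ E → (a r ∈ im a (T ⊓ E) ↔ (r : H) ∈ T ⊓ E) := fun r hr =>
        ⟨fun h9 => hq.mem_T_of hr (im_mono hTE h9), fun h9 => apply_mem_im h9⟩
      rw [← map_inv, ← map_mul, ← map_mul, h8 _ ht,
        h8 (y * ⟨t, E_le_YY ht⟩ * y⁻¹) (mul_mem (mul_mem hyE ht) (inv_mem hyE))] at h7
      exact h7
    constructor
    · intro ht
      exact (key t ht.2).1 ht
    · intro ht
      have h9 : t ∈ E := by
        have := mul_mem (mul_mem (inv_mem hyE) (show (y : H) * t * (y : H)⁻¹ ∈ E from ht.2)) hyE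
        have e1 : (y : H)⁻¹ * ((y : H) * t * (y : H)⁻¹) * (y : H) = t := by group
        rwa [e1] at this
      exact (key t h9).2 ht
  · intro h6
    apply hW3
    rw [eq_bot_iff]
    intro w hw
    have h7 : (⟨w, hW hw⟩ : cm M E) ∈ W.subgroupOf (cm M E) := hw
    rw [h6, mem_bot] at h7
    exact mem_bot.2 (congrArg Subtype.val h7)
  · rintro _ ⟨y, hy, rfl⟩
    apply Subtype.ext
    rw [hact]
    exact hm1 y hy

/-- the field `simp` of `CompDat` -/
theorem simp [Finite H] [Finite M] (h : CB T B Y lam B₁ K E z) (hs : SimpP.{u, v}) (ml : MLK.{u, v})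
    (hK : IsKGroup H) :
    ∀ W ≤ cm M E, (∀ w ∈ W, ∀ s ∈ T ⊓ E, s • w = w) →
      (∀ n ∈ E ⊓ normalizer ((T ⊓ E : Subgroup H) : Set H), ∀ w ∈ W, n • w ∈ W) → W ≠ ⊥ →
      ∀ m ∈ cm M E, (∀ s ∈ T ⊓ E, s • m = m) → m ∈ W := by
  letI := h.c.qact
  exact h.simp_of hs ml hK h.c.sc

end CB

/-- **P6b of the exact end: `RedP`.** -/
theorem redP_of (ml : MLK.{u, v}) (hs : SimpP.{u, v}) : RedP.{u, v} := by
  intro H _ _ M _ _ _ T B Y lam hK hO h hn
  obtain ⟨v, hv, hv1⟩ := h.exists_ne
  obtain ⟨B₁, hB₁, hmn⟩ := h.mn hK ml hn hO hv hv1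
  obtain ⟨K, E, hc⟩ := hmn.exists_cmpM ml hK
  have hcb : CB T B Y lam B₁ K E v := ⟨h, hc⟩
  exact (hcb.compDat (hcb.simp hs ml hK)).p2 h.sq h.two h.syl (fun v hv t ht => h.fixT ht hv) h.four

end Cfsg.Agent.Omega.NO3b.EndX

end

section


/-!
# THEOREM RED, step (6): `B` acts on one component only (helper995)

* `Mn.cent_other` : `B` centralises all components but one;
* **`Mn.exists_cmpMB`** : `∃ K E, CmpM T B K E lam ∧ C_K(E) ≤ C(B)`.
-/

set_option autoImplicit false

namespace Cfsg.Agent.Omega.ML.Ex.Red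

open Subgroup Cfsg Cfsg.Agent.ZN Cfsg.Agent.Omega.NOThree.NoOver Cfsg.Agent.Omega.ML.CD
open Cfsg.Agent.ClassTwoFusion.Quad Cfsg.Agent.Omega.ML.MinFrame
open Cfsg.Agent.MinSimple.VModule (o2_isPGroup o2_le le_o2 le_normalizer_o2 o2_le_of_sylow)
open Cfsg.Agent.SignalizersComponents.Components Cfsg.Agent.SignalizersComponents.CompBasic

universe u v

variable {X : Type u} [Group X] {M : Type v} [Group M] [MulDistribMulAction X M]
  {T B K E : Subgroup X} {lam : M}

namespace Mn

variable [Finite X]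

/-- the component `E` gives `Cmp` -/
theorem cmp_of (h : Mn T B lam) (hL : IsComponent E) (hLA : ¬ B ≤ centralizer (E : Set X)) :
    Cmp T B (tcl T E) E lam := by
  have hKn := h.tcl_normal hL hLA
  have hKT := h.sup_eq_top hL hLA
  have hconj : ∀ t ∈ T, t ∉ normalizer (E : Set X) →
      E.map (MulAut.conj t).toMonoidHom ≤ centralizer (E : Set X) := fun t _ htn =>
    component_le_centralizer_of_ne (isComponent_conj t hL) hL fun h1 => htn (mem_normalizer_of_map h1)
  refine ⟨h, hKn, h.cen_bot hKn hKT, hKT, le_tcl T E, h.simple hL, h.not_comm hL, le_rfl, ?_,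
    h.center_bot hL, hconj, h.B_le_normalizer hL hLA⟩
  refine le_antisymm (sup_le (le_tcl T E) inf_le_left) (tcl_le fun t ht => ?_)
  by_cases h1 : t ∈ normalizer (E : Set X)
  · rw [map_conj_eq_of_mem h1]
    exact le_sup_left
  · exact le_sup_of_le_right (le_inf (map_conj_le_tcl ht) (hconj t ht h1))

/-- **`B` centralises all components but one.** -/
theorem cent_other [Finite M] (h : Mn T B lam) (hML : Final.MLK.{u, v}) (hKG : IsKGroup X) {E' : Subgroup X}
    (hE : IsComponent E) (hE' : IsComponent E') (hne : E ≠ E') (mv : ¬ B ≤ centralizer (E : Set X)) :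
    B ≤ centralizer (E' : Set X) := by
  by_contra mv'
  have hc := h.comm
  have hsq := h.sq
  have c1 := h.cmp_of hE mv
  have c2 := h.cmp_of hE' mv'
  obtain ⟨k1, k2, k3⟩ := c2.key hML hKG mv'
  have hEc : E ≤ centralizer (E' : Set X) := component_le_centralizer_of_ne hE hE' hne
  -- `E ≤ K'`
  have hEK : E ≤ tcl T E' := by
    by_contra h1
    have h2 : E ≤ centralizer (tcl T E' : Set X) := by
      rw [le_centralizer_iff]
      refine tcl_le fun t ht => ?_
      refine component_le_centralizer_of_ne (isComponent_conj t hE') hE fun h3 => h1 ?_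
      rw [← h3]
      exact map_conj_le_tcl ht
    rw [c2.cenK] at h2
    obtain ⟨x, hx, hx1⟩ := c1.ne_bot
    exact hx1 (mem_bot.1 (h2 hx))
  have hcen := c2.cen_cm k3
  have hfix : ∀ e ∈ E, ∀ n ∈ cm M E', e • n = n := fun e he n hn => hcen ⟨hEK he, hEc he⟩ n hn
  have hlam : lam ∈ cv M (B : Set X) := fun b hb => h.fixT b (h.B_le hb)
  have hsup : cm M E' ⊔ cv M (B : Set X) = ⊤ := by
    rw [eq_top_iff, ← k2]
    refine sup_le (orb_le fun e he => ?_) le_sup_right
    have e1 : e • lam = e • lam * lam * lam := by rw [mul_assoc, hsq, mul_one]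
    rw [e1]
    exact mul_mem (mem_sup_left (mem_cm he lam)) (mem_sup_right hlam)
  let L : Subgroup X :=
    { carrier := {x | ∀ m : M, x • m * m ∈ cv M (E : Set X)}
      one_mem' := fun m => by
        rw [one_smul, hsq]
        exact one_mem _
      mul_mem' := fun {x y} hx hy m => by
        have e : (x * y) • m * m = (x • y • m * (y • m)) * (y • m * m) := by
          rw [mul_smul, mul_assoc, ← mul_assoc (y • m) (y • m), hsq, one_mul]
        rw [e]
        exact mul_mem (hx _) (hy m)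
      inv_mem' := fun {x} hx m => by
        have h1 := hx (x⁻¹ • m)
        rw [smul_inv_smul, hc] at h1
        exact h1 }
  have hLn : ∀ e ∈ E, ∀ x ∈ L, e * x * e⁻¹ ∈ L := fun y hy x hx m => by
    have h1 := hx (y⁻¹ • m)
    have h2 : y • (x • (y⁻¹ • m) * (y⁻¹ • m)) = x • (y⁻¹ • m) * (y⁻¹ • m) := h1 y hy
    rw [← h2, smul_mul', smul_inv_smul, ← mul_smul, ← mul_smul] at h1
    exact h1
  have hBL : B ≤ L := by
    intro b hb m
    have h5 : m ∈ cm M E' ⊔ cv M (B : Set X) := hsup ▸ mem_top m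
    have hcn : (cv M (B : Set X)).Normal := ⟨fun x hx g => by rw [hc g x, mul_inv_cancel_right]; exact hx⟩
    obtain ⟨y, hy, c, hcc, rfl⟩ := mem_sup_of_normal_right.1 h5
    have e : b • (y * c) * (y * c) = b • y * y := by
      rw [smul_mul', hcc b hb, hc y c, mul_assoc, ← mul_assoc c c, hsq, one_mul]
    rw [e]
    intro e' he'
    exact hfix e' he' _ (mul_mem (smul_mem_cm (c2.BE hb) hy) hy)
  have hEL : E ≤ L := c1.E_le_of mv hLn hBL
  obtain ⟨x, hx, hx1⟩ := c1.ne_bot
  apply hx1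
  apply h.faith
  intro m
  have h2 : ∀ e ∈ E, e • m * m ∈ (⊥ : Subgroup M) := c1.mem_of_mod fun e he e' he' => by
    rw [mem_bot, hEL he m e' he', hsq]
  exact (smul_mul_self_iff hsq).1 (mem_bot.1 (h2 x hx))

/-- **RED (1)-(6)**: `B` centralises `C_K(E)`. -/
theorem exists_cmpMB [Finite M] (h : Mn T B lam) (hML : Final.MLK.{u, v}) (hKG : IsKGroup X) :
    ∃ K E : Subgroup X, CmpM T B K E lam ∧ K ⊓ centralizer (E : Set X) ≤ centralizer (B : Set X) := by
  obtain ⟨E, hL, mv⟩ := h.exists_component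
  have hC := h.cmp_of hL mv
  refine ⟨tcl T E, E, hC.toM hML hKG mv, ?_⟩
  have hK : tcl T E ≤ E ⊔ (centralizer (B : Set X) ⊓ centralizer (E : Set X)) := by
    refine tcl_le fun t ht => ?_
    by_cases htn : E.map (MulAut.conj t).toMonoidHom = E
    · rw [htn]
      exact le_sup_left
    · refine le_sup_of_le_right (le_inf ?_ ?_)
      · exact le_centralizer_iff.1 (h.cent_other hML hKG hL (isComponent_conj t hL) (Ne.symm htn) mv)
      · exact component_le_centralizer_of_ne (isComponent_conj t hL) hL htn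
  rintro f ⟨hfK, hfc⟩
  obtain ⟨y, hy, w, hw, rfl⟩ := sup_eq_mul (inf_le_right.trans (centralizer_le_normalizer _)) (hK hfK)
  have h3 : y ∈ E ⊓ centralizer (E : Set X) := by
    refine ⟨hy, ?_⟩
    have := Subgroup.mul_mem _ hfc (Subgroup.inv_mem _ hw.2)
    rwa [mul_inv_cancel_right] at this
  rw [hC.inf, mem_bot] at h3
  rw [h3, one_mul]
  exact hw.1

end Mn

end Cfsg.Agent.Omega.ML.Ex.Red

end
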