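import Cfsg.Agent.Mrg.Omega.Tools.OddFix
import Cfsg.Agent.Mrg.Omega.ML.Ex.Def
import Cfsg.Agent.Mrg.Omega.TwoF.RowPSp
import Mathlib

section


/-!
# The K-list for EXACT subgroups (EXL): the group `A₆` (helper848)

WARNING: `DeadX (· ≃* A₆)` is FALSE: `H = S₆ = Sp₄(2)` on the natural module `2⁴`, `A = Z(T)` of order 4.

* `struct` : (group theory) `ASx S T A`, `S ≃* A₆`, `|A| ≥ 3` : no graph automorphisms, `|A| = 4`, `A = {1, a, b, z}` with
  `a`, `b` inducing a transposition and a triple transposition, `A` central in `T`;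
* `alt6_noTv` : dead if `A` contains no transvections of `M`;  `alt6_atom` : dead for atoms;
* `alt6_out` : `|A| = 4` and `A` contains a transvection;
* `alt6_W` : dead with the W-part.
-/

set_option autoImplicit false

namespace Cfsg.Agent.Omega.ML.Ex.RowASix

open Subgroup Equiv Cfsg Cfsg.Agent.ZN Cfsg.Agent.StdAlt.Six Cfsg.Agent.Omega.ML.AltSix Cfsg.Agent.Omega.ML.Ex
open Cfsg.Agent.ClassTwoFusion.Quad
open Cfsg.Agent.MinSimple.VModule (o2_isPGroup o2_le le_o2 le_normalizer_o2 o2_le_of_sylow)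

universe u v w

/-! ### permutations -/

theorem cent_both' : ∀ w : Perm (Fin 6), w * z0 = z0 * w →
    c0 * w * c0⁻¹ * z0 = z0 * (c0 * w * c0⁻¹) → d0 * w * d0⁻¹ * z0 = z0 * (d0 * w * d0⁻¹) →
    w = 1 ∨ w = z0 ∨ w = s45 ∨ w = s45 * z0 := by
  decide +kernel

theorem cent_s45 : ∀ w : Perm (Fin 6), w * z0 = z0 * w → w * s45 = s45 * w ∧ w * (s45 * z0) = s45 * z0 * w := by
  decide +kernel

theorem fix_f : s45 * c0 * s45⁻¹ = c0 ∧ s45 * z0 * d0 * (s45 * z0)⁻¹ = d0 ∧
    ¬ (c0 * d0 * s45 * d0⁻¹ * c0⁻¹ * z0 * (c0 * d0 * s45 * d0⁻¹ * c0⁻¹)⁻¹ = z0) := by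
  decide +kernel

theorem comm_facts : f0 * f0 = z0 ∧ f0 * z0 * (f0 * z0) = z0 ∧ a0 * (b0 * a0⁻¹ * b0⁻¹) = z0 ∧
    a0 * z0 * (b0 * (a0 * z0)⁻¹ * b0⁻¹) = z0 ∧ b0 * (a0 * b0⁻¹ * a0⁻¹) = z0 ∧
    b0 * z0 * (a0 * (b0 * z0)⁻¹ * a0⁻¹) = z0 ∧ f0 = a0 * b0 * z0 ∧ b0 * a0⁻¹ ≠ 1 ∧ b0 * z0 * a0⁻¹ ≠ 1 := by
  decide +kernel

/-- the induced automorphism is conjugation with `σ` -/
def Cj {X : Type u} [Group X] (S : Subgroup X) [S.Normal] (e : S ≃* A6) (g : X) (σ : Perm (Fin 6)) : Prop :=
  ∀ x : A6, (act S e g x : Perm (Fin 6)) = σ * x * σ⁻¹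

section group

variable {X : Type u} [Group X] {S T A : Subgroup X}

/-- an involution of `T ∩ S` in the centre of `T` -/
theorem exists_z [Finite X] (h : ASx S T A) (e : S ≃* A6) : ∃ z ∈ T ⊓ S, z ≠ 1 ∧ z * z = 1 ∧ ∀ t ∈ T, t * z = z * t := by
  have := h.norm
  have hI : ¬ 2 ∣ T.relIndex S := Cfsg.Agent.Lib.SylowNormalInf.not_dvd_relIndex (h.two.toSylow h.syl) S
  let N : Subgroup T := (T ⊓ S).subgroupOf T
  have hN : N.Normal := by
    refine ⟨fun n hn g => ?_⟩
    rw [mem_subgroupOf] at hn ⊢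
    exact ⟨(g * n * g⁻¹).2, h.norm.conj_mem _ hn.2 _⟩
  have hNb : N ≠ ⊥ := by
    intro h1
    have h2 : T ⊓ S = ⊥ := by
      rw [eq_bot_iff]
      intro x hx
      have h3 : (⟨x, hx.1⟩ : T) ∈ N := mem_subgroupOf.2 hx
      rw [h1, mem_bot] at h3
      exact mem_bot.2 (congrArg Subtype.val h3)
    have h3 := Cfsg.Agent.Lib.SylowNormalInf.card_inf_mul_relIndex T S
    rw [h2, card_bot, one_mul] at h3
    rw [h3, Nat.card_congr e.toEquiv] at hI
    apply hI
    have h4 : orderOf Z0 = 2 := by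
      apply orderOf_eq_prime
      · rw [pow_two]; exact Z0_sq
      · exact Z0_ne
    rw [← h4]
    exact orderOf_dvd_natCard Z0
  have hp : Fact (Nat.Prime 2) := ⟨Nat.prime_two⟩
  have hnil : Group.IsNilpotent T := h.two.isNilpotent
  have hne := Cfsg.Agent.Lib.NormalAbelian.normal_inf_center_ne_bot N hNb
  have h2 : IsPGroup 2 (N ⊓ center T : Subgroup T) := h.two.to_subgroup _
  have hnt : Nontrivial (N ⊓ center T : Subgroup T) := (Subgroup.nontrivial_iff_ne_bot _).2 hne
  obtain ⟨n, hn, hn'⟩ := h2.nontrivial_iff_card.1 hnt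
  have h3 : 2 ∣ Nat.card (N ⊓ center T : Subgroup T) := by
    rw [hn']; exact dvd_pow_self 2 hn.ne'
  obtain ⟨z, hz⟩ := exists_prime_orderOf_dvd_card' 2 h3
  have hz1 : z * z = 1 := by rw [← pow_two, ← hz, pow_orderOf_eq_one]
  have hz2 : z ≠ 1 := by
    rintro rfl
    rw [orderOf_one] at hz
    omega
  refine ⟨((z : T) : X), mem_subgroupOf.1 z.2.1, fun h1 => hz2 (Subtype.ext (Subtype.ext h1)),
    congrArg (fun y : (N ⊓ center T : Subgroup T) => ((y : T) : X)) hz1, fun t ht => ?_⟩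
  exact congrArg Subtype.val (mem_center_iff.1 z.2.2 ⟨t, ht⟩)

/-- **normalisation** -/
theorem exists_e [Finite X] (h : ASx S T A) (e : S ≃* A6) : ∃ e' : S ≃* A6, io S e' Z0 ∈ T ∧
    ∀ t ∈ T, t * io S e' Z0 = io S e' Z0 * t := by
  obtain ⟨z, hz, hz1, hzz, hzT⟩ := exists_z h e
  obtain ⟨x, hx⟩ := io_surj e hz.2
  have hx2 : x * x = 1 := io_inj e (by rw [map_mul, hx, hzz, map_one])
  have hx1 : x ≠ 1 := fun h1 => hz1 (by rw [← hx, h1, map_one])
  obtain ⟨w, hw⟩ := exists_conj_Z0 hx2 hx1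
  have h1 : io S (e.trans (MulAut.conj w)) Z0 = z := by
    rw [← hx]
    show ((e.symm ((MulAut.conj w).symm Z0) : S) : X) = ((e.symm x : S) : X)
    rw [← hw]
    congr 2
    rw [MulAut.conj_symm_apply]
    group
  exact ⟨e.trans (MulAut.conj w), by rw [h1]; exact hz.1, by rw [h1]; exact hzT⟩

/-- the output of the group theory -/
structure Str (S : Subgroup X) [S.Normal] (T A : Subgroup X) (e : S ≃* A6) (a b : X) : Prop where
  aA : a ∈ A
  bA : b ∈ A
  ca : Cj S e a s45
  cb : Cj S e b (s45 * z0)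
  four : Nat.card A = 4
  fix : ∀ t ∈ T, act S e t Z0 = Z0
  io_mem : ∀ x : A6, x * Z0 = Z0 * x ↔ io S e x ∈ T
  Ta : ∀ t ∈ T, t * a = a * t
  Tb : ∀ t ∈ T, t * b = b * t
  inj : Function.Injective (act S e)

/-- **Group theory of the row `A₆`.** -/
theorem struct [Finite X] (h : ASx S T A) [hnorm : S.Normal] (e₀ : S ≃* A6) (h3 : 3 ≤ Nat.card A) :
    ∃ (e : S ≃* A6) (a b : X), Str S T A e a b := by
  obtain ⟨e, hzT, hcT⟩ := exists_e h e₀
  have hAT := h.AT
  have hinj := act_inj e h.cen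
  -- elements of `T` fix `Z0`
  have hfix : ∀ t ∈ T, act S e t Z0 = Z0 := by
    intro t ht
    apply io_inj e
    rw [← act_io, hcT t ht, mul_inv_cancel_right]
  have hio : ∀ x : A6, io S e x ∈ T → x * Z0 = Z0 * x := by
    intro x hx
    apply io_inj e
    rw [map_mul, map_mul, hcT _ hx]
  have hodd : ∀ R : Subgroup X, T ≤ R → ¬ 2 ∣ T.relIndex R := fun R hR hd =>
    h.syl (hd.trans (Subgroup.relIndex_dvd_index_of_le hR))
  have hoT : ∀ R : Subgroup X, T ≤ R → o2 R ≤ T := fun R hR => o2_le_of_sylow h.two (hodd R hR)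
  -- `T` contains the centralizer of `Z0`
  have hTC : ∀ x : A6, x * Z0 = Z0 * x → io S e x ∈ T := by
    intro x hx
    let C : Subgroup X := (centralizer ({Z0} : Set A6)).map (io S e)
    have hC2 : IsPGroup 2 C := by
      rintro ⟨_, y, hy, rfl⟩
      refine ⟨2, Subtype.ext ?_⟩
      have hy' : y * Z0 = Z0 * y := mem_centralizer_singleton_iff.1 hy
      have key : y ^ (2 ^ 2) = 1 := by
        rcases cases_cent hy' with rfl | rfl | rfl | rfl | rfl | rfl | rfl | rfl <;>
          exact Subtype.ext (by decide +kernel)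
      show (io S e y) ^ (2 ^ 2) = 1
      rw [← map_pow, key, map_one]
    have hTn : T ≤ normalizer (C : Set X) := by
      intro t ht
      have key : ∀ t ∈ T, ∀ y ∈ C, t * y * t⁻¹ ∈ C := by
        rintro t ht _ ⟨y, hy, rfl⟩
        refine ⟨act S e t y, ?_, (act_io e t y).symm⟩
        have hy' : y * Z0 = Z0 * y := mem_centralizer_singleton_iff.1 hy
        refine mem_centralizer_singleton_iff.2 ?_
        have h1 := congrArg (act S e t) hy'
        rwa [map_mul, map_mul, hfix t ht] at h1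
      rw [mem_normalizer_iff]
      intro y
      refine ⟨fun hy => key t ht y hy, fun hy => ?_⟩
      have h1 := key t⁻¹ (T.inv_mem ht) _ hy
      have h2 : t⁻¹ * (t * y * t⁻¹) * t⁻¹⁻¹ = y := by group
      rwa [h2] at h1
    have h1 : C ≤ o2 (normalizer (C : Set X)) := le_o2 le_normalizer hC2 le_rfl
    exact hoT _ hTn (h1 ⟨x, mem_centralizer_singleton_iff.2 hx, rfl⟩)
  have hgen : ∀ R : Subgroup X, T ≤ R → ∀ r ∈ R, ∃ u : A6, io S e u ∈ R ∧ ∃ b ∈ T, r = io S e u * b := by
    intro R hR r hr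
    have h1 : r ∈ S ⊔ T := by rw [h.gen]; trivial
    obtain ⟨s, hs, b, hb, rfl⟩ := Subgroup.mem_sup_of_normal_left.1 h1
    obtain ⟨u, rfl⟩ := io_surj e hs
    refine ⟨u, ?_, b, hb, rfl⟩
    have := R.mul_mem hr (R.inv_mem (hR hb))
    rwa [mul_inv_cancel_right] at this
  -- index of `A ∩ S` in the NS part
  let P : Subgroup X :=
    { carrier := {g | NS (act S e g)}
      one_mem' := by
        show NS (act S e 1)
        rw [map_one]; exact ⟨1, fun x => by rw [inv_one, mul_one, one_mul]; rfl⟩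
      mul_mem' := fun {g k} hg hk => by
        show NS (act S e (g * k))
        rw [map_mul]; exact hg.mul hk
      inv_mem' := fun {g} hg => by
        show NS (act S e g⁻¹)
        rw [map_inv]; exact NS.inv hg }
  have hSP : S ≤ P := by
    intro s hs
    obtain ⟨x, rfl⟩ := io_surj e hs
    show NS (act S e (io S e x))
    rw [act_of_io]; exact NS.conj x
  have hinner : ∀ g, ∀ σ : Perm (Fin 6), Perm.sign σ = 1 → (∀ x : A6, (act S e g x : Perm (Fin 6)) = σ * x * σ⁻¹) →
      g ∈ S := by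
    intro g σ hσ hg
    have h1 : g = io S e ⟨σ, Equiv.Perm.mem_alternatingGroup.2 hσ⟩ := by
      apply hinj
      rw [act_of_io]
      ext x : 1
      apply Subtype.ext
      rw [hg]; rfl
    rw [h1]; exact io_mem e _
  have hPS : ∀ g ∈ A ⊓ P, ∀ k ∈ A ⊓ P, g ∉ S → k ∉ S → g * k ∈ S := by
    rintro g ⟨-, σ, hσ⟩ k ⟨-, τ, hτ⟩ hgS hkS
    have s1 : Perm.sign σ = -1 := (Int.units_eq_one_or _).resolve_left fun h' => hgS (hinner g σ h' hσ)
    have s2 : Perm.sign τ = -1 := (Int.units_eq_one_or _).resolve_left fun h' => hkS (hinner k τ h' hτ)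
    refine hinner (g * k) (σ * τ) (by rw [Perm.sign_mul, s1, s2]; decide) fun x => ?_
    rw [map_mul, MulAut.mul_apply, hσ, hτ]; group
  have hc1 : Nat.card (A ⊓ P : Subgroup X) ≤ 2 * Nat.card (A ⊓ S : Subgroup X) := by
    have := card_le_two_mul (A ⊓ P) S hPS
    rwa [inf_assoc, inf_eq_right.2 hSP] at this
  by_cases hNS : ∀ g, NS (act S e g)
  · -- no graph automorphism: two overgroups
    have hAP : A ⊓ P = A := inf_eq_left.2 fun g _ => hNS g
    have hone : ∀ w : A6, (∀ t ∈ T, act S e t w = w ∨ act S e t w = w * Z0) → T ≤ Sta S e (Fo w) := by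
      intro w hw t ht
      exact mem_Sta_of (fun x hx => fo_map (hfix t ht) (hw t ht) hx)
        (fun x hx => fo_map (hfix _ (T.inv_mem ht)) (hw _ (T.inv_mem ht)) hx)
    have hR1 : T ≤ Sta S e (Fo A0) := hone A0 fun t ht => ns_a0 (hfix t ht) (hNS t)
    have hR2 : T ≤ Sta S e (Fo B0) := hone B0 fun t ht => ns_b0 (hfix t ht) (hNS t)
    have f1 : C0 * Z0 * C0⁻¹ = A0 := Subtype.ext conjV_c0.1
    have f2 : C0 * A0 * C0⁻¹ = A0 * Z0 := Subtype.ext conjV_c0.2
    have f3 : D0 * Z0 * D0⁻¹ = B0 * Z0 := Subtype.ext conjV_d0.1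
    have f4 : D0 * B0 * D0⁻¹ = Z0 := Subtype.ext conjV_d0.2
    have f5 : C0 * (A0 * Z0) * C0⁻¹ = Z0 := Subtype.ext perm_facts.1
    have f6 : D0 * (B0 * Z0) * D0⁻¹ = B0 := Subtype.ext perm_facts.2
    obtain ⟨k1, k2, k3, k4, k5, k6⟩ := ne_facts'
    obtain ⟨n1, n2, n3, n4, -⟩ := ne_facts
    have hC : io S e C0 ∈ Sta S e (Fo A0) := by
      refine mem_Sta_of_cube C0_cube ?_
      rintro x (rfl | rfl | rfl | rfl)
      · exact Or.inl (by group)
      · exact Or.inr (Or.inr (Or.inl f1))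
      · exact Or.inr (Or.inr (Or.inr f2))
      · exact Or.inr (Or.inl f5)
    have hD : io S e D0 ∈ Sta S e (Fo B0) := by
      refine mem_Sta_of_cube D0_cube ?_
      rintro x (rfl | rfl | rfl | rfl)
      · exact Or.inl (by group)
      · exact Or.inr (Or.inr (Or.inr f3))
      · exact Or.inr (Or.inl f4)
      · exact Or.inr (Or.inr (Or.inl f6))
    have hT1 : Sta S e (Fo A0) ≠ ⊤ := by
      intro ht
      have h1 : io S e D0 ∈ Sta S e (Fo A0) := by rw [ht]; trivial
      have h2 := (mem_Sta.1 h1 Z0).2 (Or.inr (Or.inl rfl))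
      rw [act_of_io, MulAut.conj_apply, f3] at h2
      rcases h2 with h2 | h2 | h2 | h2
      · exact k1 (congrArg Subtype.val h2)
      · exact k2 (congrArg Subtype.val h2)
      · exact k3 (congrArg Subtype.val h2)
      · exact k4 (congrArg Subtype.val h2)
    have hT2 : Sta S e (Fo B0) ≠ ⊤ := by
      intro ht
      have h1 : io S e C0 ∈ Sta S e (Fo B0) := by rw [ht]; trivial
      have h2 := (mem_Sta.1 h1 Z0).2 (Or.inr (Or.inl rfl))
      rw [act_of_io, MulAut.conj_apply, f1] at h2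
      rcases h2 with h2 | h2 | h2 | h2
      · exact k5 (congrArg Subtype.val h2)
      · exact k6 (congrArg Subtype.val h2)
      · exact n1 (congrArg Subtype.val h2)
      · exact n2 (congrArg Subtype.val h2)
    -- permutations inducing elements of `T` commute with `z0`
    have hTz : ∀ t ∈ T, ∀ σ : Perm (Fin 6), Cj S e t σ → σ * z0 = z0 * σ := by
      intro t ht σ hσ
      have h1 := hσ Z0
      rw [hfix t ht] at h1
      exact (mul_inv_eq_iff_eq_mul.1 h1.symm)
    have hcj : ∀ (g : X) (y : A6) (σ : Perm (Fin 6)), Cj S e g σ → Cj S e (io S e y * g * (io S e y)⁻¹) (y * σ * (y : Perm (Fin 6))⁻¹) := by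
      intro g y σ hσ x
      rw [map_mul, map_mul, ← map_inv, act_of_io, act_of_io, MulAut.mul_apply, MulAut.mul_apply, MulAut.conj_apply,
        MulAut.conj_apply, val_mul, val_mul, hσ]
      simp only [val_mul, val_inv, inv_inv]
      group
    have hA4 : ∀ a ∈ A, ∃ σ : Perm (Fin 6), (σ = 1 ∨ σ = z0 ∨ σ = s45 ∨ σ = s45 * z0) ∧ Cj S e a σ := by
      intro a ha
      obtain ⟨σ, hσ⟩ := hNS a
      have g1 : io S e C0 * a * (io S e C0)⁻¹ ∈ T :=
        hoT _ hR1 ((mem_normalizer_iff.1 (le_normalizer_o2 _ hC) _).1 (h.low _ hR1 hT1 ha))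
      have g2 : io S e D0 * a * (io S e D0)⁻¹ ∈ T :=
        hoT _ hR2 ((mem_normalizer_iff.1 (le_normalizer_o2 _ hD) _).1 (h.low _ hR2 hT2 ha))
      exact ⟨σ, cent_both' σ (hTz a (hAT ha) σ hσ) (hTz _ g1 _ (hcj a C0 σ hσ)) (hTz _ g2 _ (hcj a D0 σ hσ)), hσ⟩
    have hsame : ∀ g k : X, ∀ σ : Perm (Fin 6), Cj S e g σ → Cj S e k σ → g = k := by
      intro g k σ hg hk
      apply hinj
      ext x : 1
      apply Subtype.ext
      rw [hg, hk]
    have hz0 : Cj S e (io S e Z0) z0 := by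
      intro x
      rw [act_of_io]; rfl
    have hone' : Cj S e 1 1 := by
      intro x
      rw [map_one, MulAut.one_apply]
      group
    have hAS : A ⊓ S ≤ zpowers (io S e Z0) := by
      rintro x ⟨hxA, hxS⟩
      obtain ⟨y, rfl⟩ := io_surj e hxS
      obtain ⟨σ, hσ4, hσ⟩ := hA4 _ hxA
      have hs : Perm.sign σ = 1 := by
        have h1 : ∀ x : A6, σ * x * σ⁻¹ = y * x * (y : Perm (Fin 6))⁻¹ := by
          intro x
          rw [← hσ, act_of_io]; rfl
        by_contra hs
        have hs' : Perm.sign σ = -1 := (Int.units_eq_one_or _).resolve_left hs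
        -- `y⁻¹ σ` centralizes `A₆`
        have h2 : ∀ x : A6, ((y : Perm (Fin 6))⁻¹ * σ) * x = x * ((y : Perm (Fin 6))⁻¹ * σ) := by
          intro x
          have h3 := h1 x
          rw [mul_inv_eq_iff_eq_mul] at h3
          calc (y : Perm (Fin 6))⁻¹ * σ * x = (y : Perm (Fin 6))⁻¹ * (σ * x) := by group
            _ = (y : Perm (Fin 6))⁻¹ * (y * x * (y : Perm (Fin 6))⁻¹ * σ) := by rw [h3]
            _ = x * ((y : Perm (Fin 6))⁻¹ * σ) := by group
        have h4 := cent_both' ((y : Perm (Fin 6))⁻¹ * σ) (h2 Z0) (by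
          have := h2 C0
          have e1 : c0 * ((y : Perm (Fin 6))⁻¹ * σ) * c0⁻¹ = (y : Perm (Fin 6))⁻¹ * σ := by
            rw [mul_inv_eq_iff_eq_mul]; exact this.symm
          rw [e1]; exact h2 Z0) (by
          have := h2 D0
          have e1 : d0 * ((y : Perm (Fin 6))⁻¹ * σ) * d0⁻¹ = (y : Perm (Fin 6))⁻¹ * σ := by
            rw [mul_inv_eq_iff_eq_mul]; exact this.symm
          rw [e1]; exact h2 Z0)
        have hsg : Perm.sign ((y : Perm (Fin 6))⁻¹ * σ) = -1 := by
          rw [Perm.sign_mul, Perm.sign_inv, sign_val, hs', one_mul]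
        have q1 : ¬ (s45 * d0 = d0 * s45) := by decide +kernel
        have q2 : ¬ (s45 * z0 * c0 = c0 * (s45 * z0)) := by decide +kernel
        rcases h4 with h4 | h4 | h4 | h4
        · rw [h4] at hsg
          exact absurd hsg (by decide +kernel)
        · rw [h4] at hsg
          exact absurd hsg (by decide +kernel)
        · have := h2 D0
          rw [h4] at this
          exact q1 this
        · have := h2 C0
          rw [h4] at this
          exact q2 this
      rcases hσ4 with rfl | rfl | rfl | rfl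
      · have := hsame _ _ _ hσ hone'
        rw [this]; exact one_mem _
      · have := hsame _ _ _ hσ hz0
        rw [this]; exact mem_zpowers _
      · exact absurd hs (by decide +kernel)
      · exact absurd hs (by decide +kernel)
    have h2 : Nat.card (zpowers (io S e Z0)) ≤ 2 := by
      rw [Nat.card_zpowers]
      refine Nat.le_of_dvd (by norm_num) (orderOf_dvd_of_pow_eq_one ?_)
      rw [← map_pow, pow_two, Z0_sq, map_one]
    have h2' := card_le_of_le hAS
    rw [hAP] at hc1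
    have hneS : ¬ A ≤ S := by
      intro hle
      rw [inf_eq_left.2 hle] at h2'
      omega
    obtain ⟨a, haA, haS⟩ := SetLike.not_le_iff_exists.1 hneS
    have hAS1 : A ⊓ S ≠ ⊥ := by
      intro hb
      rw [hb, card_bot] at hc1
      omega
    obtain ⟨y, hy1⟩ := (ne_bot_iff_exists_ne_one).1 hAS1
    have hzA : io S e Z0 ∈ A := by
      obtain ⟨k, hk⟩ := mem_zpowers_iff.1 (hAS y.2)
      have hsq : io S e Z0 * io S e Z0 = 1 := by rw [← map_mul, Z0_sq, map_one]
      rcases Int.even_or_odd' k with ⟨m, hm | hm⟩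
      · exfalso
        apply hy1
        apply Subtype.ext
        rw [← hk, hm, zpow_mul, zpow_two, hsq, one_zpow]; rfl
      · have h5 : io S e Z0 ^ k = io S e Z0 := by
          rw [hm, zpow_add, zpow_mul, zpow_two, hsq, one_zpow, one_mul, zpow_one]
        rw [← h5, hk]
        exact y.2.1
    have hcard : Nat.card A = 4 := by
      have h5 : Nat.card (A ⊓ S : Subgroup X) ∣ Nat.card A := card_dvd_of_le inf_le_left
      have h6 : Nat.card (A ⊓ S : Subgroup X) = 2 := by omega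
      rw [h6] at h5
      omega
    obtain ⟨σ, hσ4, hσ⟩ := hA4 a haA
    have hcent : ∀ g ∈ A, ∀ τ : Perm (Fin 6), (τ = s45 ∨ τ = s45 * z0) → Cj S e g τ → ∀ t ∈ T, t * g = g * t := by
      intro g hg τ hτ hgτ t ht
      obtain ⟨ρ, hρ⟩ := hNS t
      have h5 := cent_s45 ρ (hTz t ht ρ hρ)
      have h6 : ρ * τ = τ * ρ := by
        rcases hτ with rfl | rfl
        · exact h5.1
        · exact h5.2
      apply hinj
      ext x : 1
      apply Subtype.ext
      rw [map_mul, map_mul, MulAut.mul_apply, MulAut.mul_apply, hρ, hgτ, hgτ, hρ]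
      calc ρ * (τ * x * τ⁻¹) * ρ⁻¹ = (ρ * τ) * x * (ρ * τ)⁻¹ := by group
        _ = (τ * ρ) * x * (τ * ρ)⁻¹ := by rw [h6]
        _ = τ * (ρ * x * ρ⁻¹) * τ⁻¹ := by group
    have hmul : ∀ g : X, ∀ τ : Perm (Fin 6), Cj S e g τ → Cj S e (g * io S e Z0) (τ * z0) := by
      intro g τ hg x
      rw [map_mul, MulAut.mul_apply, hg, hz0]
      group
    have hzz : s45 * z0 * z0 = s45 := by decide +kernel
    rcases hσ4 with rfl | rfl | rfl | rfl
    · exact absurd (hinner a 1 (by decide +kernel) hσ) haS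
    · exact absurd (hinner a z0 (by decide +kernel) hσ) haS
    · exact ⟨e, a, a * io S e Z0, haA, A.mul_mem haA hzA, hσ, hmul _ _ hσ, hcard, hfix,
        fun x => ⟨hTC x, hio x⟩, hcent a haA _ (Or.inl rfl) hσ,
        hcent _ (A.mul_mem haA hzA) _ (Or.inr rfl) (hmul _ _ hσ), hinj⟩
    · have h7 := hmul _ _ hσ
      rw [hzz] at h7
      exact ⟨e, a * io S e Z0, a, A.mul_mem haA hzA, haA, h7, hσ, hcard, hfix,
        fun x => ⟨hTC x, hio x⟩, hcent _ (A.mul_mem haA hzA) _ (Or.inl rfl) h7,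
        hcent a haA _ (Or.inr rfl) hσ, hinj⟩
  · -- a graph automorphism in `T`
    exfalso
    push Not at hNS
    obtain ⟨g, hg⟩ := hNS
    obtain ⟨u, -, a, ha, rfl⟩ := hgen ⊤ le_top g trivial
    have hna : ¬ NS (act S e a) := by
      intro hn
      apply hg
      rw [map_mul, act_of_io]
      exact (NS.conj u).mul hn
    have hza := hfix a ha
    have ca := cases_a0 hza hna
    have cb := cases_b0 hza hna
    obtain ⟨n1, n2, n3, n4, m1, m2, m3, m4⟩ := ne_facts
    -- `a v` does not commute with `v`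
    have hnc : ∀ v : A6, v * Z0 = Z0 * v → v * v = 1 → v ≠ 1 → v ≠ Z0 → act S e a v * v ≠ v * act S e a v := by
      intro v hv h2 h1 hz
      have q1 : B0 * A0 ≠ A0 * B0 := fun hh => m1 (congrArg Subtype.val hh).symm
      have q2 : B0 * Z0 * A0 ≠ A0 * (B0 * Z0) := fun hh => m2 (congrArg Subtype.val hh).symm
      have q3 : B0 * (A0 * Z0) ≠ A0 * Z0 * B0 := fun hh => m3 (congrArg Subtype.val hh).symm
      have q4 : B0 * Z0 * (A0 * Z0) ≠ A0 * Z0 * (B0 * Z0) := fun hh => m4 (congrArg Subtype.val hh).symm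
      have zz : ∀ w : A6, w * Z0 * Z0 = w := fun w => by rw [mul_assoc, Z0_sq, mul_one]
      rcases cases_inv hv h2 h1 hz with rfl | rfl | rfl | rfl
      · rcases ca with c | c <;> rw [c]
        · exact q1
        · exact q2
      · rw [map_mul, hza]
        rcases ca with c | c <;> rw [c]
        · exact q4
        · rw [zz]; exact q3
      · rcases cb with c | c <;> rw [c]
        · exact q1.symm
        · exact q3.symm
      · rw [map_mul, hza]
        rcases cb with c | c <;> rw [c]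
        · exact q4.symm
        · rw [zz]; exact q2.symm
    obtain ⟨w1, w2, w3, w4, w5, w6, -, w8, w9⟩ := comm_facts
    have hZo : ∀ R : Subgroup X, T ≤ R → R ≠ ⊤ → io S e Z0 ∈ o2 R := by
      intro R hTR hR
      have hn := fun (g : X) (hg : g ∈ R) (y : X) (hy : y ∈ o2 R) =>
        (mem_normalizer_iff.1 (le_normalizer_o2 R hg) y).1 hy
      have hIA : io S e A0 ∈ R := hTR (hTC A0 A0_Z0)
      have hIB : io S e B0 ∈ R := hTR (hTC B0 B0_Z0)
      have hex : ∃ x : A6, x ≠ 1 ∧ io S e x ∈ o2 R := by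
        by_cases hAS : A ⊓ S = ⊥
        · have hAP : ¬ A ≤ P := by
            intro hle
            rw [inf_eq_left.2 hle, hAS, card_bot] at hc1
            omega
          obtain ⟨k, hkA, hkP⟩ := SetLike.not_le_iff_exists.1 hAP
          have hk : k ∈ o2 R := h.low R hTR hR hkA
          have hk' := hn _ hIA _ ((o2 R).inv_mem hk)
          have h5 := (o2 R).mul_mem hk hk'
          have h6 : k * (io S e A0 * k⁻¹ * (io S e A0)⁻¹) = io S e (act S e k A0 * A0⁻¹) := by
            rw [map_mul, ← act_io, map_inv]; group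
          rw [h6] at h5
          refine ⟨_, ?_, h5⟩
          rcases cases_a0 (hfix k (hAT hkA)) hkP with c | c <;> rw [c]
          · exact fun hh => w8 (congrArg Subtype.val hh)
          · exact fun hh => w9 (congrArg Subtype.val hh)
        · obtain ⟨y, hy1⟩ := (ne_bot_iff_exists_ne_one).1 hAS
          obtain ⟨x, hx⟩ := io_surj e y.2.2
          refine ⟨x, ?_, ?_⟩
          · rintro rfl
            rw [map_one] at hx
            exact hy1 (Subtype.ext hx.symm)
          · rw [hx]; exact h.low R hTR hR y.2.1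
      obtain ⟨x, hx1, hx⟩ := hex
      have hcom : ∀ v : A6, io S e v ∈ R → io S e (x * (v * x⁻¹ * v⁻¹)) ∈ o2 R := by
        intro v hv
        rw [map_mul, map_mul, map_mul, map_inv, map_inv]
        exact (o2 R).mul_mem hx (hn _ hv _ ((o2 R).inv_mem hx))
      have hsq : io S e (x * x) ∈ o2 R := by rw [map_mul]; exact (o2 R).mul_mem hx hx
      rcases cases_cent (hio x (hoT R hTR hx)) with c | c | c | c | c | c | c | c
      · exact absurd c hx1
      · rwa [c] at hx
      · have := hcom B0 hIB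
        rw [c] at this
        have e1 : A0 * (B0 * A0⁻¹ * B0⁻¹) = Z0 := Subtype.ext w3
        rwa [e1] at this
      · have := hcom B0 hIB
        rw [c] at this
        have e1 : A0 * Z0 * (B0 * (A0 * Z0)⁻¹ * B0⁻¹) = Z0 := Subtype.ext w4
        rwa [e1] at this
      · have := hcom A0 hIA
        rw [c] at this
        have e1 : B0 * (A0 * B0⁻¹ * A0⁻¹) = Z0 := Subtype.ext w5
        rwa [e1] at this
      · have := hcom A0 hIA
        rw [c] at this
        have e1 : B0 * Z0 * (A0 * (B0 * Z0)⁻¹ * A0⁻¹) = Z0 := Subtype.ext w6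
        rwa [e1] at this
      · rw [c] at hsq
        have e1 : F0 * F0 = Z0 := Subtype.ext w1
        rwa [e1] at hsq
      · rw [c] at hsq
        have e1 : F0 * Z0 * (F0 * Z0) = Z0 := Subtype.ext w2
        rwa [e1] at hsq
    refine h.nmax ⟨centralizer ({io S e Z0} : Set X), ?_, fun R hTR hR r hr => ?_⟩
    · intro ht
      have h1 : io S e C0 ∈ centralizer ({io S e Z0} : Set X) := by rw [ht]; trivial
      rw [mem_centralizer_singleton_iff, ← map_mul, ← map_mul] at h1
      have h2 := io_inj e h1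
      have h3 : C0 * Z0 * C0⁻¹ = A0 := Subtype.ext conjV_c0.1
      rw [h2, mul_inv_cancel_right] at h3
      exact A0_ne_Z0 h3.symm
    · obtain ⟨u, hu, b, hb, rfl⟩ := hgen R hTR r hr
      refine mul_mem ?_ (mem_centralizer_singleton_iff.2 (hcT b hb))
      rw [mem_centralizer_singleton_iff, ← map_mul, ← map_mul]
      congr 1
      by_contra hc
      have hn := fun (g : X) (hg : g ∈ R) (y : X) (hy : y ∈ o2 R) =>
        (mem_normalizer_iff.1 (le_normalizer_o2 R hg) y).1 hy
      have hz : io S e Z0 ∈ o2 R := hZo R hTR hR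
      have hv : io S e (u * Z0 * u⁻¹) ∈ o2 R := by
        rw [map_mul, map_mul, map_inv]
        exact hn _ hu _ hz
      have hav : io S e (act S e a (u * Z0 * u⁻¹)) ∈ o2 R := by
        rw [← act_io]
        exact hn _ (hTR ha) _ hv
      have hw : io S e (u⁻¹ * act S e a (u * Z0 * u⁻¹) * u) ∈ T := by
        have h1 := hn _ (R.inv_mem hu) _ hav
        rw [inv_inv, ← map_inv, ← map_mul, ← map_mul] at h1
        exact hoT R hTR h1
      have h1 := hio _ hw
      refine hnc (u * Z0 * u⁻¹) (hio _ (hoT R hTR hv)) ?_ ?_ ?_ ?_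
      · calc u * Z0 * u⁻¹ * (u * Z0 * u⁻¹) = u * (Z0 * Z0) * u⁻¹ := by group
          _ = 1 := by rw [Z0_sq]; group
      · intro h2
        apply Z0_ne
        rw [mul_inv_eq_one] at h2
        exact mul_eq_left.1 h2
      · intro h2
        exact hc (mul_inv_eq_iff_eq_mul.1 h2)
      · set y := act S e a (u * Z0 * u⁻¹) with hy
        calc y * (u * Z0 * u⁻¹) = u * (u⁻¹ * y * u * Z0) * u⁻¹ := by group
          _ = u * (Z0 * (u⁻¹ * y * u)) * u⁻¹ := by rw [h1]
          _ = u * Z0 * u⁻¹ * y := by group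

end group

section module

variable {H : Type u} [Group H] {M : Type v} [Group M] [MulDistribMulAction H M] {K T A : Subgroup H}

theorem cv_bot_ne (sq : ∀ v : M, v * v = 1) [Finite M] {T : Subgroup H} (hT : IsPGroup 2 T) (hM : ∃ v : M, v ≠ 1) :
    cv M (T : Set H) ≠ ⊥ := by
  have hf : Fact (Nat.Prime 2) := ⟨Nat.prime_two⟩
  have hdvd : 2 ∣ Nat.card M := by
    obtain ⟨v, hv⟩ := hM
    have h1 : orderOf v = 2 := orderOf_eq_prime (by rw [pow_two]; exact sq v) hv
    rw [← h1]
    exact orderOf_dvd_natCard v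
  have h1 : (1 : M) ∈ MulAction.fixedPoints T M := fun g => smul_one (g : H)
  obtain ⟨b, hb, hb1⟩ := hT.exists_fixed_point_of_prime_dvd_card_of_fixed_point M hdvd h1
  intro h0
  refine hb1 (Eq.symm ?_)
  rw [← mem_bot, ← h0]
  exact fun x hx => hb ⟨x, hx⟩

/-- the setwise stabiliser -/
def Stw (H : Type u) [Group H] {M : Type v} [Group M] [MulDistribMulAction H M] (W : Subgroup M) : Subgroup H where
  carrier := {g | ∀ w : M, g • w ∈ W ↔ w ∈ W}
  mul_mem' {g k} hg hk := fun w => by rw [mul_smul, hg, hk]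
  one_mem' := fun w => by rw [one_smul]
  inv_mem' {g} hg := fun w => by
    have := hg (g⁻¹ • w)
    rw [smul_inv_smul] at this
    exact this.symm

theorem mem_Stw_of_comm {g a : H} (h : g * a = a * g) : g ∈ Stw H (cv M ({a} : Set H)) := by
  intro w
  rw [mem_cv_singleton, mem_cv_singleton, ← mul_smul, ← h, mul_smul]
  exact smul_left_cancel_iff g

/-- if `C_M(a) = C_M(A) = C_M(b)` then `C_M(A)` is `H`-invariant -/
theorem stw_top [Finite H] [Finite M] (h : ASx K T A) [hn : K.Normal] {e : K ≃* A6} {a b : H} (hs : Str K T A e a b)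
    (ka : cv M ({a} : Set H) = cv M (A : Set H)) (kb : cv M ({b} : Set H) = cv M (A : Set H)) :
    Stw H (cv M (A : Set H)) = ⊤ := by
  set St : Subgroup H := Stw H (cv M (A : Set H)) with hSt
  have hT : T ≤ St := fun t ht => by
    rw [hSt, ← ka]
    exact mem_Stw_of_comm (hs.Ta t ht)
  obtain ⟨f1, f2, f3⟩ := fix_f
  have hC : io K e C0 ∈ St := by
    rw [hSt, ← ka]
    apply mem_Stw_of_comm
    have h5 : act K e a C0 = C0 := Subtype.ext ((hs.ca C0).trans f1)
    have h6 := act_io e a C0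
    rw [h5] at h6
    exact (mul_inv_eq_iff_eq_mul.1 h6).symm
  have hD : io K e D0 ∈ St := by
    rw [hSt, ← kb]
    apply mem_Stw_of_comm
    have h5 : act K e b D0 = D0 := Subtype.ext ((hs.cb D0).trans f2)
    have h6 := act_io e b D0
    rw [h5] at h6
    exact (mul_inv_eq_iff_eq_mul.1 h6).symm
  by_contra hne
  have hn := fun (g : H) (hg : g ∈ St) (y : H) (hy : y ∈ o2 St) =>
    (mem_normalizer_iff.1 (le_normalizer_o2 St hg) y).1 hy
  have h5 : a ∈ o2 St := h.low St hT hne hs.aA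
  have h6 := hn _ hC _ (hn _ hD _ h5)
  have hodd : ¬ 2 ∣ T.relIndex St := fun hd => h.syl (hd.trans (Subgroup.relIndex_dvd_index_of_le hT))
  have h7 := o2_le_of_sylow h.two hodd h6
  have h8 := hs.fix _ h7
  apply f3
  have h9 := congrArg Subtype.val h8
  rw [map_mul, map_mul, map_mul, map_mul, ← map_inv, ← map_inv, act_of_io, act_of_io, act_of_io, act_of_io] at h9
  simp only [MulAut.mul_apply, MulAut.conj_apply, val_mul, val_inv, hs.ca _] at h9
  refine Eq.trans ?_ h9
  show c0 * d0 * s45 * d0⁻¹ * c0⁻¹ * z0 * (c0 * d0 * s45 * d0⁻¹ * c0⁻¹)⁻¹ = _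
  simp only [mul_inv_rev, inv_inv, mul_assoc]
  rfl

/-- **TIE**: not both `a` and `b` have the fixed space `C_M(A)`. -/
theorem tie [Finite H] [Finite M] (h : InX H M K T A) [hn : K.Normal] {e : K ≃* A6} {a b : H} (hs : Str K T A e a b) :
    (cv M ({a} : Set H)).index < 4 ∨ (cv M ({b} : Set H)).index < 4 := by
  by_contra hcon
  push Not at hcon
  obtain ⟨ga, gb⟩ := hcon
  have h4 := hs.four
  have key : ∀ x ∈ A, 4 ≤ (cv M ({x} : Set H)).index → cv M ({x} : Set H) = cv M (A : Set H) := by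
    intro x hx hx4
    have hle : cv M (A : Set H) ≤ cv M ({x} : Set H) := cv_anti (Set.singleton_subset_iff.2 hx)
    refine le_antisymm ?_ hle
    rw [← relIndex_eq_one]
    have h5 : (cv M (A : Set H)).relIndex (cv M ({x} : Set H)) * (cv M ({x} : Set H)).index =
        (cv M (A : Set H)).index := relIndex_mul_index hle
    rw [h.exact, h4] at h5
    have h6 : (cv M (A : Set H)).relIndex (cv M ({x} : Set H)) ≠ 0 :=
      Cfsg.Agent.Omega.NOThree.NoOver.relIndex_ne _ _
    by_contra h7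
    have h8 : 2 ≤ (cv M (A : Set H)).relIndex (cv M ({x} : Set H)) := by omega
    have h9 := Nat.mul_le_mul h8 hx4
    omega
  have htop := stw_top h.asx hs (key a hs.aA ga) (key b hs.bA gb)
  have hind : (cv M (A : Set H)).index = 4 := by rw [h.exact, h4]
  rcases h.irr (cv M (A : Set H)) (fun g w hw => by
    have h5 : g ∈ Stw H (cv M (A : Set H)) := by rw [htop]; trivial
    exact (h5 w).2 hw) with h5 | h5
  · have hM : ∃ v : M, v ≠ 1 := by
      by_contra hcon
      push Not at hcon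
      have h6 : (⊤ : Subgroup M) = ⊥ := by
        rw [eq_bot_iff]
        exact fun v _ => mem_bot.2 (hcon v)
      rw [h5, ← h6, index_top] at hind
      omega
    refine cv_bot_ne h.sq h.two hM (le_bot_iff.1 (h5 ▸ ?_))
    exact cv_anti (SetLike.coe_subset_coe.2 h.AT)
  · rw [h5, index_top] at hind
    omega

/-- **The row `A₆`, no transvections in `A`.** -/
theorem alt6_noTv [Finite H] [Finite M] (h : InX H M K T A) (htv : ∀ a ∈ A, a ≠ 1 → 4 ≤ (cv M ({a} : Set H)).index)
    (e₀ : K ≃* A6) : False := by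
  have hn := h.norm
  obtain ⟨e, a, b, hs⟩ := struct h.asx e₀ (by have := h.four; omega)
  have hne : ∀ g : H, ∀ σ : Perm (Fin 6), Cj K e g σ → σ ≠ 1 → g ≠ 1 := by
    rintro g σ hσ hσ1 rfl
    have h1 : ∀ x : A6, (x : Perm (Fin 6)) = σ * x * σ⁻¹ := by
      intro x
      rw [← hσ x, map_one, MulAut.one_apply]
    have h2 : ∀ x : A6, σ * x = x * σ := fun x => (mul_inv_eq_iff_eq_mul.1 (h1 x).symm)
    rcases cent_both' σ (h2 Z0) (by
        have e1 : c0 * σ * c0⁻¹ = σ := by rw [mul_inv_eq_iff_eq_mul]; exact (h2 C0).symm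
        rw [e1]; exact h2 Z0) (by
        have e1 : d0 * σ * d0⁻¹ = σ := by rw [mul_inv_eq_iff_eq_mul]; exact (h2 D0).symm
        rw [e1]; exact h2 Z0) with h4 | h4 | h4 | h4
    · exact hσ1 h4
    · rw [h4] at h2
      exact (by decide +kernel : ¬ (z0 * c0 = c0 * z0)) (h2 C0)
    · rw [h4] at h2
      exact (by decide +kernel : ¬ (s45 * d0 = d0 * s45)) (h2 D0)
    · rw [h4] at h2
      exact (by decide +kernel : ¬ (s45 * z0 * c0 = c0 * (s45 * z0))) (h2 C0)
  have ha := htv a hs.aA (hne a _ hs.ca (by decide +kernel))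
  have hb := htv b hs.bA (hne b _ hs.cb (by decide +kernel))
  rcases tie h hs with h1 | h1 <;> omega

/-- **The row `A₆` for atoms.** -/
theorem alt6_atom [Finite H] [Finite M] (h : InX H M K T A) (hat : Atm M A)
    (hK : Nonempty (K ≃* alternatingGroup (Fin 6))) : False :=
  alt6_noTv h (fun _ ha ha1 => h.four_le_index hat ha ha1) hK.some

/-- the index of a fixed space is at least 2 -/
theorem two_le_index [Finite M] (h : InX H M K T A) {a : H} (ha : a ≠ 1) : 2 ≤ (cv M ({a} : Set H)).index := by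
  have h0 : (cv M ({a} : Set H)).index ≠ 0 := index_ne_zero_of_finite
  by_contra hcon
  have h1 : (cv M ({a} : Set H)).index = 1 := by omega
  rw [index_eq_one] at h1
  refine ha (h.faith a fun m => ?_)
  have h2 : m ∈ cv M ({a} : Set H) := by rw [h1]; trivial
  exact mem_cv_singleton.1 h2

/-- indices of fixed spaces smaller than 4 are 2 -/
theorem index_two [Finite M] (h : InX H M K T A) {a : H} (ha : a ≠ 1) (h4 : (cv M ({a} : Set H)).index < 4) :
    (cv M ({a} : Set H)).index = 2 := by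
  have h1 := two_le_index h ha
  obtain ⟨n, hn⟩ := (IsPGroup.iff_card.1 h.M_two)
  have h7 : (cv M ({a} : Set H)).index ∣ 2 ^ n := by
    rw [← hn]
    exact index_dvd_card _
  obtain ⟨k, -, hk⟩ := (Nat.dvd_prime_pow Nat.prime_two).1 h7
  rw [hk] at h1 h4 ⊢
  match k, h1, h4 with
  | 0, h1, _ => simp at h1
  | 1, _, _ => simp
  | k + 2, _, h4 => rw [pow_add] at h4; have := Nat.one_le_two_pow (n := k); omega

/-- **Output of the row `A₆`**: `|A| = 4` and `A` contains a transvection. -/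
theorem alt6_out [Finite H] [Finite M] (h : InX H M K T A) (hK : Nonempty (K ≃* alternatingGroup (Fin 6))) :
    Nat.card A = 4 ∧ ∃ a ∈ A, (cv M ({a} : Set H)).index = 2 := by
  have hn := h.norm
  obtain ⟨e, a, b, hs⟩ := struct h.asx hK.some (by have := h.four; omega)
  refine ⟨hs.four, ?_⟩
  by_contra hcon
  push Not at hcon
  refine alt6_noTv h (fun x hx hx1 => ?_) hK.some
  by_contra hx4
  exact hcon x hx (index_two h hx1 (by omega))

/-- the centre of a transvection -/
theorem exists_cen (h : InX H M K T A) {a : H} (hai : (cv M ({a} : Set H)).index = 2) :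
    ∃ m₀ : M, m₀ ≠ 1 ∧ (∀ x : M, x ∉ cv M ({a} : Set H) → a • x = x * m₀) ∧ ∃ x, x ∉ cv M ({a} : Set H) := by
  obtain ⟨m, hm⟩ := Subgroup.index_eq_two_iff.1 hai
  have hm1 : m ∉ cv M ({a} : Set H) := by
    rcases hm 1 with ⟨-, h2⟩ | ⟨-, h2⟩
    · exact absurd (one_mem _) h2
    · rwa [one_mul] at h2
  refine ⟨m⁻¹ * a • m, ?_, fun x hx => ?_, m, hm1⟩
  · intro h1
    exact hm1 (mem_cv_singleton.2 (inv_mul_eq_one.1 h1).symm)
  · rcases hm x with ⟨h1, -⟩ | ⟨h1, -⟩
    · rw [mem_cv_singleton, smul_mul'] at h1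
      have h2 : a • m * (m⁻¹ * a • m) = m := by
        rw [h.comm m⁻¹, ← mul_assoc, h.sq, one_mul]
        exact inv_eq_of_mul_eq_one_right (h.sq m)
      calc a • x = a • x * (a • m * a • m) := by rw [h.sq, mul_one]
        _ = (a • x * a • m) * a • m := by rw [mul_assoc]
        _ = x * (m * a • m) := by rw [h1, mul_assoc]
        _ = x * (m⁻¹ * a • m) := by rw [inv_eq_of_mul_eq_one_right (h.sq m)]
    · exact absurd h1 hx

/-- elements commuting with the transvection fix its centre -/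
theorem fix_cen {a g : H} {m₀ : M} (hm₀ : ∀ x : M, x ∉ cv M ({a} : Set H) → a • x = x * m₀)
    (hex : ∃ x, x ∉ cv M ({a} : Set H)) (hg : g * a = a * g) : g • m₀ = m₀ := by
  obtain ⟨x, hx⟩ := hex
  have h1 : g • x ∉ cv M ({a} : Set H) := fun h2 => hx ((mem_Stw_of_comm hg x).1 h2)
  have h2 := hm₀ _ h1
  rw [← mul_smul, ← hg, mul_smul, hm₀ x hx, smul_mul'] at h2
  exact mul_left_cancel h2

/-- **the trace of the centre** is trivial -/
theorem tr_one (h : InX H M K T A) {a c : H} (ha : a * a = 1) (hc : c * c * c = 1) (hc1 : c ≠ 1)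
    (hac : a * c = c⁻¹ * a) {m₀ : M} (hm₀ : ∀ x : M, x ∉ cv M ({a} : Set H) → a • x = x * m₀)
    (hex : ∃ x, x ∉ cv M ({a} : Set H)) : m₀ * c • m₀ * (c * c) • m₀ = 1 := by
  obtain ⟨x, hx⟩ := hex
  have hci : c⁻¹ = c * c := inv_eq_of_mul_eq_one_left hc
  have hcc : c⁻¹ * c⁻¹ = c := by
    rw [← mul_inv_rev, ← hci, inv_inv]
  let _ : CommGroup M := { (inferInstance : Group M) with mul_comm := h.comm }
  set n := x * c • x * (c * c) • x with hn
  have hcn : c • n = n := by
    rw [hn, smul_mul', smul_mul', ← mul_smul, ← mul_smul, ← mul_assoc c c c, hc, one_smul]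
    rw [mul_comm, mul_assoc]
  have han : a • n = n * (m₀ * c • m₀ * (c * c) • m₀) := by
    have e1 : a • c • x = (c * c) • (x * m₀) := by
      rw [← mul_smul, hac, mul_smul, hm₀ x hx, hci]
    have e2 : a • (c * c) • x = c • (x * m₀) := by
      rw [← mul_smul, ← mul_assoc, hac, mul_assoc, hac, ← mul_assoc, mul_smul, hm₀ x hx, hcc]
    rw [hn, smul_mul', smul_mul', hm₀ x hx, e1, e2, smul_mul', smul_mul']
    simp only [mul_assoc, mul_left_comm, mul_comm]
  by_cases hnC : n ∈ cv M ({a} : Set H)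
  · rw [mem_cv_singleton.1 hnC] at han
    exact (mul_eq_left.1 han.symm)
  · exfalso
    rw [hm₀ n hnC] at han
    have h1 : m₀ = m₀ * c • m₀ * (c * c) • m₀ := mul_left_cancel han
    have h2 : c • m₀ = m₀ := by
      conv_lhs => rw [h1]
      rw [smul_mul', smul_mul', ← mul_smul, ← mul_smul, ← mul_assoc c c c, hc, one_smul]
      conv_rhs => rw [h1]
      rw [mul_comm, mul_assoc]
    have hD : ∀ y : M, a • y = y ∨ a • y = y * m₀ := by
      intro y
      by_cases hy : y ∈ cv M ({a} : Set H)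
      · exact Or.inl (mem_cv_singleton.1 hy)
      · exact Or.inr (hm₀ y hy)
    have hD' : ∀ y : M, (c * a * c⁻¹) • y = y ∨ (c * a * c⁻¹) • y = y * m₀ := by
      intro y
      rw [mul_smul, mul_smul]
      rcases hD (c⁻¹ • y) with h3 | h3
      · left; rw [h3, smul_inv_smul]
      · right; rw [h3, smul_mul', smul_inv_smul, h2]
    have e3 : c * a * c⁻¹ * a = c * c := by
      have e4 : a * c⁻¹ = c * a := by
        rw [hci, ← mul_assoc, hac, mul_assoc, hac, ← mul_assoc, hcc]
      calc c * a * c⁻¹ * a = c * (a * c⁻¹) * a := by group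
        _ = c * c * (a * a) := by rw [e4]; group
        _ = c * c := by rw [ha, mul_one]
    have hD2 : ∀ y : M, (c * c) • y = y ∨ (c * c) • y = y * m₀ := by
      intro y
      rw [← e3, mul_smul]
      have hmm : m₀ * m₀ = 1 := h.sq m₀
      rcases hD y with h3 | h3 <;> rw [h3]
      · exact hD' y
      · rcases hD' (y * m₀) with h4 | h4 <;> rw [h4]
        · exact Or.inr rfl
        · left; rw [mul_assoc, hmm, mul_one]
    have hcm : (c * c) • m₀ = m₀ := by rw [mul_smul, h2, h2]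
    apply hc1
    refine h.faith c fun y => ?_
    have e5 : c = c * c * (c * c) := by
      calc c = (c * c * c) * c := by rw [hc, one_mul]
        _ = c * c * (c * c) := by group
    rw [e5, mul_smul]
    rcases hD2 y with h3 | h3 <;> rw [h3]
    · exact h3
    · rw [smul_mul', h3, hcm, mul_assoc, h.sq m₀, mul_one]

end module

section wpart

variable {H : Type u} [Group H] {M : Type v} [Group M] [MulDistribMulAction H M] {K T A : Subgroup H}
  {W : Type w} [CommGroup W] [MulDistribMulAction H W] {p : W →* M}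

theorem exists_ker (hW : WPart K T p) {g : H} {w₀ : W} (hg : g • p w₀ = p w₀) :
    ∃ y : W, g • w₀ = w₀ * y ∧ ∀ k ∈ K, k • y = y := by
  refine ⟨w₀⁻¹ * g • w₀, by rw [mul_inv_cancel_left], ?_⟩
  refine (hW.ker _).1 ?_
  rw [map_mul, map_inv, hW.eqv, hg, inv_mul_cancel]

/-- elements of order 3 fixing `p w₀` fix `w₀` -/
theorem cube_fix (hW : WPart K T p) {q : H} (hq : q ∈ K) (hq3 : q * q * q = 1) {w₀ : W} (hqm : q • p w₀ = p w₀) :
    q • w₀ = w₀ := by
  obtain ⟨y, hy, hyK⟩ := exists_ker hW hqm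
  have h1 : q • q • w₀ = w₀ := by
    rw [hy, smul_mul', hy, hyK q hq, mul_assoc, hW.sq, mul_one]
  have h2 : (q * q * q) • w₀ = q • w₀ := by
    rw [mul_smul, mul_smul, ← mul_smul q q (q • w₀), mul_smul, ← h1]
    rw [h1, h1]
  rw [hq3, one_smul] at h2
  exact h2.symm

/-- four-groups normalised by elements of order 3 fix `w₀` -/
theorem four_fix (hW : WPart K T p) {q z z' : H} (hq : q ∈ K) (hz' : z' ∈ K) (hq3 : q * q * q = 1)
    {w₀ : W} (hqm : q • p w₀ = p w₀) (hzm : z • p w₀ = p w₀) (h1 : q * z * q⁻¹ = z') (h2 : q * z' * q⁻¹ = z' * z) :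
    z • w₀ = w₀ ∧ z' • w₀ = w₀ := by
  have hqw := cube_fix hW hq hq3 hqm
  have hqw' : q⁻¹ • w₀ = w₀ := by rw [inv_smul_eq_iff, hqw]
  obtain ⟨y, hy, hyK⟩ := exists_ker hW hzm
  have e1 : z' • w₀ = w₀ * y := by
    rw [← h1, mul_smul, mul_smul, hqw', hy, smul_mul', hqw, hyK q hq]
  have e2 : (z' * z) • w₀ = w₀ * y := by
    rw [← h2, mul_smul, mul_smul, hqw', e1, smul_mul', hqw, hyK q hq]
  have e3 : (z' * z) • w₀ = w₀ := by
    rw [mul_smul, hy, smul_mul', e1, hyK z' hz', mul_assoc, hW.sq, mul_one]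
  have e4 : y = 1 := by
    rw [e3] at e2
    exact (mul_eq_left.1 e2.symm)
  rw [hy, e1, e4, mul_one]
  exact ⟨rfl, rfl⟩

/-- elements inverting an element `c` of order 3 whose trace kills `p w₀` fix `w₀` -/
theorem inv_fix (hW : WPart K T p) {c t : H} (hcK : c ∈ K) (ht : t ∈ K) (hc : c * c * c = 1)
    (htc : t * c * t⁻¹ = c⁻¹) {w₀ : W} (htr : p w₀ * c • p w₀ * (c * c) • p w₀ = 1) (htm : t • p w₀ = p w₀) :
    t • w₀ = w₀ := by
  have hci : c⁻¹ = c * c := inv_eq_of_mul_eq_one_left hc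
  have hcc : c⁻¹ * c⁻¹ = c := by
    rw [← mul_inv_rev, ← hci, inv_inv]
  obtain ⟨y, hy⟩ : ∃ y : W, w₀ * c • w₀ * (c * c) • w₀ = y := ⟨_, rfl⟩
  have hyK : ∀ k ∈ K, k • y = y := by
    refine (hW.ker _).1 ?_
    rw [← hy, map_mul, map_mul, hW.eqv, hW.eqv]
    exact htr
  have hccK : c * c ∈ K := K.mul_mem hcK hcK
  obtain ⟨w', hw'⟩ : ∃ w' : W, w' = w₀ * y := ⟨_, rfl⟩
  have htr' : w' * c • w' * (c * c) • w' = 1 := by
    rw [hw', smul_mul', smul_mul', hyK c hcK, hyK _ hccK]
    calc w₀ * y * (c • w₀ * y) * ((c * c) • w₀ * y) = (w₀ * c • w₀ * (c * c) • w₀) * (y * y) * y := by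
          simp only [mul_assoc, mul_left_comm, mul_comm]
      _ = 1 := by rw [hy, hW.sq, mul_one, hW.sq]
  have hpw : t • p w' = p w' := by
    have h1 : p y = 1 := (hW.ker y).2 hyK
    rw [hw', map_mul, h1, mul_one, htm]
  obtain ⟨k, hk, hkK⟩ := exists_ker hW hpw
  have e1 : c * t = t * c⁻¹ := by
    have h1 : t * c⁻¹ * t⁻¹ = c := by
      calc t * c⁻¹ * t⁻¹ = (t * c * t⁻¹)⁻¹ := by group
        _ = c := by rw [htc, inv_inv]
    calc c * t = (t * c⁻¹ * t⁻¹) * t := by rw [h1]
      _ = t * c⁻¹ := by group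
  have e2 : c * c * t = t * c := by
    rw [mul_assoc, e1, ← mul_assoc, e1, mul_assoc, hcc]
  have e3 : t • w' * c • (t • w') * (c * c) • (t • w') = 1 := by
    rw [← mul_smul, ← mul_smul, e1, e2, mul_smul, mul_smul, ← smul_mul', ← smul_mul', hci]
    have : w' * (c * c) • w' * c • w' = 1 := by
      rw [mul_right_comm]
      exact htr'
    rw [this, smul_one]
  have e4 : k = 1 := by
    rw [hk, smul_mul', smul_mul', hkK c hcK, hkK _ hccK] at e3
    calc k = (w' * c • w' * (c * c) • w') * (k * k) * k := by rw [htr', hW.sq, one_mul, one_mul]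
      _ = w' * k * (c • w' * k) * ((c * c) • w' * k) := by
          simp only [mul_assoc, mul_left_comm, mul_comm]
      _ = 1 := e3
  rw [e4, mul_one] at hk
  have e5 : w₀ = w' * y := by rw [hw', mul_assoc, hW.sq, mul_one]
  rw [e5, smul_mul', hk, hyK t ht]

/-- permutations -/
def g1' : Perm (Fin 6) := swap 1 4 * swap 4 5
/-- permutations -/
def g2' : Perm (Fin 6) := swap 0 1 * swap 1 4 * (swap 2 5 * swap 5 3)

theorem g_facts : Perm.sign g1' = 1 ∧ Perm.sign g2' = 1 ∧ g1' * g1' * g1' = 1 ∧ g2' * g2' * g2' = 1 ∧ g1' ≠ 1 ∧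
    g2' ≠ 1 ∧ s45 * g1' * s45⁻¹ = g1'⁻¹ ∧ s45 * z0 * g2' * (s45 * z0)⁻¹ = g2'⁻¹ ∧ b0 * g1' * b0⁻¹ = g1'⁻¹ ∧
    a0 * g2' * a0⁻¹ = g2'⁻¹ := by
  decide +kernel

/-- an element of order three inverted by `s45` and `b0` -/
def G1 : A6 := ⟨g1', Equiv.Perm.mem_alternatingGroup.2 g_facts.1⟩
/-- an element of order three inverted by `s45 z0` and `a0` -/
def G2 : A6 := ⟨g2', Equiv.Perm.mem_alternatingGroup.2 g_facts.2.1⟩

theorem G1_cube : G1 * G1 * G1 = 1 := Subtype.ext g_facts.2.2.1
theorem G2_cube : G2 * G2 * G2 = 1 := Subtype.ext g_facts.2.2.2.1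
theorem G1_ne : G1 ≠ 1 := fun h => g_facts.2.2.2.2.1 (congrArg Subtype.val h)
theorem G2_ne : G2 ≠ 1 := fun h => g_facts.2.2.2.2.2.1 (congrArg Subtype.val h)
theorem G1_s : s45 * (G1 : Perm (Fin 6)) * s45⁻¹ = ((G1⁻¹ : A6) : Perm (Fin 6)) := g_facts.2.2.2.2.2.2.1
theorem G2_s : s45 * z0 * (G2 : Perm (Fin 6)) * (s45 * z0)⁻¹ = ((G2⁻¹ : A6) : Perm (Fin 6)) :=
  g_facts.2.2.2.2.2.2.2.1
theorem G1_b : B0 * G1 * B0⁻¹ = G1⁻¹ := Subtype.ext g_facts.2.2.2.2.2.2.2.2.1
theorem G2_a : A0 * G2 * A0⁻¹ = G2⁻¹ := Subtype.ext g_facts.2.2.2.2.2.2.2.2.2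
theorem C0_s : s45 * (C0 : Perm (Fin 6)) * s45⁻¹ = (C0 : Perm (Fin 6)) := fix_f.1
theorem D0_s : s45 * z0 * (D0 : Perm (Fin 6)) * (s45 * z0)⁻¹ = (D0 : Perm (Fin 6)) := fix_f.2.1

theorem cj_map {X : Type u} [Group X] {S : Subgroup X} [S.Normal] {e : S ≃* A6} {g : X} {σ : Perm (Fin 6)}
    (hσ : Cj S e g σ) {x y : A6} (h : σ * (x : Perm (Fin 6)) * σ⁻¹ = (y : Perm (Fin 6))) :
    g * io S e x = io S e y * g := by
  have h1 : act S e g x = y := Subtype.ext ((hσ x).trans h)
  have h2 := act_io e g x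
  rw [h1] at h2
  exact mul_inv_eq_iff_eq_mul.1 h2

theorem io_conj {X : Type u} [Group X] {S : Subgroup X} {e : S ≃* A6} {x y z : A6} (h : x * y * x⁻¹ = z) :
    io S e x * io S e y * (io S e x)⁻¹ = io S e z := by
  rw [← h, map_mul, map_mul, map_inv]

theorem io_cube {X : Type u} [Group X] {S : Subgroup X} {e : S ≃* A6} {x : A6} (h : x * x * x = 1) :
    io S e x * io S e x * io S e x = 1 := by
  rw [← map_mul, ← map_mul, h, map_one]

/-- the end of the argument -/
theorem fin_W [Finite H] [Finite M] [Finite W] (h : InX H M K T A) [hn : K.Normal] (hW : WPart K T p) {e : K ≃* A6}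
    {a b : H} (hs : Str K T A e a b) {m₀ : M} (hm₀ : m₀ ≠ 1) (hall : ∀ w₀ : W, p w₀ = m₀ →
      io K e Z0 • w₀ = w₀ ∧ io K e A0 • w₀ = w₀ ∧ io K e B0 • w₀ = w₀) : False := by
  have hodd : ¬ 2 ∣ (T ⊓ K).relIndex K := by
    rw [Subgroup.inf_relIndex_right]
    exact Cfsg.Agent.Lib.SylowNormalInf.not_dvd_relIndex (h.two.toSylow h.syl) K
  obtain ⟨w₀, rfl⟩ := hW.surj m₀
  obtain ⟨hz, ha, hb⟩ := hall w₀ rfl
  obtain ⟨s, hs', hsw⟩ := hW.moved h.two hn hodd hm₀
  apply hsw
  obtain ⟨x, rfl⟩ := io_surj e hs'.2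
  have hf : F0 = A0 * B0 * Z0 := Subtype.ext comm_facts.2.2.2.2.2.2.1
  have key : ∀ y : A6, y ∈ Subgroup.comap (io K e) (MulAction.stabilizer H w₀) ↔ io K e y • w₀ = w₀ := fun y =>
    MulAction.mem_stabilizer_iff
  rw [← key] at hz ha hb ⊢
  have hF : F0 ∈ Subgroup.comap (io K e) (MulAction.stabilizer H w₀) := by
    rw [hf]; exact mul_mem (mul_mem ha hb) hz
  rcases cases_cent ((hs.io_mem x).2 hs'.1) with c | c | c | c | c | c | c | c <;> rw [c]
  · exact one_mem _
  · exact hz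
  · exact ha
  · exact mul_mem ha hz
  · exact hb
  · exact mul_mem hb hz
  · exact hF
  · exact mul_mem hF hz

/-- **The row `A₆` with the W-part.** -/
theorem alt6_W [Finite H] [Finite M] [Finite W] (h : InX H M K T A) (hW : WPart K T p)
    (hK : Nonempty (K ≃* alternatingGroup (Fin 6))) : False := by
  have hn := h.norm
  obtain ⟨e, a, b, hs⟩ := struct h.asx hK.some (by have := h.four; omega)
  have hioK : ∀ y : A6, io K e y ∈ K := fun y => io_mem e y
  have hT1 : ∀ y : A6, y * Z0 = Z0 * y → io K e y ∈ T := fun y hy => (hs.io_mem y).1 hy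
  have one1 : ∀ y : A6, io K e y = 1 → y = 1 := fun y hy => io_inj e (by rw [hy, map_one])
  rcases tie h hs with hlt | hlt
  · have ha1 : a ≠ 1 := by
      rintro rfl
      have h1 := hs.ca D0
      rw [map_one, MulAut.one_apply] at h1
      exact (by decide +kernel : ¬ (d0 = s45 * d0 * s45⁻¹)) h1
    obtain ⟨m₀, hm₀, hm, hex⟩ := exists_cen h (index_two h ha1 hlt)
    refine fin_W h hW hs hm₀ fun w₀ hw₀ => ?_
    subst hw₀
    have hq : io K e C0 • p w₀ = p w₀ := fix_cen hm hex (cj_map hs.ca C0_s).symm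
    have hZ : io K e Z0 • p w₀ = p w₀ := fix_cen hm hex (hs.Ta _ (hT1 _ rfl))
    have hB : io K e B0 • p w₀ = p w₀ := fix_cen hm hex (hs.Ta _ (hT1 _ B0_Z0))
    have e1 : C0 * Z0 * C0⁻¹ = A0 := Subtype.ext conjV_c0.1
    have e2 : C0 * A0 * C0⁻¹ = A0 * Z0 := Subtype.ext conjV_c0.2
    have e1' := io_conj (S := K) (e := e) e1
    have e2' := io_conj (S := K) (e := e) e2
    rw [map_mul (io K e) A0 Z0] at e2'
    have h1 := four_fix hW (hioK C0) (hioK A0) (io_cube C0_cube) hq hZ e1' e2'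
    refine ⟨h1.1, h1.2, ?_⟩
    have hac : a * io K e G1 = (io K e G1)⁻¹ * a := by
      rw [← map_inv]
      exact cj_map hs.ca G1_s
    have htc : io K e B0 * io K e G1 * (io K e B0)⁻¹ = (io K e G1)⁻¹ := by
      rw [← map_inv (io K e) G1]
      exact io_conj G1_b
    exact inv_fix hW (hioK G1) (hioK B0) (io_cube G1_cube) htc
      (tr_one h (h.el a hs.aA) (io_cube G1_cube) (fun h2 => G1_ne (one1 _ h2)) hac hm hex) hB
  · have hb1 : b ≠ 1 := by
      rintro rfl
      have h1 := hs.cb C0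
      rw [map_one, MulAut.one_apply] at h1
      exact (by decide +kernel : ¬ (c0 = s45 * z0 * c0 * (s45 * z0)⁻¹)) h1
    obtain ⟨m₀, hm₀, hm, hex⟩ := exists_cen h (index_two h hb1 hlt)
    refine fin_W h hW hs hm₀ fun w₀ hw₀ => ?_
    subst hw₀
    have hq : io K e D0 • p w₀ = p w₀ := fix_cen hm hex (cj_map hs.cb D0_s).symm
    have hB : io K e B0 • p w₀ = p w₀ := fix_cen hm hex (hs.Tb _ (hT1 _ B0_Z0))
    have hA : io K e A0 • p w₀ = p w₀ := fix_cen hm hex (hs.Tb _ (hT1 _ A0_Z0))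
    have e1 : D0 * Z0 * D0⁻¹ = Z0 * B0 := by rw [← B0_Z0]; exact Subtype.ext conjV_d0.1
    have e2 : D0 * B0 * D0⁻¹ = Z0 := Subtype.ext conjV_d0.2
    have e1' := io_conj (S := K) (e := e) e1
    have e2' := io_conj (S := K) (e := e) e2
    rw [map_mul (io K e) Z0 B0] at e1'
    have h1 := four_fix hW (hioK D0) (hioK Z0) (io_cube D0_cube) hq hB e2' e1'
    refine ⟨h1.2, ?_, h1.1⟩
    have hac : b * io K e G2 = (io K e G2)⁻¹ * b := by
      rw [← map_inv]
      exact cj_map hs.cb G2_s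
    have htc : io K e A0 * io K e G2 * (io K e A0)⁻¹ = (io K e G2)⁻¹ := by
      rw [← map_inv (io K e) G2]
      exact io_conj G2_a
    exact inv_fix hW (hioK G2) (hioK A0) (io_cube G2_cube) htc
      (tr_one h (h.el b hs.bA) (io_cube G2_cube) (fun h2 => G2_ne (one1 _ h2)) hac hm hex) hA

end wpart

end Cfsg.Agent.Omega.ML.Ex.RowASix

end

section


/-!
# An extraspecial group `3^{1+2}` on a 2-group of exponent 2: `|M : C_M(Z)| ≥ 64` (helper919)
-/

set_option autoImplicit false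

namespace Cfsg.Agent.Omega.ML.Ex.HeisThree

section add

variable {V : Type*} [AddCommGroup V]

/-- `v + S v + S² v` -/
def nm (S : V →+ V) : V →+ V := AddMonoidHom.id V + S + S.comp S

theorem nm_apply (S : V →+ V) (v : V) : nm S v = v + S v + S (S v) := rfl

/-- an eigenspace in `[V, S]` -/
def eg (S A : V →+ V) : AddSubgroup V := (nm S).ker ⊓ (A - AddMonoidHom.id V).ker

theorem mem_eg {S A : V →+ V} {v : V} : v ∈ eg S A ↔ v + S v + S (S v) = 0 ∧ A v = v := by
  rw [eg, AddSubgroup.mem_inf, AddMonoidHom.mem_ker, AddMonoidHom.mem_ker, nm_apply, AddMonoidHom.sub_apply,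
    AddMonoidHom.id_apply, sub_eq_zero]

theorem four_le [Finite V] (h2 : ∀ v : V, v + v = 0) {S A : V →+ V} (hS : ∀ v, S (S (S v)) = v)
    (hSA : ∀ v, S (A v) = A (S v)) {v : V} (hv : v ∈ eg S A) (h0 : v ≠ 0) : 4 ≤ Nat.card (eg S A) := by
  obtain ⟨h3, h4⟩ := mem_eg.1 hv
  have hSi : Function.Injective S := by
    intro a b hab
    rw [← hS a, ← hS b, hab]
  have h5 : S v ≠ v := by
    intro h
    rw [h, h, h2, zero_add] at h3
    exact h0 h3
  have h6 : S (S v) ≠ v := by
    intro h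
    have h7 := congrArg S h
    rw [hS] at h7
    exact h5 h7.symm
  have h7 : S (S v) ≠ S v := fun h => h5 (hSi h)
  have hm1 : S v ∈ eg S A := by
    refine mem_eg.2 ⟨?_, by rw [← hSA, h4]⟩
    rw [← map_add, ← map_add, h3, map_zero]
  have hm2 : S (S v) ∈ eg S A := by
    obtain ⟨h8, h9⟩ := mem_eg.1 hm1
    refine mem_eg.2 ⟨?_, by rw [← hSA, h9]⟩
    rw [← map_add, ← map_add, h8, map_zero]
  have h8 : S v ≠ 0 := fun h => h0 (hSi (h.trans (map_zero S).symm))
  have h9 : S (S v) ≠ 0 := fun h => h8 (hSi (h.trans (map_zero S).symm))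
  let f : Fin 4 → eg S A := ![⟨0, zero_mem _⟩, ⟨v, hv⟩, ⟨S v, hm1⟩, ⟨S (S v), hm2⟩]
  have hf : Function.Injective f := by
    intro a b hab
    have hab' : ((f a : eg S A) : V) = f b := congrArg Subtype.val hab
    fin_cases a <;> fin_cases b <;> first
      | rfl
      | exact absurd hab' (Ne.symm h0)
      | exact absurd hab' h0
      | exact absurd hab' (Ne.symm h8)
      | exact absurd hab' h8
      | exact absurd hab' (Ne.symm h9)
      | exact absurd hab' h9
      | exact absurd hab' h5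
      | exact absurd hab' (Ne.symm h5)
      | exact absurd hab' h6
      | exact absurd hab' (Ne.symm h6)
      | exact absurd hab' h7
      | exact absurd hab' (Ne.symm h7)
  have h10 := Nat.card_le_card_of_injective f hf
  rwa [Nat.card_fin] at h10

theorem heis_add [Finite V] (h2 : ∀ v : V, v + v = 0) {A B S : V →+ V} (hA : ∀ v, A (A (A v)) = v)
    (hS : ∀ v, S (S (S v)) = v) (hSA : ∀ v, S (A v) = A (S v)) (hSB : ∀ v, S (B v) = B (S v))
    (hBA : ∀ v, B (A v) = A (B (S v))) (hBi : Function.Injective B) (hne : ∃ v, S v ≠ v)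
    (C : AddSubgroup V) (hC : ∀ v ∈ C, S v = v) : 64 ≤ C.index := by
  have hSi : Function.Injective S := by
    intro a b hab
    rw [← hS a, ← hS b, hab]
  have heq : ∀ a b : V, a + b = 0 → a = b := by
    intro a b h
    have hn : -b = b := neg_eq_of_add_eq_zero_left (h2 b)
    rw [← hn]
    exact eq_neg_of_add_eq_zero_left h
  let A1 : V →+ V := A.comp S
  let A2 : V →+ V := A.comp (S.comp S)
  have e1 : ∀ v, A1 v = A (S v) := fun v => rfl
  have e2 : ∀ v, A2 v = A (S (S v)) := fun v => rfl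
  have hSA1 : ∀ v, S (A1 v) = A1 (S v) := fun v => by rw [e1, e1, hSA]
  have hSA2 : ∀ v, S (A2 v) = A2 (S v) := fun v => by rw [e2, e2, hSA]
  -- `B` permutes the eigenspaces
  have hBN : ∀ v, v + S v + S (S v) = 0 → B v + S (B v) + S (S (B v)) = 0 := by
    intro v hv
    rw [hSB, hSB, ← map_add, ← map_add, hv, map_zero]
  have m0 : ∀ v ∈ eg S A, B v ∈ eg S A1 := by
    intro v hv
    obtain ⟨h3, h4⟩ := mem_eg.1 hv
    refine mem_eg.2 ⟨hBN v h3, ?_⟩
    rw [e1, hSB, ← hBA, h4]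
  have m1 : ∀ v ∈ eg S A1, B v ∈ eg S A2 := by
    intro v hv
    obtain ⟨h3, h4⟩ := mem_eg.1 hv
    refine mem_eg.2 ⟨hBN v h3, ?_⟩
    rw [e2, hSB, hSB, ← hBA]
    exact congrArg B h4
  have m2 : ∀ v ∈ eg S A2, B v ∈ eg S A := by
    intro v hv
    obtain ⟨h3, h4⟩ := mem_eg.1 hv
    refine mem_eg.2 ⟨hBN v h3, ?_⟩
    have h5 : A (B v) = B (A (S (S v))) := by rw [hBA, hS]
    rw [h5]
    exact congrArg B h4
  have card_le : ∀ {E E' : AddSubgroup V}, (∀ v ∈ E, B v ∈ E') → Nat.card E ≤ Nat.card E' := by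
    intro E E' h
    refine Nat.card_le_card_of_injective (fun v : E => (⟨B v, h v v.2⟩ : E')) ?_
    intro a b hab
    exact Subtype.ext (hBi (congrArg Subtype.val hab))
  have c0 := card_le m0
  have c1 := card_le m1
  have c2 := card_le m2
  -- the projections
  have pr : ∀ {D : V →+ V}, (∀ v, D (D (D v)) = v) → (∀ v, S (D v) = D (S v)) → ∀ v, v + S v + S (S v) = 0 →
      v + D v + D (D v) ∈ eg S D := by
    intro D hD hSD v hv
    refine mem_eg.2 ⟨?_, ?_⟩
    · have h3 : v + D v + D (D v) + S (v + D v + D (D v)) + S (S (v + D v + D (D v))) =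
          (v + S v + S (S v)) + D (v + S v + S (S v)) + D (D (v + S v + S (S v))) := by
        simp only [map_add, hSD]
        abel
      rw [h3, hv, map_zero, map_zero, add_zero, add_zero]
    · rw [map_add, map_add, hD]
      abel
  have hA1 : ∀ v, A1 (A1 (A1 v)) = v := by
    intro v
    simp only [e1, hSA, hS, hA]
  have hA2 : ∀ v, A2 (A2 (A2 v)) = v := by
    intro v
    simp only [e2, hSA, hS, hA]
  have hbig : 4 ≤ Nat.card (eg S A) ∨ 4 ≤ Nat.card (eg S A1) ∨ 4 ≤ Nat.card (eg S A2) := by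
    obtain ⟨y, hy⟩ := hne
    set v := y + S y with hv
    have hv0 : v ≠ 0 := fun h => hy (heq _ _ h).symm
    have hvn : v + S v + S (S v) = 0 := by
      rw [hv, map_add, map_add, hS]
      have : y + S y + (S y + S (S y)) + (S (S y) + y) = (y + y) + (S y + S y) + (S (S y) + S (S y)) := by abel
      simp only [this, h2]
    by_cases k0 : v + A v + A (A v) = 0
    · by_cases k1 : v + A1 v + A1 (A1 v) = 0
      · by_cases k2 : v + A2 v + A2 (A2 v) = 0
        · exfalso
          have h3 : (v + A v + A (A v)) + (v + A1 v + A1 (A1 v)) + (v + A2 v + A2 (A2 v)) =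
              v + (v + v) + A (v + S v + S (S v)) + A (A (v + S v + S (S v))) := by
            simp only [e1, e2, hSA, hS, map_add]
            abel
          rw [k0, k1, k2, hvn, map_zero, map_zero] at h3
          simp only [h2, add_zero] at h3
          exact hv0 h3.symm
        · exact Or.inr (Or.inr (four_le h2 hS hSA2 (pr hA2 hSA2 v hvn) k2))
      · exact Or.inr (Or.inl (four_le h2 hS hSA1 (pr hA1 hSA1 v hvn) k1))
    · exact Or.inl (four_le h2 hS hSA (pr hA hSA v hvn) k0)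
  have b0 : 4 ≤ Nat.card (eg S A) := by omega
  have b1 : 4 ≤ Nat.card (eg S A1) := by omega
  have b2 : 4 ≤ Nat.card (eg S A2) := by omega
  let f : eg S A × eg S A1 × eg S A2 → V ⧸ C := fun z => ((z.1 : V) + (z.2.1 : V) + (z.2.2 : V) : V)
  have hf : Function.Injective f := by
    rintro ⟨⟨a, ha⟩, ⟨b, hb⟩, ⟨c, hc⟩⟩ ⟨⟨a', ha'⟩, ⟨b', hb'⟩, ⟨c', hc'⟩⟩ h
    have h3 : -(a + b + c) + (a' + b' + c') ∈ C := QuotientAddGroup.eq.1 h
    have ha'' := sub_mem ha' ha
    have hb'' := sub_mem hb' hb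
    have hc'' := sub_mem hc' hc
    have h4 : (a' - a) + (b' - b) + (c' - c) ∈ C := by
      have : (a' - a) + (b' - b) + (c' - c) = -(a + b + c) + (a' + b' + c') := by abel
      rw [this]; exact h3
    suffices hk : ∀ x ∈ eg S A, ∀ y ∈ eg S A1, ∀ z ∈ eg S A2, x + y + z ∈ C → x = 0 ∧ y = 0 ∧ z = 0 by
      obtain ⟨h5, h6, h7⟩ := hk _ ha'' _ hb'' _ hc'' h4
      rw [sub_eq_zero] at h5 h6 h7
      subst h5 h6 h7
      rfl
    intro x hx y hy z hz hxyz
    obtain ⟨x1, x2⟩ := mem_eg.1 hx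
    obtain ⟨y1, y2⟩ := mem_eg.1 hy
    obtain ⟨z1, z2⟩ := mem_eg.1 hz
    rw [e1] at y2
    rw [e2] at z2
    have h5 := hC _ hxyz
    have h6 : x + y + z = 0 := by
      have h7 : (x + y + z) + S (x + y + z) + S (S (x + y + z)) = 0 := by
        have : (x + y + z) + S (x + y + z) + S (S (x + y + z)) =
            (x + S x + S (S x)) + (y + S y + S (S y)) + (z + S z + S (S z)) := by
          simp only [map_add]; abel
        rw [this, x1, y1, z1, add_zero, add_zero]
      rw [h5, h5, h2, zero_add] at h7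
      exact h7
    have ay : A y = S (S y) := by
      apply hSi
      rw [hS, hSA]; exact y2
    have az : A z = S z := by
      apply hSi
      apply hSi
      rw [hS, hSA, hSA]; exact z2
    have h7 : A x + A y + A z = 0 := by rw [← map_add, ← map_add, h6, map_zero]
    have h8 : A (A x) + A (A y) + A (A z) = 0 := by rw [← map_add, ← map_add, h7, map_zero]
    have aay : A (A y) = S y := by
      rw [ay, ← hSA, ← hSA, ay, hS]
    have aaz : A (A z) = S (S z) := by
      rw [az, ← hSA, az]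
    rw [x2, ay, az] at h7
    rw [x2, x2, aay, aaz] at h8
    -- sum
    have h9 : x = 0 := by
      have : (x + y + z) + (x + S (S y) + S z) + (x + S y + S (S z)) =
          x + (x + x) + (y + S y + S (S y)) + (z + S z + S (S z)) := by abel
      rw [h6, h7, h8, y1, z1] at this
      simp only [h2, add_zero] at this
      exact this.symm
    rw [h9, zero_add] at h6 h7
    have h10 : y = z := heq _ _ h6
    rw [h10] at h7
    have h11 : S (S z) = S z := heq _ _ h7
    have h12 : S z = z := hSi h11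
    rw [h12, h12, h2, zero_add] at z1
    exact ⟨h9, by rw [h10, z1], z1⟩
  have h3 := Nat.card_le_card_of_injective f hf
  rw [Nat.card_prod, Nat.card_prod] at h3
  calc 64 = 4 * (4 * 4) := rfl
    _ ≤ _ := Nat.mul_le_mul b0 (Nat.mul_le_mul b1 b2)
    _ ≤ C.index := h3

end add

section mul

variable {H : Type*} [Group H]

theorem heis {M : Type*} [CommGroup M] [Finite M] [MulDistribMulAction H M] {a b s : H} (sq : ∀ m : M, m * m = 1)
    (ha : a * a * a = 1) (hs : s * s * s = 1) (hsa : s * a = a * s) (hsb : s * b = b * s) (hba : b * a = a * b * s)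
    (hne : ∃ m : M, s • m ≠ m) (C : Subgroup M) (hC : ∀ m ∈ C, s • m = m) : 64 ≤ C.index := by
  let R : H → (Additive M →+ Additive M) := fun h => (MulDistribMulAction.toMonoidHom M h).toAdditive
  have hR : ∀ (h : H) (m : M), R h (Additive.ofMul m) = Additive.ofMul (h • m) := fun h m => rfl
  have hR' : ∀ (h : H) (v : Additive M), R h v = Additive.ofMul (h • v.toMul) := fun h v => rfl
  have hmul : ∀ (h k : H) (v : Additive M), R h (R k v) = R (h * k) v := by
    intro h k v
    rw [hR' (h * k), mul_smul]; rfl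
  have hinj : ∀ h : H, Function.Injective (R h) := by
    intro h x y hxy
    have h1 := congrArg (R h⁻¹) hxy
    rw [hmul, hmul, inv_mul_cancel, hR', hR', one_smul, one_smul] at h1
    exact h1
  have h1 := heis_add (V := Additive M) (fun v => sq v.toMul) (A := R a) (B := R b) (S := R s)
    (fun v => by rw [hmul, hmul, ha, hR', one_smul]; rfl)
    (fun v => by rw [hmul, hmul, hs, hR', one_smul]; rfl)
    (fun v => by rw [hmul, hmul, hsa]) (fun v => by rw [hmul, hmul, hsb])
    (fun v => by rw [hmul, hmul, hmul, hba]) (hinj b)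
    (by obtain ⟨m, hm⟩ := hne; exact ⟨Additive.ofMul m, hm⟩) (Subgroup.toAddSubgroup C)
    (fun v hv => hC v.toMul hv)
  exact h1

end mul

end Cfsg.Agent.Omega.ML.Ex.HeisThree

end
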