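import Cfsg.Agent.Mrg.Omega.ML.Ex.SheetCo2
import Cfsg.Agent.Mrg.Omega.ML.Ex.RkX
import Cfsg.Agent.Mrg.Omega.ML.RowTits
import Cfsg.Agent.Mrg.Omega.TwoF.TitsInv
import Cfsg.Agent.Omega.TwoF.TitsAut
import Cfsg.Agent.Omega.TwoF.RowTool
import Cfsg.Agent.TitsK.CentOdd
import Cfsg.Agent.TitsK.RankRK
import Cfsg.Agent.Mrg.Omega.ML.Ex.Known
import Cfsg.Agent.Mrg.Omega.ML.RowLTwoOdd
import Cfsg.Agent.Omega.KFactsZS
import Cfsg.Agent.S0253
import Cfsg.Agent.S0255
import Cfsg.Agent.Mrg.Omega.ML.Ex.Def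
import Cfsg.Agent.Mrg.Omega.ML.OddPsl
import Cfsg.Agent.Mrg.Omega.TwoF.RowPSp
import Cfsg.Agent.Mrg.Omega.ML.Ex.TIE
import Cfsg.Agent.Mrg.Omega.ML.Ex.DefN
import Cfsg.Agent.Mrg.Omega.Tools.OddFix
import Cfsg.Agent.Mrg.Omega.ML.RowsList
import Cfsg.Prelude.Def_Classification2
import Cfsg.Agent.Mrg.Omega.ML.Ex.RowASix
import Cfsg.Agent.Mrg.Omega.ML.Ex.Red3

section


/-!
# Exact and low configurations: the row of the Tits group (helper956)

`|A| ≤ 2^5`, both classes of involutions `x` of `K` invert elements of `5²` and satisfy `|M : C_M(x)| ≥ 2^6`.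
Neither `low` nor `nmax` nor `atom` is used.
-/

set_option autoImplicit false

namespace Cfsg.Agent.Omega.ML.Ex.RowTitsX

open Subgroup Cfsg Cfsg.Agent.ZN Cfsg.Agent.TitsK Cfsg.Agent.Omega.TwoF Cfsg.Agent.Omega.ML.Rows
open Cfsg.Agent.Omega.TwoF.Orb Cfsg.Agent.TitsK.Abs
open Cfsg.Agent.ClassTwoFusion.Quad

universe u v w

/-- the abstract core: every involution of `H` is conjugate to `u₁` or `u₂` -/
theorem exists_conj {H : Type u} [Group H] {K : Subgroup H} {G : Type v} [Group G] [Finite G] (D : TData G)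
    (three : ∀ g ∈ D.H, g ^ 3 = 1 → g * D.z * g⁻¹ = D.z → g = 1)
    (five : ∀ g ∈ D.H, g ^ 5 = 1 → g * D.d * g⁻¹ = D.d → g = 1)
    {φ : H →* G} (hφ : Function.Injective φ) (hT : ∀ t ∈ D.T, ∃ k ∈ K, φ k = t) (hK : ∀ k ∈ K, φ k ∈ D.T)
    (hH : ∀ x, φ x ∈ D.H) {u₁ u₂ : H} (hu₁ : u₁ ∈ K) (hu₂ : u₂ ∈ K) (h1 : u₁ * u₁ = 1) (h2 : u₂ * u₂ = 1)
    (h3 : u₁ ≠ 1) (h4 : u₂ ≠ 1) (h5 : ∃ g ∈ K, g ^ 5 = 1 ∧ g ≠ 1 ∧ g * u₁ = u₁ * g)
    (h6 : ∃ g ∈ K, g ^ 3 = 1 ∧ g ≠ 1 ∧ g * u₂ = u₂ * g) {x : H} (hx : x * x = 1) (hx1 : x ≠ 1) :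
    ∃ g : H, x = g * u₁ * g⁻¹ ∨ x = g * u₂ * g⁻¹ := by
  have hone : ∀ {y : H}, y ≠ 1 → φ y ≠ 1 := fun {y} hy h => hy (hφ (h.trans (map_one φ).symm))
  -- `φ x ∈ T`
  have hxT : φ x ∈ D.T := by
    have hp : IsPGroup 2 ↥(zpowers (φ x)) := by
      have h7 : (φ x) ^ 2 = 1 := by rw [pow_two, ← map_mul, hx, map_one]
      have : Fact (Nat.Prime 2) := ⟨Nat.prime_two⟩
      have ho : orderOf (φ x) = 2 := orderOf_eq_prime h7 (hone hx1)
      exact IsPGroup.of_card (n := 1) (by rw [Nat.card_zpowers, ho, pow_one])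
    obtain ⟨g, hg, h⟩ := exists_conj_sub D.U_le D.isPGroup_U D.odd_U
      (zpowers_le.2 (hH x) : zpowers (φ x) ≤ D.H) hp
    have h7 := h (φ x) (mem_zpowers _)
    have h8 : g * φ x * g⁻¹ * (g * φ x * g⁻¹) = 1 := by
      have e : g * φ x * g⁻¹ * (g * φ x * g⁻¹) = g * (φ x * φ x) * g⁻¹ := by group
      rw [e, ← map_mul, hx, map_one]
      group
    have h9 := D.no_outer _ h7 h8
    have h10 := D.T_conj g⁻¹ (inv_mem hg) _ h9
    have e : g⁻¹ * (g * φ x * g⁻¹) * g⁻¹⁻¹ = φ x := by group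
    rwa [e] at h10
  have hsq : ∀ {y : H}, y * y = 1 → φ y * φ y = 1 := fun {y} hy => by rw [← map_mul, hy, map_one]
  -- `u₁ ~ z`
  have hz : ∃ t ∈ D.T, t * φ u₁ * t⁻¹ = D.z := by
    rcases D.invol_cases (hK _ hu₁) (hsq h1) (hone h3) with h | ⟨t, ht, h⟩
    · exact h
    · exfalso
      obtain ⟨g, -, hg5, hg1, hgu⟩ := h5
      have h7 := five (t * φ g * t⁻¹) (D.H.mul_mem (D.H.mul_mem (D.T_le ht) (hH g)) (D.H.inv_mem (D.T_le ht)))
        (by rw [conj_pow, ← map_pow, hg5, map_one]; group) (by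
          rw [← h]
          have e1 : φ g * φ u₁ = φ u₁ * φ g := by rw [← map_mul, hgu, map_mul]
          calc t * φ g * t⁻¹ * (t * φ u₁ * t⁻¹) * (t * φ g * t⁻¹)⁻¹ = t * (φ g * φ u₁) * (φ g)⁻¹ * t⁻¹ := by group
            _ = t * φ u₁ * t⁻¹ := by rw [e1]; group)
      apply hone hg1
      have e : φ g = t⁻¹ * (t * φ g * t⁻¹) * t := by group
      rw [e, h7]
      group
  -- `u₂ ~ d`
  have hd : ∃ t ∈ D.T, t * φ u₂ * t⁻¹ = D.d := by
    rcases D.invol_cases (hK _ hu₂) (hsq h2) (hone h4) with ⟨t, ht, h⟩ | h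
    · exfalso
      obtain ⟨g, -, hg5, hg1, hgu⟩ := h6
      have h7 := three (t * φ g * t⁻¹) (D.H.mul_mem (D.H.mul_mem (D.T_le ht) (hH g)) (D.H.inv_mem (D.T_le ht)))
        (by rw [conj_pow, ← map_pow, hg5, map_one]; group) (by
          rw [← h]
          have e1 : φ g * φ u₂ = φ u₂ * φ g := by rw [← map_mul, hgu, map_mul]
          calc t * φ g * t⁻¹ * (t * φ u₂ * t⁻¹) * (t * φ g * t⁻¹)⁻¹ = t * (φ g * φ u₂) * (φ g)⁻¹ * t⁻¹ := by group
            _ = t * φ u₂ * t⁻¹ := by rw [e1]; group)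
      apply hone hg1
      have e : φ g = t⁻¹ * (t * φ g * t⁻¹) * t := by group
      rw [e, h7]
      group
    · exact h
  have key : ∀ {u : H} {y : G}, (∃ t ∈ D.T, t * φ u * t⁻¹ = y) → (∃ t ∈ D.T, t * φ x * t⁻¹ = y) →
      ∃ g : H, x = g * u * g⁻¹ := by
    rintro u y ⟨t, ht, h7⟩ ⟨s, hs, h8⟩
    obtain ⟨k, -, hk⟩ := hT _ (D.T.mul_mem (D.T.inv_mem hs) ht)
    refine ⟨k, hφ ?_⟩
    rw [map_mul, map_mul, map_inv, hk]
    have e : φ x = s⁻¹ * (s * φ x * s⁻¹) * s := by group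
    rw [e, h8, ← h7]
    group
  rcases D.invol_cases hxT (hsq hx) (hone hx1) with h | h
  · obtain ⟨g, hg⟩ := key hz h
    exact ⟨g, Or.inl hg⟩
  · obtain ⟨g, hg⟩ := key hd h
    exact ⟨g, Or.inr hg⟩

/-- **The row of the Tits group.** -/
theorem deadX : DeadX.{u, v} @Lie.IsoTits := by
  intro H _ _ M _ _ _ K T A h hS
  have hn := h.norm
  have hsim := h.simple
  have hA : Nat.card A ≤ 2 ^ 5 := h.asx.card_le_of_rk (RowTool.toRK (TitsAut.center_iso hS) (rk_five hS))
  -- the two involutions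
  obtain ⟨u₁, u₂, h1, h2, h3, h4, ⟨g₅, h5, h6, h7⟩, ⟨g₃, h8, h9, h10⟩, hB⟩ := TitsInv.invB.{u, v} hS
  -- the action
  let _ : CommGroup M := { ‹Group M› with mul_comm := h.comm }
  let φ : K →* MulAut M := (MulDistribMulAction.toMulAut H M).comp K.subtype
  have hφ : φ ≠ 1 := by
    intro hc
    obtain ⟨x, hx⟩ := exists_ne (1 : K)
    refine hx (Subtype.ext (h.faith x fun m => ?_))
    exact congrArg (fun e : MulAut M => e m) (DFunLike.congr_fun hc x)
  obtain ⟨hb1, hb2⟩ := hB M φ (fun m => by rw [pow_two]; exact h.sq m) hφ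
  have hfx : ∀ x : K, fx φ (zpowers x) = cv M ({(x : H)} : Set H) := by
    intro x
    ext m
    rw [mem_fx, mem_cv_singleton]
    constructor
    · intro hm
      exact hm x (mem_zpowers x)
    · intro hm
      have hz : zpowers (x : H) ≤ MulAction.stabilizer H m := by
        rw [zpowers_le]
        exact MulAction.mem_stabilizer_iff.2 hm
      rintro _ ⟨n, rfl⟩
      show ((x ^ n : K) : H) • m = m
      have h11 : ((x ^ n : K) : H) ∈ zpowers (x : H) := ⟨n, rfl⟩
      exact MulAction.mem_stabilizer_iff.1 (hz h11)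
  rw [hfx] at hb1 hb2
  -- an involution of `A`
  obtain ⟨x, hxA, hx1⟩ : ∃ x ∈ A, x ≠ 1 := by
    by_contra hc
    push Not at hc
    exact h.A_ne_bot ((eq_bot_iff_forall _).2 hc)
  -- the embedding
  obtain ⟨e⟩ := hS
  obtain ⟨e'⟩ := TitsK.exists_equiv
  have e₀ : ↥K ≃* ↥(tdata.T) := e.trans e'
  obtain ⟨ψ, hψ1, hψ2, hψ3⟩ := RowTits.exists_embed tdata hn e₀ h.cen
  obtain ⟨g, hg⟩ := exists_conj (K := K) tdata (fun g hg h3 hz => three_z hg h3 hz) (fun g hg h5 hd => five_d hg h5 hd)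
    hψ1 (fun t ht => ⟨e₀.symm ⟨t, ht⟩, (e₀.symm ⟨t, ht⟩).2, by rw [hψ2, e₀.apply_symm_apply]⟩)
    (fun k hk => by rw [hψ2 ⟨k, hk⟩]; exact (e₀ ⟨k, hk⟩).2) hψ3 (u₁ := (u₁ : H)) (u₂ := (u₂ : H)) u₁.2 u₂.2
    (by rw [← coe_mul, h1, coe_one]) (by rw [← coe_mul, h2, coe_one])
    (fun hc => h3 (Subtype.ext hc)) (fun hc => h4 (Subtype.ext hc))
    ⟨g₅, g₅.2, by rw [← coe_pow, h5, coe_one], fun hc => h6 (Subtype.ext hc), by rw [← coe_mul, h7, coe_mul]⟩
    ⟨g₃, g₃.2, by rw [← coe_pow, h8, coe_one], fun hc => h9 (Subtype.ext hc), by rw [← coe_mul, h10, coe_mul]⟩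
    (h.el x hxA) hx1
  have hle : (cv M ({x} : Set H)).index ≤ 2 ^ 5 := (Gen.index_le_card h hxA).trans hA
  have hge : 2 ^ 6 ≤ (cv M ({x} : Set H)).index := by
    rcases hg with hg | hg
    · rw [hg, InvFrob.index_cv_conj]
      exact hb1
    · rw [hg, InvFrob.index_cv_conj]
      exact hb2
  omega

end Cfsg.Agent.Omega.ML.Ex.RowTitsX

end

section


/-!
# The K-list for EXACT subgroups: the row `L₂(q)`, `q` odd (helper786)

* `exists_central` : an involution `t ∈ K ∩ Z(T)`;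
* `card_le_four_of` : `q` a square: an elementary abelian subgroup of `O₂(C_X(t))` has order at most 4;
* `card_le_four` : the same for all `q ≠ 9` for elementary abelian groups containing `t`;
* `exists_mem` : in `InX H M K T A` with `K ≅ L₂(q)`: `|A| = 4`, and `A ∩ K` contains an involution;
* **`deadX`** : `DeadX` for `L₂(q)`, `q` odd, `q ≠ 9`, not of Lie type in characteristic 2.
-/

set_option autoImplicit false
set_option linter.unusedSectionVars false
set_option linter.unusedSimpArgs false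

namespace Cfsg.Agent.Omega.ML.Ex.RowLTwoX

open Subgroup Cfsg Matrix Cfsg.Agent.GH.L2Aut Cfsg.Agent.Lib.SL2Mat Cfsg.Agent.Omega.ML
  Cfsg.Agent.ClassTwoFusion.Quad
open Cfsg.Agent.MinSimple.VModule (o2_isPGroup o2_le le_o2 le_normalizer_o2)
open Cfsg.Agent.ZN (o2)

universe u v

/-- an involution of `S ∩ Z(T)` -/
theorem exists_central {X : Type*} [Group X] [Finite X] {S T A : Subgroup X} (h : ASx S T A)
    (hev : 2 ∣ Nat.card S) : ∃ t : X, t ∈ T ∧ t ∈ S ∧ (∀ x ∈ T, x * t = t * x) ∧ t * t = 1 ∧ t ≠ 1 := by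
  have hS := h.norm
  have : Fact (Nat.Prime 2) := ⟨Nat.prime_two⟩
  have hTS : (T ⊓ S : Subgroup X) ≠ ⊥ := by
    intro h0
    have h1 := SignalizersComponents.PCompCore.relIndex_dvd_index_of_normal_right T S
    rw [← inf_relIndex_right, h0, relIndex_bot_left] at h1
    exact h.syl (hev.trans h1)
  have hn : ((T ⊓ S).subgroupOf T).Normal := by
    rw [inf_subgroupOf_left]
    exact hS.subgroupOf T
  have hne : (T ⊓ S).subgroupOf T ≠ ⊥ := by
    intro h0
    apply hTS
    rw [← map_subgroupOf_eq_of_le (inf_le_left : T ⊓ S ≤ T), h0, Subgroup.map_bot]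
  obtain ⟨t', ht'⟩ : ∃ t' : X, t' ∈ T ⊓ S ∧ (∀ x ∈ T, x * t' = t' * x) ∧ t' ≠ 1 := by
    obtain ⟨v, hv1, hv2, hv3⟩ := GTwoFour.Tools.exists_mem_center_of_normal h.two _ hne
    refine ⟨v, hv1, fun x hx => ?_, fun h0 => hv3 (Subtype.ext h0)⟩
    exact congrArg Subtype.val (mem_center_iff.1 hv2 ⟨x, hx⟩)
  obtain ⟨ht1, ht2, ht3⟩ := ht'
  obtain ⟨k, hk⟩ := h.two ⟨t', ht1.1⟩
  have hk' : t' ^ 2 ^ k = 1 := congrArg Subtype.val hk
  have hord : 2 ∣ orderOf t' := by
    obtain ⟨j, -, hj⟩ := (Nat.dvd_prime_pow Nat.prime_two).1 (orderOf_dvd_of_pow_eq_one hk')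
    rcases Nat.eq_zero_or_pos j with rfl | hj0
    · rw [pow_zero, orderOf_eq_one_iff] at hj
      exact absurd hj ht3
    · rw [hj]; exact dvd_pow_self 2 hj0.ne'
  obtain ⟨m, hm⟩ := hord
  have hpos : 0 < orderOf t' := orderOf_pos t'
  refine ⟨t' ^ m, pow_mem ht1.1 m, pow_mem ht1.2 m, fun x hx => ?_, ?_, ?_⟩
  · exact (show Commute x t' from ht2 x hx).pow_right m
  · rw [← pow_add, ← two_mul, ← hm, pow_orderOf_eq_one]
  · intro h0
    have := Nat.le_of_dvd (by omega) (orderOf_dvd_of_pow_eq_one h0)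
    omega

theorem centralizer_ne_top {X : Type*} [Group X] {S : Subgroup X} (hcen : centralizer (S : Set X) = ⊥) {t : X}
    (ht1 : t ≠ 1) : centralizer ({t} : Set X) ≠ ⊤ := by
  intro h0
  apply ht1
  have h1 : t ∈ centralizer (S : Set X) := by
    rw [mem_centralizer_iff]
    intro y _
    have : y ∈ centralizer ({t} : Set X) := by rw [h0]; exact mem_top y
    exact mem_centralizer_singleton_iff.1 this
  rwa [hcen, mem_bot] at h1

/-- **`S ≅ PSL₂(F)`, `-1` a square, `r` an odd divisor of `|F| - 1`** -/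
theorem card_le_four_of {X : Type*} [Group X] [Finite X] {S A : Subgroup X} (hS : S.Normal)
    (hcen : centralizer (S : Set X) = ⊥) {F : Type*} [Field F] [Finite F] (R : GH.L2Aut.Rep F S) {i : Fˣ}
    (hi : (i : F) * i = -1) {z : Fˣ} {r : ℕ} (hr : Odd r) (hzr : z ^ r = 1) (hz : z ≠ 1) {t : X} (htS : t ∈ S)
    (htt : t * t = 1) (ht1' : t ≠ 1) (hAR : A ≤ o2 (centralizer ({t} : Set X))) (hel : ∀ a ∈ A, a * a = 1) :
    Nat.card A ≤ 4 := by
  obtain ⟨g, hg⟩ := R.inv_conj (RowLTwoOdd.pi_dg_sq R hi) (RowLTwoOdd.pi_dg_ne R hi) (t := (⟨t, htS⟩ : S))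
    (Subtype.ext htt) (fun h0 => ht1' (congrArg Subtype.val h0))
  let R' : GH.L2Aut.Rep F S := RowLTwoOdd.conjRep R g
  have hRt : R'.π (RowLTwoOdd.dg i) = (⟨t, htS⟩ : S) := by
    change g * R.π (RowLTwoOdd.dg i) * g⁻¹ = _
    exact hg
  set Q := o2 (centralizer ({t} : Set X)) with hQ
  set c : S := R'.π (RowLTwoOdd.dg z) with hc
  have hct : (c : X) * t = t * c := by
    have h1 := RowLTwoOdd.pi_dg_comm R' z i
    rw [hRt] at h1
    exact congrArg Subtype.val h1
  have hcR : (c : X) ∈ centralizer ({t} : Set X) := mem_centralizer_singleton_iff.2 hct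
  have hcr : c ^ r = 1 := by rw [hc, ← map_pow, RowLTwoOdd.dg_pow, hzr, RowLTwoOdd.dg_one, map_one]
  -- `A` centralises `c`
  have hAc : ∀ a ∈ A, a * (c : X) * a⁻¹ = c := by
    intro a ha
    have haQ : a ∈ Q := hAR ha
    have haR : a ∈ centralizer ({t} : Set X) := o2_le _ haQ
    let k : S := ⟨a * (c : X) * a⁻¹, hS.conj_mem _ c.2 a⟩
    have hkt : k * R'.π (RowLTwoOdd.dg i) = R'.π (RowLTwoOdd.dg i) * k := by
      rw [hRt]
      apply Subtype.ext
      change a * (c : X) * a⁻¹ * t = t * (a * (c : X) * a⁻¹)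
      have h1 : a * t = t * a := mem_centralizer_singleton_iff.1 haR
      have h2 : a⁻¹ * t = t * a⁻¹ := by
        rw [inv_mul_eq_iff_eq_mul, ← mul_assoc, h1, mul_inv_cancel_right]
      calc a * (c : X) * a⁻¹ * t = a * (c : X) * (a⁻¹ * t) := by group
        _ = a * ((c : X) * t) * a⁻¹ := by rw [h2]; group
        _ = a * t * (c : X) * a⁻¹ := by rw [hct]; group
        _ = t * (a * (c : X) * a⁻¹) := by rw [h1]; group
    have hkr : k ^ r = 1 := by
      apply Subtype.ext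
      change (a * (c : X) * a⁻¹) ^ r = 1
      rw [conj_pow]
      have : (c : X) ^ r = 1 := congrArg Subtype.val hcr
      rw [this, mul_one, mul_inv_cancel]
    obtain ⟨μ, hμ⟩ := RowLTwoOdd.exists_dg R' hi hkt hr hkr
    have hkc : Commute k c := by
      rw [hμ]
      exact RowLTwoOdd.pi_dg_comm R' μ z
    have h1 : (k * c⁻¹) ^ r = 1 := by
      rw [(hkc.inv_right).mul_pow, hkr, inv_pow, hcr, inv_one, one_mul]
    have h2 : ((k * c⁻¹ : S) : X) ∈ Q := by
      have h3 : ((k * c⁻¹ : S) : X) = a * ((c : X) * a⁻¹ * (c : X)⁻¹) := by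
        change a * (c : X) * a⁻¹ * (c : X)⁻¹ = _
        group
      rw [h3]
      exact mul_mem haQ ((mem_normalizer_iff.1 (le_normalizer_o2 _ hcR) _).1 (inv_mem haQ))
    obtain ⟨m, hm⟩ := o2_isPGroup (centralizer ({t} : Set X)) ⟨_, h2⟩
    have hm' : ((k * c⁻¹ : S) : X) ^ 2 ^ m = 1 := congrArg Subtype.val hm
    have h4 : ((k * c⁻¹ : S) : X) ^ r = 1 := congrArg Subtype.val h1
    have h5 : orderOf ((k * c⁻¹ : S) : X) ∣ Nat.gcd (2 ^ m) r :=
      Nat.dvd_gcd (orderOf_dvd_of_pow_eq_one hm') (orderOf_dvd_of_pow_eq_one h4)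
    have h6 : Nat.gcd (2 ^ m) r = 1 := by
      apply Nat.Coprime.pow_left
      rw [Nat.coprime_two_left]
      exact hr
    rw [h6, Nat.dvd_one, orderOf_eq_one_iff] at h5
    have h7 : a * (c : X) * a⁻¹ * (c : X)⁻¹ = 1 := h5
    rwa [mul_inv_eq_one] at h7
  -- the action on `S`
  let f : X →* MulAut S := MulAut.conjNormal
  have hfi : Function.Injective f := by
    rw [injective_iff_map_eq_one]
    intro x hx
    have h2 : x ∈ centralizer (S : Set X) := by
      rw [mem_centralizer_iff]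
      intro y hy
      have h3 := congrArg (fun φ : MulAut S => ((φ ⟨y, hy⟩ : S) : X)) hx
      have h4 : x * y * x⁻¹ = y := h3
      calc y * x = (x * y * x⁻¹) * x := by rw [h4]
        _ = x * y := by group
    rw [hcen, mem_bot] at h2
    exact h2
  rw [← card_map_of_injective hfi]
  refine RowLTwoOdd.card_le_four R' hr hzr hz (A.map f) ?_ ?_
  · rintro _ ⟨x, hx, rfl⟩
    rw [← map_mul, hel x hx, map_one]
  · rintro _ ⟨x, hx, rfl⟩
    exact Subtype.ext (hAc x hx)


/-- **`S ≅ L₂(q)`, `q` odd, `q ≠ 9`** -/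
theorem card_le_four {X : Type*} [Group X] [Finite X] {S A : Subgroup X} (hS : S.Normal)
    (hcen : centralizer (S : Set X) = ⊥) {F : Type*} [Field F] [Fintype F] (hodd : Odd (Fintype.card F))
    (h3 : 3 < Fintype.card F) (h9 : Fintype.card F ≠ 9) (e : S ≃* Matrix.ProjectiveSpecialLinearGroup (Fin 2) F)
    {t : X} (htS : t ∈ S) (htt : t * t = 1) (ht1 : t ≠ 1) (hA : A ≤ o2 (centralizer ({t} : Set X)))
    (hel : ∀ a ∈ A, a * a = 1) : Nat.card A ≤ 4 := by
  have h2 : (2 : F) ≠ 0 := two_ne_zero_of_odd hodd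
  by_cases hF : ∀ σ : F ≃+* F, σ * σ = 1 → σ = 1
  · exact (TwoF.RkPSL.rkAut_two_odd h2 hF).of_normal e hcen A hel
  · push Not at hF
    obtain ⟨σ, hσ, hσ1⟩ := hF
    have hs : ∀ x, σ (σ x) = x := fun x => DFunLike.congr_fun hσ x
    have hcard := HKS.PGammaInv.card_sq h2 hs hσ1
    set q := Nat.card (HKS.PGammaInv.fixF σ) with hq
    have hqodd : Odd q := by
      by_contra hcon
      rw [Nat.not_odd_iff_even] at hcon
      rw [hcard] at hodd
      exact (Nat.not_even_iff_odd.2 hodd) (Nat.even_pow.2 ⟨hcon, two_ne_zero⟩)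
    have hq1 : 1 < q := by
      by_contra hcon
      have h5 : q ≤ 1 := by omega
      have h6 : q ^ 2 ≤ 1 := by
        calc q ^ 2 ≤ 1 ^ 2 := Nat.pow_le_pow_left h5 2
          _ = 1 := one_pow 2
      omega
    have hq3 : q ≠ 3 := by
      intro h0
      rw [h0] at hcard
      exact h9 hcard
    obtain ⟨r, hr, hro, hrd⟩ := RowLTwoOdd.exists_odd_prime hq1 hq3 hqodd
    have hu : Nat.card Fˣ = Fintype.card F - 1 := by
      rw [Nat.card_units, Nat.card_eq_fintype_card]
    have : Fact r.Prime := ⟨hr⟩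
    obtain ⟨z, hz⟩ := exists_prime_orderOf_dvd_card' (G := Fˣ) r (by rw [hu, hcard]; exact hrd)
    have hz1 : z ≠ 1 := by
      rintro rfl
      rw [orderOf_one] at hz
      exact hr.one_lt.ne hz
    have hzr : z ^ r = 1 := by rw [← hz, pow_orderOf_eq_one]
    obtain ⟨i, hi⟩ : ∃ i : Fˣ, (i : F) * i = -1 := by
      have h4 : Fintype.card F % 4 ≠ 3 := by
        obtain ⟨m, hm⟩ := hqodd
        rw [hcard, hm]
        have : (2 * m + 1) ^ 2 = 4 * (m * m + m) + 1 := by ring
        omega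
      obtain ⟨i, hi⟩ := FiniteField.isSquare_neg_one_iff.2 h4
      have hi0 : i ≠ 0 := by
        rintro rfl
        rw [mul_zero, neg_eq_zero] at hi
        exact one_ne_zero hi
      exact ⟨Units.mk0 i hi0, hi.symm⟩
    exact card_le_four_of hS hcen (GH.L2Aut.Rep.ofEquiv h2 e) hi hro hzr hz1 htS htt ht1 hA hel

section module

variable {H : Type u} [Group H] {M : Type v} [Group M] [MulDistribMulAction H M] {K T A : Subgroup H}

/-- **`|A| = 4` and `A ∩ K ≠ 1`.** -/
theorem exists_mem [Finite H] (h : InX H M K T A) {F : Type*} [Field F] [Fintype F]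
    (hodd : Odd (Fintype.card F)) (h3 : 3 < Fintype.card F) (h9 : Fintype.card F ≠ 9)
    (e : K ≃* Matrix.ProjectiveSpecialLinearGroup (Fin 2) F) :
    Nat.card A = 4 ∧ ∃ t : K, (t : H) ∈ A ∧ t ≠ 1 := by
  have h2 : (2 : F) ≠ 0 := two_ne_zero_of_odd hodd
  let R := GH.L2Aut.Rep.ofEquiv h2 e
  have hev : 2 ∣ Nat.card K := by
    have hw : wm (1 : F) one_ne_zero * wm 1 one_ne_zero = -1 := by
      refine ext_ent ?_ ?_ ?_ ?_ <;> simp [ent_mul, LTwoMat.ent_neg]
    have h5 : R.π (wm 1 one_ne_zero) * R.π (wm 1 one_ne_zero) = 1 := by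
      rw [← map_mul, hw, R.ker]
      exact Or.inr rfl
    have h6 : R.π (wm 1 one_ne_zero) ≠ 1 := by
      intro h0
      rcases (R.ker _).1 h0 with h1 | h1
      · rw [h1, one_mul] at hw
        exact R.neg_one_ne_one hw.symm
      · rw [h1, neg_mul_neg, one_mul] at hw
        exact R.neg_one_ne_one hw.symm
    have h7 : orderOf (R.π (wm 1 one_ne_zero)) = 2 := orderOf_eq_prime (by rw [pow_two]; exact h5) h6
    rw [← h7]
    exact orderOf_dvd_natCard _
  obtain ⟨t, htT, htK, htc, htt, ht1⟩ := exists_central h.asx hev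
  have hTR : T ≤ centralizer ({t} : Set H) := fun x hx => mem_centralizer_singleton_iff.2 (htc x hx)
  have hRne := centralizer_ne_top h.cen ht1
  have hAR := h.low _ hTR hRne
  -- `t` is in `O₂(C(t))`
  have htR : t ∈ o2 (centralizer ({t} : Set H)) := by
    have h5 : zpowers t ≤ o2 (centralizer ({t} : Set H)) := by
      refine le_o2 ?_ ?_ ?_
      · rw [zpowers_le]
        exact mem_centralizer_singleton_iff.2 rfl
      · exact h.two.to_le (by rwa [zpowers_le])
      · intro x hx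
        have h6 : x * t = t * x := mem_centralizer_singleton_iff.1 hx
        rw [mem_normalizer_iff]
        intro y
        have h7 : ∀ y ∈ zpowers t, x * y * x⁻¹ = y := by
          rintro _ ⟨k, rfl⟩
          have : Commute x (t ^ k) := (show Commute x t from h6).zpow_right k
          rw [mul_inv_eq_iff_eq_mul]
          exact this
        constructor
        · intro hy
          rw [h7 y hy]
          exact hy
        · intro hy
          have h8 : x⁻¹ * (x * y * x⁻¹) * x = x * y * x⁻¹ := by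
            have h9 := h7 _ hy
            calc x⁻¹ * (x * y * x⁻¹) * x = x⁻¹ * (x * (x * y * x⁻¹) * x⁻¹) * x := by rw [h9]
              _ = x * y * x⁻¹ := by group
          have h9 : y = x * y * x⁻¹ := by
            rw [← h8]
            group
          rw [h9]
          exact hy
    exact h5 (mem_zpowers t)
  have hAt : ∀ a ∈ A, a * t = t * a := fun a ha => htc a (h.AT ha)
  -- `B = A ⟨t⟩`
  have hB : A ⊔ zpowers t ≤ o2 (centralizer ({t} : Set H)) := sup_le hAR (by rwa [zpowers_le])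
  have htn : ∀ k : ℤ, t ^ k * t ^ k = 1 := by
    intro k
    rw [← (Commute.refl t).mul_zpow, htt, _root_.one_zpow]
  have hBel : ∀ b ∈ A ⊔ zpowers t, b * b = 1 := by
    intro b hb
    have hn : A ≤ normalizer (zpowers t : Set H) := by
      intro a ha
      have h5 : ∀ k : ℤ, a * t ^ k = t ^ k * a := fun k => ((show Commute a t from hAt a ha).zpow_right k).eq
      rw [mem_normalizer_iff]
      intro y
      constructor
      · rintro ⟨k, rfl⟩
        refine ⟨k, ?_⟩
        change t ^ k = a * t ^ k * a⁻¹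
        rw [h5, mul_inv_cancel_right]
      · rintro ⟨k, hk⟩
        refine ⟨k, ?_⟩
        change t ^ k = y
        have hk' : t ^ k = a * y * a⁻¹ := hk
        have h6 : a⁻¹ * t ^ k * a = t ^ k := by rw [mul_assoc, ← h5, inv_mul_cancel_left]
        rw [← h6, hk']
        group
    have hb' : b ∈ ((A ⊔ zpowers t : Subgroup H) : Set H) := hb
    rw [coe_mul_of_left_le_normalizer_right _ _ hn] at hb'
    obtain ⟨a, ha, z, ⟨k, rfl⟩, rfl⟩ := Set.mem_mul.1 hb'
    change a * t ^ k * (a * t ^ k) = 1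
    have h5 : a * t ^ k = t ^ k * a := ((show Commute a t from hAt a ha).zpow_right k).eq
    calc a * t ^ k * (a * t ^ k) = a * (t ^ k * a) * t ^ k := by group
      _ = (a * a) * (t ^ k * t ^ k) := by rw [← h5]; group
      _ = 1 := by rw [h.el a ha, htn, one_mul]
  have h5 := card_le_four h.norm h.cen hodd h3 h9 e htK htt ht1 hB hBel
  have h6 : A ≤ A ⊔ zpowers t := le_sup_left
  have h7 : Nat.card A ≤ Nat.card (A ⊔ zpowers t : Subgroup H) := card_le_of_le h6
  have h8 := h.four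
  have h9' : Nat.card A = 4 := by omega
  refine ⟨h9', ⟨t, htK⟩, ?_, fun h0 => ht1 (congrArg Subtype.val h0)⟩
  have h10 : A = A ⊔ zpowers t := eq_of_le_of_card_ge h6 (by omega)
  change t ∈ A
  rw [h10]
  exact le_sup_right (a := A) (mem_zpowers t)

variable {F : Type*} [Field F] [Fintype F]

local notation "SL2" => Matrix.SpecialLinearGroup (Fin 2) F

/-- all `π(w)`, `w² = -1`, are conjugate to `t ∈ A` -/
theorem exists_conj (R : GH.L2Aut.Rep F K) {t : K} (htt : t * t = 1) (ht : t ≠ 1) {w : SL2} (hw : w * w = -1) :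
    ∃ g : H, ((R.π w : K) : H) = g * t * g⁻¹ := by
  have h1 : R.π w * R.π w = 1 := by
    rw [← map_mul, hw, R.ker]
    exact Or.inr rfl
  have h2 : R.π w ≠ 1 := by
    intro h0
    rcases (R.ker _).1 h0 with h1 | h1
    · rw [h1, one_mul] at hw
      exact R.neg_one_ne_one hw.symm
    · rw [h1, neg_mul_neg, one_mul] at hw
      exact R.neg_one_ne_one hw.symm
  obtain ⟨g, hg⟩ := R.inv_conj htt ht h1 h2
  refine ⟨g, ?_⟩
  rw [← hg]
  rfl

/-- **The situation `InX` does not occur.** -/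
theorem false_of [Finite H] [Finite M] (h : InX H M K T A) (hodd : Odd (Fintype.card F)) (h11 : 11 ≤ Fintype.card F)
    (e : K ≃* Matrix.ProjectiveSpecialLinearGroup (Fin 2) F) : False := by
  have h2 : (2 : F) ≠ 0 := two_ne_zero_of_odd hodd
  let R := GH.L2Aut.Rep.ofEquiv h2 e
  obtain ⟨h4, t, htA, ht1⟩ := exists_mem h hodd (by omega) (by omega) e
  have htt : t * t = 1 := Subtype.ext (h.el _ htA)
  by_cases h13 : 13 ≤ Fintype.card F
  · obtain ⟨w, v, hw, hv, n, hn, hn7, hnd⟩ := LTwoMat.exists_order R hodd h13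
    obtain ⟨x, hx⟩ := exists_conj R htt ht1 hw
    obtain ⟨y, hy⟩ := exists_conj R htt ht1 hv
    have h5 : orderOf (R.π w * R.π v) = orderOf ((x * t * x⁻¹) * (y * t * y⁻¹)) := by
      rw [← hx, ← hy, ← Subgroup.orderOf_coe]
      rfl
    rcases h.order_mul h4 htA htA x y (h5 ▸ hnd) hn with h6 | h6 | h6 <;> omega
  · -- `q = 11`
    have hq : Fintype.card F = 11 := by
      obtain ⟨m, hm⟩ := hodd
      omega
    obtain ⟨w, hw, c, hc, hu⟩ := LTwoMat.exists_four R (by omega)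
    have h5 : ∀ i, (cv M ({((R.π (w i) : K) : H)} : Set H)).index ≤ 4 := by
      intro i
      obtain ⟨x, hx⟩ := exists_conj R htt ht1 (hw i)
      rw [hx, cv_conj_index]
      exact h.index_le_four h4 htA
    set u : H := ((R.π (up c) : K) : H) with hu'
    have h6 := Gen.index_le_pow (M := M) (fun i => ((R.π (w i) : K) : H)) h5 (J := zpowers u) (by
      rw [zpowers_le, hu', hu]
      have h7 : ∀ i, ((R.π (w i) : K) : H) ∈ closure (Set.range fun i => ((R.π (w i) : K) : H)) :=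
        fun i => subset_closure ⟨i, rfl⟩
      exact mul_mem (mul_mem (mul_mem (h7 0) (h7 1)) (h7 2)) (h7 3))
    have hp : Fact (Nat.Prime 11) := ⟨by norm_num⟩
    have hchar : ((11 : ℕ) : F) = 0 := by
      rw [← hq]
      exact Nat.cast_card_eq_zero F
    have hup : u ^ 11 = 1 := by
      have : (R.π (up c)) ^ 11 = 1 := by
        rw [← map_pow, LTwoMat.up_pow, hchar, zero_mul, up_zero, map_one]
      rw [hu', ← Subgroup.coe_pow, this, Subgroup.coe_one]
    have hu1 : u ≠ 1 := by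
      intro h0
      have h7 : R.π (up c) = 1 := Subtype.ext h0
      rcases (R.ker _).1 h7 with h8 | h8
      · exact hc (up_inj (h8.trans up_zero.symm))
      · have h9 := congrArg (fun x => ent x 0 0) h8
        have h10 : (1 : F) = -1 := h9
        exact h2 (by linear_combination h10)
    have h7 := Gen.pow_le_index h (u := u) (r := 11) (k := 10) (by norm_num) (by decide) hup hu1 InvFrob.ord_11
    have h8 : (cv M ({u} : Set H)).index ≤ (cv M ((zpowers u : Subgroup H) : Set H)).index :=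
      Nat.le_of_dvd (Nat.pos_of_ne_zero Subgroup.index_ne_zero_of_finite)
        (Subgroup.index_dvd_of_le (cv_anti (by simp)))
    have h9 := (h7.trans h8).trans h6
    norm_num at h9

end module

/-- `PSL₂(7) = PSL₃(2)` -/
theorem charTwo_seven {K : Type u} [Group K] {F : Type} [Field F] [Fintype F] (hF : Fintype.card F = 7)
    (e : K ≃* Matrix.ProjectiveSpecialLinearGroup (Fin 2) F) : IsLieTypeChar 2 K := by
  obtain ⟨f⟩ := S0255.result (K := ZMod 2) hF (by simp)
  exact Or.inl ⟨ZMod 2, inferInstance, inferInstance, inferInstance, 3, by norm_num, by norm_num, ⟨e.trans f⟩⟩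

/-- **The row `L₂(q)`, `q` odd.** -/
theorem deadX : DeadX.{u, v} fun S _ => ¬ IsLieTypeChar 2 S ∧ ∃ (F : Type) (_ : Field F) (_ : Fintype F),
    Odd (Fintype.card F) ∧ 3 < Fintype.card F ∧ Fintype.card F ≠ 9 ∧
      Nonempty (S ≃* Matrix.ProjectiveSpecialLinearGroup (Fin 2) F) := by
  rintro H _ _ M _ _ _ K T A h ⟨hn, F, _, _, hodd, h3, h9, ⟨e⟩⟩
  have h5 : Fintype.card F ≠ 5 := by
    intro h0
    obtain ⟨f⟩ := S0253.result h0
    exact hn (KFacts.charTwo_alt_five (e.trans f))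
  have h7 : Fintype.card F ≠ 7 := fun h0 => hn (charTwo_seven h0 e)
  refine false_of h hodd ?_ e
  obtain ⟨m, hm⟩ := hodd
  omega

end Cfsg.Agent.Omega.ML.Ex.RowLTwoX

end

section


/-!
# The K-list for EXACT subgroups: the two modules of (EXL) (helper441)

THEOREM RED gives an exact ATOM `A` of a faithful module `N` (not irreducible, every proper submodule is centralised by
`K`), and the irreducible module `M = N / C_N(K)`, for which `A` is exact and sub-exact but not necessarily an atom.  A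
row of the K-list may use either of the two:

* `InX H M K T A` (Def.lean) : `M` irreducible, `A` exact and sub-exact;
* **`InA H N K T A`** : `N` faithful, `A` an exact ATOM (nothing about submodules);
* `DeadA 𝒮` : the row over `InA`;  **`Row 𝒮`** : the row over both;  `DeadX.row`, `DeadA.row`, `Row.mono`, `Row.or`;
* `InX.toA` : `InX` and `Atm M A` give `InA` for the same module;
* `InA.{asx, comm, A_ne_bot, A_two, A_comm, M_two, le_index, index_le, hyp, cv_four, index_four, four_le_index, ne_top,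
  index_le_four, atm}`.
-/

set_option autoImplicit false

namespace Cfsg.Agent.Omega.ML.Ex

open Subgroup Cfsg Cfsg.Agent.ZN Cfsg.Agent.Omega.NOThree.NoOver Cfsg.Agent.Omega.ML.CD
open Cfsg.Agent.ClassTwoFusion.Quad

universe u v

/-- The situation of (EXL) with an exact atom on a faithful module (not assumed to be irreducible). -/
structure InA (H : Type u) [Group H] (M : Type v) [Group M] [MulDistribMulAction H M] (K T A : Subgroup H) :
    Prop where
  sq : ∀ m : M, m * m = 1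
  faith : ∀ h : H, (∀ m : M, h • m = m) → h = 1
  norm : K.Normal
  simple : IsSimpleGroup K
  cen : centralizer (K : Set H) = ⊥
  gen : K ⊔ T = ⊤
  two : IsPGroup 2 T
  syl : ¬ 2 ∣ T.index
  AT : A ≤ T
  el : ∀ a ∈ A, a * a = 1
  four : 4 ≤ Nat.card A
  exact : (cv M (A : Set H)).index = Nat.card A
  atom : ∀ C : Subgroup H, C ≤ A → C ≠ ⊥ → C ≠ A → Nat.card C < (cv M (C : Set H)).index
  low : ∀ R : Subgroup H, T ≤ R → R ≠ ⊤ → A ≤ o2 R
  nmax : ¬ ∃ N : Subgroup H, N ≠ ⊤ ∧ ∀ R : Subgroup H, T ≤ R → R ≠ ⊤ → R ≤ N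

/-- The row of the class `𝒮` over `InA`. -/
def DeadA (𝒮 : ∀ (S : Type u) [Group S], Prop) : Prop :=
  ∀ (H : Type u) [Group H] [Finite H] (M : Type v) [Group M] [Finite M] [MulDistribMulAction H M]
    (K T A : Subgroup H), InA H M K T A → 𝒮 K → False

/-- **The row of the class `𝒮` with both modules.** -/
def Row (𝒮 : ∀ (S : Type u) [Group S], Prop) : Prop :=
  ∀ (H : Type u) [Group H] [Finite H] (M : Type v) [Group M] [Finite M] [MulDistribMulAction H M]
    (N : Type v) [Group N] [Finite N] [MulDistribMulAction H N] (K T A : Subgroup H),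
    InX H M K T A → InA H N K T A → 𝒮 K → False

theorem DeadX.row {𝒮 : ∀ (S : Type u) [Group S], Prop} (h : DeadX.{u, v} 𝒮) : Row.{u, v} 𝒮 :=
  fun H _ _ M _ _ _ _ _ _ _ K T A hI _ hS => h H M K T A hI hS

theorem DeadA.row {𝒮 : ∀ (S : Type u) [Group S], Prop} (h : DeadA.{u, v} 𝒮) : Row.{u, v} 𝒮 :=
  fun H _ _ _ _ _ _ N _ _ _ K T A _ hI hS => h H N K T A hI hS

/-- smaller classes -/
theorem Row.mono {𝒮 𝒮' : ∀ (S : Type u) [Group S], Prop} (h : Row.{u, v} 𝒮)
    (h' : ∀ (S : Type u) [Group S], 𝒮' S → 𝒮 S) : Row.{u, v} 𝒮' :=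
  fun H _ _ M _ _ _ N _ _ _ K T A hI hA hS => h H M N K T A hI hA (h' _ hS)

theorem Row.or {𝒮 𝒮' : ∀ (S : Type u) [Group S], Prop} (h : Row.{u, v} 𝒮) (h' : Row.{u, v} 𝒮') :
    Row.{u, v} fun S _ => 𝒮 S ∨ 𝒮' S :=
  fun H _ _ M _ _ _ N _ _ _ K T A hI hA hS =>
    hS.elim (fun h1 => h H M N K T A hI hA h1) fun h1 => h' H M N K T A hI hA h1

section module

variable {H : Type u} [Group H] {M : Type v} [Group M] [MulDistribMulAction H M] {K T A : Subgroup H}

/-- `InX` and an atom of the irreducible module -/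
theorem InX.toA (h : InX H M K T A) (hat : Atm M A) : InA H M K T A where
  sq := h.sq
  faith := h.faith
  norm := h.norm
  simple := h.simple
  cen := h.cen
  gen := h.gen
  two := h.two
  syl := h.syl
  AT := h.AT
  el := h.el
  four := h.four
  exact := h.exact
  atom := hat
  low := h.low
  nmax := h.nmax

/-- the same `K`, `T`, `A` and another module -/
theorem InX.toA' {N : Type v} [Group N] [MulDistribMulAction H N] (h : InX H M K T A) (sq : ∀ m : N, m * m = 1)
    (faith : ∀ h : H, (∀ m : N, h • m = m) → h = 1) (exact : (cv N (A : Set H)).index = Nat.card A)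
    (hat : Atm N A) : InA H N K T A where
  sq := sq
  faith := faith
  norm := h.norm
  simple := h.simple
  cen := h.cen
  gen := h.gen
  two := h.two
  syl := h.syl
  AT := h.AT
  el := h.el
  four := h.four
  exact := exact
  atom := hat
  low := h.low
  nmax := h.nmax

namespace InA

/-- The group-theoretic part. -/
theorem asx (h : InA H M K T A) : ASx K T A where
  norm := h.norm
  simple := h.simple
  cen := h.cen
  gen := h.gen
  two := h.two
  syl := h.syl
  AT := h.AT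
  el := h.el
  low := h.low
  nmax := h.nmax

theorem atm (h : InA H M K T A) : Atm M A := h.atom

theorem comm (h : InA H M K T A) (x y : M) : x * y = y * x := by
  have h1 : ∀ z : M, z⁻¹ = z := fun z => inv_eq_of_mul_eq_one_right (h.sq z)
  calc x * y = (x * y)⁻¹ := (h1 _).symm
    _ = y⁻¹ * x⁻¹ := mul_inv_rev _ _
    _ = y * x := by rw [h1, h1]

theorem A_ne_bot (h : InA H M K T A) : A ≠ ⊥ := by
  intro h1
  have h2 := h.four
  rw [h1, card_bot] at h2
  omega

theorem A_two (h : InA H M K T A) : IsPGroup 2 A := h.two.to_le h.AT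

theorem A_comm (h : InA H M K T A) : ∀ a ∈ A, ∀ b ∈ A, a * b = b * a := by
  intro a ha b hb
  have h1 : ∀ z ∈ A, z⁻¹ = z := fun z hz => inv_eq_of_mul_eq_one_right (h.el z hz)
  calc a * b = (a * b)⁻¹ := (h1 _ (A.mul_mem ha hb)).symm
    _ = b⁻¹ * a⁻¹ := mul_inv_rev _ _
    _ = b * a := by rw [h1 _ ha, h1 _ hb]

theorem M_two (h : InA H M K T A) [Finite M] : IsPGroup 2 M := by
  intro m
  exact ⟨1, by rw [pow_one, pow_two, h.sq]⟩

/-- sub-exactness -/
theorem le_index (h : InA H M K T A) [Finite M] {C : Subgroup H} (hC : C ≤ A) :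
    Nat.card C ≤ (cv M (C : Set H)).index := by
  by_cases h1 : C = ⊥
  · rw [h1, card_bot]
    exact Nat.one_le_iff_ne_zero.2 index_ne_zero_of_finite
  · by_cases h2 : C = A
    · rw [h2, h.exact]
    · exact (h.atom C hC h1 h2).le

/-- `|M : C_M(C)| ≤ |A|` for `C ≤ A` -/
theorem index_le (h : InA H M K T A) [Finite M] {C : Set H} (hC : C ⊆ A) : (cv M C).index ≤ Nat.card A := by
  rw [← h.exact]
  have h1 : cv M (A : Set H) ≤ cv M C := cv_anti hC
  exact Nat.le_of_dvd (Nat.pos_of_ne_zero index_ne_zero_of_finite) (index_dvd_of_le h1)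

/-- **`|A| = 4`**: `|M : C_M(a)| ≤ 4` for all `a ∈ A`. -/
theorem index_le_four (h : InA H M K T A) [Finite M] (h4 : Nat.card A = 4) {a : H} (ha : a ∈ A) :
    (cv M ({a} : Set H)).index ≤ 4 := by
  rw [← h4]
  exact h.index_le (Set.singleton_subset_iff.2 ha)

/-- **Hyperplanes**: `C_M(D) = C_M(A)` if `|A| ≤ 2 |D|`, `D ≠ 1`. -/
theorem hyp (h : InA H M K T A) [Finite H] [Finite M] {D : Subgroup H} (hD : D ≤ A) (h1 : D ≠ ⊥)
    (h2 : Nat.card A ≤ 2 * Nat.card D) : cv M (D : Set H) = cv M (A : Set H) := by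
  by_cases hDA : D = A
  · rw [hDA]
  have hle : cv M (A : Set H) ≤ cv M (D : Set H) := cv_anti (SetLike.coe_subset_coe.2 hD)
  refine le_antisymm ?_ hle
  rw [← relIndex_eq_one]
  have h3 := h.atom D hD h1 hDA
  have h4 : (cv M (A : Set H)).relIndex (cv M (D : Set H)) * (cv M (D : Set H)).index =
      (cv M (A : Set H)).index := relIndex_mul_index hle
  rw [h.exact] at h4
  have h5 : (cv M (A : Set H)).relIndex (cv M (D : Set H)) ≠ 0 := relIndex_ne _ _
  by_contra h6
  have h7 : 2 ≤ (cv M (A : Set H)).relIndex (cv M (D : Set H)) := by omega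
  have h8 : 2 * (cv M (D : Set H)).index ≤ Nat.card A := by
    rw [← h4]
    exact Nat.mul_le_mul_right _ h7
  omega

/-- **`|A| = 4`**: `C_M(a) = C_M(A)` for all `a ∈ A#`. -/
theorem cv_four (h : InA H M K T A) [Finite H] [Finite M] (h4 : Nat.card A = 4) {a : H} (ha : a ∈ A) (ha1 : a ≠ 1) :
    cv M ({a} : Set H) = cv M (A : Set H) := by
  have h1 : zpowers a ≤ A := by rwa [zpowers_le]
  have h2 : zpowers a ≠ ⊥ := by rwa [Ne, zpowers_eq_bot]
  have h3 : Nat.card (zpowers a) = 2 := by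
    rw [Nat.card_zpowers]
    exact orderOf_eq_prime (by rw [pow_two, h.el a ha]) ha1
  have h5 := h.hyp h1 h2 (by rw [h3, h4])
  rw [← h5]
  refine le_antisymm ?_ (cv_anti (by simp))
  intro v hv x hx
  have h6 : zpowers a ≤ MulAction.stabilizer H v := by
    rw [zpowers_le]
    exact MulAction.mem_stabilizer_iff.2 (hv a rfl)
  exact MulAction.mem_stabilizer_iff.1 (h6 hx)

/-- **`|A| = 4`**: `|M : C_M(a)| = 4` for all `a ∈ A#`. -/
theorem index_four (h : InA H M K T A) [Finite H] [Finite M] (h4 : Nat.card A = 4) {a : H} (ha : a ∈ A)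
    (ha1 : a ≠ 1) : (cv M ({a} : Set H)).index = 4 := by
  rw [h.cv_four h4 ha ha1, h.exact, h4]

/-- no transvections in `A`: `|M : C_M(a)| ≥ 4` for `a ∈ A#`. -/
theorem four_le_index (h : InA H M K T A) [Finite H] [Finite M] {a : H} (ha : a ∈ A) (ha1 : a ≠ 1) :
    4 ≤ (cv M ({a} : Set H)).index := by
  have h1 : zpowers a ≤ A := by rwa [zpowers_le]
  have h2 : zpowers a ≠ ⊥ := by rwa [Ne, zpowers_eq_bot]
  have h3 : Nat.card (zpowers a) = 2 := by
    rw [Nat.card_zpowers]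
    exact orderOf_eq_prime (by rw [pow_two, h.el a ha]) ha1
  have hne : zpowers a ≠ A := by
    intro h5
    have := h.four
    rw [← h5, h3] at this
    omega
  have h5 := h.atom _ h1 h2 hne
  rw [h3] at h5
  have h6 : cv M ((zpowers a : Subgroup H) : Set H) = cv M ({a} : Set H) := by
    refine le_antisymm (cv_anti (by simp)) ?_
    intro v hv x hx
    have h6 : zpowers a ≤ MulAction.stabilizer H v := by
      rw [zpowers_le]
      exact MulAction.mem_stabilizer_iff.2 (hv a rfl)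
    exact MulAction.mem_stabilizer_iff.1 (h6 hx)
  rw [h6] at h5
  obtain ⟨n, hn⟩ := (IsPGroup.iff_card.1 h.M_two)
  have h7 : (cv M ({a} : Set H)).index ∣ 2 ^ n := by
    rw [← hn]
    exact index_dvd_card _
  obtain ⟨k, -, hk⟩ := (Nat.dvd_prime_pow Nat.prime_two).1 h7
  rw [hk] at h5 ⊢
  match k, h5 with
  | 0, h5 => simp at h5
  | 1, h5 => simp at h5
  | k + 2, _ => rw [pow_add]; have := Nat.one_le_two_pow (n := k); omega

theorem ne_top (h : InA H M K T A) : T ≠ ⊤ := h.asx.ne_top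

/-- **an irreducible `InA` is an `InX`** -/
theorem toX [Finite M] (h : InA H M K T A)
    (irr : ∀ W : Subgroup M, (∀ h : H, ∀ w ∈ W, h • w ∈ W) → W = ⊥ ∨ W = ⊤) : InX H M K T A where
  sq := h.sq
  faith := h.faith
  irr := irr
  norm := h.norm
  simple := h.simple
  cen := h.cen
  gen := h.gen
  two := h.two
  syl := h.syl
  AT := h.AT
  el := h.el
  four := h.four
  exact := h.exact
  sub := fun _ hC => h.le_index hC
  low := h.low
  nmax := h.nmax

end InA

end module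

end Cfsg.Agent.Omega.ML.Ex

end

section


/-!
# Exact and low configurations: the local criterion of `RowLoc` and inverted elements (helper322)

* `ASx.exists_loc` : for `Loc z P` (`P ∈ Syl₂(S)`, `z` the only involution of `C_S(P)` and of the normal 2-subgroups of
  `C_S(z)`) there is `g ∈ X` with `T ≤ C_X(z^g)`, `A ∩ S ≤ ⟨z^g⟩`;
* `ASx.card_le_mul_of_loc`, `ASx.mem_of_loc` : `|A| ≤ 2 |X : S|`, and `z^g ∈ A` if `|X : S| < |A|`;
* `InX.index_le_card_of_mem` : `|M : C_M(x)| ≤ |A|`, `x ∈ A`;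
* **`InX.false_of_invAt`** : `InvAt x n`, `x ∈ A`, `|A| < 2 ^ n` is impossible;
* `deadX_of_loc` : the row with `Loc z P`, `|Out(S)| < 4` and `InvAt z n`, `2 |Out(S)| < 2 ^ n`.
-/

set_option autoImplicit false

namespace Cfsg.Agent.Omega.ML.Ex

open Subgroup Cfsg Cfsg.Agent.ZN Cfsg.Agent.Omega.ML.RowLoc Cfsg.Agent.Omega.ML.InvChain
open Cfsg.Agent.Omega.NOThree.NoOver Cfsg.Agent.Omega.ML.CD Cfsg.Agent.ClassTwoFusion.Quad
open Cfsg.Agent.MinSimple.VModule (o2_isPGroup o2_le le_o2 le_normalizer_o2)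

universe u v

section group

variable {X : Type u} [Group X] {S T A : Subgroup X}

/-- `|X : S|` divides `|Out(S)|` -/
theorem ASx.index_dvd (h : ASx S T A) {n : ℕ} (hn : (MulAut.conj : S →* MulAut S).range.index ∣ n) : S.index ∣ n := by
  have hSn := h.norm
  have h1 : (MulAut.conj : S →* MulAut S).range.comap (MulAut.conjNormal (H := S)) = S := by
    ext x
    constructor
    · rintro ⟨s, hs⟩
      have h2 : (s : X)⁻¹ * x ∈ centralizer (S : Set X) := by
        refine mem_centralizer_iff.2 fun y hy => ?_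
        have h3 := congrArg (fun α : MulAut S => ((α ⟨y, hy⟩ : S) : X)) hs
        have h4 : (s : X) * y * (s : X)⁻¹ = x * y * x⁻¹ := by
          simpa [MulAut.conj_apply, MulAut.conjNormal_apply] using h3
        calc y * ((s : X)⁻¹ * x) = (s : X)⁻¹ * (s * y * (s : X)⁻¹) * x := by group
          _ = (s : X)⁻¹ * (x * y * x⁻¹) * x := by rw [h4]
          _ = (s : X)⁻¹ * x * y := by group
      rw [h.cen, mem_bot, inv_mul_eq_one] at h2
      rw [← h2]
      exact s.2
    · intro hx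
      refine ⟨⟨x, hx⟩, ?_⟩
      ext y
      simp [MulAut.conj_apply, MulAut.conjNormal_apply]
  have hInn : (MulAut.conj : S →* MulAut S).range.Normal := by
    refine ⟨?_⟩
    rintro _ ⟨s, rfl⟩ α
    refine ⟨α s, ?_⟩
    ext y
    simp [MulAut.conj_apply, MulAut.mul_apply]
  rw [← h1, index_comap]
  exact (relIndex_dvd_index_of_normal _ _).trans hn

/-- **the local criterion** -/
theorem ASx.exists_loc [Finite X] (h : ASx S T A) {z : S} {P : Subgroup S} (L : Loc z P) :
    ∃ g : X, T ≤ centralizer ({g * z * g⁻¹} : Set X) ∧ ∀ b ∈ A, b ∈ S → b = 1 ∨ b = g * z * g⁻¹ := by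
  classical
  have : Fact (Nat.Prime 2) := ⟨Nat.prime_two⟩
  have hSn := h.norm
  -- a Sylow subgroup of `X` containing `P`, conjugate to `T`
  obtain ⟨Q0, hQ0⟩ := (L.pP.map S.subtype).exists_le_sylow
  have hTS : ∃ T0 : Sylow 2 X, (T0 : Subgroup X) = T := by
    refine ⟨h.two.toSylow h.syl, rfl⟩
  obtain ⟨T0, hT0⟩ := hTS
  obtain ⟨g, hg⟩ := MulAction.exists_smul_eq X Q0 T0
  have hT : ∀ t, t ∈ T ↔ g⁻¹ * t * g ∈ (Q0 : Subgroup X) := by
    intro t
    rw [← hT0, ← hg, Sylow.coe_subgroup_smul, mem_pointwise_smul_iff_inv_smul_mem]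
    simp [MulAut.smul_def, ← map_inv]
  -- `Q0 ∩ S = P`
  have hQS : ∀ x : S, (x : X) ∈ (Q0 : Subgroup X) → x ∈ P := by
    intro x hx
    set P0 : Sylow 2 S := L.pP.toSylow L.odd with hP0
    have h1 : (P : Subgroup S) ≤ (Q0 : Subgroup X).subgroupOf S := fun p hp => hQ0 ⟨p, hp, rfl⟩
    have h2 : IsPGroup 2 ((Q0 : Subgroup X).subgroupOf S) :=
      Q0.isPGroup'.comap_of_injective _ S.subtype_injective
    have h3 : (Q0 : Subgroup X).subgroupOf S = P := P0.is_maximal' h2 h1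
    rw [← h3]
    exact hx
  -- conjugation
  have hS : ∀ {x : X} (y : X), x ∈ S → y * x * y⁻¹ ∈ S := fun y hx => hSn.conj_mem _ hx y
  -- `Q0` centralises `z`
  have hz0 : ∀ u ∈ (Q0 : Subgroup X), u * (z : X) = z * u := by
    intro u hu
    have hu' : u⁻¹ ∈ (Q0 : Subgroup X) := inv_mem hu
    have h1 := L.uniq ⟨u * z * u⁻¹, hS u z.2⟩ (fun p hp => ?_) ?_
    · rcases h1 with h1 | h1
      · exfalso
        apply L.z1
        have h2 : u * (z : X) * u⁻¹ = 1 := congrArg Subtype.val h1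
        apply Subtype.ext
        calc (z : X) = u⁻¹ * (u * z * u⁻¹) * u := by group
          _ = 1 := by rw [h2]; group
      · exact mul_inv_eq_iff_eq_mul.1 (congrArg Subtype.val h1)
    · have hpQ : (p : X) ∈ (Q0 : Subgroup X) := hQ0 ⟨p, hp, rfl⟩
      have h2 : (⟨u⁻¹ * p * u⁻¹⁻¹, hS u⁻¹ p.2⟩ : S) ∈ P :=
        hQS _ (mul_mem (mul_mem hu' hpQ) (inv_mem hu'))
      have h3 := congrArg Subtype.val (L.zc _ h2)
      have h4 : (z : X) * (u⁻¹ * p * u⁻¹⁻¹) = (u⁻¹ * p * u⁻¹⁻¹) * z := h3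
      apply Subtype.ext
      show (u * (z : X) * u⁻¹) * p = p * (u * z * u⁻¹)
      calc (u * (z : X) * u⁻¹) * p = u * (z * (u⁻¹ * p * u⁻¹⁻¹)) * u⁻¹ := by group
        _ = u * ((u⁻¹ * p * u⁻¹⁻¹) * z) * u⁻¹ := by rw [h4]
        _ = p * (u * z * u⁻¹) := by group
    · apply Subtype.ext
      show (u * (z : X) * u⁻¹) * (u * z * u⁻¹) = 1
      calc (u * (z : X) * u⁻¹) * (u * z * u⁻¹) = u * (z * z) * u⁻¹ := by group
        _ = 1 := by
            have h5 : (z : X) * z = 1 := congrArg Subtype.val L.zz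
            rw [h5]; group
  -- `z' = g z g⁻¹`, `R = C(z')`
  set z' : X := g * z * g⁻¹ with hz'
  set R : Subgroup X := centralizer ({z'} : Set X) with hR
  have hRm : ∀ x, x ∈ R ↔ x * z' = z' * x := fun x => mem_centralizer_singleton_iff
  have hTR : T ≤ R := by
    intro t ht
    rw [hRm]
    have h1 := hz0 _ ((hT t).1 ht)
    calc t * (g * z * g⁻¹) = g * ((g⁻¹ * t * g) * z) * g⁻¹ := by group
      _ = g * (z * (g⁻¹ * t * g)) * g⁻¹ := by rw [h1]
      _ = g * z * g⁻¹ * t := by group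
  have hz'1 : z' ≠ 1 := by
    intro h1
    apply L.z1
    apply Subtype.ext
    calc (z : X) = g⁻¹ * z' * g := by rw [hz']; group
      _ = 1 := by rw [h1]; group
  have hRt : R ≠ ⊤ := by
    intro h1
    apply hz'1
    have h2 : z' ∈ centralizer (S : Set X) := by
      refine mem_centralizer_iff.2 fun y _ => ?_
      exact (hRm y).1 (h1 ▸ mem_top y)
    rwa [h.cen, mem_bot] at h2
  have hAR := h.low R hTR hRt
  refine ⟨g, hTR, ?_⟩
  -- `A ∩ S ≤ ⟨z'⟩`
  intro b hb hbS
  let c : S →* X := (MulAut.conj g).toMonoidHom.comp S.subtype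
  have hc : ∀ s : S, c s = g * s * g⁻¹ := fun s => rfl
  have hci : Function.Injective c := (MulAut.conj g).injective.comp S.subtype_injective
  have hb' : g⁻¹ * b * g ∈ S := by
    have := hS g⁻¹ hbS
    rwa [inv_inv] at this
  have a1 : ∀ n ∈ (o2 R).comap c, n * z = z * n := by
    intro n hn
    have h1 := (hRm _).1 (o2_le R hn)
    rw [hc, hz'] at h1
    apply Subtype.ext
    show (n : X) * z = z * n
    calc (n : X) * z = g⁻¹ * (g * n * g⁻¹ * (g * z * g⁻¹)) * g := by group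
      _ = g⁻¹ * (g * z * g⁻¹ * (g * n * g⁻¹)) * g := by rw [h1]
      _ = z * n := by group
  have a2 : ∀ k, k * z = z * k → ∀ n ∈ (o2 R).comap c, k * n * k⁻¹ ∈ (o2 R).comap c := by
    intro k hk n hn
    show c (k * n * k⁻¹) ∈ o2 R
    have hk' : (k : X) * z = z * k := congrArg Subtype.val hk
    have hkR : c k ∈ R := by
      rw [hRm, hc, hz']
      calc g * k * g⁻¹ * (g * z * g⁻¹) = g * (k * z) * g⁻¹ := by group
        _ = g * (z * k) * g⁻¹ := by rw [hk']
        _ = g * z * g⁻¹ * (g * k * g⁻¹) := by group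
    have h1 := (mem_normalizer_iff.1 (le_normalizer_o2 R hkR) (c n)).1 hn
    rwa [map_mul, map_mul, map_inv]
  have a3 : (⟨g⁻¹ * b * g, hb'⟩ : S) ∈ (o2 R).comap c := by
    show g * (g⁻¹ * b * g) * g⁻¹ ∈ o2 R
    have : g * (g⁻¹ * b * g) * g⁻¹ = b := by group
    rw [this]
    exact hAR hb
  have a4 : (⟨g⁻¹ * b * g, hb'⟩ : S) * ⟨g⁻¹ * b * g, hb'⟩ = 1 := by
    apply Subtype.ext
    show (g⁻¹ * b * g) * (g⁻¹ * b * g) = 1
    calc (g⁻¹ * b * g) * (g⁻¹ * b * g) = g⁻¹ * (b * b) * g := by group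
      _ = 1 := by rw [h.el b hb]; group
  rcases L.oo ((o2 R).comap c) ((o2_isPGroup R).comap_of_injective _ hci) a1 a2 _ a3 a4 with h1 | h1
  · left
    have h2 : g⁻¹ * b * g = 1 := congrArg Subtype.val h1
    calc b = g * (g⁻¹ * b * g) * g⁻¹ := by group
      _ = 1 := by rw [h2]; group
  · right
    have h2 : g⁻¹ * b * g = z := congrArg Subtype.val h1
    calc b = g * (g⁻¹ * b * g) * g⁻¹ := by group
      _ = z' := by rw [h2]

/-- `|A| ≤ |A ∩ S| |X : S|` -/
theorem ASx.card_le_inf_mul [Finite X] (h : ASx S T A) : Nat.card A ≤ Nat.card (S.subgroupOf A) * S.index := by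
  have hSn := h.norm
  have h4 : Nat.card (S.subgroupOf A) * (S.subgroupOf A).index = Nat.card A := card_mul_index _
  have h5 : (S.subgroupOf A).index ≤ S.index := by
    have h6 : S.relIndex A ∣ S.index := relIndex_dvd_index_of_normal _ _
    exact Nat.le_of_dvd (Nat.pos_of_ne_zero index_ne_zero_of_finite) h6
  calc Nat.card A = Nat.card (S.subgroupOf A) * (S.subgroupOf A).index := h4.symm
    _ ≤ _ := Nat.mul_le_mul_left _ h5

/-- `|A ∩ S| ≤ 2` if `A ∩ S ≤ {1, y}` -/
theorem card_subgroupOf_le_two [Finite X] {y : X} (hy : ∀ b ∈ A, b ∈ S → b = 1 ∨ b = y) :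
    Nat.card (S.subgroupOf A) ≤ 2 := by
  have h2 : ((S.subgroupOf A : Subgroup A) : Set A) ⊆ Subtype.val ⁻¹' ({1, y} : Set X) := by
    intro b hb
    rcases hy b b.2 (mem_subgroupOf.1 hb) with e | e
    · left; exact e
    · right; exact e
  have h3 : Nat.card (S.subgroupOf A) = (((S.subgroupOf A : Subgroup A) : Set A)).ncard := rfl
  rw [h3, ← Set.ncard_image_of_injective _ (Subtype.val_injective (p := fun x => x ∈ A))]
  refine (Set.ncard_le_ncard (t := ({1, y} : Set X)) ?_ (Set.toFinite _)).trans ?_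
  · rintro _ ⟨b, hb, rfl⟩
    exact h2 hb
  · exact (Set.ncard_insert_le _ _).trans (by rw [Set.ncard_singleton])

/-- `|A| ≤ 2 |X : S|` -/
theorem ASx.card_le_mul_of_loc [Finite X] (h : ASx S T A) {z : S} {P : Subgroup S} (L : Loc z P) :
    Nat.card A ≤ 2 * S.index := by
  obtain ⟨g, -, hg⟩ := h.exists_loc L
  exact h.card_le_inf_mul.trans (Nat.mul_le_mul_right _ (card_subgroupOf_le_two hg))

/-- a conjugate of `z` is in `A` if `|X : S| < |A|` -/
theorem ASx.mem_of_loc [Finite X] (h : ASx S T A) {z : S} {P : Subgroup S} (L : Loc z P) (hi : S.index < Nat.card A) :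
    ∃ g : X, g * z * g⁻¹ ∈ A := by
  obtain ⟨g, -, hg⟩ := h.exists_loc L
  refine ⟨g, ?_⟩
  by_contra hc
  have h1 : S.subgroupOf A = ⊥ := by
    rw [eq_bot_iff]
    intro b hb
    rcases hg b b.2 (mem_subgroupOf.1 hb) with e | e
    · exact mem_bot.2 (Subtype.ext e)
    · exact absurd (e ▸ b.2) hc
  have h2 := h.card_le_inf_mul
  rw [h1, card_bot, one_mul] at h2
  omega

end group

section module

variable {H : Type u} [Group H] {M : Type v} [Group M] [MulDistribMulAction H M] {K T A : Subgroup H}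

/-- `|M : C_M(x)| ≤ |A|`, `x ∈ A` -/
theorem InX.index_le_card_of_mem [Finite M] (h : InX H M K T A) {x : H} (hx : x ∈ A) :
    (cv M ({x} : Set H)).index ≤ Nat.card A := by
  rw [← h.exact]
  exact Nat.le_of_dvd (Nat.pos_of_ne_zero index_ne_zero_of_finite)
    (index_dvd_of_le (cv_anti (Set.singleton_subset_iff.2 hx)))

/-- **an inverted element** -/
theorem InX.false_of_invAt [Finite M] (h : InX H M K T A) {x : H} (hx : x ∈ A) {n : ℕ} (hA : Nat.card A < 2 ^ n)
    (hi : InvAt x n) : False := by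
  have h1 := InvRow.inv_big h.sq h.faith (h.el x hx) hi
  have h2 := h.index_le_card_of_mem hx
  omega

/-- `cv{x} = cv A` if `|A| ≤ 2 ^ n` and `InvAt x n` -/
theorem InX.cv_eq_of_invAt [Finite M] (h : InX H M K T A) {x : H} (hx : x ∈ A) {n : ℕ} (hA : Nat.card A ≤ 2 ^ n)
    (hi : InvAt x n) : Nat.card A = 2 ^ n ∧ cv M ({x} : Set H) = cv M (A : Set H) := by
  have h1 := InvRow.inv_big h.sq h.faith (h.el x hx) hi
  have h2 := h.index_le_card_of_mem hx
  refine ⟨by omega, ?_⟩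
  have h3 : cv M (A : Set H) ≤ cv M ({x} : Set H) := cv_anti (Set.singleton_subset_iff.2 hx)
  refine (le_antisymm h3 ?_).symm
  rw [← relIndex_eq_one]
  have h4 : (cv M (A : Set H)).relIndex (cv M ({x} : Set H)) * (cv M ({x} : Set H)).index =
      (cv M (A : Set H)).index := relIndex_mul_index h3
  have h5 : (cv M (A : Set H)).index ≠ 0 := index_ne_zero_of_finite
  rw [h.exact] at h4 h5
  have h6 : (cv M ({x} : Set H)).index = Nat.card A := by omega
  rw [h6] at h4
  exact Nat.eq_of_mul_eq_mul_right (Nat.pos_of_ne_zero h5) (by rw [h4, one_mul])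

/-- **The row with `Loc`**: `|Out(S)| < 4`, `InvAt z n`, `2 |Out(S)| < 2 ^ n`. -/
theorem deadX_of_loc {𝒮 : ∀ (S : Type u) [Group S], Prop} (hs : ∀ (S : Type u) [Group S] [Finite S], 𝒮 S →
    ∃ (z : S) (P : Subgroup S) (n k : ℕ), Loc z P ∧ (MulAut.conj : S →* MulAut S).range.index ∣ k ∧ 0 < k ∧ k < 4 ∧
      2 * k < 2 ^ n ∧ InvAt z n) : DeadX.{u, v} 𝒮 := by
  intro H _ _ M _ _ _ K T A h hS
  obtain ⟨z, P, n, k, L, hk, hk0, hk4, hkn, hz⟩ := hs K hS
  have h1 : K.index ≤ k := Nat.le_of_dvd hk0 (h.asx.index_dvd hk)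
  have h2 := h.four
  obtain ⟨g, hg⟩ := h.asx.mem_of_loc L (by omega)
  have h3 := h.asx.card_le_mul_of_loc L
  refine h.false_of_invAt hg (n := n) (by omega) ?_
  exact (hz.map K.subtype K.subtype_injective).conj g

end module

end Cfsg.Agent.Omega.ML.Ex

end

section


/-!
# The exact K-list: an involution of `K` with a large fixed space (helper842)

* **`ASx.exists_even`** : (K-free) `1 ≠ a ∈ A` : there is `k ∈ S` with `a · kak⁻¹` of even order
  [otherwise `a` centralises `R ∩ S` for `T ≤ R < X`, so `S` (`nmax`)];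
* `InX.exists_inv` : there is an involution `y ∈ K` with `|M : C_M(y)| ≤ |M : C_M(a)|²`;
* `InX.exists_inv_four` : `|A| = 4` : there is an involution `y ∈ K` with `|M : C_M(y)| ≤ 16`;
* `InX.card_le_of_four` : `|A| = 4`, `K` is generated by `m` conjugates of every involution: `|M| ≤ 16^m`.
-/

set_option autoImplicit false

namespace Cfsg.Agent.Omega.ML.Ex

open Subgroup Cfsg Cfsg.Agent.ZN Cfsg.Agent.ClassTwoFusion.Quad
open Cfsg.Agent.MinSimple.VModule (o2_isPGroup o2_le le_o2 le_normalizer_o2)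

universe u v

section grp

variable {X : Type u} [Group X] {S T A : Subgroup X}

/-- `S` is generated by the `R ∩ S`, `T ≤ R < X`. -/
theorem ASx.le_of_forall [Finite X] (h : ASx S T A) {C : Subgroup X}
    (hC : ∀ R : Subgroup X, T ≤ R → R ≠ ⊤ → R ⊓ S ≤ C) : S ≤ C := by
  have hS := h.norm
  let W : Subgroup X := ⨆ (R : Subgroup X) (_ : T ≤ R ∧ R ≠ ⊤), R ⊓ S
  have hWC : W ≤ C := iSup_le fun R => iSup_le fun hR => hC R hR.1 hR.2
  have hle : ∀ R : Subgroup X, T ≤ R → R ≠ ⊤ → R ⊓ S ≤ W := fun R h1 h2 =>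
    le_iSup_of_le R (le_iSup_of_le ⟨h1, h2⟩ le_rfl)
  have hWS : W ≤ S := iSup_le fun R => iSup_le fun _ => inf_le_right
  -- `T` normalises `W`
  have hTW : T ≤ normalizer (W : Set X) := by
    intro t ht
    rw [mem_normalizer_iff_map_conj_eq]
    have h1 : ∀ s ∈ T, W.map (MulAut.conj s).toMonoidHom ≤ W := by
      intro s hs
      rw [Subgroup.map_iSup]
      refine iSup_le fun R => ?_
      rw [Subgroup.map_iSup]
      refine iSup_le fun hR => ?_
      refine le_trans ?_ (hle R hR.1 hR.2)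
      rintro _ ⟨r, hr, rfl⟩
      exact ⟨R.mul_mem (R.mul_mem (hR.1 hs) hr.1) (R.inv_mem (hR.1 hs)), hS.conj_mem r hr.2 s⟩
    refine le_antisymm (h1 t ht) ?_
    intro w hw
    have h2 := h1 t⁻¹ (inv_mem ht) ⟨w, hw, rfl⟩
    refine ⟨_, h2, ?_⟩
    simp [mul_assoc]
  -- `W ⊔ T = ⊤`
  have htop : T ⊔ W = ⊤ := by
    by_contra hne
    refine h.nmax ⟨T ⊔ W, hne, fun R hTR hR r hr => ?_⟩
    have h3 : r ∈ S ⊔ T := by rw [h.gen]; exact mem_top r
    rw [mem_sup_of_normal_left] at h3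
    obtain ⟨s, hs, t, ht, rfl⟩ := h3
    have h4 : s ∈ R := by
      have := R.mul_mem hr (R.inv_mem (hTR ht))
      rwa [mul_inv_cancel_right] at this
    exact mul_mem ((le_sup_right : W ≤ T ⊔ W) (hle R hTR hR ⟨h4, hs⟩)) ((le_sup_left : T ≤ T ⊔ W) ht)
  intro s hs
  have h3 : s ∈ ((T ⊔ W : Subgroup X) : Set X) := by rw [htop]; exact mem_top s
  rw [coe_mul_of_left_le_normalizer_right _ _ hTW] at h3
  obtain ⟨t, ht, w, hw, rfl⟩ := h3
  have h4 : t ∈ S := by
    have := S.mul_mem hs (S.inv_mem (hWS hw))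
    change t * w * w⁻¹ ∈ S at this
    rwa [mul_inv_cancel_right] at this
  exact C.mul_mem (hC T le_rfl h.ne_top ⟨ht, h4⟩) (hWC hw)

/-- **There is `k ∈ S` with `a · kak⁻¹` of even order.** -/
theorem ASx.exists_even [Finite X] (h : ASx S T A) {a : X} (ha : a ∈ A) (ha1 : a ≠ 1) :
    ∃ k ∈ S, 2 ∣ orderOf (a * (k * a * k⁻¹)) := by
  by_contra hcon
  push Not at hcon
  have h1 : S ≤ centralizer ({a} : Set X) := by
    refine h.le_of_forall fun R hTR hR r hr => ?_
    have hN : R ≤ normalizer (o2 R : Set X) := le_normalizer_o2 R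
    have h2 : a ∈ o2 R := h.low R hTR hR ha
    have h3 : r * a * r⁻¹ ∈ o2 R := ((mem_normalizer_iff.1 (hN hr.1)) a).1 h2
    have h4 : a * (r * a * r⁻¹) ∈ o2 R := mul_mem h2 h3
    obtain ⟨n, hn⟩ := (o2_isPGroup R) ⟨_, h4⟩
    have h5 : (a * (r * a * r⁻¹)) ^ 2 ^ n = 1 := congrArg Subtype.val hn
    obtain ⟨k, -, hk⟩ := (Nat.dvd_prime_pow Nat.prime_two).1 (orderOf_dvd_of_pow_eq_one h5)
    have h6 : k = 0 := by
      by_contra h6
      exact hcon r hr.2 (by rw [hk]; exact dvd_pow_self 2 h6)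
    rw [h6, pow_zero, orderOf_eq_one_iff] at hk
    have h7 : a * a = 1 := h.el a ha
    rw [mem_centralizer_singleton_iff]
    have h8 : r * a * r⁻¹ = a := by
      have h9 : a⁻¹ = a := inv_eq_of_mul_eq_one_right h7
      calc r * a * r⁻¹ = a⁻¹ * (a * (r * a * r⁻¹)) := by group
        _ = a := by rw [hk, mul_one, h9]
    calc r * a = (r * a * r⁻¹) * r := by group
      _ = a * r := by rw [h8]
  have h2 : a ∈ centralizer (S : Set X) := by
    rw [mem_centralizer_iff]
    intro s hs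
    exact mem_centralizer_singleton_iff.1 (h1 hs)
  rw [h.cen] at h2
  exact ha1 (mem_bot.1 h2)

/-- An involution of `S` in `⟨a, a^k⟩`. -/
theorem ASx.exists_inv_mem [Finite X] (h : ASx S T A) {a : X} (ha : a ∈ A) (ha1 : a ≠ 1) :
    ∃ k ∈ S, ∃ y ∈ S, y ≠ 1 ∧ y * y = 1 ∧ y ∈ zpowers (a * (k * a * k⁻¹)) := by
  obtain ⟨k, hk, m, hm⟩ := h.exists_even ha ha1
  set u : X := a * (k * a * k⁻¹) with hu
  have hS := h.norm
  have h7 : a * a = 1 := h.el a ha
  have h9 : a⁻¹ = a := inv_eq_of_mul_eq_one_right h7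
  have h0 : 0 < orderOf u := orderOf_pos u
  have hm0 : 0 < m := by omega
  have huS : u ∈ S := by
    have h1 : u = (a * k * a⁻¹) * k⁻¹ := by rw [hu, h9]; group
    rw [h1]
    exact S.mul_mem (hS.conj_mem k hk a) (S.inv_mem hk)
  refine ⟨k, hk, u ^ m, S.pow_mem huS m, ?_, ?_, (zpowers u).pow_mem (mem_zpowers u) m⟩
  · intro h1
    have h2 := orderOf_dvd_of_pow_eq_one h1
    have h3 := Nat.le_of_dvd hm0 h2
    omega
  · rw [← pow_add, ← two_mul, ← hm, pow_orderOf_eq_one]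

end grp

section module

variable {H : Type u} [Group H] {M : Type v} [Group M] [MulDistribMulAction H M] {K T A : Subgroup H}

theorem index_inf_le_mul [Finite M] (U W : Subgroup M) : (U ⊓ W).index ≤ U.index * W.index := by
  exact Subgroup.index_inf_le

/-- **An involution `y ∈ K` with `|M : C_M(y)| ≤ |M : C_M(a)|²`.** -/
theorem InX.exists_inv [Finite H] [Finite M] (h : InX H M K T A) {a : H} (ha : a ∈ A) (ha1 : a ≠ 1) :
    ∃ y ∈ K, y ≠ 1 ∧ y * y = 1 ∧
      (cv M ({y} : Set H)).index ≤ (cv M ({a} : Set H)).index * (cv M ({a} : Set H)).index := by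
  obtain ⟨k, hk, y, hy, hy1, hyy, hyu⟩ := h.asx.exists_inv_mem ha ha1
  refine ⟨y, hy, hy1, hyy, ?_⟩
  have h1 : cv M ({a} : Set H) ⊓ cv M ({k * a * k⁻¹} : Set H) ≤ cv M ({y} : Set H) := by
    rintro m ⟨h2, h3⟩
    have h2 : a • m = m := mem_cv_singleton.1 h2
    have h3 : (k * a * k⁻¹) • m = m := mem_cv_singleton.1 h3
    rw [mem_cv_singleton]
    have h4 : zpowers (a * (k * a * k⁻¹)) ≤ MulAction.stabilizer H m := by
      rw [zpowers_le, MulAction.mem_stabilizer_iff, mul_smul, h3, h2]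
    exact MulAction.mem_stabilizer_iff.1 (h4 hyu)
  calc (cv M ({y} : Set H)).index ≤ (cv M ({a} : Set H) ⊓ cv M ({k * a * k⁻¹} : Set H)).index :=
        Nat.le_of_dvd (Nat.pos_of_ne_zero Subgroup.index_ne_zero_of_finite) (Subgroup.index_dvd_of_le h1)
    _ ≤ (cv M ({a} : Set H)).index * (cv M ({k * a * k⁻¹} : Set H)).index := index_inf_le_mul _ _
    _ = _ := by rw [cv_conj_index]

/-- **`|A| = 4`** : an involution `y ∈ K` with `|M : C_M(y)| ≤ 16`. -/
theorem InX.exists_inv_four [Finite H] [Finite M] (h : InX H M K T A) (h4 : Nat.card A = 4) :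
    ∃ y ∈ K, y ≠ 1 ∧ y * y = 1 ∧ (cv M ({y} : Set H)).index ≤ 16 := by
  have hn : Nontrivial A := (Subgroup.one_lt_card_iff_ne_bot A).1 (by omega) |> fun h1 =>
    (Subgroup.nontrivial_iff_ne_bot A).2 h1
  obtain ⟨a, ha⟩ := exists_ne (1 : A)
  obtain ⟨y, hy, hy1, hyy, hle⟩ := h.exists_inv a.2 (fun h1 => ha (Subtype.ext h1))
  refine ⟨y, hy, hy1, hyy, hle.trans ?_⟩
  have h5 := h.index_le_four h4 a.2
  exact (Nat.mul_le_mul h5 h5).trans (by norm_num)

/-- **`|A| = 4`**, `K` is generated by `m` conjugates of every involution: `|M| ≤ 16^m`. -/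
theorem InX.card_le_of_four [Finite H] [Finite M] (h : InX H M K T A) (h4 : Nat.card A = 4) {m : ℕ}
    (hg : ∀ x : K, x ≠ 1 → x * x = 1 → ∃ l : Fin m → K, closure (Set.range fun i => l i * x * (l i)⁻¹) = ⊤) :
    Nat.card M ≤ 16 ^ m := by
  obtain ⟨y, hy, hy1, hyy, hle⟩ := h.exists_inv_four h4
  obtain ⟨l, hl⟩ := hg ⟨y, hy⟩ (fun h1 => hy1 (congrArg Subtype.val h1)) (Subtype.ext hyy)
  have h3 : K ≤ closure (Set.range fun i => (l i : H) * y * (l i : H)⁻¹) := by
    have h3 := congrArg (Subgroup.map K.subtype) hl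
    rw [MonoidHom.map_closure, ← Set.range_comp, ← MonoidHom.range_eq_map, range_subtype] at h3
    exact le_of_eq h3.symm
  exact (Gen.card_le_conj_index h y _ h3).trans (Nat.pow_le_pow_left hle m)

end module

end Cfsg.Agent.Omega.ML.Ex

end

section


/-!
# The K-list for EXACT subgroups (EXL), T5: inverted elements (helper661)

`H` acts on the group `M` of exponent 2, `A ≤ H` elementary abelian with `|M : C_M(A)| ≤ |A|` (`hex`; exact or strict).

* `index_le` : `|M : C_M(x)| ≤ |A|` for `x ∈ A`;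
* **`lt_or_eq`** (D) : `|M : C_M(x)| < |A|` or `EQ(x)`: `C_M(x) = C_M(A)`;
* **`exists_normal`** : `EQ(x)` ⟹ `C_H(x)` has a normal elementary abelian 2-subgroup `E ≥ A`;
* `inv_le` (I) : `x ∈ A` inverts `w` of odd order ⟹ `|M : C_M(w)| ≤ |A|²`;
* `inv_card` : `x ∈ A`, `InvAt x n` ⟹ `2 ^ n ≤ |A|`;  **`inv_eq`** : if moreover `|A| ≤ 2 ^ n` : `|A| = 2 ^ n` and `EQ(x)`;
* `InX.{card_le, index_le, exists_mem, inv_lt, inv_eq, exists_sub}` : the same for the literal situation, with `K` simple;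
* **`dead`**, `dead_strong` : rows.
-/

set_option autoImplicit false

namespace Cfsg.Agent.Omega.ML.Ex.Inv

open Subgroup Cfsg Cfsg.Agent.ZN Cfsg.Agent.Omega.NOThree.NoOver Cfsg.Agent.Omega.ML.CD
open Cfsg.Agent.Omega.ML.InvChain Cfsg.Agent.Omega.TwoF
open Cfsg.Agent.ClassTwoFusion.Quad

universe u v w

section weak

variable {H : Type u} [Group H] {M : Type v} [Group M] [MulDistribMulAction H M] {A : Subgroup H}

/-- `|M : C_M(x)| ≤ |A|` -/
theorem index_le [Finite M] (hex : (cv M (A : Set H)).index ≤ Nat.card A) {x : H} (hx : x ∈ A) :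
    (cv M ({x} : Set H)).index ≤ Nat.card A :=
  (Nat.le_of_dvd (Nat.pos_of_ne_zero index_ne_zero_of_finite)
    (index_dvd_of_le (cv_anti (Set.singleton_subset_iff.2 hx)))).trans hex

/-- **(D) The dichotomy** -/
theorem lt_or_eq [Finite M] (hex : (cv M (A : Set H)).index ≤ Nat.card A) {x : H} (hx : x ∈ A) :
    (cv M ({x} : Set H)).index < Nat.card A ∨ cv M ({x} : Set H) = cv M (A : Set H) := by
  have hle : cv M (A : Set H) ≤ cv M ({x} : Set H) := cv_anti (Set.singleton_subset_iff.2 hx)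
  rcases lt_or_ge (cv M ({x} : Set H)).index (Nat.card A) with h1 | h1
  · exact Or.inl h1
  · right
    refine le_antisymm ?_ hle
    rw [← relIndex_eq_one]
    have h2 : (cv M (A : Set H)).relIndex (cv M ({x} : Set H)) * (cv M ({x} : Set H)).index =
      (cv M (A : Set H)).index := relIndex_mul_index hle
    have h3 : 0 < (cv M ({x} : Set H)).index := Nat.pos_of_ne_zero index_ne_zero_of_finite
    have h4 : 0 < (cv M (A : Set H)).relIndex (cv M ({x} : Set H)) := by
      refine Nat.pos_of_ne_zero fun h5 => ?_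
      rw [h5, zero_mul] at h2
      exact index_ne_zero_of_finite h2.symm
    by_contra h5
    have h6 : 2 ≤ (cv M (A : Set H)).relIndex (cv M ({x} : Set H)) := by omega
    have h7 : 2 * (cv M ({x} : Set H)).index ≤ (cv M (A : Set H)).index := by
      rw [← h2]
      exact Nat.mul_le_mul_right _ h6
    omega

theorem eq_of_le [Finite M] (hex : (cv M (A : Set H)).index ≤ Nat.card A) {x : H} (hx : x ∈ A)
    (h : Nat.card A ≤ (cv M ({x} : Set H)).index) : cv M ({x} : Set H) = cv M (A : Set H) :=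
  (lt_or_eq hex hx).resolve_left (by omega)

/-- `EQ(x)` : `A` is quadratic. -/
theorem com_of_eq (sq : ∀ m : M, m * m = 1) {x : H} (hx2 : x * x = 1) (hxc : ∀ a ∈ A, a * x = x * a)
    (heq : cv M ({x} : Set H) = cv M (A : Set H)) {a : H} (ha : a ∈ A) (m : M) :
    (a • m) * m⁻¹ ∈ cv M (A : Set H) := by
  have hc := InvFrob.comm_of_sq sq
  have hi : ∀ y : M, y⁻¹ = y := fun y => inv_eq_of_mul_eq_one_right (sq y)
  have h1 : (x • m) * m ∈ cv M ({x} : Set H) := by
    rw [mem_cv_singleton, smul_mul', ← mul_smul, hx2, one_smul, hc]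
  rw [heq] at h1
  have h2 : a • ((x • m) * m) = (x • m) * m := h1 a ha
  rw [hi, ← heq, mem_cv_singleton, smul_mul', ← mul_smul, ← hxc a ha, mul_smul]
  rw [smul_mul'] at h2
  have h3 : a • x • m = (x • m) * m * (a • m) := by
    rw [← h2, mul_assoc, sq, mul_one]
  rw [h3]
  calc (x • m) * m * (a • m) * (x • m) = (x • m) * (m * (a • m)) * (x • m) := by rw [mul_assoc (x • m) m]
    _ = (x • m) * (x • m) * (m * (a • m)) := by rw [mul_assoc, hc (m * (a • m)), ← mul_assoc]
    _ = (a • m) * m := by rw [sq, one_mul, hc]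

/-- `EQ(x)` : `A ≤ EE(C_M(A))`. -/
theorem le_EE (sq : ∀ m : M, m * m = 1) {x : H} (hx2 : x * x = 1) (hxc : ∀ a ∈ A, a * x = x * a)
    (heq : cv M ({x} : Set H) = cv M (A : Set H)) : A ≤ (TIE.EE (cv M (A : Set H)) : Subgroup H) :=
  fun _ ha => ⟨fun _ hm => hm _ ha, fun m => com_of_eq sq hx2 hxc heq ha m⟩

/-- **`EQ(x)` ⟹ `C_H(x)` has a normal elementary abelian 2-subgroup which contains `A`.** -/
theorem exists_normal (sq : ∀ m : M, m * m = 1) (faith : ∀ h : H, (∀ m : M, h • m = m) → h = 1)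
    (el : ∀ a ∈ A, a * a = 1) {x : H} (hx : x ∈ A) (heq : cv M ({x} : Set H) = cv M (A : Set H)) :
    ∃ E : Subgroup H, A ≤ E ∧ (∀ e ∈ E, e * e = 1) ∧ cv M (E : Set H) = cv M (A : Set H) ∧
      (∀ e ∈ E, ∀ m : M, (e • m) * m⁻¹ ∈ cv M (A : Set H)) ∧
      ∀ g : H, g * x = x * g → ∀ e ∈ E, g * e * g⁻¹ ∈ E := by
  have hA : ∀ a ∈ A, a * x = x * a := by
    intro a ha
    have h1 : ∀ z ∈ A, z⁻¹ = z := fun z hz => inv_eq_of_mul_eq_one_right (el z hz)
    calc a * x = (a * x)⁻¹ := (h1 _ (A.mul_mem ha hx)).symm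
      _ = x⁻¹ * a⁻¹ := mul_inv_rev _ _
      _ = x * a := by rw [h1 _ ha, h1 _ hx]
  have hle := le_EE sq (el x hx) hA heq
  refine ⟨TIE.EE (cv M (A : Set H)), hle, fun e he => TIE.EE_sq sq faith he, ?_, fun e he => he.2, ?_⟩
  · refine le_antisymm (cv_anti (SetLike.coe_subset_coe.2 hle)) ?_
    intro m hm e he
    exact he.1 m hm
  · intro g hg e he
    refine TIE.smul_mem_EE (fun m => ?_) he
    rw [← heq, mem_cv_singleton, mem_cv_singleton, ← mul_smul, ← hg, mul_smul, smul_left_cancel_iff]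

/-- **(I)** `x ∈ A` inverts `w` of odd order ⟹ `|M : C_M(w)| ≤ |A|²` -/
theorem inv_le [Finite M] (hex : (cv M (A : Set H)).index ≤ Nat.card A) (el : ∀ a ∈ A, a * a = 1) {x w : H}
    (hx : x ∈ A) {n : ℕ} (hw : x * w * x⁻¹ = w⁻¹) (ho : Odd n) (hn : w ^ n = 1) :
    (cv M ({w} : Set H)).index ≤ Nat.card A ^ 2 :=
  (InvFrob.inv_index (M := M) (el x hx) hw ho hn).trans (Nat.pow_le_pow_left (index_le hex hx) 2)

/-- `InvAt x n` ⟹ `2 ^ n ≤ |A|` -/
theorem inv_card [Finite M] (sq : ∀ m : M, m * m = 1) (faith : ∀ h : H, (∀ m : M, h • m = m) → h = 1)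
    (hex : (cv M (A : Set H)).index ≤ Nat.card A) (el : ∀ a ∈ A, a * a = 1) {x : H} (hx : x ∈ A) {n : ℕ}
    (h : InvAt x n) : 2 ^ n ≤ Nat.card A :=
  (InvRow.inv_big sq faith (el x hx) h).trans (index_le hex hx)

/-- **`InvAt x n`, `|A| ≤ 2 ^ n`** : `|A| = 2 ^ n` and `EQ(x)` -/
theorem inv_eq [Finite M] (sq : ∀ m : M, m * m = 1) (faith : ∀ h : H, (∀ m : M, h • m = m) → h = 1)
    (hex : (cv M (A : Set H)).index ≤ Nat.card A) (el : ∀ a ∈ A, a * a = 1) {x : H} (hx : x ∈ A) {n : ℕ}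
    (hn : Nat.card A ≤ 2 ^ n) (h : InvAt x n) :
    Nat.card A = 2 ^ n ∧ cv M ({x} : Set H) = cv M (A : Set H) := by
  have h1 := InvRow.inv_big sq faith (el x hx) h
  exact ⟨le_antisymm hn (inv_card sq faith hex el hx h), eq_of_le hex hx (hn.trans h1)⟩

end weak

section lit

variable {H : Type u} [Group H] {M : Type v} [Group M] [MulDistribMulAction H M] {K T A : Subgroup H}

/-- `H` acts faithfully on `K`. -/
theorem conjNormal_injective [K.Normal] (hc : centralizer (K : Set H) = ⊥) :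
    Function.Injective (MulAut.conjNormal : H →* MulAut K) := by
  rw [injective_iff_map_eq_one]
  intro g hg
  rw [← mem_bot, ← hc, mem_centralizer_iff]
  intro k hk
  have h1 := congrArg (fun φ : MulAut K => ((φ ⟨k, hk⟩ : K) : H)) hg
  simp only [MulAut.conjNormal_apply, MulAut.one_apply] at h1
  exact (mul_inv_eq_iff_eq_mul.1 h1).symm

/-- `|H : K| ≤ |Out(K)|` -/
theorem asx_index_le [Finite H] (h : ASx K T A) : K.index ≤ (MulAut.conj : K →* MulAut K).range.index := by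
  have hN := h.norm
  have : Finite (MulAut K) :=
    Finite.of_injective (fun φ => (φ : K → K)) DFunLike.coe_injective
  set R := (MulAut.conj : K →* MulAut K).range with hR
  have h1 : R.comap (MulAut.conjNormal : H →* MulAut K) ≤ K := by
    intro g hg
    obtain ⟨k, hk⟩ := hg
    have h3 : (MulAut.conjNormal (k : H) : MulAut K) = MulAut.conj k := by
      ext x
      rw [MulAut.conjNormal_apply, MulAut.conj_apply]
      rfl
    have h2 := conjNormal_injective h.cen (h3.trans hk)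
    rw [← h2]
    exact k.2
  calc K.index ≤ (R.comap (MulAut.conjNormal : H →* MulAut K)).index :=
        Nat.le_of_dvd (Nat.pos_of_ne_zero index_ne_zero_of_finite) (index_dvd_of_le h1)
    _ = R.relIndex (MulAut.conjNormal : H →* MulAut K).range := by rw [index_comap]
    _ ≤ R.relIndex ⊤ := relIndex_le_of_le_right le_top (by rw [relIndex_top_right]; exact index_ne_zero_of_finite)
    _ = R.index := relIndex_top_right R

/-- **`|A| ≤ 2 ^ n`** if `RK K n` -/
theorem asx_card_le (h : ASx K T A) {n : ℕ} (hrk : RK K n) : Nat.card A ≤ 2 ^ n := by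
  have hN := h.norm
  refine hrk.card_le_of_injective ((MulAut.conjNormal : H →* MulAut K).comp A.subtype)
    ((conjNormal_injective h.cen).comp A.subtype_injective) (fun x => ?_)
  rw [pow_two]
  exact Subtype.ext (h.el x x.2)

/-- `|A| ≤ |Out(K)| |A ∩ K|` -/
theorem asx_card_inf [Finite H] (h : ASx K T A) :
    Nat.card A ≤ (MulAut.conj : K →* MulAut K).range.index * Nat.card ↥(K ⊓ A) := by
  have hN := h.norm
  have h1 : K.relIndex A * Nat.card ↥(K ⊓ A) = Nat.card A := by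
    have h2 := relIndex_mul_relIndex (⊥ : Subgroup H) (K ⊓ A) A bot_le inf_le_right
    rw [relIndex_bot_left, relIndex_bot_left, inf_relIndex_right, mul_comm] at h2
    exact h2
  have h3 : K.relIndex A ≤ K.relIndex ⊤ :=
    relIndex_le_of_le_right le_top (by rw [relIndex_top_right]; exact index_ne_zero_of_finite)
  rw [relIndex_top_right] at h3
  rw [← h1]
  exact Nat.mul_le_mul_right _ (h3.trans (asx_index_le h))

/-- **`A ∩ K ≠ 1`** if `|Out K| < |A|` -/
theorem asx_exists_mem [Finite H] (h : ASx K T A)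
    (hout : (MulAut.conj : K →* MulAut K).range.index < Nat.card A) : ∃ x ∈ A, x ∈ K ∧ x ≠ 1 := by
  by_contra hc
  push Not at hc
  have h1 : K ⊓ A = ⊥ := by
    rw [eq_bot_iff]
    rintro x ⟨hx1, hx2⟩
    exact hc x hx2 hx1
  have h2 := asx_card_inf h
  rw [h1, card_bot, mul_one] at h2
  omega

/-- `x ∈ A ∩ K`, `InvAt x n` in `K` : `2 ^ n ≤ |A|` -/
theorem inX_inv_card [Finite M] (h : InX H M K T A) {n : ℕ} {x : K} (hxA : (x : H) ∈ A) (hx : InvAt x n) :
    2 ^ n ≤ Nat.card A :=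
  inv_card h.sq h.faith h.exact.le h.el hxA (hx.map K.subtype K.subtype_injective)

/-- **`x ∈ A ∩ K`, `InvAt x n` in `K`, `|A| ≤ 2 ^ n`** : `|A| = 2 ^ n` and `EQ(x)` -/
theorem inX_inv_eq [Finite M] (h : InX H M K T A) {n : ℕ} (hn : Nat.card A ≤ 2 ^ n) {x : K} (hxA : (x : H) ∈ A)
    (hx : InvAt x n) : Nat.card A = 2 ^ n ∧ cv M ({(x : H)} : Set H) = cv M (A : Set H) :=
  inv_eq h.sq h.faith h.exact.le h.el hxA hn (hx.map K.subtype K.subtype_injective)

/-- **`EQ(x)`, `x ∈ K`** : `C_K(x)` has a normal elementary abelian subgroup `E ∋ x` which contains `A ∩ K`, and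
`|A| ≤ |Out K| |E|`. -/
theorem inX_exists_sub [Finite H] (h : InX H M K T A) {x : K} (hxA : (x : H) ∈ A)
    (heq : cv M ({(x : H)} : Set H) = cv M (A : Set H)) :
    ∃ E : Subgroup K, x ∈ E ∧ A.subgroupOf K ≤ E ∧ (∀ e ∈ E, e * e = 1) ∧
      (∀ g : K, g * x = x * g → ∀ e ∈ E, g * e * g⁻¹ ∈ E) ∧
      Nat.card A ≤ (MulAut.conj : K →* MulAut K).range.index * Nat.card E := by
  obtain ⟨E, h1, h2, -, -, h3⟩ := exists_normal h.sq h.faith h.el hxA heq
  have h4 : A.subgroupOf K ≤ E.subgroupOf K := fun y hy => h1 hy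
  refine ⟨E.subgroupOf K, h1 hxA, h4, fun e he => Subtype.ext (h2 e he), fun g hg e he => ?_, ?_⟩
  · exact h3 g (congrArg Subtype.val hg) e he
  · refine (asx_card_inf h.asx).trans (Nat.mul_le_mul_left _ ?_)
    have h5 : Nat.card ↥(K ⊓ A) = Nat.card (A.subgroupOf K) := by
      have h6 : (A.subgroupOf K).map K.subtype = K ⊓ A := by
        rw [subgroupOf_map_subtype, inf_comm]
      rw [← h6]
      exact (Nat.card_congr ((A.subgroupOf K).equivMapOfInjective K.subtype K.subtype_injective).toEquiv).symm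
    rw [h5]
    exact card_le_of_le h4

/-- **The row** : `RK S n`, `|Out S| < 4`, for all involutions `x` : `InvAt x n` and `|Out S| |E| < 2 ^ n` for all elementary
abelian `E ∋ x` which are normal in `C_S(x)`. -/
theorem dead {𝒮 : ∀ (S : Type u) [Group S], Prop} (h𝒮 : ∀ (S : Type u) [Group S] [Finite S], 𝒮 S → ∃ n, RK S n ∧
    (MulAut.conj : S →* MulAut S).range.index < 4 ∧ ∀ x : S, x * x = 1 → x ≠ 1 → InvAt x n ∧
      ∀ E : Subgroup S, x ∈ E → (∀ e ∈ E, e * e = 1) → (∀ g : S, g * x = x * g → ∀ e ∈ E, g * e * g⁻¹ ∈ E) →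
        (MulAut.conj : S →* MulAut S).range.index * Nat.card E < 2 ^ n) : DeadX.{u, v} 𝒮 := by
  intro H _ _ M _ _ _ K T A h hS
  obtain ⟨n, hrk, hout, hinv⟩ := h𝒮 _ hS
  obtain ⟨x, hxA, hxK, hx1⟩ := asx_exists_mem h.asx (hout.trans_le h.four)
  obtain ⟨h1, h2⟩ := hinv ⟨x, hxK⟩ (Subtype.ext (h.el x hxA)) fun h3 => hx1 (congrArg Subtype.val h3)
  obtain ⟨h3, h4⟩ := inX_inv_eq h (asx_card_le h.asx hrk) (x := ⟨x, hxK⟩) hxA h1
  obtain ⟨E, h5, -, h6, h7, h8⟩ := inX_exists_sub h (x := ⟨x, hxK⟩) hxA h4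
  have h9 := h2 E h5 h6 h7
  omega

/-- The row if `RK S n` and `InvAt x (n + 1)` for all involutions. -/
theorem dead_strong {𝒮 : ∀ (S : Type u) [Group S], Prop} (h𝒮 : ∀ (S : Type u) [Group S] [Finite S], 𝒮 S → ∃ n,
    RK S n ∧ (MulAut.conj : S →* MulAut S).range.index < 4 ∧ ∀ x : S, x * x = 1 → x ≠ 1 → InvAt x (n + 1)) :
    DeadX.{u, v} 𝒮 := by
  intro H _ _ M _ _ _ K T A h hS
  obtain ⟨n, hrk, hout, hinv⟩ := h𝒮 _ hS
  obtain ⟨x, hxA, hxK, hx1⟩ := asx_exists_mem h.asx (hout.trans_le h.four)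
  have h1 := hinv ⟨x, hxK⟩ (Subtype.ext (h.el x hxA)) fun h3 => hx1 (congrArg Subtype.val h3)
  have h2 := inX_inv_card h (x := ⟨x, hxK⟩) hxA h1
  have h3 := asx_card_le h.asx hrk
  have h4 : 2 ^ n < 2 ^ (n + 1) := Nat.pow_lt_pow_right (by norm_num) (Nat.lt_succ_self n)
  omega

end lit

end Cfsg.Agent.Omega.ML.Ex.Inv

end

section


/-!
# The K-list for EXACT subgroups: all forms of a row give `DeadN` (helper441)

* `InN.toA` : 995's `InN H N K T A` gives `InA H N K T A`;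
* **`DeadA.deadN`**, **`Row.deadN`** : a row over `InA`, or over both modules, gives `DeadN` (995's `DeadX.deadN` is the
  third conversion);  `DeadN.mono'`.
-/

set_option autoImplicit false

namespace Cfsg.Agent.Omega.ML.Ex

open Subgroup Cfsg Cfsg.Agent.ZN Cfsg.Agent.Omega.NOThree.NoOver Cfsg.Agent.Omega.ML.CD
open Cfsg.Agent.ClassTwoFusion.Quad Cfsg.Agent.Omega.ML.MinFrame

universe u v

theorem InN.toA {H : Type u} [Group H] {N : Type v} [Group N] [MulDistribMulAction H N] {K T A : Subgroup H}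
    (h : InN H N K T A) : InA H N K T A where
  sq := h.sq
  faith := h.faith
  norm := h.norm
  simple := h.simple
  cen := h.cen
  gen := h.gen
  two := h.two
  syl := h.syl
  AT := h.AT
  el := h.el
  four := h.four
  exact := h.exact
  atom := h.atom
  low := h.low
  nmax := h.nmax

/-- **Rows over `InA` are rows for `InN`.** -/
theorem DeadA.deadN {𝒮 : ∀ (S : Type u) [Group S], Prop} (hd : DeadA.{u, v} 𝒮) : DeadN.{u, v} 𝒮 :=
  fun H _ _ N _ _ _ K T A h hS => hd H N K T A h.toA hS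

/-- **Rows over both modules are rows for `InN`.** -/
theorem Row.deadN {𝒮 : ∀ (S : Type u) [Group S], Prop} (hd : Row.{u, v} 𝒮) : DeadN.{u, v} 𝒮 := by
  intro H _ _ N _ _ _ K T A h hS
  have hnor := h.ck_normal
  let _ := modAct (H := H) (InN.ck N K) h.smul_mem_ck
  exact hd H (N ⧸ InN.ck N K) N K T A h.inX h.toA hS

/-- smaller classes -/
theorem DeadN.mono' {𝒮 𝒮' : ∀ (S : Type u) [Group S], Prop} (h : DeadN.{u, v} 𝒮)
    (h' : ∀ (S : Type u) [Group S], 𝒮' S → 𝒮 S) : DeadN.{u, v} 𝒮' :=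
  fun H _ _ N _ _ _ K T A hI hS => h H N K T A hI (h' _ hS)

end Cfsg.Agent.Omega.ML.Ex

end

section


/-!
# The K-list for EXACT subgroups: the bridges between the literals (helper585)

`DeadN 𝒮` (helper995) is the weakest form of a row:

* `InN.inA` : the module `N` of `InN` is as in `InA`;
* **`DeadX.deadN`** (DefN.lean), **`DeadA.deadN`**, **`Row.deadN`** (InAN.lean) : every form of a row gives `DeadN`;
* `DeadN.mono`, `DeadN.or`;
* `InX.inN` : `InX` and `Atm M A` give `InN` (and `InA`) for the same module.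
-/

set_option autoImplicit false

namespace Cfsg.Agent.Omega.ML.Ex

open Subgroup Cfsg Cfsg.Agent.ZN Cfsg.Agent.ClassTwoFusion.Quad Cfsg.Agent.Omega.ML.MinFrame

universe u v

section

variable {H : Type u} [Group H] {N : Type v} [Group N] [MulDistribMulAction H N] {K T A : Subgroup H}

/-- the module `N` of `InN` with its exact atom -/
theorem InN.inA (h : InN H N K T A) : InA H N K T A where
  sq := h.sq
  faith := h.faith
  norm := h.norm
  simple := h.simple
  cen := h.cen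
  gen := h.gen
  two := h.two
  syl := h.syl
  AT := h.AT
  el := h.el
  four := h.four
  exact := h.exact
  atom := h.atom
  low := h.low
  nmax := h.nmax

/-- an atom of an irreducible module -/
theorem InX.inN [Finite H] [Finite N] (h : InX H N K T A) (hat : Atm N A) : InN H N K T A := InN.of_inX h hat

end

/-- smaller classes -/
theorem DeadN.mono {𝒮 𝒮' : ∀ (S : Type u) [Group S], Prop} (h : DeadN.{u, v} 𝒮)
    (h' : ∀ (S : Type u) [Group S], 𝒮' S → 𝒮 S) : DeadN.{u, v} 𝒮' :=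
  fun H _ _ N _ _ _ K T A hI hS => h H N K T A hI (h' _ hS)

theorem DeadN.or {𝒮 𝒮' : ∀ (S : Type u) [Group S], Prop} (h : DeadN.{u, v} 𝒮) (h' : DeadN.{u, v} 𝒮') :
    DeadN.{u, v} fun S _ => 𝒮 S ∨ 𝒮' S :=
  fun H _ _ N _ _ _ K T A hI hS =>
    hS.elim (fun h1 => h H N K T A hI h1) fun h1 => h' H N K T A hI h1

end Cfsg.Agent.Omega.ML.Ex

end

section


/-!
# The K-list for EXACT ATOMS (EXL), over `InN`: the list of all rows (helper484)

* `InN.not_comm`, `InN.not_primeCyclic` (`DeadN.mono`, `DeadN.or` : Bridge.lean);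
* **`RowsX.exitN`** : from the rows `RowsX` and the row `A₆` for atoms: in the situation `InN` a known `K` is of Lie type
  in characteristic 2 or `U₃(3) = G₂(2)'`;
* `RowsX.exitA` : the same for `InX` and an atom `A`;
* `RowsN` : the list with fields `DeadN 𝒮`, if some row is known for atoms only; **`RowsN.exit`**, `RowsN.exitX`;
  `RowsX.rowsN`.
-/

set_option autoImplicit false

namespace Cfsg.Agent.Omega.ML.Ex

open Subgroup Cfsg Cfsg.Agent.Omega.ML.Known Cfsg.Agent.Omega.ML.Rows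

universe u v

/-- `K` is not abelian -/
theorem InN.not_comm {H : Type u} [Group H] {M : Type v} [Group M] [MulDistribMulAction H M] {K T A : Subgroup H}
    (h : InN H M K T A) : ¬ ∀ a b : K, a * b = b * a := by
  intro hc
  have h1 : K ≤ centralizer (K : Set H) := by
    intro x hx
    rw [mem_centralizer_iff]
    intro y hy
    exact congrArg Subtype.val (hc ⟨y, hy⟩ ⟨x, hx⟩)
  rw [h.cen] at h1
  have hs := h.simple
  obtain ⟨x, hx⟩ := exists_ne (1 : K)
  exact hx (Subtype.ext (mem_bot.1 (h1 x.2)))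

/-- `K` is not of prime order -/
theorem InN.not_primeCyclic {H : Type u} [Group H] {M : Type v} [Group M] [MulDistribMulAction H M]
    {K T A : Subgroup H} (h : InN H M K T A) : ¬ IsPrimeCyclic K := by
  intro hc
  have h1 : Nat.Prime (Nat.card K) := hc
  have : Fact (Nat.card K).Prime := ⟨h1⟩
  have hcyc : IsCyclic K := isCyclic_of_prime_card (α := K) rfl
  exact h.not_comm fun x y => (IsCyclic.commGroup (α := K)).mul_comm x y

/-- **The rows of the list (EXL), atoms.** -/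
structure RowsN : Prop where
  a6 : DeadN.{u, v} fun S _ => Nonempty (S ≃* alternatingGroup (Fin 6))
  alt : DeadN.{u, v} fun S _ => ∃ n : ℕ, 7 ≤ n ∧ n ≠ 8 ∧ Nonempty (S ≃* alternatingGroup (Fin n))
  odd : DeadN.{u, v} fun S _ => OddLie S ∧ ¬ IsLieTypeChar 2 S ∧ ¬ IsUThreeThree S ∧ ¬ IsAlt6 S
  tits : DeadN.{u, v} @Lie.IsoTits
  m11 : DeadN.{u, v} @Spor.IsoM11
  m12 : DeadN.{u, v} @Spor.IsoM12
  m22 : DeadN.{u, v} @Spor.IsoM22
  m23 : DeadN.{u, v} @Spor.IsoM23
  m24 : DeadN.{u, v} @Spor.IsoM24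
  j1 : DeadN.{u, v} @Spor.IsoJ1
  j2 : DeadN.{u, v} @Spor.IsoJ2
  j3 : DeadN.{u, v} @Spor.IsoJ3
  j4 : DeadN.{u, v} @Spor.IsoJ4
  co1 : DeadN.{u, v} @Spor.IsoCo1
  co2 : DeadN.{u, v} @Spor.IsoCo2
  co3 : DeadN.{u, v} @Spor.IsoCo3
  mcl : DeadN.{u, v} @Spor.IsoMcL
  hs : DeadN.{u, v} @Spor.IsoHS
  suz : DeadN.{u, v} @Spor.IsoSuz
  he : DeadN.{u, v} @Spor.IsoHe
  ru : DeadN.{u, v} @Spor.IsoRu
  on : DeadN.{u, v} @Spor.IsoON
  ly : DeadN.{u, v} @Spor.IsoLy
  fi22 : DeadN.{u, v} @Spor.IsoFi22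
  fi23 : DeadN.{u, v} @Spor.IsoFi23
  fi24 : DeadN.{u, v} @Spor.IsoFi24'
  hn : DeadN.{u, v} @Spor.IsoHN
  th : DeadN.{u, v} @Spor.IsoTh
  b : DeadN.{u, v} @Spor.IsoB
  m : DeadN.{u, v} @Spor.IsoM

/-- rows over `InX` are rows over `InN` -/
theorem RowsX.rowsN (R : RowsX.{u, v}) (a6 : DeadN.{u, v} fun S _ => Nonempty (S ≃* alternatingGroup (Fin 6))) :
    RowsN.{u, v} where
  a6 := a6
  alt := R.alt.deadN
  odd := R.odd.deadN
  tits := R.tits.deadN
  m11 := R.m11.deadN
  m12 := R.m12.deadN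
  m22 := R.m22.deadN
  m23 := R.m23.deadN
  m24 := R.m24.deadN
  j1 := R.j1.deadN
  j2 := R.j2.deadN
  j3 := R.j3.deadN
  j4 := R.j4.deadN
  co1 := R.co1.deadN
  co2 := R.co2.deadN
  co3 := R.co3.deadN
  mcl := R.mcl.deadN
  hs := R.hs.deadN
  suz := R.suz.deadN
  he := R.he.deadN
  ru := R.ru.deadN
  on := R.on.deadN
  ly := R.ly.deadN
  fi22 := R.fi22.deadN
  fi23 := R.fi23.deadN
  fi24 := R.fi24.deadN
  hn := R.hn.deadN
  th := R.th.deadN
  b := R.b.deadN
  m := R.m.deadN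

/-- **All rows: in the situation `InN` a known simple group `K` is of Lie type in characteristic 2 or `U₃(3)`.** -/
theorem RowsN.exit (R : RowsN.{u, v}) {H : Type u} [Group H] [Finite H] {M : Type v} [Group M] [Finite M]
    [MulDistribMulAction H M] {K T A : Subgroup H} (hI : InN H M K T A) (hS : IsKnownSimple' K) :
    IsLieTypeChar 2 K ∨ IsUThreeThree K := by
  by_contra hcon
  rw [not_or] at hcon
  obtain ⟨hc2, hc3⟩ := hcon
  by_cases hc6 : Nonempty (K ≃* alternatingGroup (Fin 6))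
  · exact R.a6 H M K T A hI hc6
  rcases cases hS with h | h | h | h | h | h | h
  · exact hI.not_primeCyclic h
  · exact hc2 h
  · exact R.odd H M K T A hI ⟨h.1, h.2, hc3, hc6⟩
  · exact hc6 h
  · exact R.alt H M K T A hI h
  · exact R.tits H M K T A hI h
  · unfold IsSporadicGroup at h
    rcases h with h | h | h | h | h | h | h | h | h | h | h | h | h | h | h | h | h | h | h | h | h | h | h | h | h | h
    · exact R.m11 H M K T A hI h
    · exact R.m12 H M K T A hI h
    · exact R.m22 H M K T A hI h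
    · exact R.m23 H M K T A hI h
    · exact R.m24 H M K T A hI h
    · exact R.j1 H M K T A hI h
    · exact R.j2 H M K T A hI h
    · exact R.j3 H M K T A hI h
    · exact R.j4 H M K T A hI h
    · exact R.co1 H M K T A hI h
    · exact R.co2 H M K T A hI h
    · exact R.co3 H M K T A hI h
    · exact R.mcl H M K T A hI h
    · exact R.hs H M K T A hI h
    · exact R.suz H M K T A hI h
    · exact R.he H M K T A hI h
    · exact R.ru H M K T A hI h
    · exact R.on H M K T A hI h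
    · exact R.ly H M K T A hI h
    · exact R.fi22 H M K T A hI h
    · exact R.fi23 H M K T A hI h
    · exact R.fi24 H M K T A hI h
    · exact R.hn H M K T A hI h
    · exact R.th H M K T A hI h
    · exact R.b H M K T A hI h
    · exact R.m H M K T A hI h

/-- the same for an atom on an irreducible module -/
theorem RowsN.exitX (R : RowsN.{u, v}) {H : Type u} [Group H] [Finite H] {M : Type v} [Group M] [Finite M]
    [MulDistribMulAction H M] {K T A : Subgroup H} (hI : InX H M K T A) (hA : Atm M A) (hS : IsKnownSimple' K) :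
    IsLieTypeChar 2 K ∨ IsUThreeThree K :=
  R.exit (InN.of_inX hI hA) hS

/-- **All rows for atoms: in the situation `InN` a known simple group `K` is of Lie type in characteristic 2 or
`U₃(3)`.** -/
theorem RowsX.exitN (R : RowsX.{u, v}) (a6 : DeadN.{u, v} fun S _ => Nonempty (S ≃* alternatingGroup (Fin 6)))
    {H : Type u} [Group H] [Finite H] {M : Type v} [Group M] [Finite M]
    [MulDistribMulAction H M] {K T A : Subgroup H} (hI : InN H M K T A) (hS : IsKnownSimple' K) :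
    IsLieTypeChar 2 K ∨ IsUThreeThree K := by
  by_contra hcon
  rw [not_or] at hcon
  exact R.known.deadN H M K T A hI ⟨hS, hcon.1, hcon.2, fun h => a6 H M K T A hI h⟩

/-- the same for an atom on an irreducible module -/
theorem RowsX.exitA (R : RowsX.{u, v}) (a6 : DeadN.{u, v} fun S _ => Nonempty (S ≃* alternatingGroup (Fin 6)))
    {H : Type u} [Group H] [Finite H] {M : Type v} [Group M] [Finite M]
    [MulDistribMulAction H M] {K T A : Subgroup H} (hI : InX H M K T A) (hA : Atm M A) (hS : IsKnownSimple' K) :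
    IsLieTypeChar 2 K ∨ IsUThreeThree K :=
  R.exitN a6 (InN.of_inX hI hA) hS

end Cfsg.Agent.Omega.ML.Ex

end

section


/-!
# (LA) : the conjugates of `A` which lie in `O₂(C_H(m))` are low (helper854; helper396, 721, 809, 829)

* `LA H M T A m` : `m ≠ 1` is `T`-fixed and every conjugate of `A` in `O₂(C_H(m))` lies in `O₂(R)` for all `T ≤ R < H`;
* `PsR T B p m` : **THE LAST SITUATION of the K-route, any `R = ker p`** : `X` acts on `W`, trivially on `ker p`, `M = W / ker p`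
  is faithful, `O₂(X) = 1`, `M = ⟨m^X⟩`, `C_W(T) ≤ ker p`, `B ≤ T` exact atom of order `≥ 4`, low, with (LA) and (nmax).
-/

set_option autoImplicit false

namespace Cfsg.Agent.Omega.ML.Ex

open Subgroup Cfsg Cfsg.Agent.Omega.NOThree.NoOver
open Cfsg.Agent.ZN (o2)
open Cfsg.Agent.ClassTwoFusion.Quad (cv)

universe u v w

/-- **(LA)** -/
structure LA (H : Type u) [Group H] (M : Type v) [Group M] [MulDistribMulAction H M] (T A : Subgroup H) (m : M) :
    Prop where
  fix : ∀ t ∈ T, t • m = m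
  ne : m ≠ 1
  low : ∀ g : H, cj g A ≤ o2 (MulAction.stabilizer H m) → ∀ R : Subgroup H, T ≤ R → R ≠ ⊤ → cj g A ≤ o2 R

/-- **The last situation of the K-route.** -/
structure PsR {X : Type u} [Group X] {M : Type v} [CommGroup M] [MulDistribMulAction X M] {W : Type w} [CommGroup W]
    [MulDistribMulAction X W] (T B : Subgroup X) (p : W →* M) (m : M) : Prop where
  known : IsKGroupWith IsKnownSimple' X
  sq : ∀ w : W, w * w = 1
  eqv : ∀ (x : X) (w : W), p (x • w) = x • p w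
  surj : Function.Surjective p
  ker : ∀ w : W, p w = 1 → ∀ x : X, x • w = w
  faith : ∀ x : X, (∀ m : M, x • m = m) → x = 1
  core : ∀ N : Subgroup X, N.Normal → IsPGroup 2 N → N = ⊥
  two : IsPGroup 2 T
  syl : ¬ 2 ∣ T.index
  fixT : ∀ w : W, (∀ t ∈ T, t • w = w) → p w = 1
  gen : ∀ U : Subgroup M, (∀ x : X, ∀ u ∈ U, x • u ∈ U) → m ∈ U → U = ⊤
  BT : B ≤ T
  el : ∀ b ∈ B, b * b = 1
  quad : ∀ a ∈ B, ∀ b ∈ B, ∀ m : M, b • ((a • m) * m⁻¹) = (a • m) * m⁻¹
  four : 4 ≤ Nat.card B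
  exact : (cv M (B : Set X)).index = Nat.card B
  atom : ∀ C : Subgroup X, C ≤ B → C ≠ ⊥ → C ≠ B → Nat.card C < (cv M (C : Set X)).index
  low : ∀ R : Subgroup X, T ≤ R → R ≠ ⊤ → B ≤ o2 R
  nmax : ¬ ∃ N : Subgroup X, N ≠ ⊤ ∧ ∀ R : Subgroup X, T ≤ R → R ≠ ⊤ → R ≤ N
  la : LA X M T B m

theorem PsR.sqM {X : Type u} [Group X] {M : Type v} [CommGroup M] [MulDistribMulAction X M] {W : Type w} [CommGroup W]
    [MulDistribMulAction X W] {T B : Subgroup X} {p : W →* M} {m : M} (h : PsR T B p m) (v : M) : v * v = 1 := by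
  obtain ⟨w, rfl⟩ := h.surj v
  rw [← map_mul, h.sq, map_one]

/-- a row with the W-part -/
def DeadXW (𝒮 : ∀ (S : Type u) [Group S], Prop) : Prop :=
  ∀ (X : Type u) [Group X] [Finite X] (M : Type v) [Group M] [Finite M] [MulDistribMulAction X M]
    (W : Type w) [CommGroup W] [Finite W] [MulDistribMulAction X W] (K T A : Subgroup X) (p : W →* M),
    InX X M K T A → WPart K T p → 𝒮 K → False

/-- a row with the W-part and (LA) -/
def DeadXL (𝒮 : ∀ (S : Type u) [Group S], Prop) : Prop :=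
  ∀ (X : Type u) [Group X] [Finite X] (M : Type v) [Group M] [Finite M] [MulDistribMulAction X M]
    (W : Type w) [CommGroup W] [Finite W] [MulDistribMulAction X W] (K T A : Subgroup X) (p : W →* M) (m : M),
    InX X M K T A → WPart K T p → LA X M T A m → 𝒮 K → False

/-- **RED with the W-part and (LA)** -/
def PsRed : Prop :=
  ∀ (X : Type u) [Group X] [Finite X] (M : Type v) [CommGroup M] [Finite M] [MulDistribMulAction X M]
    (W : Type w) [CommGroup W] [Finite W] [MulDistribMulAction X W] (T B : Subgroup X) (p : W →* M) (m : M),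
    PsR T B p m →
    ∃ (X₁ : Type u) (_ : Group X₁) (_ : Finite X₁) (M₁ : Type v) (_ : Group M₁) (_ : Finite M₁)
      (_ : MulDistribMulAction X₁ M₁) (W₁ : Type w) (_ : CommGroup W₁) (_ : Finite W₁)
      (_ : MulDistribMulAction X₁ W₁) (K₁ T₁ B₁ : Subgroup X₁) (p₁ : W₁ →* M₁) (m₁ : M₁),
      InX X₁ M₁ K₁ T₁ B₁ ∧ WPart K₁ T₁ p₁ ∧ LA X₁ M₁ T₁ B₁ m₁ ∧ IsKnownSimple' K₁

/-- **the K-list on `M`** : three exits -/
def ExitX : Prop :=
  ∀ (X : Type u) [Group X] [Finite X] (M : Type v) [Group M] [Finite M] [MulDistribMulAction X M]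
    (K T A : Subgroup X), InX X M K T A → IsKnownSimple' K →
    IsLieTypeChar 2 K ∨ Rows.IsUThreeThree K ∨ Nonempty (K ≃* alternatingGroup (Fin 6))

/-- the pieces behind `PsR` -/
structure EndPieces : Prop where
  red : PsRed.{u, v, w}
  exit : ExitX.{u, v}
  lie2 : DeadXL.{u, v, w} fun S _ => IsLieTypeChar 2 S
  u33 : DeadXW.{u, v, w} fun S _ => Rows.IsUThreeThree S
  a6 : DeadXW.{u, v, w} fun S _ => Nonempty (S ≃* alternatingGroup (Fin 6))

/-- **`PsR` is impossible** -/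
theorem EndPieces.false (P : EndPieces.{u, v, w}) {X : Type u} [Group X] [Finite X] {M : Type v} [CommGroup M]
    [Finite M] [MulDistribMulAction X M] {W : Type w} [CommGroup W] [Finite W] [MulDistribMulAction X W]
    {T B : Subgroup X} {p : W →* M} {m : M} (h : PsR T B p m) : False := by
  obtain ⟨X₁, _, _, M₁, _, _, _, W₁, _, _, _, K₁, T₁, B₁, p₁, m₁, hI, hW, hL, hK⟩ := P.red X M W T B p m h
  rcases P.exit X₁ M₁ K₁ T₁ B₁ hI hK with h | h | h
  · exact P.lie2 X₁ M₁ W₁ K₁ T₁ B₁ p₁ m₁ hI hW hL h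
  · exact P.u33 X₁ M₁ W₁ K₁ T₁ B₁ p₁ hI hW h
  · exact P.a6 X₁ M₁ W₁ K₁ T₁ B₁ p₁ hI hW h

end Cfsg.Agent.Omega.ML.Ex

end

section


/-!
# The K-list for EXACT ATOMS (EXL): the row `A₆` over `InN` (helper848)

* **`deadN`** : `DeadN (· ≃* A₆)`.
-/

set_option autoImplicit false

namespace Cfsg.Agent.Omega.ML.Ex.RowASixN

open Subgroup Equiv Cfsg Cfsg.Agent.ZN Cfsg.Agent.StdAlt.Six Cfsg.Agent.Omega.ML.AltSix Cfsg.Agent.Omega.ML.Ex
open Cfsg.Agent.ClassTwoFusion.Quad Cfsg.Agent.Omega.ML.MinFrame Cfsg.Agent.Omega.ML.Ex.RowASix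

universe u v

/-- elements inducing nontrivial permutations are nontrivial -/
theorem ne_one {X : Type u} [Group X] {S : Subgroup X} [S.Normal] {e : S ≃* A6} {g : X} {σ : Perm (Fin 6)} {x : A6}
    (hσ : Cj S e g σ) (h : σ * (x : Perm (Fin 6)) * σ⁻¹ ≠ (x : Perm (Fin 6))) : g ≠ 1 := by
  rintro rfl
  apply h
  rw [← hσ x, map_one, MulAut.one_apply]

theorem perm_ne : s45 * d0 * s45⁻¹ ≠ d0 ∧ s45 * z0 * c0 * (s45 * z0)⁻¹ ≠ c0 := by
  decide +kernel

/-- **The row `A₆` for atoms.** -/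
theorem deadN : DeadN.{u, v} fun S _ => Nonempty (S ≃* alternatingGroup (Fin 6)) := by
  rintro H _ _ N _ _ _ K T A h ⟨e₀⟩
  have hn := h.norm
  obtain ⟨e, a, b, hs⟩ := struct h.asx e₀ (by have := h.four; omega)
  have ha : a ≠ 1 := ne_one (x := D0) hs.ca perm_ne.1
  have hb : b ≠ 1 := ne_one (x := C0) hs.cb perm_ne.2
  have htop := stw_top h.asx hs (h.cv_four hs.four hs.aA ha) (h.cv_four hs.four hs.bA hb)
  obtain ⟨z, hz, horb⟩ := h.point
  have hzA : z ∈ cv N (A : Set H) := fun x hx => hz x (h.AT hx)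
  have h1 : orb (⊤ : Subgroup H) z ≤ cv N (A : Set H) := orb_le fun g _ => by
    have h5 : g ∈ Stw H (cv N (A : Set H)) := by rw [htop]; trivial
    exact (h5 z).2 hzA
  have h2 := h.exact
  rw [horb, top_le_iff] at h1
  rw [h1, index_top, hs.four] at h2
  omega

end Cfsg.Agent.Omega.ML.Ex.RowASixN

end

section


/-!
# Exact and low configurations: `C_M(x) = C_M(A)` for one `x ∈ A#` (helper322)

`F := C_M(A)`, `E := EE F = C_H(F) ∩ C_H(M / F)` (`TIE.EE`).  If `C_M(x) = F` for an `x ∈ A#`: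

* `InX.le_EE` : `A ≤ E`;  `InX.EE_el` : `E` is elementary abelian;
* `InX.cent_le_EE` : `C_H(x) ≤ N_H(E)`;
* **`InX.false_of_no`** : impossible if no elementary abelian subgroup of `C_H(x)` which contains `A` is normalised by
  `C_H(x)`.
-/

set_option autoImplicit false

namespace Cfsg.Agent.Omega.ML.Ex

open Subgroup Cfsg Cfsg.Agent.ZN Cfsg.Agent.Omega.ML.Ex.TIE
open Cfsg.Agent.Omega.NOThree.NoOver Cfsg.Agent.Omega.ML.CD Cfsg.Agent.ClassTwoFusion.Quad

universe u v

variable {H : Type u} [Group H] {M : Type v} [Group M] [MulDistribMulAction H M] {K T A : Subgroup H}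

/-- `E` is of exponent 2 -/
theorem InX.EE_el (h : InX H M K T A) {F : Subgroup M} : ∀ e ∈ (EE F : Subgroup H), e * e = 1 :=
  fun _ he => EE_sq h.sq h.faith he

theorem InX.EE_comm (h : InX H M K T A) {F : Subgroup M} {a b : H} (ha : a ∈ (EE F : Subgroup H))
    (hb : b ∈ (EE F : Subgroup H)) : a * b = b * a := by
  have h1 : ∀ z ∈ (EE F : Subgroup H), z⁻¹ = z := fun z hz => inv_eq_of_mul_eq_one_right (h.EE_el z hz)
  calc a * b = (a * b)⁻¹ := (h1 _ (mul_mem ha hb)).symm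
    _ = b⁻¹ * a⁻¹ := mul_inv_rev _ _
    _ = b * a := by rw [h1 _ ha, h1 _ hb]

/-- **`A ≤ E`** -/
theorem InX.le_EE (h : InX H M K T A) {x : H} (hx : x ∈ A) (hcv : cv M ({x} : Set H) = cv M (A : Set H)) :
    A ≤ (EE (cv M (A : Set H)) : Subgroup H) := by
  intro b hb
  refine ⟨fun m hm => hm b hb, fun m => ?_⟩
  have h1 : (x • m) * m⁻¹ ∈ cv M (A : Set H) := by
    rw [← hcv, mem_cv_singleton, smul_mul', ← mul_smul, h.el x hx, one_smul, smul_inv']
    have h3 : m⁻¹ = m := inv_eq_of_mul_eq_one_left (h.sq m)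
    have h4 : (x • m)⁻¹ = x • m := inv_eq_of_mul_eq_one_left (h.sq _)
    rw [h3, h4, h.comm]
  have h2 : b • ((x • m) * m⁻¹) = (x • m) * m⁻¹ := h1 b hb
  rw [smul_mul', smul_inv', ← mul_smul, mul_inv_eq_iff_eq_mul] at h2
  rw [← hcv, mem_cv_singleton, smul_mul', smul_inv', ← mul_smul, h.A_comm x hx b hb, h2]
  calc x • m * m⁻¹ * b • m * (x • m)⁻¹ = (x • m) * ((m⁻¹ * b • m) * (x • m)⁻¹) := by group
    _ = (x • m) * ((x • m)⁻¹ * (m⁻¹ * b • m)) := by rw [h.comm (m⁻¹ * b • m)]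
    _ = m⁻¹ * b • m := by group
    _ = b • m * m⁻¹ := h.comm _ _

/-- **`C_H(x) ≤ N_H(E)`** -/
theorem InX.cent_le_EE (_h : InX H M K T A) {x : H} (hcv : cv M ({x} : Set H) = cv M (A : Set H)) :
    centralizer ({x} : Set H) ≤ normalizer ((EE (cv M (A : Set H)) : Subgroup H) : Set H) := by
  have key : ∀ g ∈ centralizer ({x} : Set H), ∀ m, m ∈ cv M (A : Set H) → g • m ∈ cv M (A : Set H) := by
    intro g hg m hm
    rw [← hcv, mem_cv_singleton] at hm ⊢
    rw [← mul_smul, mem_centralizer_iff.1 hg x rfl, mul_smul, hm]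
  have key2 : ∀ g ∈ centralizer ({x} : Set H), ∀ m, m ∈ cv M (A : Set H) ↔ g • m ∈ cv M (A : Set H) := by
    intro g hg m
    refine ⟨key g hg m, fun hm => ?_⟩
    have h1 := key g⁻¹ (inv_mem hg) _ hm
    rwa [inv_smul_smul] at h1
  intro g hg
  rw [mem_normalizer_iff]
  refine fun y => ⟨fun hy => smul_mem_EE (key2 g hg) hy, fun hy => ?_⟩
  have h1 := smul_mem_EE (key2 g⁻¹ (inv_mem hg)) hy
  have h2 : g⁻¹ * (g * y * g⁻¹) * g⁻¹⁻¹ = y := by group
  rwa [h2] at h1

/-- **No normal elementary abelian subgroup of `C_H(x)` contains `A`.** -/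
theorem InX.false_of_no (h : InX H M K T A) {x : H} (hx : x ∈ A)
    (hcv : cv M ({x} : Set H) = cv M (A : Set H))
    (hno : ∀ E : Subgroup H, A ≤ E → E ≤ centralizer ({x} : Set H) → (∀ e ∈ E, e * e = 1) →
      (∀ g, g * x = x * g → ∀ e ∈ E, g * e * g⁻¹ ∈ E) → False) : False := by
  have hle := h.le_EE hx hcv
  refine hno _ hle ?_ h.EE_el fun g hg e he => ?_
  · intro e he
    exact mem_centralizer_singleton_iff.2 (h.EE_comm he (hle hx))
  · exact (mem_normalizer_iff.1 (h.cent_le_EE hcv (mem_centralizer_singleton_iff.2 hg)) e).1 he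

end Cfsg.Agent.Omega.ML.Ex

end

section


/-!
# (F1'), the K-route: the piece `a6` (helper848)
-/

set_option autoImplicit false

namespace Cfsg.Agent.Omega.FOne.Glue.ASix

open Cfsg

universe u v w

/-- **The row `A₆` with the W-part.** -/
theorem a6 : Cfsg.Agent.Omega.ML.Ex.DeadXW.{u, v, w} fun S _ => Nonempty (S ≃* alternatingGroup (Fin 6)) :=
  fun _ _ _ _ _ _ _ _ _ _ _ _ _ _ _ h hW hK => Cfsg.Agent.Omega.ML.Ex.RowASix.alt6_W h hW hK

end Cfsg.Agent.Omega.FOne.Glue.ASix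

end

section


/-!
# THEOREM RED: from `PsR` to `Mn` (helper995)

* **`PsR.mn`** : `PsR T B p m → Mn T B m`.
-/

set_option autoImplicit false

namespace Cfsg.Agent.Omega.ML.Ex

open Subgroup Cfsg Cfsg.Agent.ZN Cfsg.Agent.Omega.ML.Ex.Red Cfsg.Agent.Omega.ML.MinFrame

universe u v w

variable {X : Type u} [Group X] {M : Type v} [CommGroup M] [MulDistribMulAction X M] {W : Type w} [CommGroup W]
  [MulDistribMulAction X W] {T B : Subgroup X} {p : W →* M} {m : M}

/-- no normal subgroup of odd order: `C_W(T) ≤ C_W(X)` -/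
theorem PsR.odd [Finite X] [Finite W] (h : PsR T B p m) {N : Subgroup X} (hN : N.Normal) (ho : Odd (Nat.card N)) :
    N = ⊥ := by
  have hTN : T ⊓ N = ⊥ := by
    have h1 : IsPGroup 2 (T ⊓ N : Subgroup X) := h.two.to_le inf_le_left
    have : Fact (Nat.Prime 2) := ⟨Nat.prime_two⟩
    obtain ⟨k, hk⟩ := IsPGroup.iff_card.1 h1
    have h2 : Nat.card (T ⊓ N : Subgroup X) ∣ Nat.card N := card_dvd_of_le inf_le_right
    rw [← card_eq_one, hk]
    rcases Nat.eq_zero_or_pos k with h3 | h3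
    · rw [h3, pow_zero]
    · exfalso
      rw [hk] at h2
      exact (Nat.not_even_iff_odd.2 ho) (even_iff_two_dvd.2 ((dvd_pow_self 2 h3.ne').trans h2))
  have h1 : ∀ w : W, ∀ k ∈ N, k • w = w := fun w =>
    odd_fix_mul h.sq h.two (fun t _ k hk => hN.conj_mem k hk t) (by
      rw [hTN, relIndex_bot_left]
      exact fun h2 => (Nat.not_even_iff_odd.2 ho) (even_iff_two_dvd.2 h2))
      (fun w hw k _ => h.ker w (h.fixT w hw) k) (fun t ht => by
        rw [hTN, mem_bot] at ht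
        rw [ht, one_smul])
  rw [eq_bot_iff]
  intro x hx
  rw [mem_bot]
  apply h.faith
  intro v
  obtain ⟨w, rfl⟩ := h.surj v
  rw [← h.eqv, h1 w x hx]

/-- **`PsR` gives the input of RED.** -/
theorem PsR.mn [Finite X] [Finite W] (h : PsR T B p m) : Mn T B m where
  sq := h.sqM
  faith := h.faith
  gen := h.gen _ (fun x _ hu => smul_mem_orb (mem_top x) hu) (mem_orb_self _ _)
  fixT := h.la.fix
  odd := fun _ hN ho => h.odd hN ho
  two := h.two
  syl := h.syl
  el := h.el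
  four := h.four
  exact := h.exact
  atom := h.atom
  low := h.low
  nmax := h.nmax

end Cfsg.Agent.Omega.ML.Ex

end
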