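import Cfsg.Agent.Mrg.Omega.ML.Ex.RowTitsX
import Cfsg.Agent.Mrg.Omega.ML.UFour.Perm
import Cfsg.Agent.Mrg.Omega.ML.OddExc
import Cfsg.Agent.Omega.KFacts
import Cfsg.Agent.Mrg.Omega.ML.RowPspFour
import Cfsg.Agent.Mrg.Omega.ML.Ex.Def
import Cfsg.Agent.Mrg.Omega.ML.RowGTwoThree

section


/-!
# The exact K-list: the row `U₄(3)` (helper842; recipe of helper844)

* `two_pow_le` : `PSU₄(3)` simple, acting faithfully on the 2-group `V`: `|V| ≥ 2^18` (Heisenberg group `3^(1+4)`);
* `deadX` : `DeadX @IsUFourThree` (without the field `atom` if `|A| ≥ 8`).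
-/

set_option autoImplicit false

namespace Cfsg.Agent.Omega.ML.Ex.RowUFourX

open Subgroup Cfsg Cfsg.Agent.Omega.KFacts Cfsg.Agent.Omega.ML.Gen3 Cfsg.Agent.Omega.ML.UFour
open Cfsg.Agent.ClassTwoFusion.Quad Cfsg.Agent.Omega.TwoF
open Cfsg.Agent.Omega.TwoF.LBPsu Cfsg.Agent.Omega.TwoF.RowPsu
open Cfsg.Agent.ClassicalGeometry.UnitAutBasic (pr)

universe u v

/-- `|V| ≥ 2^18`. -/
theorem two_pow_le {F : Type*} [Field F] [Fintype F] (hF : Fintype.card F = 9) {V : Type*} [CommGroup V] [Finite V]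
    (h2 : IsPGroup 2 V) (φ : PSU 4 F 3 →* MulAut V) (hφ : Function.Injective φ) : 2 ^ 18 ≤ Nat.card V := by
  have hF' : Fintype.card F = 3 ^ 2 := by rw [hF]; norm_num
  have h20 : (2 : F) ≠ 0 := Out.two_ne hF
  have hch : CharP F 3 := by
    obtain ⟨p, hp⟩ := CharP.exists F
    obtain ⟨k, hpp, hk⟩ := FiniteField.card F p
    have h3 : p ∣ 3 ^ 2 := by rw [← hF', hk]; exact dvd_pow_self p k.pos.ne'
    have h4 := (Nat.prime_dvd_prime_iff_eq hpp Nat.prime_three).1 (hpp.dvd_of_dvd_pow h3)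
    subst h4
    exact hp
  obtain ⟨α, hα⟩ := exists_alpha hF'
  obtain ⟨τ, hτ0, hτ⟩ := exists_tau hF'
  have H := frame hF' hα (fun i : Fin 2 => i) Function.injective_id
  have h := Cfsg.Agent.Omega.TwoF.SignLift.heis_map (pr 4 F 3) (heis hF' h20 H Nat.prime_three hτ (two_tau hF' hτ))
  have hz : φ (pr 4 F 3 (Z hF' H (two_tau hF' hτ))) ≠ 1 := by
    intro h1
    exact Z_ne hF' (by norm_num) (by norm_num) H _ (mul_ne_zero h20 hτ0) (uu_ne α) (hφ (h1.trans (map_one φ).symm))
  have h5 := h.two_pow_le_mulAut φ h2 (by norm_num) hz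
  have h6 : orderOf (2 : ZMod 3) = 2 := by
    have : Fact (Nat.Prime 2) := ⟨Nat.prime_two⟩
    exact orderOf_eq_prime (by decide) (by decide)
  rw [h6] at h5
  exact h5

theorem lb {H : Type u} [Group H] [Finite H] {M : Type v} [Group M] [Finite M] [MulDistribMulAction H M]
    {K T A : Subgroup H} (h : InX H M K T A) {F : Type*} [Field F] [Fintype F] (hF : Fintype.card F = 9)
    (e : K ≃* PSU 4 F 3) : 2 ^ 18 ≤ Nat.card M := by
  let _ : CommGroup M := { ‹Group M› with mul_comm := h.comm }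
  refine two_pow_le hF h.M_two
    (((MulDistribMulAction.toMulAut H M).comp K.subtype).comp e.symm.toMonoidHom) ?_
  intro a b hab
  apply e.symm.injective
  have h1 : ((MulDistribMulAction.toMulAut H M) (e.symm a)) = ((MulDistribMulAction.toMulAut H M) (e.symm b)) := hab
  have h2 : ((e.symm a : K) : H)⁻¹ * (e.symm b : K) = 1 := by
    refine h.faith _ fun m => ?_
    rw [mul_smul]
    have h3 : ((e.symm a : K) : H) • m = ((e.symm b : K) : H) • m := DFunLike.congr_fun h1 m
    rw [← h3, inv_smul_smul]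
  exact Subtype.ext (inv_mul_eq_one.1 h2)

/-- `A ∩ K ≠ 1` if `|B : B ∩ Inn K| ≤ 2^c` for elementary abelian `B ≤ Aut K` and `|A| > 2^c`. -/
theorem exists_mem_of_outLe {X : Type u} [Group X] {K T A : Subgroup X} (h : ASx K T A) {c : ℕ} (ho : OutLe K c)
    (hA : 2 ^ c < Nat.card A) : ∃ x ∈ A, x ∈ K ∧ x ≠ 1 := by
  by_contra hc
  push Not at hc
  have hN := h.norm
  set f : X →* MulAut K := MulAut.conjNormal with hf
  have hinj : Function.Injective f := Inv.conjNormal_injective h.cen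
  have h1 := ho (A.map f) (by
    rintro _ ⟨a, ha, rfl⟩
    rw [← map_pow, pow_two, h.el a ha, map_one])
  have h2 : (A.map f ⊓ (MulAut.conj : K →* MulAut K).range) = ⊥ := by
    rw [eq_bot_iff]
    rintro _ ⟨⟨a, ha, rfl⟩, ⟨k, hk⟩⟩
    have h3 : (f (k : X) : MulAut K) = MulAut.conj k := by
      ext x
      rw [hf, MulAut.conjNormal_apply, MulAut.conj_apply]
      rfl
    have h4 := hinj (h3.trans hk)
    have h5 : a ∈ K := by rw [← h4]; exact k.2
    rw [hc a ha h5, map_one]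
    exact one_mem _
  rw [h2, card_bot, mul_one, ← Nat.card_congr (A.equivMapOfInjective f hinj).toEquiv] at h1
  omega

/-- **The row `U₄(3)`.** -/
theorem deadX : DeadX.{u, v} @IsUFourThree := by
  rintro H _ _ M _ _ _ K T A h ⟨F, _, _, hF, ⟨e⟩⟩
  have h18 := lb h hF e
  obtain ⟨ε⟩ := Perm.psu_iso hF
  have hg : GenBy K 3 := GenBy.equiv (e.trans ε) Perm.genBy
  have hrk : RK K 5 := (Out.rk hF).equiv e
  have hout : OutLe K 2 := OutLe.equiv e (Out.outLe hF)
  by_cases hA : Nat.card A = 4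
  · have h1 := h.card_le_of_four hA hg
    have h2 := h18.trans h1
    norm_num at h2
  · -- `|A| ≥ 8` : an involution in `A ∩ K`
    have h8 : 8 ≤ Nat.card A := by
      have hp : Fact (Nat.Prime 2) := ⟨Nat.prime_two⟩
      obtain ⟨n, hn⟩ := IsPGroup.iff_card.1 h.A_two
      have h4 := h.four
      rw [hn] at hA h4 ⊢
      have h3 : 3 ≤ n := by
        by_contra h3
        have : n = 0 ∨ n = 1 ∨ n = 2 := by omega
        rcases this with rfl | rfl | rfl
        · norm_num at h4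
        · norm_num at h4
        · exact hA (by norm_num)
      calc 8 = 2 ^ 3 := by norm_num
        _ ≤ 2 ^ n := Nat.pow_le_pow_right (by norm_num) h3
    obtain ⟨x, hxA, hxK, hx1⟩ := exists_mem_of_outLe h.asx hout (by omega)
    have h1 := (Gen.card_le_genBy h hg hxA hxK hx1).2
    have h2 := Inv.asx_card_le h.asx hrk
    have h3 := h18.trans (h1.trans (Nat.pow_le_pow_left h2 3))
    norm_num at h3

end Cfsg.Agent.Omega.ML.Ex.RowUFourX

end

section


/-!
# The K-list EXACT + LOW: the row `PSp₄(q)`, `q > 3` odd (helper297)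

`Omega/ML/RowPspFour.lean` over `ASx` (no `gen`): `|A| ≤ 2`.

* `conj_inj`, `conj_of_syl`, `card_le_of_syl` : the tools of `RowsSyl` from `norm cen two syl el low` only;
* `card_le` : `|A| ≤ 2`;  `deadX` : the row.
-/

set_option autoImplicit false

namespace Cfsg.Agent.Omega.ML.Ex.RowPspFour

open Subgroup Cfsg Cfsg.Agent.ZN Cfsg.Agent.Omega.TwoF Cfsg.Agent.Omega.ML.Rows
open Cfsg.Agent.OddHalf Cfsg.Agent.OddHalf.D8.Sheet
open Cfsg.Agent.Omega.ML.PspFourK Cfsg.Agent.Omega.ML.PspFourL Cfsg.Agent.Omega.ML.PspFourAut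
open Cfsg.Agent.Omega.ML.RowPspFour (cent_P syl Cls)
open Cfsg.Agent.MinSimple.VModule (o2_isPGroup o2_le le_o2 le_normalizer_o2)

universe u v w

variable {X : Type u} [Group X] {S T A : Subgroup X}

theorem conj_inj (hn : S.Normal) (hc : centralizer (S : Set X) = ⊥) :
    Function.Injective (@MulAut.conjNormal X _ S hn) := by
  rw [injective_iff_map_eq_one]
  intro x hx
  have h1 : x ∈ centralizer (S : Set X) := by
    refine mem_centralizer_iff.2 fun s hs => ?_
    have h2 : ((MulAut.conjNormal x : MulAut S) ⟨s, hs⟩ : X) = s := by rw [hx]; rfl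
    rw [MulAut.conjNormal_apply] at h2
    calc s * x = (x * s * x⁻¹) * x := by rw [h2]
      _ = x * s := by group
  rw [hc] at h1
  exact mem_bot.1 h1

theorem cent_ne_top (hc : centralizer (S : Set X) = ⊥) {z : X} (hz1 : z ≠ 1) :
    centralizer ({z} : Set X) ≠ ⊤ := by
  intro h1
  have h2 : z ∈ centralizer (S : Set X) := mem_centralizer_iff.2 fun y _ =>
    mem_centralizer_singleton_iff.1 (h1 ▸ mem_top y)
  rw [hc] at h2
  exact hz1 (mem_bot.1 h2)

/-- **A conjugate of `A` lies in `O₂(C_X(z))`.** -/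
theorem conj_of_syl [Finite X] (h : Ex.ASx S T A) {z : S} (hz1 : z ≠ 1)
    (hz : ∃ S₀ : Sylow 2 S, z ∈ S₀ ∧ (∀ x ∈ S₀, x * z = z * x) ∧ ∀ y ∈ S₀, (∀ x ∈ S₀, x * y = y * x) → y = 1 ∨ y = z) :
    ∃ g : X, ∀ a ∈ A, g⁻¹ * a * g ∈ o2 (centralizer ({(z : X)} : Set X)) := by
  obtain ⟨g, hg⟩ := ShE.exists_conj h.norm h.two h.syl hz
  have hgz : (g : X) * z * (g : X)⁻¹ ≠ 1 := by
    intro h1
    apply hz1
    apply Subtype.ext
    calc (z : X) = (g : X)⁻¹ * ((g : X) * z * (g : X)⁻¹) * g := by group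
      _ = 1 := by rw [h1]; group
  have h1 := h.low _ hg (cent_ne_top h.cen hgz)
  refine ⟨g, fun a ha => ?_⟩
  apply conj_o2_mem (R := centralizer ({(z : X)} : Set X))
    (R' := centralizer ({(g : X) * z * (g : X)⁻¹} : Set X)) (g : X)
  · intro x
    rw [mem_centralizer_singleton_iff, mem_centralizer_singleton_iff]
    constructor
    · intro h2
      calc g * x * (g : X)⁻¹ * (g * z * (g : X)⁻¹) = g * (x * z) * (g : X)⁻¹ := by group
        _ = g * (z * x) * (g : X)⁻¹ := by rw [h2]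
        _ = _ := by group
    · intro h2
      calc x * z = (g : X)⁻¹ * (g * x * (g : X)⁻¹ * (g * z * (g : X)⁻¹)) * g := by group
        _ = (g : X)⁻¹ * (g * z * (g : X)⁻¹ * (g * x * (g : X)⁻¹)) * g := by rw [h2]
        _ = _ := by group
  · rw [mem_comap]
    show (g : X) * ((g : X)⁻¹ * a * g) * (g : X)⁻¹ ∈ _
    have h2 : (g : X) * ((g : X)⁻¹ * a * g) * (g : X)⁻¹ = a := by group
    rw [h2]
    exact h1 ha

/-- **Elementary abelian subgroups of `O₂(C_X(z))`.** -/
theorem card_le_of_syl [Finite X] (h : Ex.ASx S T A) {z : S} (hz1 : z ≠ 1)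
    (hz : ∃ S₀ : Sylow 2 S, z ∈ S₀ ∧ (∀ x ∈ S₀, x * z = z * x) ∧ ∀ y ∈ S₀, (∀ x ∈ S₀, x * y = y * x) → y = 1 ∨ y = z)
    {n : ℕ} (hn : ∀ B ≤ o2 (centralizer ({(z : X)} : Set X)), (∀ b ∈ B, b * b = 1) → Nat.card B ≤ n) :
    Nat.card A ≤ n := by
  obtain ⟨g, hg⟩ := conj_of_syl h hz1 hz
  have h1 : A.map (MulAut.conj g⁻¹).toMonoidHom ≤ o2 (centralizer ({(z : X)} : Set X)) := by
    rintro _ ⟨a, ha, rfl⟩
    have h2 := hg a ha
    rw [MulEquiv.toMonoidHom_eq_coe, MonoidHom.coe_coe, MulAut.conj_apply, inv_inv]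
    exact h2
  have h2 := hn _ h1 (by
    rintro _ ⟨a, ha, rfl⟩
    rw [← map_mul, h.el a ha, map_one])
  rwa [card_map_of_injective (MulAut.conj g⁻¹).injective] at h2

/-- **The sheet of `PSp₄(q)`** -/
theorem o2_le_zpowersX [Finite X] (hn : S.Normal) (hc : centralizer (S : Set X) = ⊥) {F : Type} [Field F] [Fintype F] (hodd : Odd (Fintype.card F))
    (h3 : 3 < Fintype.card F) (ε : S ≃* PSp 2 F) :
    o2 (centralizer ({(ε.symm (z₀ F) : X)} : Set X)) ≤ zpowers (ε.symm (z₀ F) : X) := by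
  have h2 : (2 : F) ≠ 0 := Cfsg.Agent.OddHalf.NI.Blocks.two_ne_zero_of_odd hodd
  have h4 : 4 ≤ Nat.card F := by rw [Nat.card_eq_fintype_card]; omega
  intro d hd
  have hfix := cent_P hn (z := ε.symm (z₀ F)) (P := (D F).comap ε.toMonoidHom)
    (by
      intro x hx
      apply ε.injective
      rw [map_mul, map_mul, ε.apply_symm_apply]
      exact D_cen _ hx)
    (by
      have h5 : (D F).comap ε.toMonoidHom = (D F).map ε.symm.toMonoidHom :=
        comap_equiv_eq_map_symm' ε (D F)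
      rw [h5, ← map_commutator, D_perf h4])
    ⟨1, by
      show ⁅centralizer ({ε.symm (z₀ F)} : Set S), centralizer ({ε.symm (z₀ F)} : Set S)⁆ ≤ _
      rw [← map_le_iff_le_comap, map_commutator]
      have h5 : (centralizer ({ε.symm (z₀ F)} : Set S)).map ε.toMonoidHom ≤ centralizer ({z₀ F} : Set (PSp 2 F)) := by
        rintro _ ⟨x, hx, rfl⟩
        have h6 := congrArg ε (mem_centralizer_singleton_iff.1 hx)
        rw [map_mul, map_mul, ε.apply_symm_apply] at h6
        exact mem_centralizer_singleton_iff.2 h6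
      exact (commutator_mono h5 h5).trans (D_der h2)⟩
    (by
      intro N hN hN2 hNn x hx y hy
      have hp : Fact (Nat.Prime 2) := ⟨Nat.prime_two⟩
      have h5 : IsPGroup 2 (N.map ε.toMonoidHom) := hN2.map _
      have h6 : Group.IsSolvable (N.map ε.toMonoidHom) := by
        have hfin : Finite (PSp 2 F) := Finite.of_equiv S ε.toEquiv
        have := h5.isNilpotent
        infer_instance
      apply ε.injective
      rw [map_mul, map_mul]
      refine central h2 h4 (N := N.map ε.toMonoidHom) ?_ h6 ?_ _ hx _ ⟨y, hy, rfl⟩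
      · rw [map_le_iff_le_comap]
        exact hN
      · rintro a ha _ ⟨b, hb, rfl⟩
        refine ⟨ε.symm a * b * (ε.symm a)⁻¹, hNn _ ?_ b hb, ?_⟩
        · show ε (ε.symm a) ∈ D F
          rwa [ε.apply_symm_apply]
        · show ε (ε.symm a * b * (ε.symm a)⁻¹) = a * ε b * a⁻¹
          rw [map_mul, map_mul, map_inv, ε.apply_symm_apply]) d hd
  have hα : (MulAut.congr ε) (MulAut.conjNormal d) = 1 ∨ (MulAut.congr ε) (MulAut.conjNormal d) = MulAut.conj (z₀ F) := by
    apply aut h2 h4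
    intro x hx
    show ε ((MulAut.conjNormal d) (ε.symm x)) = x
    have h5 : (MulAut.conjNormal d : MulAut S) (ε.symm x) = ε.symm x := by
      apply Subtype.ext
      rw [MulAut.conjNormal_apply]
      apply hfix
      show ε (ε.symm x) ∈ D F
      rwa [ε.apply_symm_apply]
    rw [h5, ε.apply_symm_apply]
  rcases hα with hα | hα
  · have h5 : d = 1 := by
      apply conj_inj hn hc
      rw [map_one]
      exact (MulAut.congr ε).injective (hα.trans (map_one _).symm)
    rw [h5]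
    exact one_mem _
  · have h5 : d = (ε.symm (z₀ F) : X) := by
      apply conj_inj hn hc
      apply (MulAut.congr ε).injective
      rw [hα]
      ext x
      show z₀ F * x * (z₀ F)⁻¹ = ε ((MulAut.conjNormal (ε.symm (z₀ F) : X)) (ε.symm x))
      have h6 : (MulAut.conjNormal (ε.symm (z₀ F) : X) : MulAut S) (ε.symm x) =
          ε.symm (z₀ F) * ε.symm x * (ε.symm (z₀ F))⁻¹ := by
        apply Subtype.ext
        rw [MulAut.conjNormal_apply]
        rfl
      rw [h6, map_mul, map_mul, map_inv, ε.apply_symm_apply, ε.apply_symm_apply]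
    rw [h5]
    exact mem_zpowers _

/-- **`|A| ≤ 2`.** -/
theorem card_le [Finite X] (h : Ex.ASx S T A) (hS : Cls S) : Nat.card A ≤ 2 := by
  obtain ⟨F, _, _, hodd, h3, ⟨ε⟩⟩ := hS
  have hfin : Finite (PSp 2 F) := Finite.of_equiv S ε.toEquiv
  have h2 : (2 : F) ≠ 0 := Cfsg.Agent.OddHalf.NI.Blocks.two_ne_zero_of_odd hodd
  refine card_le_of_syl h (z := ε.symm (z₀ F)) ?_ (syl ε.symm (exists_syl hodd)) fun B hB _ => ?_
  · intro h1
    exact z₀_ne_one h2 (by rw [← ε.apply_symm_apply (z₀ F), h1, map_one])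
  · refine (card_le_of_le (hB.trans (o2_le_zpowersX h.norm h.cen hodd h3 ε))).trans ?_
    have h1 : (ε.symm (z₀ F) : X) ^ 2 = 1 := by
      have h4 : ε.symm (z₀ F) * ε.symm (z₀ F) = 1 := by rw [← map_mul, z₀_mul, map_one]
      rw [pow_two]
      exact congrArg Subtype.val h4
    rw [Nat.card_zpowers]
    exact Nat.le_of_dvd (by norm_num) (orderOf_dvd_of_pow_eq_one h1)

/-- **The row `PSp₄(q)`, `q > 3` odd, exact.** -/
theorem deadX : Ex.DeadX.{u, v} @Cls.{u} := by
  intro H _ _ M _ _ _ K T A h hS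
  have h1 := card_le h.asx hS
  have h2 := h.four
  omega

end Cfsg.Agent.Omega.ML.Ex.RowPspFour

end

section


/-!
# The K-list for EXACT subgroups: the row `G₂(3)` (helper815)

Every involution of `G₂(3)` inverts an element of order 13, so `dim [M, x] ≥ 6 > 4 = RK`; `|Out| ≤ 2`.
-/

set_option autoImplicit false

namespace Cfsg.Agent.Omega.ML.Ex.RowGTwoX

open Subgroup Cfsg Cfsg.Lie
open Cfsg.Agent.Omega.ML Cfsg.Agent.Omega.ML.Rows Cfsg.Agent.Omega.ML.InvChain Cfsg.Agent.Omega.TwoF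

universe u v

/-- `|Out(G₂(3))| ≤ 2` -/
theorem out {S : Type*} [Group S] {F : Type} [Field F] [Fintype F] (hF : Fintype.card F = 3)
    (e : S ≃* ↥(chevG2.group F)) : (MulAut.conj : S →* MulAut S).range.index < 4 := by
  have h3 : Fintype.card (ZMod 3) = Fintype.card F := by rw [hF]; rfl
  let φ : ZMod 3 ≃+* F := FiniteField.ringEquivOfCardEq h3
  let f : S ≃* ↥(chevG2.group (ZMod 3)) := e.trans (ChevalleyStructure.FieldIso.groupEquiv chevG2 φ).symm
  rw [RowGTwoThree.out_congr f]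
  have h1 := OddHalf.D6.QThree.G23Out.out OddHalf.D6.QThree.G23Out.words2
  exact lt_of_le_of_lt (Nat.le_of_dvd two_pos h1) (by norm_num)

/-- every involution inverts an element of order 13 -/
theorem invAt {S : Type*} [Group S] {F : Type} [Field F] [Fintype F] (hF : Fintype.card F = 3)
    (e : S ≃* ↥(chevG2.group F)) (x : S) (hx : x * x = 1) (hx1 : x ≠ 1) : InvAt x 6 := by
  have h2 : orderOf x = 2 := orderOf_eq_prime (by rw [pow_two]; exact hx) hx1
  obtain ⟨g, hg⟩ := InvGTwoThree.exists_thirteen' F hF e x h2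
  have hxi : x⁻¹ = x := inv_eq_of_mul_eq_one_right hx
  refine ⟨x * (g * x * g⁻¹), 12, Chain.base _ 12 (by rw [hg]; norm_num) (by rw [hg]; norm_num) ?_, ?_, by norm_num⟩
  · rw [hg]
    intro n hn hn'
    by_contra hlt
    have := InvFrob.ord_13 n hn
    interval_cases n <;> omega
  · rw [mul_inv_rev, mul_inv_rev, mul_inv_rev, inv_inv, hxi]
    calc x * (x * (g * x * g⁻¹)) * x = (x * x) * (g * x * g⁻¹) * x := by group
      _ = _ := by rw [hx]; group

/-- **The row `G₂(3)` for exact subgroups.** -/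
theorem deadX : DeadX.{u, v} @RowGTwoThree.IsGTwoThree.{u} := by
  refine Inv.dead_strong fun S _ _ hS => ⟨4, ?_⟩
  obtain ⟨F, _, _, hF, ⟨e⟩⟩ := hS
  have h3 : CharP F 3 := by
    obtain ⟨p, hpF⟩ := CharP.exists F
    obtain ⟨n, hp, hn⟩ := FiniteField.card F p
    rw [hF] at hn
    have h4 : p ∣ 3 := hn ▸ dvd_pow_self p n.pos.ne'
    rwa [← (Nat.prime_dvd_prime_iff_eq hp Nat.prime_three).1 h4]
  refine ⟨?_, out hF e, fun x hx hx1 => (invAt hF e x hx hx1).mono (by norm_num)⟩
  have hr := (RowGTwo.rk (F := F) (p := 3) Nat.prime_three (by norm_num)).2 fun σ => by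
    apply Out.ringAut_eq_one
    rw [Nat.card_eq_fintype_card, hF]
    norm_num
  exact hr.equiv e

end Cfsg.Agent.Omega.ML.Ex.RowGTwoX

end
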