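import Cfsg.Agent.Mrg.Omega.ML.Ex.RkX
import Cfsg.Agent.Mrg.Omega.ML.RowFi22
import Cfsg.Agent.OddHalf.D4.Spor.J1Out

section


/-!
# Exact and low configurations: the group-theoretic row Fi23 over `ASx` (helper333)
-/

set_option autoImplicit false

namespace Cfsg.Agent.Omega.ML.Ex.RowFi23X

open Subgroup Cfsg Cfsg.Agent.ZN Cfsg.Agent.Omega.ML.Rows
open Cfsg.Agent.MinSimple.VModule (o2_isPGroup o2_le le_o2 le_normalizer_o2)

universe u v w

/-- **One overgroup of odd index.** -/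
theorem card_le_of_sub {X : Type u} [Group X] [Finite X] {S T A : Subgroup X} (h : ASx S T A) {n : ℕ}
    (h1 : S = ⊤) {Y : Type w} [Group Y] (e : S ≃* Y) {C : Subgroup Y}
    (hC : ¬ 2 ∣ C.index) (hC1 : C ≠ ⊤)
    (hD : ∀ D : Subgroup Y, D ≤ C → IsPGroup 2 D → (∀ c ∈ C, ∀ d ∈ D, c * d * c⁻¹ ∈ D) → ∀ B ≤ D,
      (∀ b ∈ B, b * b = 1) → Nat.card B ≤ n) : Nat.card A ≤ n := by
  have e1 : X ≃* Y := (Subgroup.topEquiv.symm.trans (MulEquiv.subgroupCongr h1.symm)).trans e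
  obtain ⟨f, hf⟩ := RowFi23.exists_equiv e1 h.two hC
  have h2 : C.comap f.toMonoidHom ≠ ⊤ := by
    intro h3
    apply hC1
    have h4 : (C.comap f.toMonoidHom).map f.toMonoidHom = C :=
      map_comap_eq_self_of_surjective (f := f.toMonoidHom) f.surjective C
    rw [← h4, h3]
    exact map_top_of_surjective f.toMonoidHom f.surjective
  have h3 := h.low _ hf h2
  rw [← card_map_of_injective (K := A) (f := f.toMonoidHom) f.injective]
  refine hD ((o2 (C.comap f.toMonoidHom)).map f.toMonoidHom) ?_ ((o2_isPGroup _).map _) ?_ _ (map_mono h3) ?_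
  · rw [map_le_iff_le_comap]
    exact o2_le _
  · rintro c hc _ ⟨d, hd, rfl⟩
    obtain ⟨x, rfl⟩ := f.surjective c
    have h4 := le_normalizer_o2 (C.comap f.toMonoidHom) (show x ∈ C.comap f.toMonoidHom from hc)
    exact ⟨x * d * x⁻¹, (mem_normalizer_iff.1 h4 d).1 hd, by simp⟩
  · rintro _ ⟨a, ha, rfl⟩
    rw [← map_mul, h.el a ha, map_one]

/-- The subgroup form of `hD` for a quasisimple subgroup with a centre of order at most `n`. -/
theorem card_le_of_quasi {Y : Type*} [Group Y] [Finite Y] {C : Subgroup Y} (h : IsQuasisimple C) {n : ℕ}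
    (hz : Nat.card (center C) ≤ n) (D : Subgroup Y) (hDC : D ≤ C) (hD2 : IsPGroup 2 D)
    (hDn : ∀ c ∈ C, ∀ d ∈ D, c * d * c⁻¹ ∈ D) (B : Subgroup Y) (hB : B ≤ D) : Nat.card B ≤ n := by
  have h1 : (D.subgroupOf C).Normal := ⟨fun d hd c => hDn c c.2 d hd⟩
  have h2 : IsPGroup 2 (D.subgroupOf C) := hD2.comap_subtype
  have h3 := RowFi23.le_center_of_quasi h h2
  have h4 : Nat.card (D.subgroupOf C) = Nat.card D := Nat.card_congr (subgroupOfEquivOfLe hDC).toEquiv
  calc Nat.card B ≤ Nat.card D := card_le_of_le hB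
    _ = Nat.card (D.subgroupOf C) := h4.symm
    _ ≤ Nat.card (center C) := card_le_of_le h3
    _ ≤ n := hz

open Cfsg.Agent.Fischer Cfsg.Agent.Fischer.Fi23Hom Cfsg.Agent.Fischer.Fi23Class Cfsg.Agent.Fischer.Fi23Z
open Cfsg.Agent.KFacts.FiTTh

/-- **The row `Fi23`**: `|A| ≤ 2`. -/
theorem fi23 : DeadGx.{u} 2 (fun S _ => Spor.IsoFi23 S) := by
  rintro X _ _ S T A h ⟨e⟩
  have hf : Finite Spor.Fi23 := Cfsg.Agent.Omega.Lie.Cen.finite_fi23
  have htop : S = ⊤ := h.top_of_inn (inner_of_equiv e fun β => Has.inn β)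
  refine card_le_of_sub h htop e (C := K) Cfsg.Agent.Omega.Lie.Cen.index_K ?_ fun D h1 h2 h3 B h4 _ => ?_
  · intro h1
    have h2 := Cfsg.Agent.SporRec.Fi23Index.index_H
    rw [show Cfsg.Agent.SporRec.Fi23Index.H = ⊤ from h1, index_top] at h2
    norm_num at h2
  · exact card_le_of_quasi Quasi.qs_K (by rw [Quasi.cover.1]) D h1 h2 h3 B h4

/-- **The row is dead.** -/
theorem fi23_dead : DeadX.{u, v} (fun S _ => Spor.IsoFi23 S) := fi23.deadX (by norm_num)

end Cfsg.Agent.Omega.ML.Ex.RowFi23X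

end

section


/-!
# Exact and low configurations: the row J1 (helper333): `|A| ≤ 2`

`E` a Sylow 2-subgroup, `x₀ = f 3 ∈ E`, `bb ∈ C(x₀)` of order 3 with `E ∩ E^bb = ⟨x₀⟩`: normal 2-subgroups of `C(x₀)`
are in `⟨x₀⟩`.
-/

set_option autoImplicit false
set_option maxRecDepth 100000

namespace Cfsg.Agent.Omega.ML.Ex.RowJ1X

open Subgroup Cfsg Cfsg.Agent.ZN Cfsg.Agent.Omega.ML.Rows
open Cfsg.Agent.OddHalf.D4.Spor.J1Out
open Cfsg.Agent.SporadicB.J1.Mat Cfsg.Agent.SporadicB.J1.Main Cfsg.Agent.SporadicB.J1.Data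
open Cfsg.Agent.SporadicB.KTab
open Cfsg.Spor (J1)
open Cfsg.Agent.SignalizersComponents.BalEndJ1 (card_J1)

universe u v

theorem code_ok : ∀ i j : Fin 8, i = 0 ∨ i = 3 ∨ diffC (mulC (H 186) (cf i)) (mulC (cf j) (H 186)) = true := by
  decide +kernel

theorem EE_le : EE ≤ centralizer ({f 3} : Set J1) := by
  rintro x hx
  obtain ⟨i, rfl⟩ := mem_EE.1 hx
  exact mem_centralizer_singleton_iff.2 (f_comm i 3)

theorem le_EE (D : Subgroup J1) (h2 : IsPGroup 2 D)
    (hN : ∀ c ∈ centralizer ({f 3} : Set J1), ∀ d ∈ D, c * d * c⁻¹ ∈ D) : D ≤ EE := by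
  have hp : Fact (Nat.Prime 2) := ⟨Nat.prime_two⟩
  have hfin : Finite J1 := Nat.finite_of_card_ne_zero (by rw [card_J1]; norm_num)
  have hE2 : IsPGroup 2 EE := IsPGroup.of_card (n := 3) (by rw [card_EE]; norm_num)
  have hEN : EE ≤ normalizer (D : Set J1) := by
    intro c hc
    have hc1 := EE_le hc
    rw [mem_normalizer_iff]
    intro x
    refine ⟨fun hx => hN c hc1 x hx, fun hx => ?_⟩
    have h3 := hN c⁻¹ (inv_mem hc1) _ hx
    have h4 : c⁻¹ * (c * x * c⁻¹) * c⁻¹⁻¹ = x := by group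
    rwa [h4] at h3
  have hs : IsPGroup 2 (EE ⊔ D : Subgroup J1) := hE2.to_sup_of_normal_right' h2 hEN
  have h3 : EE = EE ⊔ D := by
    refine eq_of_le_of_card_ge le_sup_left ?_
    obtain ⟨n, hn⟩ := IsPGroup.iff_card.1 hs
    have h4 : 2 ^ n ∣ 175560 := by
      rw [← hn, ← card_J1]
      exact card_subgroup_dvd_card _
    rw [hn, card_EE]
    have h5 : n ≤ 3 := by
      by_contra hcon
      have h6 : 2 ^ 4 ∣ 2 ^ n := pow_dvd_pow 2 (by omega)
      have h7 := h6.trans h4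
      norm_num at h7
    calc 2 ^ n ≤ 2 ^ 3 := Nat.pow_le_pow_right (by norm_num) h5
      _ = 8 := by norm_num
  rw [h3]
  exact le_sup_right

theorem card_le_two (D : Subgroup J1) (h2 : IsPGroup 2 D)
    (hN : ∀ c ∈ centralizer ({f 3} : Set J1), ∀ d ∈ D, c * d * c⁻¹ ∈ D) (B : Subgroup J1) (hB : B ≤ D) :
    Nat.card B ≤ 2 := by
  have hDE := le_EE D h2 hN
  have hle : B ≤ zpowers (f 3) := by
    intro b hb
    obtain ⟨i, rfl⟩ := mem_EE.1 (hDE (hB hb))
    have h1 := hN bb (mem_centralizer_singleton_iff.2 bb_comm) _ (hB hb)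
    obtain ⟨j, hj⟩ := mem_EE.1 (hDE h1)
    rcases code_ok i j with rfl | rfl | h3
    · rw [f_zero]
      exact one_mem _
    · exact mem_zpowers _
    · exact absurd (mul_inv_eq_iff_eq_mul.1 hj.symm) ((rep_bb.mul (rep_f i)).ne ((rep_f j).mul rep_bb) h3)
  refine (card_le_of_le hle).trans ?_
  rw [Nat.card_zpowers]
  exact Nat.le_of_dvd (by norm_num) (orderOf_dvd_of_pow_eq_one (by rw [pow_two]; exact f_sq 3))

/-- **The row `J1`**: `|A| ≤ 2`. -/
theorem j1 : DeadGx.{u} 2 (fun S _ => Spor.IsoJ1 S) := by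
  rintro X _ _ S T A h ⟨e⟩
  have hfin : Finite J1 := Nat.finite_of_card_ne_zero (by rw [card_J1]; norm_num)
  have htop : S = ⊤ := h.top_of_inn (inner_of_equiv e inn)
  refine RowFi23X.card_le_of_sub h htop e (C := centralizer ({f 3} : Set J1)) ?_ ?_
    fun D _ h2 h3 B h4 _ => card_le_two D h2 h3 B h4
  · intro h1
    have h2 : (centralizer ({f 3} : Set J1)).index ∣ EE.index := index_dvd_of_le EE_le
    have h3 := EE.card_mul_index
    rw [card_EE, card_J1] at h3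
    have h4 : EE.index = 21945 := by omega
    rw [h4] at h2
    have h5 := h1.trans h2
    norm_num at h5
  · intro h1
    have h2 : r ∈ centralizer ({f 3} : Set J1) := h1 ▸ mem_top _
    have h3 : nn ∈ centralizer ({f 3} : Set J1) := h1 ▸ mem_top _
    have h4 := mem_centralizer_singleton_iff.1 h3
    have h5 := nn_conj 3
    rw [h4, mul_inv_cancel_right] at h5
    have h6 := f_inj h5
    revert h6
    decide

/-- **The row is dead.** -/
theorem j1_dead : DeadX.{u, v} (fun S _ => Spor.IsoJ1 S) := j1.deadX (by norm_num)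

end Cfsg.Agent.Omega.ML.Ex.RowJ1X

end
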