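import Cfsg.Agent.Mrg.Omega.ML.Ex.RkX
import Cfsg.Agent.Mrg.Omega.ML.RowJ23
import Cfsg.Agent.Mrg.Omega.ML.Ex.TIE

section


/-!
# Exact and low configurations: the group-theoretic rows J2, J3 over `ASx` (helper333)
-/

set_option autoImplicit false

namespace Cfsg.Agent.Omega.ML.Ex.RowJ23X

open Subgroup Cfsg Cfsg.Agent.OddHalf.D8.JTwo.Sheet Cfsg.Agent.Omega.ML.Rows

universe u

/-- **The row `J3`.** -/
theorem j3 : DeadGx.{u} 4 (fun S _ => Spor.IsoJ3 S) := by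
  refine deadGx_of_sheet fun S _ _ hS => ?_
  obtain ⟨z, Q, v, ρ, M, -, -, h⟩ := Cfsg.Agent.OddHalf.D8.RowJ3.sheet' S hS
  exact ⟨z, _, _, of_sheetE h, fun B hB hBe => Cfsg.Agent.Omega.TwoF.RowJ3.card_le_Q M B hB hBe⟩

/-- **The row `J2`.** -/
theorem j2 : DeadGx.{u} 4 (fun S _ => Spor.IsoJ2 S) := by
  refine deadGx_of_sheet fun S _ _ hS => ?_
  obtain ⟨t, u, Q, v, ρ, D⟩ := Cfsg.Agent.KFacts.J2.Facts.exists_dat_of hS
  exact ⟨t, _, _, Cfsg.Agent.KFacts.J2.SheetX.sheetX D, fun B hB hBe =>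
    Cfsg.Agent.Omega.TwoF.RowJ3.card_le_Q D.M B hB hBe⟩

end Cfsg.Agent.Omega.ML.Ex.RowJ23X

end

section


/-!
# Exact and low configurations: the rows J2, J3, all orders of `A` (helper181)

* `dead_sheet_rank_two` : a class of groups with a sheet `SheetX z P R` in which the elementary abelian subgroups of `R`
  have order at most 4 and the involutions of `R` are conjugate to `z` is a row (`DeadX`);   `deadX_J2`, `deadX_J3`.
-/

set_option autoImplicit false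

namespace Cfsg.Agent.Omega.ML.Ex.RowJ23Y

open Subgroup Cfsg Cfsg.Agent.OddHalf.D8.Sheet Cfsg.Agent.OddHalf.D8.JTwo.Sheet Cfsg.Agent.Omega.ML.Rows

universe u v

/-- **Sheets of type (E) with `R` of 2-rank at most 2.** -/
theorem dead_sheet_rank_two {𝒮 : ∀ (S : Type u) [Group S], Prop}
    (hs : ∀ (S : Type u) [Group S], Finite S → 𝒮 S → ∃ (z : S) (P R : Subgroup S), SheetX z P R ∧
      (∀ B ≤ R, (∀ b ∈ B, b * b = 1) → Nat.card B ≤ 4) ∧ ∀ r ∈ R, r * r = 1 → r ≠ 1 → IsConj z r) : DeadX.{u, v} 𝒮 := by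
  intro H _ _ M _ _ _ K T A h hS
  obtain ⟨z, P, R, hz, hR, hfus⟩ := hs K inferInstance hS
  obtain ⟨g, hg⟩ := h.asx.le_conj hz
  have hinj := K.subtype_injective
  have hmem : ∀ x : K, (x : H) ∈ R.map K.subtype ↔ x ∈ R := by
    intro x
    constructor
    · rintro ⟨r, hr, hrx⟩
      rwa [← hinj hrx]
    · exact fun hx => ⟨x, hx, rfl⟩
  refine Extra.false_of_rank_two h (z := (z : H)) (P := P.map K.subtype) (R := R.map K.subtype) (g := (g : H)) ?_ ?_ ?_ ?_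
    ?_ ?_ ?_ ?_ ?_ ?_ hg
  · exact congrArg Subtype.val hz.zz
  · exact fun h1 => hz.z1 (Subtype.ext h1)
  · exact (hmem z).2 hz.zR
  · rintro _ ⟨r, hr, rfl⟩
    exact congrArg Subtype.val (hz.cen r (hz.RP hr))
  · rintro _ ⟨p, hp, rfl⟩
    exact congrArg Subtype.val (hz.cen p hp)
  · rintro _ ⟨p, hp, rfl⟩ _ ⟨r, hr, rfl⟩
    exact ⟨_, hz.Rn p hp r hr, by simp⟩
  · intro B hB hBP
    have h1 : ∀ b ∈ B, ∃ r ∈ R, (r : H) = b := fun b hb => hB hb
    rcases hz.Rmin (B.comap K.subtype) (fun x hx => (hmem x).1 (hB hx)) (fun p hp b hb => by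
      have h2 := hBP _ ⟨p, hp, rfl⟩ _ hb
      rw [mem_comap, map_mul, map_mul, map_inv]
      exact h2) with h3 | h3
    · left
      intro b hb
      obtain ⟨r, hr, rfl⟩ := h1 b hb
      rcases h3 r hb with rfl | rfl
      · exact Or.inl rfl
      · exact Or.inr rfl
    · right
      rw [← h3]
      refine (map_comap_eq_self ?_).symm
      rw [range_subtype]
      exact hB.trans (map_subtype_le _)
  · obtain ⟨a, ha, b, hb, hab⟩ := hz.Rna
    exact ⟨_, ⟨a, ha, rfl⟩, _, ⟨b, hb, rfl⟩, fun h1 => hab (hinj (by rw [map_mul, map_mul]; exact h1))⟩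
  · intro B hB hel
    have h1 := hR (B.comap K.subtype) (fun x hx => (hmem x).1 (hB hx)) (fun b hb => Subtype.ext (hel _ hb))
    have h2 : (B.comap K.subtype).map K.subtype = B := by
      refine map_comap_eq_self ?_
      rw [range_subtype]
      exact hB.trans (map_subtype_le _)
    rw [← h2, card_map_of_injective hinj]
    exact h1
  · rintro _ ⟨r, hr, rfl⟩ hrr hr1
    obtain ⟨k, hk⟩ := isConj_iff.1 (hfus r hr (hinj (by rw [map_mul, map_one]; exact hrr))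
      (fun h1 => hr1 (by rw [h1, map_one])))
    exact ⟨k, by rw [← hk]; simp⟩

/-- `J3` has one class of involutions -/
theorem one {S : Type u} [Group S] (hS : Spor.IsoJ3 S) (x y : S) (hx : x * x = 1) (hx1 : x ≠ 1) (hy : y * y = 1)
    (hy1 : y ≠ 1) : IsConj x y := by
  obtain ⟨-, z, Q, v, ρ, n, u, F⟩ := Cfsg.Agent.KFacts.J3.exists_facts hS
  have h1 : ∀ x : S, x * x = 1 → x ≠ 1 → IsConj z x := by
    intro x hx hx1
    obtain ⟨g, hg⟩ := F.one x hx1 hx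
    exact isConj_iff.2 ⟨g, hg⟩
  exact (h1 x hx hx1).symm.trans (h1 y hy hy1)

/-- **The row `J3`.** -/
theorem deadX_J3 : DeadX.{u, v} (fun S _ => Spor.IsoJ3 S) := by
  refine dead_sheet_rank_two fun S _ _ hS => ?_
  obtain ⟨z, Q, v, ρ, M, -, -, h⟩ := Cfsg.Agent.OddHalf.D8.RowJ3.sheet' S hS
  refine ⟨z, _, _, of_sheetE h, fun B hB hBe => Cfsg.Agent.Omega.TwoF.RowJ3.card_le_Q M B hB hBe, fun r _ hrr hr1 => ?_⟩
  exact one hS z r h.zz h.z1 hrr hr1

/-- **The row `J2`.** -/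
theorem deadX_J2 : DeadX.{u, v} (fun S _ => Spor.IsoJ2 S) := by
  refine dead_sheet_rank_two fun S _ _ hS => ?_
  obtain ⟨t, u, Q, v, ρ, D⟩ := Cfsg.Agent.KFacts.J2.Facts.exists_dat_of hS
  refine ⟨t, _, _, Cfsg.Agent.KFacts.J2.SheetX.sheetX D, fun B hB hBe =>
    Cfsg.Agent.Omega.TwoF.RowJ3.card_le_Q D.M B hB hBe, ?_⟩
  rintro _ ⟨r, hr, rfl⟩ hrr hr1
  exact D.isConj_of_mem_Q hr (Subtype.ext hrr) (fun h1 => hr1 (by rw [h1, map_one]))

end Cfsg.Agent.Omega.ML.Ex.RowJ23Y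

end
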