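import Cfsg.Agent.Mrg.Omega.ML.ExEx.Core
import Cfsg.Agent.Mrg.Omega.ML.RowFi22
import Cfsg.Agent.Mrg.Omega.TwoF.RowJ4
import Cfsg.Agent.Mrg.Omega.ML.Ex.DefN


/-!
# K-list "exact + low": the row `J4` (helper43)

The sheet of type (E) of `J4`: `P = 2^{1+12}.3.M22`, `R = 2^{1+12}`, `n = 6`; `P / R⟨ρ⟩ = M22` has no nontrivial
representation of degree `≤ 6` over `F₂` (`11` divides its order).
-/

set_option autoImplicit false

namespace Cfsg.Agent.Omega.ML.Ex.RowJ4X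

open Subgroup Cfsg Cfsg.Agent.J4Type Cfsg.Agent.KFacts.J4 Cfsg.Agent.KFacts.J4.Base
open Cfsg.Agent.Omega.Lie.Heis (LB)
open Cfsg.Agent.Omega.ML.ExRec Cfsg.Agent.Omega.ML.Ex Cfsg.Agent.OddHalf.D8.Sheet Cfsg.Agent.OddHalf.D8.JTwo.Sheet
open Cfsg.Agent.SporadicA.MathieuRecog (card_M22 simple_M22)

universe u v w

theorem ord_11 : 10 ≤ orderOf (2 : ZMod 11) :=
  TwoF.le_orderOf_two (isOfFinOrder_iff_pow_eq_one.2 ⟨10, by norm_num, by decide⟩) (by decide)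

/-- **LB** for `M22` -/
theorem lb_M22 : LB.{0, u, v} Cfsg.Spor.M22 7 := by
  have := simple_M22
  have h : LB.{0, u, v} Cfsg.Spor.M22 10 :=
    LB.prime (p := 11) (by norm_num) (by norm_num) (by rw [card_M22]; norm_num) ord_11
  exact h.mono (by norm_num)

variable {K : Type w} [Group K]

/-- the kernel of `P → M22` is central modulo `Q` -/
theorem central (C : Cent K) (x : MM C) (hx : AutP.pi C x = 1) (y : MM C) :
    (x : K) * y * (x : K)⁻¹ * (y : K)⁻¹ ∈ C.Q := by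
  obtain ⟨q, hq, i, hi⟩ := (AutP.pi_eq_one x).1 hx
  obtain ⟨hyc, hy⟩ := mem_MM.1 y.2
  obtain ⟨r, hr, hr'⟩ := C.P_inner ⟨y, hyc⟩ hy
  have hr2 : (y : K) * C.ρ * (y : K)⁻¹ = r * C.ρ := hr'
  -- `y ρ^i y⁻¹ ∈ Q ρ^i`
  have key : ∀ j : ℕ, ∃ s ∈ C.Q, (y : K) * C.ρ ^ j * (y : K)⁻¹ = s * C.ρ ^ j := by
    intro j
    induction j with
    | zero => exact ⟨1, C.Q.one_mem, by rw [pow_zero, mul_one, mul_inv_cancel, one_mul]⟩
    | succ j ih =>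
      obtain ⟨s, hs, h1⟩ := ih
      have hm : C.ρ ^ j * C.z = C.z * C.ρ ^ j := comm_z ((MM C).pow_mem (rho_mem_MM C) j)
      refine ⟨s * (C.ρ ^ j * r * (C.ρ ^ j)⁻¹), C.Q.mul_mem hs (C.Q_conj _ hm r hr), ?_⟩
      calc (y : K) * C.ρ ^ (j + 1) * (y : K)⁻¹ = ((y : K) * C.ρ ^ j * (y : K)⁻¹) * ((y : K) * C.ρ * (y : K)⁻¹) := by
            rw [pow_succ]; group
        _ = s * (C.ρ ^ j * r * (C.ρ ^ j)⁻¹) * C.ρ ^ (j + 1) := by rw [h1, hr2, pow_succ]; group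
  obtain ⟨s, hs, h1⟩ := key i
  have hyz := comm_z y.2
  have h2 : (y : K) * x * (y : K)⁻¹ = ((y : K) * q * (y : K)⁻¹) * (s * q⁻¹) * x := by
    rw [hi]
    calc (y : K) * (q * C.ρ ^ i) * (y : K)⁻¹ = ((y : K) * q * (y : K)⁻¹) * ((y : K) * C.ρ ^ i * (y : K)⁻¹) := by group
      _ = ((y : K) * q * (y : K)⁻¹) * (s * q⁻¹) * (q * C.ρ ^ i) := by rw [h1]; group
  have h3 : (x : K) * y * (x : K)⁻¹ * (y : K)⁻¹ = ((y : K) * x * (y : K)⁻¹ * (x : K)⁻¹)⁻¹ := by group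
  rw [h3, h2, mul_inv_cancel_right]
  exact C.Q.inv_mem (C.Q.mul_mem (C.Q_conj _ hyz q hq) (C.Q.mul_mem hs (C.Q.inv_mem hq)))

/-- `|Q⟨ρ⟩ : Q|` is odd -/
theorem odd_ker [Finite K] (C : Cent K) : Odd ((C.Q.subgroupOf (MM C)).relIndex (AutP.pi C).ker) := by
  have hn : ((C.Q.subgroupOf (MM C)).subgroupOf (AutP.pi C).ker).Normal :=
    ⟨fun q hq g => C.Q_conj _ (comm_z (g : MM C).2) _ hq⟩
  have h3 : IsPGroup 3 ((AutP.pi C).ker ⧸ (C.Q.subgroupOf (MM C)).subgroupOf (AutP.pi C).ker) := by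
    intro x
    obtain ⟨x, rfl⟩ := QuotientGroup.mk_surjective x
    refine ⟨1, ?_⟩
    rw [pow_one, ← QuotientGroup.mk_pow, QuotientGroup.eq_one_iff]
    obtain ⟨q, hq, i, hi⟩ := (AutP.pi_eq_one (x : MM C)).1 x.2
    obtain ⟨q', hq', h1⟩ := AutP.pow_eq hq i 3
    rw [← hi, ← pow_mul, mul_comm i, pow_mul, AutP.rho_cube, one_pow, mul_one] at h1
    change ((x : MM C) : K) ^ 3 ∈ C.Q
    rw [h1]
    exact hq'
  have : Fact (Nat.Prime 3) := ⟨Nat.prime_three⟩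
  obtain ⟨n, hn⟩ := IsPGroup.iff_card.1 h3
  have h4 : (C.Q.subgroupOf (MM C)).relIndex (AutP.pi C).ker = 3 ^ n := hn
  rw [h4]
  exact Odd.pow (by decide)

/-- **the sheet** -/
theorem exists_sheet (S : Type w) [Group S] [Finite S] (h : Spor.IsoJ4 S) :
    ∃ (z : S) (P R : Subgroup S) (n : ℕ), SheetE z P R ∧ 2 ≤ n ∧ Nat.card R = 2 ^ (2 * n + 1) ∧
      TrivC.{u, v, w} (centralizer ({z} : Set S)) P n := by
  obtain ⟨hfin, hs, ⟨F⟩⟩ := exists_full h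
  have hE := SheetJ4.sheet F
  have hX := of_sheetE hE
  refine ⟨_, _, _, 6, hE, by norm_num, F.C.Q_card, ?_⟩
  refine ExTriv.trivC_of_lb (MM_le F.C.toCent) hX.R2 hX.Rn hX.perf (AutP.pi F.C.toCent)
    (AutP.pi_surjective F.C.toCent) ?_ (central F.C.toCent) (odd_ker F.C.toCent) lb_M22
  intro x hx
  exact (AutP.pi_eq_one x).2 ⟨x, hx, 0, by rw [pow_zero, mul_one]⟩

/-- **The row `J4`.** (no atom, no `sub`) -/
theorem deadX : DeadX.{u, v} @Spor.IsoJ4 :=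
  ExEx.SheetRow.deadX_of_sheet fun S _ _ hS => exists_sheet S hS

/-- the row for `InN` -/
theorem deadN : DeadN.{u, v} @Spor.IsoJ4 := DeadX.deadN deadX

end Cfsg.Agent.Omega.ML.Ex.RowJ4X
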