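import Cfsg.Agent.Mrg.Omega.ML.Ex.RkX
import Cfsg.Agent.Mrg.Omega.ML.RowON


/-!
# Exact and low configurations: the group-theoretic row O'N over `ASx` (helper333): `A` lies in a cyclic group
-/

set_option autoImplicit false

namespace Cfsg.Agent.Omega.ML.Ex.RowONX

open Subgroup Cfsg Cfsg.Agent.ZN Cfsg.Agent.Omega.TwoF Cfsg.Agent.Omega.ML.Rows
open Cfsg.Agent.OddHalf Cfsg.Agent.OddHalf.D8.Sheet Cfsg.Agent.OddHalf.D8.ON.Sheet

universe u v

/-- **The row `O'N`**: `|A| ≤ 2`. -/
theorem on : DeadGx.{u} 2 (fun S _ => Spor.IsoON S) := by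
  intro X _ _ S T A h hS
  have hn := h.norm
  obtain ⟨z, v, P, E, sh⟩ := Cfsg.Agent.KFacts.ON.Sheet.exists_sheet hS
  refine h.card_le_of_syl sh.basic.z1 sh.basic.syl fun B hB hBe => ?_
  have hle : B ≤ zpowers (v : X) := by
    intro d hd
    have h1 := RowON.cent_P hn sh.basic.cen sh.basic.perf sh.basic.der sh.qs d (hB hd)
    obtain ⟨u, hu, hu'⟩ := sh.autP (MulAut.conjNormal d) fun x hx => Subtype.ext (by
      rw [MulAut.conjNormal_apply]
      exact h1 x hx)
    have h2 : d = u := by
      apply h.conj_inj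
      rw [hu']
      ext s
      rw [MulAut.conjNormal_apply, MulAut.conj_apply]
      simp
    rw [h2]
    obtain ⟨k, hk⟩ := hu
    exact ⟨k, by rw [← hk]; rfl⟩
  -- an elementary abelian subgroup of a cyclic group
  have hcyc : IsCyclic B := by
    have : IsCyclic (B.subgroupOf (zpowers (v : X))) := inferInstance
    exact isCyclic_of_surjective (subgroupOfEquivOfLe hle).toMonoidHom (subgroupOfEquivOfLe hle).surjective
  obtain ⟨b, hb⟩ := hcyc.exists_generator
  have h3 : Nat.card B = orderOf b := (orderOf_eq_card_of_forall_mem_zpowers hb).symm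
  rw [h3]
  exact Nat.le_of_dvd (by norm_num) (orderOf_dvd_of_pow_eq_one (by
    rw [pow_two]
    exact Subtype.ext (hBe b b.2)))

/-- **The row is dead.** -/
theorem on_dead : DeadX.{u, v} (fun S _ => Spor.IsoON S) := on.deadX (by norm_num)

end Cfsg.Agent.Omega.ML.Ex.RowONX
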