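import Cfsg.Agent.Mrg.Omega.ML.RowFi22
import Cfsg.Agent.Omega.Lie.HeisCover
import Cfsg.Agent.Mrg.Omega.Lie.ExoComp
import Cfsg.Agent.OddHalf.D8.SheetMap
import Cfsg.Agent.KFacts.Co1.CaseM
import Cfsg.Agent.Mrg.Omega.ML.ExEx.Core
import Cfsg.Agent.OddHalf.D8.JTwo.Sheet

section


/-!
# The sheet of type (E) of `Co1` with `TrivC` (helper592)

* `lb_of_card_gt` : `|GL_k(2)| < |L|` for `k < m` ⟹ `LB L m`;
* `exists_sheet` : helper899's sheet of type (E) of `Co1` on a group `S ≅ Co1`: `|R| = 2⁹`, `C(z)/R` is simple of order at least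
  `174182400`, so `TrivC C(z) P 4`.
-/

set_option autoImplicit false

namespace Cfsg.Agent.Omega.ML.Ex.SheetCo1

open Subgroup Cfsg Cfsg.Agent.KFacts
open Cfsg.Agent.Omega.Lie.Heis (LB Irr)
open Cfsg.Agent.Omega.Lie.PairOrd
open Cfsg.Agent.Omega.ML.ExRec
open Cfsg.Agent.OddHalf.D8.Sheet Cfsg.Agent.OddHalf.D8.JTwo.Sheet
open Cfsg.Agent.CoOneType.SignFacts (sup wt)
open Cfsg.Agent.CoOneType.ClosingFacts (mk)
open Cfsg.Agent.SporadicA.Co0Mono
open Cfsg.Agent.KFacts.Co1.InCo1

universe u v w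

/-- A lower bound by the order of the group. -/
theorem lb_of_card_gt {K : Type u} [Group K] [Finite K] [IsSimpleGroup K] {m : ℕ}
    (h : ∀ k < m, glc k < Nat.card K) : LB.{u, v, w} K m := by
  apply LB.of_irr
  intro L _ _ π hπ _ _ _ V _ _ h2 φ hφ hirr
  -- `V` is elementary abelian
  have hV : Nontrivial V := by
    by_contra hn
    rw [not_nontrivial_iff_subsingleton] at hn
    obtain ⟨x, hx⟩ := exists_ne (1 : K)
    obtain ⟨g, rfl⟩ := hπ x
    apply hx
    have h3 : g = 1 := hφ (by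
      rw [map_one]
      ext v
      exact Subsingleton.elim _ _)
    rw [h3, map_one]
  let U : Subgroup V :=
    { carrier := {x | x ^ 2 = 1}
      one_mem' := one_pow 2
      mul_mem' := fun {a b} ha hb => by
        show (a * b) ^ 2 = 1
        rw [mul_pow, show a ^ 2 = 1 from ha, show b ^ 2 = 1 from hb, one_mul]
      inv_mem' := fun {a} ha => by
        show a⁻¹ ^ 2 = 1
        rw [inv_pow, show a ^ 2 = 1 from ha, inv_one] }
  have hU : U = ⊤ := by
    refine (hirr U fun g x hx => ?_).resolve_left fun h3 => ?_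
    · show (φ g x) ^ 2 = 1
      rw [← map_pow, show x ^ 2 = 1 from hx, map_one]
    · have : Fact (Nat.Prime 2) := ⟨Nat.prime_two⟩
      obtain ⟨n, hn⟩ := IsPGroup.iff_card.1 h2
      have h4 : 2 ∣ Nat.card V := by
        rw [hn]
        refine dvd_pow_self 2 ?_
        rintro rfl
        rw [pow_zero] at hn
        have := Finite.one_lt_card (α := V)
        omega
      obtain ⟨x, hx⟩ := exists_prime_orderOf_dvd_card' 2 h4
      have h5 : x ∈ U := by
        show x ^ 2 = 1
        rw [← hx]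
        exact pow_orderOf_eq_one x
      rw [h3, mem_bot] at h5
      rw [h5, orderOf_one] at hx
      omega
  have hel : ∀ x : V, x ^ 2 = 1 := fun x => by
    have h3 : x ∈ U := by rw [hU]; exact mem_top x
    exact h3
  by_contra hlt
  push Not at hlt
  obtain ⟨k, hk, hk'⟩ := exists_card hel hlt.le
  have hkm : k < m := by
    rw [hk'] at hlt
    exact (Nat.pow_lt_pow_iff_right (by norm_num)).1 hlt
  have h5 := h k hkm
  rw [← card_mulAut hel hk'] at h5
  have h6 := (Subgroup.card_dvd_of_surjective π hπ).trans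
    ((Nat.card_congr (MonoidHom.ofInjective hφ).toEquiv).dvd.trans (Subgroup.card_subgroup_dvd_card φ.range))
  have h7 : 0 < Nat.card (MulAut V) := Nat.card_pos
  exact absurd (Nat.le_of_dvd h7 h6) (not_le.2 h5)

/-- the quotient of the centraliser of a 2-central involution -/
theorem exists_quot {o : golayCode} (ho : wt o = 8) : ∃ (L : Type) (_ : Group L) (_ : Finite L) (_ : IsSimpleGroup L)
    (π : centralizer ({mk (signCo0 o)} : Set Spor.Co1) →* L), Function.Surjective π ∧
      (∀ c, π c = 1 ↔ (c : Spor.Co1) ∈ RCo1 o) ∧ LB.{0, u, v} L 5 := by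
  have hfin : Finite Spor.Co1 := by
    have : Finite Co0 := Cfsg.Agent.CoOneType.FrameFix.finite_co0
    exact Quotient.finite _
  obtain ⟨C, hC⟩ : ∃ C, C = centralizer ({mk (signCo0 o)} : Set Spor.Co1) := ⟨_, rfl⟩
  have hRC : RCo1 o ≤ C := by
    intro r hr
    rw [hC]
    exact mem_centralizer_singleton_iff.2 ((large ho).comm_z r hr)
  have hCm : ∀ c ∈ C, c ∈ centralizer ({mk (signCo0 o)} : Set Spor.Co1) := fun c hc => hC ▸ hc
  have hRn : ((RCo1 o).subgroupOf C).Normal := ⟨fun r hr c =>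
    (large ho).conj_mem c (mem_centralizer_singleton_iff.1 (hCm c c.2)) r hr⟩
  have hcard : 89181388800 ≤ Nat.card C := by
    rw [hC]
    exact Cfsg.Agent.CoOneType.CentOctad.card_centralizer ho
  have hR : Nat.card ((RCo1 o).subgroupOf C) = 512 := by
    rw [Nat.card_congr (subgroupOfEquivOfLe hRC).toEquiv, Co1.YBig.card_R ho]
  have hL : 174182400 ≤ Nat.card (C ⧸ (RCo1 o).subgroupOf C) := by
    have h1 := card_mul_index ((RCo1 o).subgroupOf C)
    rw [hR] at h1
    have h2 : 174182400 ≤ ((RCo1 o).subgroupOf C).index := by omega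
    exact h2
  have hnt : Nontrivial (C ⧸ (RCo1 o).subgroupOf C) := by
    apply Finite.one_lt_card_iff_nontrivial.1
    omega
  have hs : IsSimpleGroup (C ⧸ (RCo1 o).subgroupOf C) := by
    refine ⟨fun N hN => ?_⟩
    obtain ⟨Mx, hMx⟩ : ∃ Mx : Subgroup C, Mx = N.comap (QuotientGroup.mk' ((RCo1 o).subgroupOf C)) := ⟨_, rfl⟩
    have hMn : Mx.Normal := by rw [hMx]; exact hN.comap _
    have h1 := Co1.CaseM.normal ho (Mx.map C.subtype) (by rw [← hC]; exact map_subtype_le _) ?_ ?_
    · rcases h1 with h1 | h1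
      · left
        rw [eq_bot_iff]
        intro x hx
        obtain ⟨c, rfl⟩ := QuotientGroup.mk'_surjective _ x
        have h2 : (c : Spor.Co1) ∈ Mx.map C.subtype := ⟨c, by rw [hMx]; exact hx, rfl⟩
        rw [h1] at h2
        rw [mem_bot]
        exact (QuotientGroup.eq_one_iff c).2 h2
      · right
        rw [eq_top_iff]
        intro x _
        obtain ⟨c, rfl⟩ := QuotientGroup.mk'_surjective _ x
        have h2 : (c : Spor.Co1) ∈ Mx.map C.subtype := by
          rw [h1, ← hC]
          exact c.2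
        obtain ⟨d, hd, hdc⟩ := h2
        rw [hMx] at hd
        have h3 : d = c := Subtype.ext hdc
        rw [← h3]
        exact hd
    · intro r hr
      refine ⟨⟨r, hRC hr⟩, ?_, rfl⟩
      rw [hMx]
      have h2 : (⟨r, hRC hr⟩ : C) ∈ (RCo1 o).subgroupOf C := mem_subgroupOf.2 hr
      have h3 : QuotientGroup.mk' ((RCo1 o).subgroupOf C) ⟨r, hRC hr⟩ = 1 := (QuotientGroup.eq_one_iff _).2 h2
      exact mem_comap.2 (h3 ▸ one_mem N)
    · rintro p hp _ ⟨n, hn, rfl⟩
      rw [← hC] at hp
      exact ⟨⟨p, hp⟩ * n * ⟨p, hp⟩⁻¹, hMn.conj_mem n hn _, rfl⟩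
  subst hC
  refine ⟨_, _, inferInstance, hs, QuotientGroup.mk' _, QuotientGroup.mk'_surjective _, fun c => ?_, ?_⟩
  · exact QuotientGroup.eq_one_iff c
  · refine lb_of_card_gt fun k hk => lt_of_lt_of_le ?_ hL
    have h1 : ∀ k < 5, glc k < 174182400 := by decide +kernel
    exact h1 k hk

/-- **the sheet** -/
theorem exists_sheet (S : Type u) [Group S] [Finite S] (h : Spor.IsoCo1 S) :
    ∃ (z : S) (P R : Subgroup S) (n : ℕ), SheetE z P R ∧ Nat.card R = 2 ^ (2 * n + 1) ∧
      TrivC.{u, v, u} (centralizer ({z} : Set S)) P n ∧ 2 ≤ n := by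
  obtain ⟨e⟩ := h
  obtain ⟨o, ho⟩ := Cfsg.Agent.CoOneType.ClosingCo1.exists_octad
  obtain ⟨L, _, _, _, π, hs, hk, hlb⟩ := exists_quot.{u, v} ho
  have hE := Cfsg.Agent.OddHalf.D8.SheetMap.sheetE_map e.symm (Co1.CaseM.sheetE ho)
  have hX := of_sheetE hE
  obtain ⟨f, hf⟩ : ∃ f : centralizer ({mk (signCo0 o)} : Set Spor.Co1) ≃*
      (centralizer ({mk (signCo0 o)} : Set Spor.Co1)).map e.symm.toMonoidHom, ∀ c, (f c : S) = e.symm c :=
    ⟨(centralizer ({mk (signCo0 o)} : Set Spor.Co1)).equivMapOfInjective _ e.symm.injective, fun c => rfl⟩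
  have hPC : (centralizer ({mk (signCo0 o)} : Set Spor.Co1)).map e.symm.toMonoidHom ≤
      centralizer ({e.symm (mk (signCo0 o))} : Set S) := by
    rintro _ ⟨c, hc, rfl⟩
    rw [mem_centralizer_singleton_iff]
    have h1 := mem_centralizer_singleton_iff.1 hc
    show e.symm c * e.symm (mk (signCo0 o)) = e.symm (mk (signCo0 o)) * e.symm c
    rw [← map_mul, h1, map_mul]
  have hk' : ∀ c, (π.comp f.symm.toMonoidHom) c = 1 ↔ (c : S) ∈ (RCo1 o).map e.symm.toMonoidHom := by
    intro c
    obtain ⟨c, rfl⟩ := f.surjective c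
    show π (f.symm (f c)) = 1 ↔ _
    rw [f.symm_apply_apply, hk, hf]
    constructor
    · intro h1
      exact ⟨c, h1, rfl⟩
    · rintro ⟨q, hq, h1⟩
      rwa [← e.symm.injective h1]
  refine ⟨_, _, _, 4, hE, ?_, ?_, by norm_num⟩
  · have h1 : Nat.card ((RCo1 o).map e.symm.toMonoidHom) = Nat.card (RCo1 o) :=
      (Nat.card_congr ((RCo1 o).equivMapOfInjective _ e.symm.injective).toEquiv).symm
    refine h1.trans ?_
    rw [Co1.YBig.card_R ho]
    norm_num
  · refine ExTriv.trivC_of_lb hPC hX.R2 hX.Rn hX.perf (π.comp f.symm.toMonoidHom) (hs.comp f.symm.surjective)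
      (fun x hx => (hk' x).2 hx) ?_ ?_ hlb
    · intro x hx y
      have h1 := (hk' x).1 hx
      have h2 := hX.Rn _ y.2 _ (Subgroup.inv_mem _ h1)
      have h3 := Subgroup.mul_mem _ h1 h2
      have h4 : (x : S) * ((y : S) * (x : S)⁻¹ * (y : S)⁻¹) = x * y * (x : S)⁻¹ * (y : S)⁻¹ := by group
      rwa [h4] at h3
    · have h1 : (π.comp f.symm.toMonoidHom).ker = ((RCo1 o).map e.symm.toMonoidHom).subgroupOf
          ((centralizer ({mk (signCo0 o)} : Set Spor.Co1)).map e.symm.toMonoidHom) := by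
        ext c
        rw [MonoidHom.mem_ker, hk', mem_subgroupOf]
      rw [h1, relIndex_self]
      exact odd_one

end Cfsg.Agent.Omega.ML.Ex.SheetCo1

end

section


/-!
# K-list "exact + low": the row `Co1` by THEOREM EX (helper592)
-/

set_option autoImplicit false

namespace Cfsg.Agent.Omega.ML.Ex.RowCo1

open Subgroup Cfsg

universe u v

/-- **The row `Co1`.** -/
theorem deadX : DeadX.{u, v} @Spor.IsoCo1 := by
  refine ExEx.SheetRow.deadX_of_sheet fun S _ _ h => ?_
  obtain ⟨z, P, R, n, h1, h2, h3, h4⟩ := SheetCo1.exists_sheet S h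
  exact ⟨z, P, R, n, h1, h4, h2, h3⟩

end Cfsg.Agent.Omega.ML.Ex.RowCo1

end

section


/-!
# Exact K-list: the sheet on an isomorphic group, light imports (helper376, after helper552's `ExInst`)

* `lb_of_card` : `c ∣ |K|`, `c ∤ |GL_k(2)|` for `k < m` ⟹ `LB K m`;
* `exists_sheet` : the sheet `SheetE z P R` with `P = C(z)` and the homomorphism onto `L`, on a group isomorphic
  to `G`;
* `trivC` : the last field of the record (copy of `RowBM.trivC`, without the instances `M`, `B`, `Th`).
-/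

set_option autoImplicit false

namespace Cfsg.Agent.Omega.ML.Ex.SheetOf

open Subgroup Cfsg
open Cfsg.Agent.OddHalf.D8.Sheet Cfsg.Agent.OddHalf.D8.JTwo.Sheet
open Cfsg.Agent.Omega.Lie.Heis (LB Irr)
open Cfsg.Agent.Omega.Lie.PairOrd
open Cfsg.Agent.Omega.ML.ExCore Cfsg.Agent.Omega.ML.ExRec

universe u v w

/-- A lower bound by the order of the group. -/
theorem lb_of_card {K : Type u} [Group K] [Finite K] [IsSimpleGroup K] {m c : ℕ} (hc : c ∣ Nat.card K)
    (h : ∀ k < m, ¬ c ∣ glc k) : LB.{u, v, w} K m := by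
  apply LB.of_irr
  intro L _ _ π hπ _ _ _ V _ _ h2 φ hφ hirr
  -- `V` is elementary abelian
  have hV : Nontrivial V := by
    by_contra hn
    rw [not_nontrivial_iff_subsingleton] at hn
    obtain ⟨x, hx⟩ := exists_ne (1 : K)
    obtain ⟨g, rfl⟩ := hπ x
    apply hx
    have h3 : g = 1 := hφ (by
      rw [map_one]
      ext v
      exact Subsingleton.elim _ _)
    rw [h3, map_one]
  let U : Subgroup V :=
    { carrier := {x | x ^ 2 = 1}
      one_mem' := one_pow 2
      mul_mem' := fun {a b} ha hb => by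
        show (a * b) ^ 2 = 1
        rw [mul_pow, show a ^ 2 = 1 from ha, show b ^ 2 = 1 from hb, one_mul]
      inv_mem' := fun {a} ha => by
        show a⁻¹ ^ 2 = 1
        rw [inv_pow, show a ^ 2 = 1 from ha, inv_one] }
  have hU : U = ⊤ := by
    refine (hirr U fun g x hx => ?_).resolve_left fun h3 => ?_
    · show (φ g x) ^ 2 = 1
      rw [← map_pow, show x ^ 2 = 1 from hx, map_one]
    · have : Fact (Nat.Prime 2) := ⟨Nat.prime_two⟩
      obtain ⟨n, hn⟩ := IsPGroup.iff_card.1 h2
      have h4 : 2 ∣ Nat.card V := by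
        rw [hn]
        refine dvd_pow_self 2 ?_
        rintro rfl
        rw [pow_zero] at hn
        have := Finite.one_lt_card (α := V)
        omega
      obtain ⟨x, hx⟩ := exists_prime_orderOf_dvd_card' 2 h4
      have h5 : x ∈ U := by
        show x ^ 2 = 1
        rw [← hx]
        exact pow_orderOf_eq_one x
      rw [h3, mem_bot] at h5
      rw [h5, orderOf_one] at hx
      omega
  have hel : ∀ x : V, x ^ 2 = 1 := fun x => by
    have h3 : x ∈ U := by rw [hU]; exact mem_top x
    exact h3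
  by_contra hlt
  push Not at hlt
  obtain ⟨k, hk, hk'⟩ := exists_card hel hlt.le
  have hkm : k < m := by
    rw [hk'] at hlt
    exact (Nat.pow_lt_pow_iff_right (by norm_num)).1 hlt
  apply h k hkm
  rw [← card_mulAut hel hk']
  refine hc.trans ((Subgroup.card_dvd_of_surjective π hπ).trans ?_)
  rw [Nat.card_congr (MonoidHom.ofInjective hφ).toEquiv]
  exact Subgroup.card_subgroup_dvd_card φ.range

/-- the sheet on an isomorphic group `S` -/
theorem exists_sheet {G : Type w} [Group G] {z : G} {Q : Subgroup G} (hs : SheetE z (centralizer ({z} : Set G)) Q)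
    {L : Type} [Group L] {π : centralizer ({z} : Set G) →* L} (hsurj : Function.Surjective π)
    (hker : ∀ c, π c = 1 ↔ (c : G) ∈ Q) {S : Type u} [Group S] (e : S ≃* G) :
    ∃ (z : S) (P R : Subgroup S) (π : P →* L), SheetE z P R ∧ P = centralizer ({z} : Set S) ∧
      Nat.card R = Nat.card Q ∧ Function.Surjective π ∧ (∀ c, π c = 1 ↔ (c : S) ∈ R) := by
  have hs := Cfsg.Agent.OddHalf.D8.SheetMap.sheetE_map e.symm hs
  let f : (centralizer ({z} : Set G)) ≃* ((centralizer ({z} : Set G)).map (e.symm : G →* S)) :=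
    (centralizer ({z} : Set G)).equivMapOfInjective _ e.symm.injective
  have hf : ∀ c, (f c : S) = e.symm c := fun c => rfl
  refine ⟨_, _, _, π.comp f.symm.toMonoidHom, hs, ?_, ?_, hsurj.comp f.symm.surjective, fun c => ?_⟩
  · ext x
    constructor
    · rintro ⟨c, hc, rfl⟩
      rw [mem_centralizer_singleton_iff]
      have h1 := mem_centralizer_singleton_iff.1 hc
      show e.symm c * e.symm z = e.symm z * e.symm c
      rw [← map_mul, h1, map_mul]
    · intro hx
      refine ⟨e x, ?_, e.symm_apply_apply x⟩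
      have h1 : x * e.symm z = e.symm z * x := mem_centralizer_singleton_iff.1 hx
      refine mem_centralizer_singleton_iff.2 ?_
      have h2 := congrArg e h1
      rwa [map_mul, map_mul, e.apply_symm_apply] at h2
  · exact (Nat.card_congr (Q.equivMapOfInjective _ e.symm.injective).toEquiv).symm
  · obtain ⟨c, rfl⟩ := f.surjective c
    show π (f.symm (f c)) = 1 ↔ _
    rw [f.symm_apply_apply, hker, hf]
    constructor
    · intro h1
      exact ⟨c, h1, rfl⟩
    · rintro ⟨q, hq, h1⟩
      rwa [← e.symm.injective h1]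

/-- the last field of the record: `C = P` -/
theorem trivC {S : Type u} [Group S] [Finite S] {z : S} {P R : Subgroup S} (h : SheetX z P R)
    (hP : P = centralizer ({z} : Set S)) {L : Type} [Group L] (π : P →* L) (hs : Function.Surjective π)
    (hk : ∀ c, π c = 1 ↔ (c : S) ∈ R) {n : ℕ} (hlb : LB.{0, u, v} L (n + 1)) :
    TrivC.{u, v, u} (centralizer ({z} : Set S)) P n := by
  refine ExTriv.trivC_of_lb hP.le h.R2 h.Rn h.perf π hs (fun x hx => (hk x).2 hx) ?_ ?_ hlb
  · intro x hx y
    have h1 : (x : S) ∈ R := (hk x).1 hx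
    have h2 : (y : S) * (x : S)⁻¹ * (y : S)⁻¹ ∈ R := h.Rn _ y.2 _ (R.inv_mem h1)
    have h3 := R.mul_mem h1 h2
    have h4 : (x : S) * ((y : S) * (x : S)⁻¹ * (y : S)⁻¹) = x * y * (x : S)⁻¹ * (y : S)⁻¹ := by group
    rwa [h4] at h3
  · have h1 : π.ker = R.subgroupOf P := by
      ext c
      rw [MonoidHom.mem_ker, hk, mem_subgroupOf]
    rw [h1, relIndex_self]
    exact odd_one

end Cfsg.Agent.Omega.ML.Ex.SheetOf

end
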