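import Cfsg.Agent.Mrg.Omega.ML.Ex.SheetCo1
import Cfsg.Agent.KFacts.CoTwo.QuotInst
import Cfsg.Agent.LieClassical.SympCount
import Cfsg.Agent.Mrg.Omega.ML.ExEx.Core
import Cfsg.Agent.Mrg.Omega.ML.Ex.Def
import Cfsg.Agent.Mrg.Omega.TwoF.RowPSp
import Cfsg.Agent.Omega.Lie.HeisCover
import Mathlib

section


/-!
# Exact K-list, `Co2`: the sheet `2¹⁺⁸.Sp6(2)` and `LB Sp6(2) 5` (helper376)
-/

set_option autoImplicit false

namespace Cfsg.Agent.Omega.ML.Ex.SheetCo2

open Subgroup Cfsg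
open Cfsg.Agent.OddHalf.D8.Sheet Cfsg.Agent.OddHalf.D8.JTwo.Sheet
open Cfsg.Agent.Omega.Lie.Heis (LB Irr)
open Cfsg.Agent.KFacts.CoTwo Cfsg.Agent.Omega.ML.ExRec
open Cfsg.Agent.KFacts.CoTwo.RSub Cfsg.Agent.Co2Type.TData Cfsg.Agent.Co2Type.FactsD

universe u v w

theorem card_sp : Nat.card Quot.Sp62 = 1451520 := by
  rw [LieClassical.SympCount.card_symplecticGroup, ZMod.card]
  simp [Finset.prod_range_succ]

theorem lb_sp : LB.{0, v, w} Quot.Sp62 5 := by
  have : Finite Quot.Sp62 := Nat.finite_of_card_ne_zero (by rw [card_sp]; norm_num)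
  refine SheetOf.lb_of_card (c := 27) (by rw [card_sp]; norm_num) ?_
  decide +kernel

theorem exists_sheet {S : Type u} [Group S] (h : Spor.IsoCo2 S) :
    ∃ (z : S) (P R : Subgroup S) (L : Type) (_ : Group L) (_ : IsSimpleGroup L) (π : P →* L),
      SheetE z P R ∧ P = centralizer ({z} : Set S) ∧ Nat.card R = 2 ^ (2 * 4 + 1) ∧ Function.Surjective π ∧
      (∀ c, π c = 1 ↔ (c : S) ∈ R) ∧ LB.{0, u, v} L (4 + 1) := by
  obtain ⟨e⟩ := h
  have := Cfsg.Agent.Schreier.CoTwoStab.finite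
  have D := Cfsg.Agent.KFacts.CoTwo.QuotInst.dataT
  obtain ⟨π, hs, hk⟩ := D.quot
  obtain ⟨z, P, R, π', h1, h2, h3, h4, h5⟩ := SheetOf.exists_sheet D.sheet hs hk e
  exact ⟨z, P, R, _, inferInstance, D.simple, π', h1, h2, h3.trans Cfsg.Agent.KFacts.CoTwo.RLarge.card_R, h4, h5, lb_sp⟩

/-- the input of the row -/
theorem sheet (S : Type u) [Group S] [Finite S] (h : Spor.IsoCo2 S) :
    ∃ (z : S) (P R : Subgroup S) (n : ℕ), SheetE z P R ∧ 2 ≤ n ∧ Nat.card R = 2 ^ (2 * n + 1) ∧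
      TrivC.{u, v, u} (centralizer ({z} : Set S)) P n := by
  obtain ⟨z, P, R, L, _, _, π, h1, h2, h3, h4, h5, h6⟩ := exists_sheet.{u, v} h
  exact ⟨z, P, R, 4, h1, by norm_num, h3, SheetOf.trivC (of_sheetE h1) h2 π h4 h5 h6⟩

end Cfsg.Agent.Omega.ML.Ex.SheetCo2

end

section


/-!
# The K-list for EXACT subgroups: the row `Co2`, by THEOREM EX (helper376)
-/

set_option autoImplicit false

namespace Cfsg.Agent.Omega.ML.Ex.RowCo2X

open Subgroup Cfsg

universe u v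

/-- **The row `Co2`.** -/
theorem deadX : DeadX.{u, v} @Spor.IsoCo2 :=
  ExEx.SheetRow.deadX_of_sheet fun S _ _ h => SheetCo2.sheet S h

end Cfsg.Agent.Omega.ML.Ex.RowCo2X

end

section


/-!
# The K-list for exact atoms: `|M| ≤ |A|^m` (T14; helper312)

`InX H M K T A`.

* `cv_eq_bot` : `C_M(K) = 1`;
* `index_le_card` : `|M : C_M(x)| ≤ |A|` for `x ∈ A`;
* **`card_le_pow`** : `K ≤ ⟨f 0, …, f (m-1)⟩`, `|M : C_M(f i)| ≤ d` ⟹ `|M| ≤ d^m`;
* `card_le_conj` : the `f i` conjugates of one `x ∈ A`: `|M| ≤ |M : C_M(x)|^m`, `|M| ≤ |A|^m`;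
* `card_le_conjA` : `K ≤ ⟨A^{g_0}, …, A^{g_(m-1)}⟩` ⟹ `|M| ≤ |A|^m`;
* `card_le_genBy` : `K` is generated by `m` `K`-conjugates of every involution, `x ∈ A ∩ K`;
* `lb_le` : `LB K n` ⟹ `2^n ≤ |M|`;  `pow_le_index`, `pow_le_card` : `r` an odd prime, `ord_r(2) ≥ k` ⟹ `2^k ≤ |M|`;
* **`false_of_lb`**, **`false_of_prime`** (conjugates of `x ∈ A`), **`false_of_lbA`**, **`false_of_primeA`** (conjugates of `A`).
-/

set_option autoImplicit false

namespace Cfsg.Agent.Omega.ML.Ex.Gen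

open Subgroup Cfsg Cfsg.Agent.ZN Cfsg.Agent.Omega.NOThree.NoOver Cfsg.Agent.Omega.ML.CD
open Cfsg.Agent.ClassTwoFusion.Quad Cfsg.Agent.Omega.Lie Cfsg.Agent.Omega.ML

open scoped commutatorElement

universe u v

section lin

variable {H : Type*} [Group H] {M : Type*} [Group M] [MulDistribMulAction H M]

/-- `C_M(⟨f 0, …⟩)` has index at most `∏ |M : C_M(f i)|`. -/
theorem index_le_pow [Finite M] {m d : ℕ} (f : Fin m → H) (hf : ∀ i, (cv M ({f i} : Set H)).index ≤ d)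
    {J : Subgroup H} (hgen : J ≤ closure (Set.range f)) : (cv M (J : Set H)).index ≤ d ^ m := by
  have h1 : (⨅ i, cv M ({f i} : Set H)) ≤ cv M (J : Set H) := by
    intro w hw k hk
    have h2 : ∀ i, f i • w = w := fun i => by
      have h3 : w ∈ cv M ({f i} : Set H) := (mem_iInf.1 hw) i
      exact h3 _ rfl
    have h3 : closure (Set.range f) ≤ MulAction.stabilizer H w := by
      rw [closure_le]
      rintro _ ⟨i, rfl⟩
      exact h2 i
    exact h3 (hgen hk)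
  calc (cv M (J : Set H)).index ≤ (⨅ i, cv M ({f i} : Set H)).index :=
        Nat.le_of_dvd (Nat.pos_of_ne_zero Subgroup.index_ne_zero_of_finite) (Subgroup.index_dvd_of_le h1)
    _ ≤ ∏ i, (cv M ({f i} : Set H)).index := index_iInf_le _
    _ ≤ ∏ _i : Fin m, d := Finset.prod_le_prod' fun i _ => hf i
    _ = d ^ m := by rw [Finset.prod_const, Finset.card_univ, Fintype.card_fin]

/-- The same for subgroups `B i`. -/
theorem index_le_powA [Finite M] {m d : ℕ} (B : Fin m → Subgroup H)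
    (hB : ∀ i, (cv M (B i : Set H)).index ≤ d) {J : Subgroup H} (hgen : J ≤ ⨆ i, B i) :
    (cv M (J : Set H)).index ≤ d ^ m := by
  have h1 : (⨅ i, cv M (B i : Set H)) ≤ cv M (J : Set H) := by
    intro w hw k hk
    have h3 : (⨆ i, B i) ≤ MulAction.stabilizer H w := by
      refine iSup_le fun i b hb => ?_
      have h4 : w ∈ cv M (B i : Set H) := (mem_iInf.1 hw) i
      exact h4 b hb
    exact h3 (hgen hk)
  calc (cv M (J : Set H)).index ≤ (⨅ i, cv M (B i : Set H)).index :=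
        Nat.le_of_dvd (Nat.pos_of_ne_zero Subgroup.index_ne_zero_of_finite) (Subgroup.index_dvd_of_le h1)
    _ ≤ ∏ i, (cv M (B i : Set H)).index := index_iInf_le _
    _ ≤ ∏ _i : Fin m, d := Finset.prod_le_prod' fun i _ => hB i
    _ = d ^ m := by rw [Finset.prod_const, Finset.card_univ, Fintype.card_fin]

/-- `|M : C_M(A^g)| = |M : C_M(A)|` -/
theorem index_cv_map_conj [Finite M] (g : H) (A : Subgroup H) :
    (cv M ((A.map (MulAut.conj g).toMonoidHom : Subgroup H) : Set H)).index = (cv M (A : Set H)).index := by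
  have h1 : Nat.card (cv M ((A.map (MulAut.conj g).toMonoidHom : Subgroup H) : Set H)) = Nat.card (cv M (A : Set H)) := by
    refine Nat.card_congr (Equiv.subtypeEquiv (MulAction.toPerm g⁻¹) fun m => ?_)
    rw [MulAction.toPerm_apply]
    constructor
    · intro hm a ha
      have h2 := hm (g * a * g⁻¹) ⟨a, ha, rfl⟩
      rw [mul_smul, mul_smul] at h2
      rw [eq_inv_smul_iff]
      exact h2
    · rintro hm _ ⟨a, ha, rfl⟩
      have h2 := hm a ha
      rw [eq_inv_smul_iff] at h2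
      show (g * a * g⁻¹) • m = m
      rw [mul_smul, mul_smul]
      exact h2
  have h2 := (cv M ((A.map (MulAut.conj g).toMonoidHom : Subgroup H) : Set H)).card_mul_index
  have h3 := (cv M (A : Set H)).card_mul_index
  rw [h1, ← h3] at h2
  exact Nat.eq_of_mul_eq_mul_left Nat.card_pos h2

end lin

variable {H : Type u} [Group H] {M : Type v} [Group M] [MulDistribMulAction H M] {K T A : Subgroup H}

/-- `C_M(K) = 1`. -/
theorem cv_eq_bot (h : InX H M K T A) : cv M (K : Set H) = ⊥ := by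
  have hK := h.norm
  rcases h.irr (cv M (K : Set H)) (by
    intro g w hw k hk
    have h1 := hw (g⁻¹ * k * g) (by
      have := hK.conj_mem k hk g⁻¹
      rwa [inv_inv] at this)
    rw [mul_smul, mul_smul, inv_smul_eq_iff] at h1
    exact h1) with h1 | h1
  · exact h1
  · exfalso
    have hs := h.simple
    obtain ⟨x, hx⟩ := exists_ne (1 : K)
    exact hx (Subtype.ext (h.faith x fun m => (h1 ▸ mem_top m : m ∈ cv M (K : Set H)) x x.2))

/-- `|M : C_M(x)| ≤ |A|` for `x ∈ A`. -/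
theorem index_le_card [Finite M] (h : InX H M K T A) {x : H} (hx : x ∈ A) :
    (cv M ({x} : Set H)).index ≤ Nat.card A := by
  rw [← h.exact]
  exact Nat.le_of_dvd (Nat.pos_of_ne_zero Subgroup.index_ne_zero_of_finite)
    (Subgroup.index_dvd_of_le (cv_anti (Set.singleton_subset_iff.2 hx)))

/-- **`|M| ≤ d^m`.** -/
theorem card_le_pow [Finite M] (h : InX H M K T A) {m d : ℕ} (f : Fin m → H)
    (hf : ∀ i, (cv M ({f i} : Set H)).index ≤ d) (hgen : K ≤ closure (Set.range f)) : Nat.card M ≤ d ^ m := by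
  have h1 := index_le_pow f hf hgen
  rwa [cv_eq_bot h, index_bot] at h1

/-- **Conjugates of `x`**: `|M| ≤ |M : C_M(x)|^m`. -/
theorem card_le_conj_index [Finite M] (h : InX H M K T A) {m : ℕ} (x : H) (l : Fin m → H)
    (hgen : K ≤ closure (Set.range fun i => l i * x * (l i)⁻¹)) : Nat.card M ≤ (cv M ({x} : Set H)).index ^ m :=
  card_le_pow h _ (fun i => (InvFrob.index_cv_conj (M := M) (l i) x).le) hgen

/-- **Conjugates of `x ∈ A`**: `|M| ≤ |A|^m`. -/
theorem card_le_conj [Finite M] (h : InX H M K T A) {m : ℕ} {x : H} (hx : x ∈ A) (l : Fin m → H)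
    (hgen : K ≤ closure (Set.range fun i => l i * x * (l i)⁻¹)) : Nat.card M ≤ Nat.card A ^ m :=
  (card_le_conj_index h x l hgen).trans (Nat.pow_le_pow_left (index_le_card h hx) m)

/-- **Conjugates of `A`**: `|M| ≤ |A|^m`. -/
theorem card_le_conjA [Finite M] (h : InX H M K T A) {m : ℕ} (l : Fin m → H)
    (hgen : K ≤ ⨆ i, A.map (MulAut.conj (l i)).toMonoidHom) : Nat.card M ≤ Nat.card A ^ m := by
  have h1 := index_le_powA (M := M) (fun i => A.map (MulAut.conj (l i)).toMonoidHom) (d := Nat.card A)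
    (fun i => by rw [index_cv_map_conj, h.exact]) hgen
  rwa [cv_eq_bot h, index_bot] at h1

/-- `K` is generated by `m` conjugates of every involution. -/
theorem card_le_genBy [Finite M] (h : InX H M K T A) {m : ℕ}
    (hg : ∀ x : K, x ≠ 1 → x * x = 1 → ∃ l : Fin m → K, closure (Set.range fun i => l i * x * (l i)⁻¹) = ⊤)
    {x : H} (hx : x ∈ A) (hxK : x ∈ K) (hx1 : x ≠ 1) :
    Nat.card M ≤ (cv M ({x} : Set H)).index ^ m ∧ Nat.card M ≤ Nat.card A ^ m := by
  obtain ⟨l, hl⟩ := hg ⟨x, hxK⟩ (fun h1 => hx1 (congrArg Subtype.val h1)) (Subtype.ext (h.el x hx))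
  have h3 : K ≤ closure (Set.range fun i => (l i : H) * x * (l i : H)⁻¹) := by
    have h3 := congrArg (Subgroup.map K.subtype) hl
    rw [MonoidHom.map_closure, ← Set.range_comp, ← MonoidHom.range_eq_map, range_subtype] at h3
    exact le_of_eq h3.symm
  exact ⟨card_le_conj_index h x _ h3, card_le_conj h hx _ h3⟩

/-- `K` is perfect. -/
theorem perf [Finite H] (h : InX H M K T A) : _root_.commutator K = ⊤ := by
  have hs := h.simple
  have h1 : (_root_.commutator K).Normal := inferInstance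
  rcases h1.eq_bot_or_eq_top with h2 | h2
  · exfalso
    -- `K` abelian, so `K ≤ C_H(K) = 1`
    have h3 : K ≤ centralizer (K : Set H) := by
      intro k hk
      rw [mem_centralizer_iff]
      intro l hl
      have h4 : ⁅(⟨l, hl⟩ : K), ⟨k, hk⟩⁆ ∈ (_root_.commutator K) :=
        commutator_mem_commutator (mem_top _) (mem_top _)
      rw [h2, mem_bot, commutatorElement_eq_one_iff_mul_comm] at h4
      exact congrArg Subtype.val h4
    rw [h.cen, le_bot_iff] at h3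
    obtain ⟨x, hx⟩ := exists_ne (1 : K)
    exact hx (Subtype.ext (mem_bot.1 (h3 ▸ x.2 : (x : H) ∈ (⊥ : Subgroup H))))
  · exact h2

/-- **The lower bound `LB`.** -/
theorem lb_le [Finite H] [Finite M] (h : InX H M K T A) {n : ℕ} (hl : Heis.LB.{u, u, v} K n) : 2 ^ n ≤ Nat.card M := by
  let _ : CommGroup M := { ‹Group M› with mul_comm := h.comm }
  refine hl K (MonoidHom.id K) Function.surjective_id ?_ ?_ (perf h) M h.M_two
    ((MulDistribMulAction.toMulAut H M).comp K.subtype) ?_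
  · intro x hx
    have h1 : x = 1 := hx
    rw [h1]
    exact one_mem _
  · have h1 : (MonoidHom.id K).ker = ⊥ := by
      ext x
      simp
    rw [h1, card_bot]
    exact odd_one
  · intro h1
    have hs := h.simple
    obtain ⟨x, hx⟩ := exists_ne (1 : K)
    refine hx (Subtype.ext (h.faith x fun m => ?_))
    exact congrArg (fun e : MulAut M => e m) (DFunLike.congr_fun h1 x)

/-- An element `u ≠ 1` with `u ^ r = 1`: `2^k ≤ |M : C_M(u)|`. -/
theorem pow_le_index [Finite M] (h : InX H M K T A) {u : H} {r k : ℕ} (hp : r.Prime) (ho : Odd r) (hr : u ^ r = 1)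
    (hu : u ≠ 1) (hk : ∀ n : ℕ, 0 < n → r ∣ 2 ^ n - 1 → k ≤ n) : 2 ^ k ≤ (cv M ({u} : Set H)).index := by
  refine InvFrob.ord_index h.sq hp ho hr ?_ hk
  by_contra h1
  push Not at h1
  exact hu (h.faith u h1)

/-- **`2^k ≤ |M|`**, `r` an odd prime divisor of `|K|`, `k ≤ ord_r(2)`. -/
theorem pow_le_card [Finite H] [Finite M] (h : InX H M K T A) {r k : ℕ} (hp : r.Prime) (ho : Odd r)
    (hr : r ∣ Nat.card K) (hk : ∀ n : ℕ, 0 < n → r ∣ 2 ^ n - 1 → k ≤ n) : 2 ^ k ≤ Nat.card M := by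
  have : Fact r.Prime := ⟨hp⟩
  obtain ⟨u, hu⟩ := exists_prime_orderOf_dvd_card' r hr
  have h1 := pow_le_index h (u := (u : H)) hp ho (by
    rw [← Subgroup.coe_pow, ← hu, pow_orderOf_eq_one, Subgroup.coe_one]) (by
    intro h1
    have h2 : u = 1 := Subtype.ext h1
    rw [h2, orderOf_one] at hu
    exact hp.one_lt.ne hu) hk
  exact h1.trans (Nat.le_of_dvd Nat.card_pos (Subgroup.index_dvd_card _))

omit [Group M] [MulDistribMulAction H M] in
theorem lt_of_card {n a m : ℕ} (hn : 2 ^ n ≤ Nat.card M) (ha : Nat.card A ≤ 2 ^ a) (hm : Nat.card M ≤ Nat.card A ^ m) :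
    n ≤ a * m := by
  have h1 := (hn.trans hm).trans (Nat.pow_le_pow_left ha m)
  rw [← pow_mul] at h1
  exact (Nat.pow_le_pow_iff_right (by norm_num : 1 < 2)).1 h1

/-- **Kill by generation** (conjugates of `x ∈ A`), `LB`. -/
theorem false_of_lb [Finite H] [Finite M] (h : InX H M K T A) {n a m : ℕ} (hl : Heis.LB.{u, u, v} K n)
    (ha : Nat.card A ≤ 2 ^ a) {x : H} (hx : x ∈ A) (l : Fin m → H)
    (hgen : K ≤ closure (Set.range fun i => l i * x * (l i)⁻¹)) (hn : a * m < n) : False := by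
  have := lt_of_card (lb_le h hl) ha (card_le_conj h hx l hgen)
  omega

/-- **Kill by generation** (conjugates of `x ∈ A`), a prime. -/
theorem false_of_prime [Finite H] [Finite M] (h : InX H M K T A) {r k a m : ℕ} (hp : r.Prime) (ho : Odd r)
    (hr : r ∣ Nat.card K) (hk : ∀ n : ℕ, 0 < n → r ∣ 2 ^ n - 1 → k ≤ n)
    (ha : Nat.card A ≤ 2 ^ a) {x : H} (hx : x ∈ A) (l : Fin m → H)
    (hgen : K ≤ closure (Set.range fun i => l i * x * (l i)⁻¹)) (hn : a * m < k) : False := by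
  have := lt_of_card (pow_le_card h hp ho hr hk) ha (card_le_conj h hx l hgen)
  omega

/-- **Kill by generation** (conjugates of `A`), `LB`. -/
theorem false_of_lbA [Finite H] [Finite M] (h : InX H M K T A) {n a m : ℕ} (hl : Heis.LB.{u, u, v} K n)
    (ha : Nat.card A ≤ 2 ^ a) (l : Fin m → H)
    (hgen : K ≤ ⨆ i, A.map (MulAut.conj (l i)).toMonoidHom) (hn : a * m < n) : False := by
  have := lt_of_card (lb_le h hl) ha (card_le_conjA h l hgen)
  omega

/-- **Kill by generation** (conjugates of `A`), a prime. -/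
theorem false_of_primeA [Finite H] [Finite M] (h : InX H M K T A) {r k a m : ℕ} (hp : r.Prime) (ho : Odd r)
    (hr : r ∣ Nat.card K) (hk : ∀ n : ℕ, 0 < n → r ∣ 2 ^ n - 1 → k ≤ n)
    (ha : Nat.card A ≤ 2 ^ a) (l : Fin m → H)
    (hgen : K ≤ ⨆ i, A.map (MulAut.conj (l i)).toMonoidHom) (hn : a * m < k) : False := by
  have := lt_of_card (pow_le_card h hp ho hr hk) ha (card_le_conjA h l hgen)
  omega

end Cfsg.Agent.Omega.ML.Ex.Gen

end

section


/-!
# Exact atoms: every `a ∈ A#` is one half of an involution of `K` (helper912)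

* `exists_half` : `a² = 1`, `a * a^r ≠ 1` a 2-element: there is `g` with `a * a^g` an involution, a power of `a * a^r`;
* **`ASx.exists_half`** : for `1 ≠ a ∈ A` there are `T ≤ R ≠ ⊤` and `g ∈ R ∩ S` with `a * a^g ∈ O₂(R) ∩ S` an involution;
* **`InX.exists_half`** : so there is an involution `x ∈ K ∩ T` with `|M : C_M(x)| ≤ |M : C_M(a)|² ≤ |A|²`;
* `InX.exists_half_four` : `|A| = 4` : `|M : C_M(x)| ≤ 16`;
* `InX.card_le_half` : `K` is generated by `n` conjugates of every involution ⟹ `|M| ≤ |A|^(2n)`;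
* `InX.false_of_half_lb`, `InX.false_of_half_prime`, `InX.false_of_half_index` : the kills.
-/

set_option autoImplicit false

namespace Cfsg.Agent.Omega.ML.Ex

open Subgroup Cfsg Cfsg.Agent.ZN Cfsg.Agent.Omega.NOThree.NoOver Cfsg.Agent.Omega.ML.CD
open Cfsg.Agent.ClassTwoFusion.Quad Cfsg.Agent.Omega.Lie Cfsg.Agent.Omega.ML
open Cfsg.Agent.MinSimple.VModule (o2_isPGroup o2_le le_o2 le_normalizer_o2)

universe u v

/-- `a * a^r` is a 2-element, not 1: some `a * a^g` is an involution. -/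
theorem exists_half {G : Type*} [Group G] {a : G} (haa : a * a = 1) (Q : Subgroup G) :
    ∀ (k : ℕ) (r : G), r ∈ Q → a * (r * a * r⁻¹) ∈ Q → a * (r * a * r⁻¹) ≠ 1 → (a * (r * a * r⁻¹)) ^ 2 ^ k = 1 →
      ∃ g ∈ Q, a * (g * a * g⁻¹) ≠ 1 ∧ (a * (g * a * g⁻¹)) * (a * (g * a * g⁻¹)) = 1 ∧
        a * (g * a * g⁻¹) ∈ zpowers (a * (r * a * r⁻¹)) := by
  intro k
  induction k with
  | zero =>
    intro r _ _ h1 h2
    exact absurd (by simpa using h2) h1
  | succ k ih =>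
    intro r hr hu h1 h2
    set u := a * (r * a * r⁻¹) with hudef
    have ha : a⁻¹ = a := inv_eq_of_mul_eq_one_left haa
    by_cases h3 : u * u = 1
    · exact ⟨r, hr, h1, h3, mem_zpowers _⟩
    -- `a * a^(u⁻¹) = u²`
    have h4 : a * (u⁻¹ * a * u⁻¹⁻¹) = u * u := by
      have h5 : a * u⁻¹ * a = u := by
        rw [hudef, mul_inv_rev, mul_inv_rev, mul_inv_rev, inv_inv, ha]
        calc a * (r * (a * r⁻¹) * a) * a = a * (r * (a * r⁻¹)) * (a * a) := by group
          _ = a * (r * a * r⁻¹) := by rw [haa]; group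
      calc a * (u⁻¹ * a * u⁻¹⁻¹) = (a * u⁻¹ * a) * u := by group
        _ = u * u := by rw [h5]
    obtain ⟨g, hg, hg1, hg2, hg3⟩ := ih u⁻¹ (inv_mem hu) (by rw [h4]; exact mul_mem hu hu) (by rw [h4]; exact h3)
      (by rw [h4, ← pow_two, ← pow_mul, ← h2, pow_succ, mul_comm])
    refine ⟨g, hg, hg1, hg2, ?_⟩
    rw [h4] at hg3
    exact (zpowers_le.2 (mul_mem (mem_zpowers u) (mem_zpowers u)) : zpowers (u * u) ≤ zpowers u) hg3

section tools

variable {X : Type u} [Group X] {S T A : Subgroup X}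

/-- `R = T (R ∩ S)` -/
theorem ASx.le_sup_inf (h : ASx S T A) {R : Subgroup X} (hT : T ≤ R) : R ≤ T ⊔ (R ⊓ S) := by
  have hn := h.norm
  intro r hr
  have h1 : r ∈ S ⊔ T := h.gen ▸ mem_top r
  obtain ⟨s, hs, t, ht, rfl⟩ := mem_sup_of_normal_left.1 h1
  have h2 : s ∈ R := by
    have := mul_mem hr (inv_mem (hT ht))
    rwa [mul_inv_cancel_right] at this
  exact mul_mem (mem_sup_right ⟨h2, hs⟩) (mem_sup_left ht)

/-- **Every `a ∈ A#` is one half of an involution of `S`.** -/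
theorem ASx.exists_half [Finite X] (h : ASx S T A) {a : X} (ha : a ∈ A) (ha1 : a ≠ 1) :
    ∃ R : Subgroup X, T ≤ R ∧ R ≠ ⊤ ∧ ∃ g ∈ R ⊓ S, a * (g * a * g⁻¹) ∈ o2 R ⊓ S ∧ a * (g * a * g⁻¹) ≠ 1 ∧
      (a * (g * a * g⁻¹)) * (a * (g * a * g⁻¹)) = 1 := by
  have hn := h.norm
  have haa := h.el a ha
  have hainv : a⁻¹ = a := inv_eq_of_mul_eq_one_left haa
  by_contra hcon
  -- `R ∩ S` centralises `a`
  have h1 : ∀ R : Subgroup X, T ≤ R → R ≠ ⊤ → ∀ r ∈ R ⊓ S, r * a = a * r := by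
    intro R hTR hR r hr
    by_contra h2
    have hle := le_normalizer_o2 R
    have haO := h.low R hTR hR ha
    have h3 : a * (r * a * r⁻¹) ∈ o2 R := mul_mem haO ((mem_normalizer_iff.1 (hle hr.1) a).1 haO)
    have h4 : a * (r * a * r⁻¹) ∈ S := by
      have h5 : a * (r * a * r⁻¹) = (a * r * a⁻¹) * r⁻¹ := by rw [hainv]; group
      rw [h5]
      exact mul_mem (hn.conj_mem r hr.2 a) (inv_mem hr.2)
    have h5 : a * (r * a * r⁻¹) ≠ 1 := by
      intro h6
      apply h2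
      have h7 : r * a * r⁻¹ = a⁻¹ := (inv_eq_of_mul_eq_one_right h6).symm
      rw [hainv, mul_inv_eq_iff_eq_mul] at h7
      exact h7
    obtain ⟨k, hk⟩ := o2_isPGroup R ⟨_, h3⟩
    obtain ⟨g, hg, hg1, hg2, hg3⟩ := Ex.exists_half haa (R ⊓ S) k r hr ⟨o2_le R h3, h4⟩ h5
      (congrArg Subtype.val hk)
    exact hcon ⟨R, hTR, hR, g, hg,
      (zpowers_le.2 (⟨h3, h4⟩ : a * (r * a * r⁻¹) ∈ o2 R ⊓ S)) hg3, hg1, hg2⟩
  -- the largest `T`-invariant subgroup of `C_S(a)`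
  let C : Subgroup X := S ⊓ centralizer {x | ∃ t ∈ T, x = t * a * t⁻¹}
  have hTC : T ≤ normalizer (C : Set X) := by
    have h2 : ∀ t ∈ T, ∀ c ∈ C, t * c * t⁻¹ ∈ C := by
      rintro t ht c ⟨hc, hc'⟩
      refine ⟨hn.conj_mem c hc t, mem_centralizer_iff.2 ?_⟩
      rintro _ ⟨s, hs, rfl⟩
      have h3 := mem_centralizer_iff.1 hc' (t⁻¹ * s * a * (t⁻¹ * s)⁻¹) ⟨t⁻¹ * s, mul_mem (inv_mem ht) hs, rfl⟩
      have h4 : t * (t⁻¹ * s * a * (t⁻¹ * s)⁻¹ * c) * t⁻¹ = t * (c * (t⁻¹ * s * a * (t⁻¹ * s)⁻¹)) * t⁻¹ := by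
        rw [h3]
      calc s * a * s⁻¹ * (t * c * t⁻¹) = t * (t⁻¹ * s * a * (t⁻¹ * s)⁻¹ * c) * t⁻¹ := by group
        _ = t * (c * (t⁻¹ * s * a * (t⁻¹ * s)⁻¹)) * t⁻¹ := h4
        _ = t * c * t⁻¹ * (s * a * s⁻¹) := by group
    intro t ht
    refine mem_normalizer_iff.2 fun c => ⟨h2 t ht c, fun h3 => ?_⟩
    have h4 := h2 t⁻¹ (inv_mem ht) _ h3
    have h5 : t⁻¹ * (t * c * t⁻¹) * t⁻¹⁻¹ = c := by group
    rwa [h5] at h4
  have hRC : ∀ R : Subgroup X, T ≤ R → R ≠ ⊤ → R ⊓ S ≤ C := by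
    rintro R hTR hR s hs
    refine ⟨hs.2, mem_centralizer_iff.2 ?_⟩
    rintro _ ⟨t, ht, rfl⟩
    have h2 := h1 R hTR hR (t⁻¹ * s * t) ⟨R.mul_mem (R.mul_mem (R.inv_mem (hTR ht)) hs.1) (hTR ht), by
      have := hn.conj_mem s hs.2 t⁻¹
      rwa [inv_inv] at this⟩
    calc t * a * t⁻¹ * s = t * (a * (t⁻¹ * s * t)) * t⁻¹ := by group
      _ = t * (t⁻¹ * s * t * a) * t⁻¹ := by rw [h2]
      _ = s * (t * a * t⁻¹) := by group
  have hTt := h.ne_top
  have htop : T ⊔ C = ⊤ := by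
    by_contra h2
    exact h.nmax ⟨T ⊔ C, h2, fun R hTR hR => (h.le_sup_inf hTR).trans (sup_le_sup_left (hRC R hTR hR) T)⟩
  have hCn : C.Normal := by
    rw [← normalizer_eq_top_iff, eq_top_iff, ← htop]
    exact sup_le hTC le_normalizer
  have hsim := h.simple
  have hCS : (C.subgroupOf S).Normal := inferInstance
  rcases hsim.eq_bot_or_eq_top_of_normal _ hCS with h2 | h2
  · have h3 : C = ⊥ := by
      rw [subgroupOf_eq_bot, disjoint_iff] at h2
      rw [← h2]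
      exact (inf_eq_left.2 inf_le_left).symm
    rw [h3, sup_bot_eq] at htop
    exact hTt htop
  · have h3 : S ≤ C := subgroupOf_eq_top.1 h2
    have h4 : a ∈ centralizer (S : Set X) := mem_centralizer_iff.2 fun s hs => by
      have h5 := mem_centralizer_iff.1 (h3 hs).2 (1 * a * 1⁻¹) ⟨1, one_mem _, rfl⟩
      rw [one_mul, inv_one, mul_one] at h5
      exact h5.symm
    rw [h.cen] at h4
    exact ha1 (mem_bot.1 h4)

end tools

section module

variable {H : Type u} [Group H] {M : Type v} [Group M] [MulDistribMulAction H M] {K T A : Subgroup H}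

/-- **For `a ∈ A#` there is an involution `x ∈ K ∩ T` with `|M : C_M(x)| ≤ |M : C_M(a)|²`.** -/
theorem InX.exists_half [Finite H] [Finite M] (h : InX H M K T A) {a : H} (ha : a ∈ A) (ha1 : a ≠ 1) :
    ∃ R : Subgroup H, T ≤ R ∧ R ≠ ⊤ ∧ ∃ x ∈ o2 R ⊓ K, x ≠ 1 ∧ x * x = 1 ∧
      (cv M ({x} : Set H)).index ≤ (cv M ({a} : Set H)).index ^ 2 := by
  obtain ⟨R, hTR, hR, g, hg, h1, h2, h3⟩ := h.asx.exists_half ha ha1
  refine ⟨R, hTR, hR, _, h1, h2, h3, ?_⟩
  have h4 : cv M ({a} : Set H) ⊓ cv M ({g * a * g⁻¹} : Set H) ≤ cv M ({a * (g * a * g⁻¹)} : Set H) := by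
    rintro m ⟨hm1, hm2⟩
    rintro x rfl
    have e1 : a • m = m := hm1 a rfl
    have e2 : (g * a * g⁻¹) • m = m := hm2 _ rfl
    rw [mul_smul, e2, e1]
  have h5 := Nat.le_of_dvd (Nat.pos_of_ne_zero index_ne_zero_of_finite) (index_dvd_of_le h4)
  refine h5.trans (index_inf_le.trans ?_)
  rw [InvFrob.index_cv_conj (M := M) g a, pow_two]

/-- An involution `x ∈ K ∩ T` with `|M : C_M(x)| ≤ |A|²`. -/
theorem InX.exists_half' [Finite H] [Finite M] (h : InX H M K T A) :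
    ∃ R : Subgroup H, T ≤ R ∧ R ≠ ⊤ ∧ ∃ x ∈ o2 R ⊓ K, x ≠ 1 ∧ x * x = 1 ∧
      (cv M ({x} : Set H)).index ≤ Nat.card A ^ 2 := by
  obtain ⟨⟨a, ha⟩, ha2⟩ := ne_bot_iff_exists_ne_one.1 h.A_ne_bot
  have ha1 : a ≠ 1 := fun h1 => ha2 (Subtype.ext h1)
  obtain ⟨R, hTR, hR, x, hx, hx1, hxx, h1⟩ := h.exists_half ha ha1
  exact ⟨R, hTR, hR, x, hx, hx1, hxx, h1.trans (Nat.pow_le_pow_left (Gen.index_le_card h ha) 2)⟩

/-- **`|A| = 4`**: an involution `x ∈ K ∩ T` with `|M : C_M(x)| ≤ 16`. -/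
theorem InX.exists_half_four [Finite H] [Finite M] (h : InX H M K T A) (h4 : Nat.card A ≤ 4) :
    ∃ x ∈ K ⊓ T, x ≠ 1 ∧ x * x = 1 ∧ (cv M ({x} : Set H)).index ≤ 16 := by
  obtain ⟨R, hTR, hR, x, hx, hx1, hxx, h1⟩ := h.exists_half'
  refine ⟨x, ⟨hx.2, ?_⟩, hx1, hxx, h1.trans ((Nat.pow_le_pow_left h4 2).trans (by norm_num))⟩
  -- `O₂(R) ≤ T`
  have hp : Fact (Nat.Prime 2) := ⟨Nat.prime_two⟩
  have h2 : T ≤ normalizer (o2 R : Set H) := hTR.trans (le_normalizer_o2 R)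
  have h3 : IsPGroup 2 (o2 R ⊔ T : Subgroup H) := (o2_isPGroup R).to_sup_of_normal_left' h.two h2
  have h5 : ¬ 2 ∣ T.relIndex (o2 R ⊔ T) := fun h5 => h.syl (h5.trans (relIndex_dvd_index_of_le le_sup_right))
  obtain ⟨n, hn⟩ := (IsPGroup.iff_card.1 h3)
  have h6 : T.relIndex (o2 R ⊔ T) ∣ 2 ^ n := hn ▸ (T.subgroupOf (o2 R ⊔ T)).index_dvd_card
  obtain ⟨k, -, hk⟩ := (Nat.dvd_prime_pow Nat.prime_two).1 h6
  have h7 : k = 0 := by
    by_contra hk0
    exact h5 (hk ▸ dvd_pow_self 2 hk0)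
  rw [h7, pow_zero] at hk
  exact relIndex_eq_one.1 hk (mem_sup_left hx.1)

/-- **`K` is generated by `n` conjugates of every involution: `|M| ≤ |A|^(2n)`.** -/
theorem InX.card_le_half [Finite H] [Finite M] (h : InX H M K T A) {m : ℕ}
    (hg : ∀ x : K, x ≠ 1 → x * x = 1 → ∃ l : Fin m → K, closure (Set.range fun i => l i * x * (l i)⁻¹) = ⊤) :
    Nat.card M ≤ Nat.card A ^ (2 * m) := by
  obtain ⟨R, hTR, hR, x, hx, hx1, hxx, h1⟩ := h.exists_half'
  obtain ⟨l, hl⟩ := hg ⟨x, hx.2⟩ (fun h1 => hx1 (congrArg Subtype.val h1)) (Subtype.ext hxx)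
  have h3 : K ≤ closure (Set.range fun i => (l i : H) * x * (l i : H)⁻¹) := by
    have h3 := congrArg (Subgroup.map K.subtype) hl
    rw [MonoidHom.map_closure, ← Set.range_comp, ← MonoidHom.range_eq_map, range_subtype] at h3
    exact le_of_eq h3.symm
  refine (Gen.card_le_conj_index h x _ h3).trans ?_
  rw [pow_mul]
  exact Nat.pow_le_pow_left h1 m

/-- **Kill**: `LB`. -/
theorem InX.false_of_half_lb [Finite H] [Finite M] (h : InX H M K T A) {n a m : ℕ} (hl : Heis.LB.{u, u, v} K n)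
    (ha : Nat.card A ≤ 2 ^ a)
    (hg : ∀ x : K, x ≠ 1 → x * x = 1 → ∃ l : Fin m → K, closure (Set.range fun i => l i * x * (l i)⁻¹) = ⊤)
    (hn : 2 * a * m < n) : False := by
  have h1 := (Gen.lb_le h hl).trans ((h.card_le_half hg).trans (Nat.pow_le_pow_left ha _))
  rw [← pow_mul] at h1
  have h2 := (Nat.pow_le_pow_iff_right (by norm_num : 1 < 2)).1 h1
  have h3 : a * (2 * m) = 2 * a * m := by ring
  omega

/-- **Kill**: a prime. -/
theorem InX.false_of_half_prime [Finite H] [Finite M] (h : InX H M K T A) {r k a m : ℕ} (hp : r.Prime) (ho : Odd r)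
    (hr : r ∣ Nat.card K) (hk : ∀ n : ℕ, 0 < n → r ∣ 2 ^ n - 1 → k ≤ n) (ha : Nat.card A ≤ 2 ^ a)
    (hg : ∀ x : K, x ≠ 1 → x * x = 1 → ∃ l : Fin m → K, closure (Set.range fun i => l i * x * (l i)⁻¹) = ⊤)
    (hn : 2 * a * m < k) : False := by
  have h1 := (Gen.pow_le_card h hp ho hr hk).trans ((h.card_le_half hg).trans (Nat.pow_le_pow_left ha _))
  rw [← pow_mul] at h1
  have h2 := (Nat.pow_le_pow_iff_right (by norm_num : 1 < 2)).1 h1
  have h3 : a * (2 * m) = 2 * a * m := by ring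
  omega

/-- **Kill**: all involutions `x` of `K` have `|M : C_M(x)| > |A|²`. -/
theorem InX.false_of_half_index [Finite H] [Finite M] (h : InX H M K T A) {n : ℕ} (hA : Nat.card A ^ 2 ≤ n)
    (hi : ∀ x ∈ K, x ≠ 1 → x * x = 1 → n < (cv M ({x} : Set H)).index) : False := by
  obtain ⟨R, hTR, hR, x, hx, hx1, hxx, h1⟩ := h.exists_half'
  have := hi x hx.2 hx1 hxx
  omega

end module

end Cfsg.Agent.Omega.ML.Ex

end

section


/-!
# The parity lemma

`M` an elementary abelian 2-group, `K` a set of operators, `S₀ ≤ M` simple for `K`: the number of submodules of `M`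
which are isomorphic to `S₀` is odd.

(`|Hom_K(S₀, M) \ 0|` is odd, and so is every fibre `|Hom_K(S₀, S) \ 0|` of `f ↦ f(S₀)`.)
-/

set_option autoImplicit false

namespace Cfsg.Agent.Omega.ML.Ex.IrrPar

open Subgroup

universe u v

variable {H : Type u} [Group H] {M : Type v} [Group M] [MulDistribMulAction H M]

theorem comm_of_sq (sq : ∀ m : M, m * m = 1) (x y : M) : x * y = y * x := by
  have hinv : ∀ m : M, m⁻¹ = m := fun m => inv_eq_of_mul_eq_one_right (sq m)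
  calc x * y = (x * y)⁻¹ := (hinv _).symm
    _ = y⁻¹ * x⁻¹ := mul_inv_rev _ _
    _ = y * x := by rw [hinv, hinv]

/-- `Hom_K(S₀, L)` -/
def HK (sq : ∀ m : M, m * m = 1) (K : Set H) (S₀ L : Subgroup M) : Subgroup (S₀ → M) where
  carrier := {f | (∀ s t, f (s * t) = f s * f t) ∧
    (∀ k ∈ K, ∀ s s' : S₀, (s' : M) = k • (s : M) → f s' = k • f s) ∧ ∀ s, f s ∈ L}
  one_mem' := ⟨fun _ _ => (mul_one 1).symm, fun k _ _ _ _ => (smul_one k).symm, fun _ => L.one_mem⟩
  mul_mem' := by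
    rintro f g ⟨f1, f2, f3⟩ ⟨g1, g2, g3⟩
    refine ⟨fun s t => ?_, fun k hk s s' h => ?_, fun s => L.mul_mem (f3 s) (g3 s)⟩
    · rw [Pi.mul_apply, Pi.mul_apply, Pi.mul_apply, f1, g1, mul_assoc, mul_assoc, ← mul_assoc (f t),
        ← mul_assoc (g s), comm_of_sq sq (f t) (g s)]
    · rw [Pi.mul_apply, Pi.mul_apply, f2 k hk s s' h, g2 k hk s s' h, smul_mul']
  inv_mem' := by
    rintro f ⟨f1, f2, f3⟩
    refine ⟨fun s t => ?_, fun k hk s s' h => ?_, fun s => L.inv_mem (f3 s)⟩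
    · rw [Pi.inv_apply, Pi.inv_apply, Pi.inv_apply, f1, mul_inv_rev, comm_of_sq sq]
    · rw [Pi.inv_apply, Pi.inv_apply, f2 k hk s s' h, smul_inv']

variable {sq : ∀ m : M, m * m = 1} {K : Set H} {S₀ L : Subgroup M}

theorem mem_HK {f : S₀ → M} : f ∈ HK sq K S₀ L ↔ (∀ s t, f (s * t) = f s * f t) ∧
    (∀ k ∈ K, ∀ s s' : S₀, (s' : M) = k • (s : M) → f s' = k • f s) ∧ ∀ s, f s ∈ L := Iff.rfl

/-- the homomorphism -/
def toHom {f : S₀ → M} (hf : f ∈ HK sq K S₀ L) : S₀ →* M := MonoidHom.mk' f hf.1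

theorem toHom_apply {f : S₀ → M} (hf : f ∈ HK sq K S₀ L) (s : S₀) : toHom hf s = f s := rfl

/-- nonzero homomorphisms are injective -/
theorem inj (inv : ∀ k ∈ K, ∀ s ∈ S₀, k • s ∈ S₀)
    (simple : ∀ W ≤ S₀, (∀ k ∈ K, ∀ w ∈ W, k • w ∈ W) → W = ⊥ ∨ W = S₀) {f : S₀ → M} (hf : f ∈ HK sq K S₀ L)
    (h1 : f ≠ 1) : Function.Injective f := by
  have h0 : ∀ k ∈ K, ∀ w ∈ (toHom hf).ker.map S₀.subtype, k • w ∈ (toHom hf).ker.map S₀.subtype := by
    rintro k hk _ ⟨s, hs, rfl⟩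
    refine ⟨⟨k • (s : M), inv k hk s s.2⟩, ?_, rfl⟩
    have h3 := hf.2.1 k hk s ⟨k • (s : M), inv k hk s s.2⟩ rfl
    have h4 : f s = 1 := hs
    rw [h4, smul_one] at h3
    exact h3
  have h2 : ((toHom hf).ker.map S₀.subtype) = ⊥ := by
    rcases simple ((toHom hf).ker.map S₀.subtype) (map_subtype_le _) h0 with h3 | h3
    · exact h3
    · exfalso
      apply h1
      funext s
      have h4 : (s : M) ∈ (toHom hf).ker.map S₀.subtype := by rw [h3]; exact s.2
      obtain ⟨t, ht, hts⟩ := h4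
      have h5 : t = s := Subtype.ext hts
      rw [← h5]
      exact ht
  have h3 : (toHom hf).ker = ⊥ := by
    rw [eq_bot_iff]
    intro s hs
    have h4 : (s : M) ∈ (toHom hf).ker.map S₀.subtype := ⟨s, hs, rfl⟩
    rw [h2, mem_bot] at h4
    exact mem_bot.2 (Subtype.ext h4)
  exact (MonoidHom.ker_eq_bot_iff _).1 h3

theorem range_eq {f : S₀ → M} (hf : f ∈ HK sq K S₀ L) : closure (Set.range f) = (toHom hf).range := by
  have h1 : Set.range f = ((toHom hf).range : Set M) := rfl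
  rw [h1, closure_eq]

theorem card_range (inv : ∀ k ∈ K, ∀ s ∈ S₀, k • s ∈ S₀)
    (simple : ∀ W ≤ S₀, (∀ k ∈ K, ∀ w ∈ W, k • w ∈ W) → W = ⊥ ∨ W = S₀) {f : S₀ → M} (hf : f ∈ HK sq K S₀ L)
    (h1 : f ≠ 1) : Nat.card (closure (Set.range f)) = Nat.card S₀ := by
  rw [range_eq hf]
  exact (Nat.card_congr (MonoidHom.ofInjective (f := toHom hf) (inj inv simple hf h1)).toEquiv).symm

/-- a group of exponent 2, not trivial -/
theorem even_card {G : Type*} [Group G] [Finite G] (sq : ∀ g : G, g * g = 1) {g : G} (hg : g ≠ 1) :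
    Even (Nat.card G) := by
  have h1 : orderOf g = 2 := orderOf_eq_prime (by rw [pow_two]; exact sq g) hg
  rw [even_iff_two_dvd, ← h1]
  exact orderOf_dvd_natCard g

open Classical in
/-- the nonzero homomorphisms: an odd number -/
theorem odd_ne_one [Finite M] {f : S₀ → M} (hf : f ∈ HK sq K S₀ L) (h1 : f ≠ 1) :
    Odd (Nat.card {g : S₀ → M // g ∈ HK sq K S₀ L ∧ g ≠ 1}) := by
  have h2 : Even (Nat.card (HK sq K S₀ L)) := by
    refine even_card (g := ⟨f, hf⟩) (fun g => ?_) fun h => h1 (congrArg Subtype.val h)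
    refine Subtype.ext (funext fun s => ?_)
    exact sq _
  have h3 : Nat.card {g : S₀ → M // g ∈ HK sq K S₀ L ∧ g ≠ 1} = Nat.card {g : HK sq K S₀ L // g ≠ 1} := by
    refine Nat.card_congr ⟨fun g => ⟨⟨g.1, g.2.1⟩, fun h => g.2.2 (congrArg Subtype.val h)⟩,
      fun g => ⟨g.1.1, g.1.2, fun h => g.2 (Subtype.ext h)⟩, fun _ => rfl, fun _ => rfl⟩
  have := Fintype.ofFinite (HK sq K S₀ L)
  have h4 : Nat.card {g : HK sq K S₀ L // g ≠ 1} = Nat.card (HK sq K S₀ L) - 1 := by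
    rw [Nat.card_eq_fintype_card, Nat.card_eq_fintype_card, Fintype.card_subtype_compl, Fintype.card_subtype_eq]
  rw [h3, h4]
  exact Nat.Even.sub_odd Nat.card_pos h2 odd_one

open Classical in
/-- **The parity lemma** -/
theorem odd_card [Finite M] (sq : ∀ m : M, m * m = 1) (K : Set H) {S₀ : Subgroup M} (ne : S₀ ≠ ⊥)
    (inv : ∀ k ∈ K, ∀ s ∈ S₀, k • s ∈ S₀)
    (simple : ∀ W ≤ S₀, (∀ k ∈ K, ∀ w ∈ W, k • w ∈ W) → W = ⊥ ∨ W = S₀) :
    Odd (Nat.card {S : Subgroup M // ∃ f : S₀ →* M, Function.Injective f ∧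
      (∀ k ∈ K, ∀ s s' : S₀, (s' : M) = k • (s : M) → f s' = k • f s) ∧ f.range = S}) := by
  have := Fintype.ofFinite (S₀ → M)
  let N : Finset (S₀ → M) := Finset.univ.filter fun f => f ∈ HK sq K S₀ ⊤ ∧ f ≠ 1
  let r : (S₀ → M) → Subgroup M := fun f => closure (Set.range f)
  have hmem : ∀ f : S₀ → M, f ∈ N ↔ f ∈ HK sq K S₀ ⊤ ∧ f ≠ 1 := fun f => by simp [N]
  -- the inclusion
  have h1 : S₀.subtype.toFun ∈ N := by
    rw [hmem]
    refine ⟨⟨fun _ _ => rfl, fun k _ s s' h => h, fun _ => mem_top _⟩, fun h => ne ?_⟩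
    rw [eq_bot_iff]
    intro s hs
    exact mem_bot.2 (congrFun h ⟨s, hs⟩)
  have hcard : ∀ (p : (S₀ → M) → Prop) [DecidablePred p], (Finset.univ.filter p).card = Nat.card {f // p f} :=
    fun p _ => by rw [Nat.card_eq_fintype_card, Fintype.card_subtype]
  have h2 : Odd N.card := by
    have h3 := odd_ne_one ((hmem _).1 h1).1 ((hmem _).1 h1).2
    rwa [← hcard] at h3
  rw [Finset.card_eq_sum_card_image r N, Finset.odd_sum_iff_odd_card_odd] at h2
  have h3 : (N.image r).filter (fun b => Odd (N.filter fun a => r a = b).card) = N.image r := by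
    rw [Finset.filter_eq_self]
    intro S hS
    obtain ⟨f, hf, hfS⟩ := Finset.mem_image.1 hS
    obtain ⟨hf1, hf2⟩ := (hmem f).1 hf
    have h4 : N.filter (fun a => r a = S) = Finset.univ.filter fun a => a ∈ HK sq K S₀ S ∧ a ≠ 1 := by
      ext a
      rw [Finset.mem_filter, hmem, Finset.mem_filter]
      constructor
      · rintro ⟨⟨ha1, ha2⟩, ha3⟩
        refine ⟨Finset.mem_univ _, ⟨ha1.1, ha1.2.1, fun s => ?_⟩, ha2⟩
        rw [← ha3]
        exact subset_closure ⟨s, rfl⟩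
      · rintro ⟨-, ha1, ha2⟩
        have ha3 : a ∈ HK sq K S₀ ⊤ := ⟨ha1.1, ha1.2.1, fun _ => mem_top _⟩
        refine ⟨⟨ha3, ha2⟩, ?_⟩
        refine eq_of_le_of_card_ge ((closure_le _).2 ?_) ?_
        · rintro _ ⟨s, rfl⟩
          exact ha1.2.2 s
        · rw [← hfS, card_range inv simple hf1 hf2]
          exact (card_range inv simple ha3 ha2).ge
    rw [h4, hcard]
    refine odd_ne_one (f := f) ⟨hf1.1, hf1.2.1, fun s => ?_⟩ hf2
    rw [← hfS]
    exact subset_closure ⟨s, rfl⟩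
  rw [h3] at h2
  have h5 : Nat.card {S : Subgroup M // ∃ f : S₀ →* M, Function.Injective f ∧
      (∀ k ∈ K, ∀ s s' : S₀, (s' : M) = k • (s : M) → f s' = k • f s) ∧ f.range = S} = (N.image r).card := by
    rw [← Fintype.card_coe, ← Nat.card_eq_fintype_card]
    refine Nat.card_congr (Equiv.subtypeEquivRight fun S => ?_)
    rw [Finset.mem_image]
    constructor
    · rintro ⟨f, hf1, hf2, rfl⟩
      have hf : (f : S₀ → M) ∈ HK sq K S₀ ⊤ := ⟨fun s t => map_mul f s t, hf2, fun _ => mem_top _⟩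
      refine ⟨f, (hmem _).2 ⟨hf, fun h => ne ?_⟩, ?_⟩
      · rw [eq_bot_iff]
        intro s hs
        have h6 : f ⟨s, hs⟩ = f 1 := by rw [map_one]; exact congrFun h ⟨s, hs⟩
        exact mem_bot.2 (congrArg Subtype.val (hf1 h6))
      · show closure (Set.range f) = f.range
        rw [← MonoidHom.coe_range, closure_eq]
    · rintro ⟨f, hf, rfl⟩
      obtain ⟨hf1, hf2⟩ := (hmem f).1 hf
      exact ⟨toHom hf1, inj inv simple hf1 hf2, hf1.2.1, (range_eq hf1).symm⟩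
  rw [h5]
  exact h2

end Cfsg.Agent.Omega.ML.Ex.IrrPar

end
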