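import Cfsg.Agent.Mrg.Omega.ML.Ex.Def
import Cfsg.Agent.Mrg.Omega.ML.Ex.TIE
import Cfsg.Agent.Mrg.Omega.ML.Ex.RowASix
import Cfsg.Agent.Mrg.Omega.ML.Ex.UThreeGrp
import Cfsg.Agent.Mrg.Omega.ML.RowsList
import Cfsg.Agent.Mrg.Omega.ML.Ex.Two
import Cfsg.Agent.Mrg.Omega.ML.MinIrr
import Cfsg.Agent.Mrg.Omega.KL.Def
import Cfsg.Agent.Mrg.Omega.TwoF.RowPSp

section


/-!
# The exit `U₃(3) = G₂(2)'` of the exact K-list (helper919)

Only `sq, faith, irr, norm, simple, cen, gen, two, syl, AT, el, four, exact` of `InX` are used (no `sub`, no `low`, no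
atoms).

* `Emb` : the embedding of `SU₃(3)` and the action of `H`;
* **`u33`** : `InX H M K T A`, `K ≅ U₃(3)` ⟹ `|A| = 8`, `|M| = 64`, `C_M(T)` has at most 2 elements.
-/

set_option autoImplicit false

namespace Cfsg.Agent.Omega.ML.Ex.RowU33X

open Subgroup Cfsg Cfsg.Agent.ZN Cfsg.Agent.ClassTwoFusion.Quad Cfsg.Agent.Omega.ML.Ex.TIE
open Cfsg.Agent.OddHalf.Small.U33 (SU33 t0 finite_SU33)
open Cfsg.Agent.OddHalf.D4.Small.KU33 (S isPGroup_S odd_S gi gj card_SU)
open Cfsg.Agent.OddHalf.D6.RThree.U33 (φ f D D_mul D_one D_t0 D_f D_inv fix_cases index_inn conj_inj t0_t0 t0_ne f_comm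
  comm_inv D_conj)
open Cfsg.Agent.Omega.ML.Ex.UThreeGrp

universe u v w

/-! ### the embedding -/

/-- `K ≅ SU₃(3)` and the action of `H` -/
structure Emb {H : Type u} [Group H] (K : Subgroup H) (κ : SU33 →* H) (F : H →* MulAut SU33) : Prop where
  inj : Function.Injective κ
  range : κ.range = K
  injF : Function.Injective F
  act : ∀ h g, h * κ g * h⁻¹ = κ (F h g)
  Fκ : ∀ g, F (κ g) = MulAut.conj g

section emb

variable {H : Type u} [Group H] {K : Subgroup H}

theorem exists_emb (hK : K.Normal) (cen : centralizer (K : Set H) = ⊥) (e : K ≃* SU33) :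
    ∃ (κ : SU33 →* H) (F : H →* MulAut SU33), Emb K κ F := by
  refine ⟨K.subtype.comp e.symm.toMonoidHom, (MulAut.congr e).toMonoidHom.comp MulAut.conjNormal, ?_, ?_, ?_, ?_, ?_⟩
  · exact K.subtype_injective.comp e.symm.injective
  · ext x
    constructor
    · rintro ⟨g, rfl⟩
      exact (e.symm g).2
    · intro hx
      exact ⟨e ⟨x, hx⟩, by simp⟩
  · rw [injective_iff_map_eq_one]
    intro h hh
    have h1 : (MulAut.conjNormal h : MulAut K) = 1 := (MulAut.congr e).injective (by rw [map_one]; exact hh)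
    rw [← mem_bot, ← cen, mem_centralizer_iff]
    intro k hk
    have h2 := DFunLike.congr_fun h1 (⟨k, hk⟩ : K)
    have h3 : h * k * h⁻¹ = k := congrArg Subtype.val h2
    exact (mul_inv_eq_iff_eq_mul.1 h3).symm
  · intro h g
    show h * (e.symm g : H) * h⁻¹ = ((e.symm (e (MulAut.conjNormal h (e.symm g))) : K) : H)
    rw [e.symm_apply_apply, MulAut.conjNormal_apply]
  · intro g
    refine MulEquiv.ext fun x => ?_
    show e (MulAut.conjNormal ((e.symm g : K) : H) (e.symm x)) = g * x * g⁻¹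
    have h1 : (MulAut.conjNormal ((e.symm g : K) : H) (e.symm x) : K) = e.symm g * e.symm x * (e.symm g)⁻¹ :=
      Subtype.ext (by rw [MulAut.conjNormal_apply]; rfl)
    rw [h1, map_mul, map_mul, map_inv, e.apply_symm_apply, e.apply_symm_apply]

namespace Emb

variable {κ : SU33 →* H} {F : H →* MulAut SU33}

theorem mem (E : Emb K κ F) (g : SU33) : κ g ∈ K := by rw [← E.range]; exact ⟨g, rfl⟩

theorem exists_of_mem (E : Emb K κ F) {x : H} (hx : x ∈ K) : ∃ g, κ g = x := by
  rw [← E.range] at hx; exact hx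

/-- change of the embedding by an automorphism -/
theorem twist (E : Emb K κ F) (β : MulAut SU33) :
    Emb K (κ.comp (β⁻¹ : MulAut SU33).toMonoidHom) ((MulAut.conj β).toMonoidHom.comp F) where
  inj := E.inj.comp (β⁻¹ : MulAut SU33).injective
  range := by
    rw [← E.range]
    ext x
    constructor
    · rintro ⟨g, rfl⟩
      exact ⟨β⁻¹ g, rfl⟩
    · rintro ⟨g, rfl⟩
      exact ⟨β g, by show κ (β⁻¹ (β g)) = κ g; rw [MulAut.inv_apply_self]⟩
  injF := (MulAut.conj β).injective.comp E.injF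
  act := by
    intro h g
    show h * κ (β⁻¹ g) * h⁻¹ = κ (β⁻¹ ((β * F h * β⁻¹) g))
    rw [E.act, MulAut.mul_apply, MulAut.mul_apply, MulAut.inv_apply_self]
  Fκ := by
    intro g
    show β * F (κ (β⁻¹ g)) * β⁻¹ = MulAut.conj g
    rw [E.Fκ]
    refine MulEquiv.ext fun x => ?_
    rw [MulAut.mul_apply, MulAut.mul_apply, MulAut.conj_apply, MulAut.conj_apply, map_mul, map_mul, map_inv,
      MulAut.apply_inv_self, MulAut.apply_inv_self]

theorem twist_κ (β : MulAut SU33) (g : SU33) : (κ.comp (β⁻¹ : MulAut SU33).toMonoidHom) g = κ (β⁻¹ g) := rfl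

theorem twist_F (β : MulAut SU33) (h : H) : ((MulAut.conj β).toMonoidHom.comp F) h = β * F h * β⁻¹ := rfl

theorem comap_inn (E : Emb K κ F) : (MulAut.conj : SU33 →* MulAut SU33).range.comap F = K := by
  ext x
  rw [mem_comap]
  constructor
  · rintro ⟨g, hg⟩
    have : κ g = x := E.injF (by rw [E.Fκ, hg])
    rw [← this]
    exact E.mem g
  · intro hx
    obtain ⟨g, rfl⟩ := E.exists_of_mem hx
    exact ⟨g, (E.Fκ g).symm⟩

theorem relIndex_le (E : Emb K κ F) (B : Subgroup H) : K.relIndex B ≤ 2 := by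
  have h1 : K.relIndex B = ((MulAut.conj : SU33 →* MulAut SU33).range).relIndex (B.map F) := by
    rw [← E.comap_inn, relIndex_comap]
  rw [h1]
  refine (relIndex_le_of_le_right le_top ?_).trans ?_
  · rw [relIndex_top_right, index_inn]; norm_num
  · rw [relIndex_top_right, index_inn]

theorem card_mul (E : Emb K κ F) (B : Subgroup H) :
    Nat.card (B.comap κ) * K.relIndex B = Nat.card B := by
  have h5 := relIndex_mul_relIndex (⊥ : Subgroup H) (K ⊓ B) B bot_le inf_le_right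
  rw [relIndex_bot_left, relIndex_bot_left, inf_relIndex_right] at h5
  have h4 : (B.comap κ).map κ = K ⊓ B := by rw [map_comap_eq, E.range]
  rw [← h4, card_map_of_injective E.inj] at h5
  exact h5

/-- `F x` is outer for `x ∉ K` -/
theorem outer (E : Emb K κ F) {x : H} (hx : x ∉ K) : F x ∉ (MulAut.conj : SU33 →* MulAut SU33).range := by
  intro h
  apply hx
  rw [← E.comap_inn, mem_comap]
  exact h

theorem comm_iff (E : Emb K κ F) {x : H} {g : SU33} : x * κ g = κ g * x ↔ F x g = g := by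
  rw [← mul_inv_eq_iff_eq_mul, E.act]
  exact ⟨fun h => E.inj h, fun h => by rw [h]⟩

end Emb

end emb

variable {H : Type u} [Group H] {M : Type v} [Group M] [MulDistribMulAction H M] {K T A : Subgroup H}
  {κ : SU33 →* H} {F : H →* MulAut SU33}

instance : Finite SU33 := finite_SU33

/-! ### indices -/

section index

variable {H : Type u} [Group H] {M : Type v} [Group M] [MulDistribMulAction H M]

theorem mcomm (sq : ∀ m : M, m * m = 1) (a b : M) : a * b = b * a := by
  have h1 : ∀ c : M, c⁻¹ = c := fun c => inv_eq_of_mul_eq_one_left (sq c)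
  calc a * b = (a * b)⁻¹ := (h1 _).symm
    _ = b * a := by rw [mul_inv_rev, h1, h1]

theorem index_map_tm (e : M ≃* M) (C : Subgroup M) : (C.map e.toMonoidHom).index = C.index := by
  have h1 : Function.Bijective e.toMonoidHom := e.bijective
  exact index_map_of_bijective h1 C

theorem cv_conj (g x : H) : cv M ({g * x * g⁻¹} : Set H) =
    (cv M ({x} : Set H)).map (MulDistribMulAction.toMulEquiv M g : M ≃* M).toMonoidHom := by
  ext m
  rw [mem_cv_singleton]
  constructor
  · intro h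
    refine ⟨g⁻¹ • m, ?_, smul_inv_smul g m⟩
    change g⁻¹ • m ∈ cv M ({x} : Set H)
    rw [mem_cv_singleton]
    rw [mul_smul, mul_smul] at h
    calc x • g⁻¹ • m = g⁻¹ • (g • x • g⁻¹ • m) := (inv_smul_smul _ _).symm
      _ = g⁻¹ • m := by rw [h]
  · rintro ⟨n, hn, rfl⟩
    change n ∈ cv M ({x} : Set H) at hn
    rw [mem_cv_singleton] at hn
    change (g * x * g⁻¹) • (g • n) = g • n
    rw [mul_smul, mul_smul, inv_smul_smul, hn]

theorem index_conj (g x : H) : (cv M ({g * x * g⁻¹} : Set H)).index = (cv M ({x} : Set H)).index := by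
  rw [cv_conj]
  exact index_map_tm _ _

theorem index_mul_le [Finite M] (x y : H) :
    (cv M ({x * y} : Set H)).index ≤ (cv M ({x} : Set H)).index * (cv M ({y} : Set H)).index := by
  have h1 : cv M ({x} : Set H) ⊓ cv M ({y} : Set H) ≤ cv M ({x * y} : Set H) := by
    rintro m ⟨h1, h2⟩
    have h1' := mem_cv_singleton.1 h1
    have h2' := mem_cv_singleton.1 h2
    rw [mem_cv_singleton, mul_smul, h2', h1']
  have h3 : (cv M ({x * y} : Set H)).index ≤ (cv M ({x} : Set H) ⊓ cv M ({y} : Set H)).index :=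
    Nat.le_of_dvd (Nat.pos_of_ne_zero index_ne_zero_of_finite) (index_dvd_of_le h1)
  exact h3.trans index_inf_le

theorem index_le_of_le' [Finite M] {C C' : Subgroup M} (h : C ≤ C') : C'.index ≤ C.index :=
  Nat.le_of_dvd (Nat.pos_of_ne_zero index_ne_zero_of_finite) (index_dvd_of_le h)

theorem two_group (sq : ∀ m : M, m * m = 1) : IsPGroup 2 M := by
  intro m
  exact ⟨1, by rw [pow_one, pow_two, sq]⟩

/-- indices are powers of 2 -/
theorem index_pow [Finite M] (sq : ∀ m : M, m * m = 1) (C : Subgroup M) : ∃ k, C.index = 2 ^ k := by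
  obtain ⟨n, hn⟩ := IsPGroup.iff_card.1 (two_group sq)
  have h3 : C.index ∣ 2 ^ n := by rw [← hn]; exact index_dvd_card _
  obtain ⟨k, -, hk⟩ := (Nat.dvd_prime_pow Nat.prime_two).1 h3
  exact ⟨k, hk⟩

end index

variable {H : Type u} [Group H] {M : Type v} [Group M] [MulDistribMulAction H M] {K T A : Subgroup H}
  {κ : SU33 →* H} {F : H →* MulAut SU33}

instance : Finite SU33 := finite_SU33

theorem sixtyfour [Finite M] (sq : ∀ m : M, m * m = 1) (faith : ∀ x : H, (∀ m : M, x • m = m) → x = 1)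
    (E : Emb K κ F) : 64 ≤ (cv M ({κ ss} : Set H)).index := by
  let _ : CommGroup M := { (inferInstance : Group M) with mul_comm := mcomm sq }
  refine HeisThree.heis (a := κ aa) (b := κ bb) (s := κ ss) sq ?_ ?_ ?_ ?_ ?_ ?_ _ ?_
  · rw [← map_mul, ← map_mul, aa_three, map_one]
  · rw [← map_mul, ← map_mul, ss_three, map_one]
  · rw [← map_mul, ss_aa, map_mul]
  · rw [← map_mul, ss_bb, map_mul]
  · rw [← map_mul, bb_aa, map_mul, map_mul]
  · by_contra hcon
    push Not at hcon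
    have h1 := faith _ hcon
    exact ss_ne (E.inj (by rw [h1, map_one]))
  · intro m hm
    exact mem_cv_singleton.1 hm

theorem conj_eq {G : Type*} [Group G] {q r t g y : G} (hq : y = q * t * q⁻¹) (hr : g = r * t * r⁻¹) :
    y = (q * r⁻¹) * g * (q * r⁻¹)⁻¹ := by
  rw [hq, hr]
  group

/-- no transvections in `K` -/
theorem four_le [Finite M] (sq : ∀ m : M, m * m = 1) (faith : ∀ x : H, (∀ m : M, x • m = m) → x = 1)
    (E : Emb K κ F) {g : SU33} (hg : g * g = 1) (hg1 : g ≠ 1) : 4 ≤ (cv M ({κ g} : Set H)).index := by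
  by_contra hlt
  push Not at hlt
  have h2 : (cv M ({κ g} : Set H)).index ≤ 2 := by
    obtain ⟨k, hk⟩ := index_pow (M := M) sq (cv M ({κ g} : Set H))
    rw [hk] at hlt ⊢
    have h6 : k < 2 := by
      by_contra hc
      have := Nat.pow_le_pow_right (n := 2) (by norm_num) (show 2 ≤ k by omega)
      omega
    interval_cases k <;> norm_num
  obtain ⟨r, hr⟩ := exists_inv_conj hg hg1
  have h3 : ∀ y : SU33, y * y = 1 → (cv M ({κ y} : Set H)).index ≤ 2 := by
    intro y hy
    rcases eq_or_ne y 1 with rfl | hy1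
    · have h0 : cv M ({κ (1 : SU33)} : Set H) = ⊤ := by
        rw [eq_top_iff]
        intro m _
        rw [mem_cv_singleton, map_one, one_smul]
      rw [h0, index_top]
      norm_num
    obtain ⟨q, hq⟩ := exists_inv_conj hy hy1
    have h4 : κ y = κ (q * r⁻¹) * κ g * (κ (q * r⁻¹))⁻¹ := by
      rw [← map_inv, ← map_mul, ← map_mul]
      exact congrArg κ (conj_eq hq hr)
    rw [h4, index_conj]
    exact h2
  have h5 := sixtyfour sq faith E
  rw [ss_word, map_mul, map_mul, map_mul] at h5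
  have h6 := index_mul_le (M := M) (κ x1 * κ t0) (κ x3 * κ x4)
  have h7 := index_mul_le (M := M) (κ x1) (κ t0)
  have h8 := index_mul_le (M := M) (κ x3) (κ x4)
  have h9 := Nat.mul_le_mul (h3 x1 x1_x1) (h3 t0 t0_t0)
  have h10 := Nat.mul_le_mul (h3 x3 x3_x3) (h3 x4 x4_x4)
  have h11 := Nat.mul_le_mul (h7.trans h9) (h8.trans h10)
  have h12 := h5.trans (h6.trans h11)
  norm_num at h12

/-- the centraliser of `x` stabilises `C_M(x)` -/
theorem stab_of_comm {g x : H} (hg : g * x = x * g) : ∀ m : M, m ∈ cv M ({x} : Set H) ↔ g • m ∈ cv M ({x} : Set H) := by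
  intro m
  rw [mem_cv_singleton, mem_cv_singleton, ← mul_smul, ← hg, mul_smul, smul_left_cancel_iff]

/-- `[M, x] ≤ C_M(x)` for involutions -/
theorem comm_mem (sq : ∀ m : M, m * m = 1) {e : H} (he2 : e * e = 1) (m : M) : (e • m) * m⁻¹ ∈ cv M ({e} : Set H) := by
  rw [mem_cv_singleton, smul_mul', ← mul_smul, he2, one_smul, smul_inv']
  have h3 : m⁻¹ = m := inv_eq_of_mul_eq_one_left (sq m)
  have h4 : (e • m)⁻¹ = e • m := inv_eq_of_mul_eq_one_left (sq _)
  rw [h3, h4, mcomm sq]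

/-- **no four-group of `K` is exact** -/
theorem four_index [Finite M] (sq : ∀ m : M, m * m = 1) (faith : ∀ x : H, (∀ m : M, x • m = m) → x = 1)
    (E : Emb K κ F) {V : Subgroup SU33} (hV : ∀ x ∈ V, x * x = 1) (h0 : t0 ∈ V) {t : SU33} (ht : t ∈ V) (ht1 : t ≠ 1)
    (ht0 : t ≠ t0) {C : Subgroup M} (hC : ∀ g ∈ V, C ≤ cv M ({κ g} : Set H)) (hi : C.index ≤ 4) : False := by
  have h1 : ∀ g ∈ V, g ≠ 1 → cv M ({κ g} : Set H) = C := by
    intro g hg hg1
    have h2 := four_le (M := M) sq faith E (hV g hg) hg1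
    have h3 := hC g hg
    refine (Subgroup.eq_of_le_of_card_ge h3 ?_).symm
    have h4 := card_mul_index C
    have h5 := card_mul_index (cv M ({κ g} : Set H))
    have h6 : Nat.card (cv M ({κ g} : Set H)) * 4 ≤ Nat.card C * 4 := by
      calc _ ≤ Nat.card (cv M ({κ g} : Set H)) * (cv M ({κ g} : Set H)).index := Nat.mul_le_mul_left _ h2
        _ = Nat.card C * C.index := by rw [h4, h5]
        _ ≤ Nat.card C * 4 := Nat.mul_le_mul_left _ hi
    omega
  have h2 : ∀ g ∈ V, κ g ∈ (EE C : Subgroup H) := by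
    intro g hg
    rcases eq_or_ne g 1 with rfl | hg1
    · rw [map_one]; exact one_mem _
    · refine ⟨fun m hm => mem_cv_singleton.1 (hC g hg hm), fun m => ?_⟩
      rw [← h1 g hg hg1]
      exact comm_mem sq (by rw [← map_mul, hV g hg, map_one]) m
  have h3 := no_four (E := (EE C : Subgroup H).comap κ)
    (fun x hx => E.inj (by rw [map_mul, map_one]; exact EE_sq sq faith hx)) (h2 t0 h0)
    (by
      intro g hg x hx
      rw [mem_comap, map_mul, map_mul, map_inv]
      refine smul_mem_EE ?_ hx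
      rw [← h1 t0 h0 t0_ne]
      exact stab_of_comm (by rw [← map_mul, hg, map_mul]))
    t (h2 t ht)
  rcases h3 with h | h
  · exact ht1 h
  · exact ht0 h

/-- outer involutions -/
theorem exists_phi (E : Emb K κ F) {x : H} (hxx : x * x = 1) (hxK : x ∉ K) (h0 : F x t0 = t0) :
    ∃ (κ' : SU33 →* H) (F' : H →* MulAut SU33), Emb K κ' F' ∧ F' x = φ := by
  obtain ⟨r, hr⟩ := exists_conj_phi h0 (by rw [← map_mul, hxx, map_one]) (E.outer hxK)
  exact ⟨_, _, E.twist (MulAut.conj r), hr⟩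

theorem w_inv (E : Emb K κ F) {x : H} (hx : F x = φ) : x * κ ww * x⁻¹ = (κ ww)⁻¹ := by
  rw [E.act, hx, φ_ww, map_inv]

theorem w_seven : κ ww ^ 7 = 1 := by rw [← map_pow, ww_seven, map_one]

theorem eight_le [Finite M] (sq : ∀ m : M, m * m = 1) (faith : ∀ x : H, (∀ m : M, x • m = m) → x = 1)
    (E : Emb K κ F) {x : H} (hxx : x * x = 1) (hx : F x = φ) : 8 ≤ (cv M ({x} : Set H)).index := by
  refine RowU33.eight_le sq hxx w_seven (w_inv E hx) ?_
  by_contra hcon
  push Not at hcon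
  have h1 := faith _ hcon
  exact ww_ne (E.inj (by rw [h1, map_one]))

section row

variable [Finite H] [Finite M]

theorem exists_t0 (el : ∀ a ∈ A, a * a = 1) (E : Emb K κ F) (hV : 2 ≤ Nat.card (A.comap κ)) :
    ∃ (κ' : SU33 →* H) (F' : H →* MulAut SU33), Emb K κ' F' ∧ κ' t0 ∈ A := by
  obtain ⟨T0, hT0, hne⟩ : ∃ T0 ∈ A.comap κ, T0 ≠ 1 := by
    by_contra hcon
    push Not at hcon
    have h1 : A.comap κ = ⊥ := (eq_bot_iff_forall _).2 hcon
    rw [h1, card_bot] at hV
    omega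
  have hTT : T0 * T0 = 1 := E.inj (by rw [map_mul, el _ hT0, map_one])
  obtain ⟨g, hg⟩ := exists_inv_conj hTT hne
  refine ⟨_, _, E.twist (MulAut.conj g)⁻¹, ?_⟩
  rw [Emb.twist_κ, inv_inv, MulAut.conj_apply, ← hg]
  exact hT0

/-- `A` contains `κ t0` -/
theorem exists_emb_t0 (h : InX H M K T A) (e : K ≃* SU33) :
    ∃ (κ : SU33 →* H) (F : H →* MulAut SU33), Emb K κ F ∧ κ t0 ∈ A := by
  obtain ⟨κ, F, E⟩ := exists_emb h.norm h.cen e
  refine exists_t0 h.el E ?_
  have h1 := E.card_mul A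
  have h2 := E.relIndex_le A
  have h3 := h.four
  by_contra hc
  push Not at hc
  have h4 : Nat.card (A.comap κ) * K.relIndex A ≤ 1 * 2 := Nat.mul_le_mul (by omega) h2
  omega

theorem fix_t0 (h : InX H M K T A) (E : Emb K κ F) (h0 : κ t0 ∈ A) {x : H} (hx : x ∈ A) : F x t0 = t0 :=
  E.comm_iff.1 (h.A_comm x hx _ h0)

theorem outer_index (h : InX H M K T A) (E : Emb K κ F) (h0 : κ t0 ∈ A) {x : H} (hx : x ∈ A) (hxK : x ∉ K) :
    8 ≤ (cv M ({x} : Set H)).index := by
  obtain ⟨κ', F', E', hF'⟩ := exists_phi E (h.el x hx) hxK (fix_t0 h E h0 hx)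
  exact eight_le h.sq h.faith E' (h.el x hx) hF'

theorem card_ge (h : InX H M K T A) (E : Emb K κ F) (h0 : κ t0 ∈ A) : 8 ≤ Nat.card A := by
  by_contra hlt
  push Not at hlt
  have h4 : Nat.card A = 4 := by
    obtain ⟨n, hn⟩ := IsPGroup.iff_card.1 h.A_two
    have h5 := h.four
    rw [hn] at hlt h5 ⊢
    have h6 : n < 3 := by
      by_contra hc
      have := Nat.pow_le_pow_right (n := 2) (by norm_num) (show 3 ≤ n by omega)
      omega
    interval_cases n
    · norm_num at h5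
    · norm_num at h5
    · rfl
  by_cases hAK : A ≤ K
  · -- a four-group of `K`
    have h5 : Nat.card (A.comap κ) = 4 := by
      have h6 := E.card_mul A
      rw [relIndex_eq_one.2 hAK, mul_one, h4] at h6
      exact h6
    obtain ⟨t, ht, ht1, ht0⟩ : ∃ t ∈ A.comap κ, t ≠ 1 ∧ t ≠ t0 := by
      by_contra hcon
      push Not at hcon
      classical
      have h3 : ((A.comap κ : Subgroup SU33) : Set SU33) ⊆ (({1, t0} : Finset SU33) : Set SU33) := by
        intro b hb
        by_cases hb1 : b = 1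
        · simp [hb1]
        · simp [hcon b hb hb1]
      have h7 := Set.ncard_le_ncard h3 (Finset.finite_toSet _)
      rw [Set.ncard_coe_finset] at h7
      have h8 : Nat.card (A.comap κ) ≤ 2 := h7.trans Finset.card_le_two
      omega
    refine four_index h.sq h.faith E (V := A.comap κ) (fun x hx => E.inj (by rw [map_mul, h.el _ hx, map_one])) h0 ht
      ht1 ht0 (C := cv M (A : Set H)) ?_ (by rw [h.exact, h4])
    intro g hg m hm
    exact mem_cv_singleton.2 (hm _ hg)
  · obtain ⟨x, hx, hxK⟩ := SetLike.not_le_iff_exists.1 hAK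
    have h5 := outer_index h E h0 hx hxK
    have h6 : (cv M ({x} : Set H)).index ≤ (cv M (A : Set H)).index :=
      index_le_of_le' (cv_anti (by simpa using hx))
    rw [h.exact, h4] at h6
    omega

theorem card_eight (h : InX H M K T A) (E : Emb K κ F) (h0 : κ t0 ∈ A) : Nat.card A = 8 := by
  refine le_antisymm ?_ (card_ge h E h0)
  have h1 : Nat.card (A.map F) = Nat.card A := card_map_of_injective E.injF
  have h2 := (RowU33.key (B := A.map F) (by
    rintro _ ⟨a, ha, rfl⟩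
    rw [← map_mul, h.el a ha, map_one]) (by rw [h1]; exact card_ge h E h0)).1
  rwa [h1] at h2

/-- the good position -/
structure Pos (A : Subgroup H) (C : Subgroup M) (κ : SU33 →* H) (F : H →* MulAut SU33) (x : H) : Prop where
  xA : x ∈ A
  Fx : F x = φ
  t0A : κ t0 ∈ A
  t1A : κ t1 ∈ A
  cx : cv M ({x} : Set H) = C
  cA : C = cv M (A : Set H)
  EE : (EE C : Subgroup H) = A

theorem exists_pos (h : InX H M K T A) (e : K ≃* SU33) :
    Nat.card A = 8 ∧ ∃ (κ : SU33 →* H) (F : H →* MulAut SU33) (x : H), Emb K κ F ∧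
      Pos A (cv M (A : Set H)) κ F x := by
  obtain ⟨κ₁, F₁, E₁, h0⟩ := exists_emb_t0 h e
  have h8 := card_eight h E₁ h0
  refine ⟨h8, ?_⟩
  have hV₁ : Nat.card (A.comap κ₁) ≤ 4 :=
    RowU33.inner_le h0 (fun b hb => E₁.inj (by rw [map_mul, h.el _ hb, map_one]))
  have hm₁ := E₁.card_mul A
  have hr₁ := E₁.relIndex_le A
  have hV4 : Nat.card (A.comap κ₁) = 4 ∧ K.relIndex A = 2 := by
    rw [h8] at hm₁
    interval_cases hK : K.relIndex A
    · omega
    · omega
    · exact ⟨by omega, rfl⟩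
  obtain ⟨x, hx, hxK⟩ : ∃ x ∈ A, x ∉ K := by
    by_contra hcon
    push Not at hcon
    have h6 : K.relIndex A = 1 := relIndex_eq_one.2 hcon
    omega
  set C := cv M (A : Set H) with hC
  have hout : ∀ y ∈ A, y ∉ K → cv M ({y} : Set H) = C := by
    intro y hy hyK
    have h2 := outer_index h E₁ h0 hy hyK
    have h3 : C ≤ cv M ({y} : Set H) := cv_anti (by simpa using hy)
    refine (Subgroup.eq_of_le_of_card_ge h3 ?_).symm
    have h4 := card_mul_index C
    have h5 := card_mul_index (cv M ({y} : Set H))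
    rw [h.exact, h8] at h4
    have h6 : Nat.card (cv M ({y} : Set H)) * 8 ≤ Nat.card C * 8 := by
      calc _ ≤ Nat.card (cv M ({y} : Set H)) * (cv M ({y} : Set H)).index := Nat.mul_le_mul_left _ h2
        _ = Nat.card C * 8 := by rw [h4, h5]
    omega
  have hEy : ∀ y ∈ A, y ∉ K → y ∈ (TIE.EE C : Subgroup H) := by
    intro y hy hyK
    refine ⟨fun m hm => hm y hy, fun m => ?_⟩
    rw [← hout y hy hyK]
    exact comm_mem h.sq (h.el y hy) m
  have hAE : A ≤ (TIE.EE C : Subgroup H) := by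
    intro a ha
    by_cases haK : a ∈ K
    · have h1 : x * a ∉ K := fun h2 => hxK (by
        have := mul_mem h2 (inv_mem haK)
        rwa [mul_inv_cancel_right] at this)
      have h2 := mul_mem (hEy x hx hxK) (hEy (x * a) (mul_mem hx ha) h1)
      rwa [← mul_assoc, h.el x hx, one_mul] at h2
    · exact hEy a ha haK
  have hEA : (TIE.EE C : Subgroup H) = A := by
    refine (Subgroup.eq_of_le_of_card_ge hAE ?_).symm
    have h1 : Nat.card ((TIE.EE C : Subgroup H).map F₁) = Nat.card (TIE.EE C : Subgroup H) :=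
      card_map_of_injective E₁.injF
    have h2 := (RowU33.key (B := (TIE.EE C : Subgroup H).map F₁) (by
      rintro _ ⟨a, ha, rfl⟩
      rw [← map_mul, EE_sq h.sq h.faith ha, map_one]) (by rw [h1, ← h8]; exact card_le_of_le hAE)).1
    rw [h8, ← h1]
    exact h2
  obtain ⟨κ, F, E, hF⟩ := exists_phi E₁ (h.el x hx) hxK (fix_t0 h E₁ h0 hx)
  -- `A ∩ K`
  have hm := E.card_mul A
  rw [hV4.2, h8] at hm
  have hV : Nat.card (A.comap κ) = 4 := by omega
  have hdiag := diag_of_real (V := A.comap κ) (fun v hv => E.inj (by rw [map_mul, h.el _ hv, map_one]))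
    (by
      intro v hv
      rw [← hF]
      exact E.comm_iff.1 (h.A_comm x hx _ hv))
    (by
      intro g hg v hv
      rw [mem_comap, map_mul, map_mul, map_inv, ← hEA]
      rw [mem_comap, ← hEA] at hv
      refine smul_mem_EE ?_ hv
      rw [← hout x hx hxK]
      refine stab_of_comm ?_
      have := E.comm_iff.2 (show F x g = g by rw [hF]; exact hg)
      exact this.symm)
  have hall : ∀ s : SU33, s ∈ ({t0, t1} : Set SU33) → s ∈ A.comap κ := by
    intro s hs
    by_contra hcon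
    classical
    obtain ⟨a, b, hab⟩ : ∃ a b : SU33, ((A.comap κ : Subgroup SU33) : Set SU33) ⊆ (({1, a, b} : Finset SU33) : Set SU33) := by
      rcases hs with rfl | rfl
      · refine ⟨t1, t0 * t1, fun y hy => ?_⟩
        rcases hdiag y hy with h1 | h1 | h1 | h1
        · simp [h1]
        · exact absurd (h1 ▸ hy) hcon
        · simp [h1]
        · simp [h1]
      · refine ⟨t0, t0 * t1, fun y hy => ?_⟩
        rcases hdiag y hy with h1 | h1 | h1 | h1
        · simp [h1]
        · simp [h1]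
        · exact absurd (h1 ▸ hy) hcon
        · simp [h1]
    have h7 := Set.ncard_le_ncard hab (Finset.finite_toSet _)
    rw [Set.ncard_coe_finset] at h7
    have h8' : Nat.card (A.comap κ) ≤ 3 := h7.trans Finset.card_le_three
    omega
  exact ⟨κ, F, x, E, ⟨hx, hF, hall t0 (by simp), hall t1 (by simp), hout x hx hxK, rfl, hEA⟩⟩

/-- a vector fixed by `K` is trivial -/
theorem eq_one_of_fix (h : InX H M K T A) {m : M} (hm : ∀ k ∈ K, k • m = m) : m = 1 := by
  have hK := h.norm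
  have h1 : ∀ x : H, ∀ w ∈ cv M (K : Set H), x • w ∈ cv M (K : Set H) := by
    intro x w hw k hk
    have h2 : x⁻¹ * k * x ∈ K := by
      have := hK.conj_mem k hk x⁻¹
      rwa [inv_inv] at this
    have h3 : (x⁻¹ * k * x) • w = w := hw _ h2
    calc k • x • w = x • ((x⁻¹ * k * x) • w) := by rw [mul_smul, mul_smul, smul_inv_smul]
      _ = x • w := by rw [h3]
  rcases h.irr _ h1 with h2 | h2
  · rw [← mem_bot, ← h2]
    exact fun k hk => hm k hk
  · exfalso
    have hsim := h.simple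
    obtain ⟨k, hk⟩ := exists_ne (1 : K)
    apply hk
    apply Subtype.ext
    refine h.faith _ fun m => ?_
    have h3 : m ∈ cv M (K : Set H) := h2 ▸ mem_top m
    exact h3 k k.2

/-- **`|M| = 64`** -/
theorem card_M (h : InX H M K T A) (h8 : Nat.card A = 8) (E : Emb K κ F) {x : H} {C : Subgroup M}
    (P : Pos A C κ F x) : Nat.card M = 64 := by
  set w : H := κ ww with hw
  have hwi : x * w * x⁻¹ = w⁻¹ := w_inv E P.Fx
  have hC8 : C.index = 8 := by rw [P.cA, h.exact, h8]
  set C' := C.map (MulDistribMulAction.toMulEquiv M w : M ≃* M).toMonoidHom with hC'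
  have hC'8 : C'.index = 8 := by rw [hC', index_map_tm, hC8]
  have hbot : C ⊓ C' = ⊥ := by
    rw [eq_bot_iff]
    rintro m ⟨h1, n, hn, hnm⟩
    have hnm' : w • n = m := hnm
    rw [mem_bot]
    have hx : x • m = m := by
      rw [P.cA] at h1
      exact h1 x P.xA
    have hxn : x • n = n := by
      rw [SetLike.mem_coe, P.cA] at hn
      exact hn x P.xA
    -- `w² m = m`
    have h2 : (w * w) • m = m := by
      have e1 : w * w = w * x * w⁻¹ * x⁻¹ := by
        have : x * w⁻¹ * x⁻¹ = w := by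
          rw [← hwi]
          have hxx := h.el x P.xA
          have hxi : x⁻¹ = x := inv_eq_of_mul_eq_one_right hxx
          calc x * (x * w * x⁻¹) * x⁻¹ = (x * x) * w * (x⁻¹ * x⁻¹) := by group
            _ = w := by rw [hxx, hxi, hxx, one_mul, mul_one]
        calc w * w = w * (x * w⁻¹ * x⁻¹) := by rw [this]
          _ = w * x * w⁻¹ * x⁻¹ := by group
      have e2 : x⁻¹ • m = m := by rw [inv_smul_eq_iff, hx]
      rw [e1, mul_smul, e2, mul_smul, ← hnm', inv_smul_smul, mul_smul, hxn]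
    have h3 : w • m = m := by
      have e1 : w = (w * w) * (w * w) * (w * w) * (w * w) := by
        have h7 : w ^ 7 = 1 := w_seven
        calc w = w ^ 7 * w := by rw [h7, one_mul]
          _ = w ^ (7 + 1) := (pow_succ w 7).symm
          _ = _ := by simp only [pow_succ, pow_zero, one_mul, mul_assoc]
      rw [e1, mul_smul, mul_smul, mul_smul, h2, h2, h2, h2]
    have h4 : (MulAction.stabilizer H m).comap κ = ⊤ := by
      refine gen ?_ ?_ ?_
      · rw [P.cA] at h1
        exact h1 _ P.t0A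
      · rw [P.cA] at h1
        exact h1 _ P.t1A
      · exact h3
    refine eq_one_of_fix h fun k hk => ?_
    obtain ⟨g, rfl⟩ := E.exists_of_mem hk
    have h5 : g ∈ (MulAction.stabilizer H m).comap κ := h4 ▸ mem_top g
    exact h5
  have h1 : Nat.card M ≤ 64 := by
    have h2 : (C ⊓ C').index ≤ C.index * C'.index := index_inf_le
    rw [hbot, index_bot, hC8, hC'8] at h2
    exact h2
  have h2 : 64 ≤ Nat.card M := by
    refine (sixtyfour h.sq h.faith E).trans ?_
    exact Nat.le_of_dvd Nat.card_pos (index_dvd_card _)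
  omega

/-- `C_M(⟨t0, t1⟩) = C_M(A)` -/
theorem mem_C (h : InX H M K T A) (h8 : Nat.card A = 8) (E : Emb K κ F) {x : H} {C : Subgroup M}
    (P : Pos A C κ F x) {m : M} (h0 : κ t0 • m = m) (h1 : κ t1 • m = m) : m ∈ C := by
  set C₁ := cv M ({κ t0} : Set H) ⊓ cv M ({κ t1} : Set H) with hC₁
  have hle : C ≤ C₁ := by
    intro n hn
    rw [P.cA] at hn
    exact ⟨mem_cv_singleton.2 (hn _ P.t0A), mem_cv_singleton.2 (hn _ P.t1A)⟩
  have hC8 : C.index = 8 := by rw [P.cA, h.exact, h8]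
  have h5 : C₁ = C := by
    refine (Subgroup.eq_of_le_of_card_ge hle ?_).symm
    have h4 : 4 < C₁.index := by
      by_contra hcon
      push Not at hcon
      have ht10 : t1 ≠ t0 := by
        intro h
        have := congrArg (fun x : SU33 => Cfsg.Agent.OddHalf.Small.U33.mt x 0 0) h
        exact absurd this (by change t1Mat 0 0 ≠ Cfsg.Agent.OddHalf.Small.U33.dg 0 0; decide +kernel)
      have ht11 : t1 ≠ 1 := by
        intro h
        have := congrArg (fun x : SU33 => Cfsg.Agent.OddHalf.Small.U33.mt x 0 0) h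
        exact absurd this (by change t1Mat 0 0 ≠ (1 : Matrix (Fin 3) (Fin 3) _) 0 0; decide +kernel)
      -- the four-group
      set V : Subgroup SU33 := A.comap κ ⊓ centralizer {t0} with hV
      refine four_index h.sq h.faith E (V := zpowers t0 ⊔ zpowers t1) ?_ ?_ ?_ ht11 ht10 (C := C₁) ?_ hcon
      · intro g hg
        have hg' : κ g ∈ A := by
          have : zpowers t0 ⊔ zpowers t1 ≤ A.comap κ := sup_le (zpowers_le.2 P.t0A) (zpowers_le.2 P.t1A)
          exact this hg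
        exact E.inj (by rw [map_mul, h.el _ hg', map_one])
      · exact mem_sup_left (mem_zpowers t0)
      · exact mem_sup_right (mem_zpowers t1)
      · intro g hg m hm
        have : zpowers t0 ⊔ zpowers t1 ≤ (MulAction.stabilizer H m).comap κ :=
          sup_le (zpowers_le.2 (mem_cv_singleton.1 hm.1)) (zpowers_le.2 (mem_cv_singleton.1 hm.2))
        exact mem_cv_singleton.2 (this hg)
    have h6 : 8 ≤ C₁.index := by
      obtain ⟨k, hk⟩ := index_pow (M := M) h.sq C₁
      rw [hk] at h4 ⊢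
      have h7 : 2 < k := by
        by_contra hc
        have := Nat.pow_le_pow_right (n := 2) (by norm_num) (show k ≤ 2 by omega)
        omega
      calc 8 = 2 ^ 3 := by norm_num
        _ ≤ 2 ^ k := Nat.pow_le_pow_right (by norm_num) h7
    have e4 := card_mul_index C
    have e5 := card_mul_index C₁
    rw [hC8] at e4
    have e6 : Nat.card C₁ * 8 ≤ Nat.card C * 8 := by
      calc _ ≤ Nat.card C₁ * C₁.index := Nat.mul_le_mul_left _ h6
        _ = Nat.card C * 8 := by rw [e4, e5]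
    omega
  rw [← h5]
  exact ⟨mem_cv_singleton.2 h0, mem_cv_singleton.2 h1⟩

/-- `κ(S)` normalises `C` -/
theorem smul_C (h : InX H M K T A) (h8 : Nat.card A = 8) (E : Emb K κ F) {x : H} {C : Subgroup M}
    (P : Pos A C κ F x) {c : SU33} (hc : c ∈ S) {m : M} (hm : m ∈ C) : κ c • m ∈ C := by
  have m0 : κ t0 • m = m := by rw [P.cA] at hm; exact hm _ P.t0A
  have m1 : κ t1 • m = m := by rw [P.cA] at hm; exact hm _ P.t1A
  refine mem_C h h8 E P ?_ ?_
  · rw [← mul_smul, ← map_mul, ← hc.1, map_mul, mul_smul, m0]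
  · have h1 : t1 * c = c * t1 ∨ t1 * c = c * (t0 * t1) := by
      rcases S_t1 hc with h2 | h2
      · exact Or.inl h2.symm
      · right
        calc t1 * c = (t0 * t0) * t1 * c := by rw [t0_t0, one_mul]
          _ = t0 * (t0 * t1 * c) := by group
          _ = t0 * (c * t1) := by rw [← h2]
          _ = (c * t0) * t1 := by rw [hc.1, mul_assoc]
          _ = c * (t0 * t1) := mul_assoc _ _ _
    rcases h1 with h2 | h2
    · rw [← mul_smul, ← map_mul, h2, map_mul, mul_smul, m1]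
    · rw [← mul_smul, ← map_mul, h2, map_mul, map_mul, mul_smul, mul_smul, m1, m0]

/-- a Sylow 2-subgroup -/
theorem exists_TA (E : Emb K κ F) {x : H} (hxx : x * x = 1) (hxK : x ∉ K) (hF : F x = φ) :
    IsPGroup 2 (zpowers x ⊔ S.map κ : Subgroup H) ∧ ¬ 2 ∣ (zpowers x ⊔ S.map κ : Subgroup H).index := by
  have hxi : x⁻¹ = x := inv_eq_of_mul_eq_one_right hxx
  have hfw : ∀ y ∈ S.map κ, x * y * x⁻¹ ∈ S.map κ := by
    rintro _ ⟨c, hc, rfl⟩
    rw [E.act, hF]
    exact ⟨φ c, φ_S hc, rfl⟩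
  have hn : zpowers x ≤ normalizer ((S.map κ : Subgroup H) : Set H) := by
    rw [zpowers_le]
    refine mem_normalizer_iff.2 fun y => ⟨hfw y, fun hy => ?_⟩
    have h1 := hfw _ hy
    have h2 : x * (x * y * x⁻¹) * x⁻¹ = y := by
      calc x * (x * y * x⁻¹) * x⁻¹ = (x * x) * y * (x⁻¹ * x⁻¹) := by group
        _ = y := by rw [hxx, hxi, hxx, one_mul, mul_one]
    rwa [h2] at h1
  have hx2 : IsPGroup 2 (zpowers x) := by
    rintro ⟨y, hy⟩
    refine ⟨1, Subtype.ext ?_⟩
    obtain ⟨k, rfl⟩ := mem_zpowers_iff.1 hy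
    show (x ^ k) ^ (2 ^ 1) = 1
    have h3 : x ^ (2 : ℤ) = 1 := by
      rw [show (2 : ℤ) = 1 + 1 from rfl, zpow_add, zpow_one, hxx]
    rw [← zpow_natCast, ← zpow_mul, mul_comm, zpow_mul]
    norm_num [h3]
  have h2 : IsPGroup 2 (zpowers x ⊔ S.map κ : Subgroup H) :=
    IsPGroup.to_sup_of_normal_right' hx2 (isPGroup_S.map κ) hn
  refine ⟨h2, ?_⟩
  set TA : Subgroup H := zpowers x ⊔ S.map κ with hTA
  have hS : Nat.card (S.map κ) = Nat.card S := card_map_of_injective E.inj
  have hlt : S.map κ < TA := by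
    refine lt_of_le_of_ne le_sup_right fun h => hxK ?_
    have h3 : x ∈ S.map κ := by rw [h]; exact mem_sup_left (mem_zpowers x)
    obtain ⟨c, -, hc⟩ := h3
    rw [← hc]
    exact E.mem c
  have h64 : 64 ≤ Nat.card TA := by
    obtain ⟨r, hr⟩ := card_dvd_of_le hlt.le
    have h3 : Nat.card (S.map κ) < Nat.card TA := by
      by_contra hc
      exact hlt.ne (Subgroup.eq_of_le_of_card_ge hlt.le (not_lt.1 hc))
    have h5 : 32 ≤ Nat.card (S.map κ) := by rw [hS]; exact Cfsg.Agent.OddHalf.D4.Small.KU33.card_S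
    have h6 : 2 ≤ r := by
      by_contra hc
      have h7 : r ≤ 1 := by omega
      have := Nat.mul_le_mul_left (Nat.card (S.map κ)) h7
      omega
    calc 64 = 32 * 2 := by norm_num
      _ ≤ _ := Nat.mul_le_mul h5 h6
      _ = Nat.card TA := hr.symm
  obtain ⟨n, hn'⟩ := IsPGroup.iff_card.1 h2
  have hK : Nat.card K = 6048 := by
    rw [← E.range, ← card_SU]
    exact (Nat.card_congr (MonoidHom.ofInjective E.inj).toEquiv).symm
  have hKi : K.index ≤ 2 := by
    have := E.relIndex_le ⊤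
    rwa [relIndex_top_right] at this
  have hH : Nat.card H ∣ 12096 := by
    have h3 := card_mul_index K
    have h4 : K.index ≠ 0 := index_ne_zero_of_finite
    rw [← h3, hK]
    have h5 : K.index = 1 ∨ K.index = 2 := by omega
    rcases h5 with h5 | h5 <;> rw [h5] <;> norm_num
  intro h3
  have h4 : 64 ∣ Nat.card TA := by
    rw [hn'] at h64 ⊢
    have h5 : 6 ≤ n := by
      by_contra hc
      have := Nat.pow_le_pow_right (n := 2) (by norm_num) (show n ≤ 5 by omega)
      omega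
    calc 64 = 2 ^ 6 := by norm_num
      _ ∣ 2 ^ n := pow_dvd_pow 2 h5
  have h5 : 128 ∣ Nat.card H := by
    rw [← card_mul_index TA]
    exact mul_dvd_mul h4 h3
  have h6 := h5.trans hH
  norm_num at h6

/-- **`|C_M(T)| ≤ 2`** -/
theorem card_fix (h : InX H M K T A) (h8 : Nat.card A = 8) (E : Emb K κ F) {x : H} {C : Subgroup M}
    (P : Pos A C κ F x) : Nat.card (cv M (T : Set H)) ≤ 2 := by
  have hxx := h.el x P.xA
  have hxK : x ∉ K := by
    intro hx
    obtain ⟨g, hg⟩ := E.exists_of_mem hx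
    have h1 := P.Fx
    rw [← hg, E.Fκ] at h1
    have h2 : ww⁻¹ = g * ww * g⁻¹ := by rw [← φ_ww, ← h1, MulAut.conj_apply]
    have hD : Cfsg.Agent.OddHalf.D6.RThree.U33.f ∈ (MulAut.conj : SU33 →* MulAut SU33).range := by
      refine ⟨gi * g, ?_⟩
      rw [map_mul, h1]
      rfl
    exact Cfsg.Agent.OddHalf.D6.RThree.U33.f_outer hD
  obtain ⟨hT2, hTi⟩ := exists_TA E hxx hxK P.Fx
  set TA : Subgroup H := zpowers x ⊔ S.map κ with hTA
  -- conjugacy
  have hconj : ∃ g : H, ∀ y ∈ TA, g * y * g⁻¹ ∈ T := by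
    obtain ⟨g, hg⟩ := MulAction.exists_smul_eq H (IsPGroup.toSylow hT2 hTi) (IsPGroup.toSylow h.two h.syl)
    refine ⟨g, fun y hy => ?_⟩
    have h1 : g * y * g⁻¹ ∈ (g • (IsPGroup.toSylow hT2 hTi) : Sylow 2 H) := by
      change g * y * g⁻¹ ∈ ((g • (IsPGroup.toSylow hT2 hTi) : Sylow 2 H) : Subgroup H)
      rw [Sylow.coe_subgroup_smul]
      exact ⟨y, hy, rfl⟩
    rw [hg] at h1
    exact h1
  obtain ⟨g, hg⟩ := hconj
  have hle : Nat.card (cv M (T : Set H)) ≤ Nat.card (cv M (TA : Set H)) := by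
    refine Nat.card_le_card_of_injective (fun m : cv M (T : Set H) => (⟨g⁻¹ • (m : M), ?_⟩ : cv M (TA : Set H))) ?_
    · intro y hy
      have h1 : (g * y * g⁻¹) • (m : M) = m := m.2 _ (hg y hy)
      calc y • g⁻¹ • (m : M) = g⁻¹ • ((g * y * g⁻¹) • (m : M)) := by
            rw [mul_smul, mul_smul, inv_smul_smul]
        _ = g⁻¹ • (m : M) := by rw [h1]
    · intro a b hab
      have h1 : g⁻¹ • (a : M) = g⁻¹ • (b : M) := congrArg Subtype.val hab
      exact Subtype.ext (smul_left_cancel _ h1)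
  refine hle.trans ?_
  set U := cv M (TA : Set H) with hU
  by_contra hcon
  push Not at hcon
  have hUC : U ≤ C := by
    rw [← P.cx]
    intro m hm
    exact mem_cv_singleton.2 (hm x (mem_sup_left (mem_zpowers x)))
  have hUS : ∀ c ∈ S, ∀ u ∈ U, κ c • u = u := fun c hc u hu => hu _ (mem_sup_right ⟨c, hc, rfl⟩)
  have hM := card_M h h8 E P
  have hC8 : Nat.card C = 8 := by
    have h1 := card_mul_index C
    rw [P.cA, h.exact, h8, ← P.cA, hM] at h1
    omega
  -- `|C : U| ≤ 2`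
  have hrel : (U.subgroupOf C).index ≤ 2 := by
    have h1 := card_mul_index (U.subgroupOf C)
    have h2 : Nat.card (U.subgroupOf C) = Nat.card U := Nat.card_congr (subgroupOfEquivOfLe hUC).toEquiv
    rw [h2, hC8] at h1
    by_contra hc
    push Not at hc
    have := Nat.mul_le_mul hcon hc
    omega
  have hstep : ∀ c ∈ S, ∀ m ∈ C, (κ c • m) * m⁻¹ ∈ U := by
    intro c hc m hm
    have hcm := smul_C h h8 E P hc hm
    by_cases h1 : (U.subgroupOf C).index = 2
    · have h2 := mul_mem_iff_of_index_two h1 (a := ⟨κ c • m, hcm⟩) (b := ⟨m, hm⟩⁻¹)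
      have h3 : (κ c • m ∈ U ↔ m ∈ U) := by
        constructor
        · intro h4
          have h5 := hUS c⁻¹ (inv_mem hc) _ h4
          rw [map_inv, inv_smul_smul] at h5
          rw [h5]
          exact h4
        · intro h4
          rw [hUS c hc m h4]
          exact h4
      have h6 : ((⟨κ c • m, hcm⟩ : C) * (⟨m, hm⟩ : C)⁻¹) ∈ U.subgroupOf C := by
        rw [h2, mem_subgroupOf, mem_subgroupOf]
        show κ c • m ∈ U ↔ m⁻¹ ∈ U
        rw [inv_mem_iff]
        exact h3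
      exact h6
    · have h4 : (U.subgroupOf C).index ≠ 0 := index_ne_zero_of_finite
      have h5 : (U.subgroupOf C).index = 1 := by omega
      rw [index_eq_one, subgroupOf_eq_top] at h5
      exact mul_mem (h5 hcm) (inv_mem (h5 hm))
  have hcomm : ∀ a b : M, a * b = b * a := mcomm h.sq
  -- `gj` fixes `C`
  have hj : ∀ m ∈ C, κ gj • m = m := by
    intro m hm
    have u1 := hstep gi gi_S m hm
    have u2 := hstep uu uu_S m hm
    set a := (κ gi • m) * m⁻¹ with ha
    set b := (κ uu • m) * m⁻¹ with hb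
    have e1 : κ gi • m = a * m := by rw [ha, inv_mul_cancel_right]
    have e2 : κ uu • m = b * m := by rw [hb, inv_mul_cancel_right]
    clear_value a b
    have h1 : κ gi • κ uu • m = b * (a * m) := by rw [e2, smul_mul', hUS gi gi_S b u2, e1]
    have h2 : κ gj • κ uu • κ gi • m = a * (b * (κ gj • m)) := by
      rw [e1, smul_mul', hUS uu uu_S a u1, e2, smul_mul', smul_mul']
      have hgjS : gj ∈ S := Cfsg.Agent.OddHalf.D4.Small.KU33.Q_le_S Cfsg.Agent.OddHalf.D4.Small.KU33.gj_Q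
      rw [hUS gj hgjS a u1, hUS gj hgjS b u2]
    have h3 : κ gi • κ uu • m = κ gj • κ uu • κ gi • m := by
      rw [← mul_smul, ← map_mul, comm_word, map_mul, map_mul, mul_smul, mul_smul]
    rw [h1, h2, ← mul_assoc, ← mul_assoc, hcomm b a] at h3
    exact (mul_left_cancel h3).symm
  -- `gj ∈ A`
  have hjA : κ gj ∈ A := by
    rw [← P.EE]
    refine ⟨hj, fun m => ?_⟩
    have hfix : ∀ s : SU33, κ s ∈ A → gj * s = s * gj → κ s • ((κ gj • m) * m⁻¹) = (κ gj • m) * m⁻¹ := by
      intro s hs hsj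
      rw [← P.EE] at hs
      have hd := hs.2 m
      set d := (κ s • m) * m⁻¹ with hd'
      have e1 : κ s • m = d * m := by rw [hd', inv_mul_cancel_right]
      rw [smul_mul', smul_inv', ← mul_smul, ← map_mul, ← hsj, map_mul, mul_smul, e1, smul_mul', hj d hd, mul_inv_rev,
        hcomm d (κ gj • m)]
      calc κ gj • m * d * (m⁻¹ * d⁻¹) = κ gj • m * (d * (m⁻¹ * d⁻¹)) := mul_assoc _ _ _
        _ = κ gj • m * (d * (d⁻¹ * m⁻¹)) := by rw [hcomm m⁻¹ d⁻¹]
        _ = κ gj • m * m⁻¹ := by rw [mul_inv_cancel_left]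
    exact mem_C h h8 E P (hfix t0 P.t0A gj_t0) (hfix t1 P.t1A gj_t1)
  have h1 := h.el _ hjA
  rw [← map_mul, gj_gj] at h1
  exact t0_ne (E.inj (by rw [h1, map_one]))

/-- **The exit `U₃(3)`.** -/
theorem u33' (h : InX H M K T A) (e : Nonempty (K ≃* SU33)) :
    Nat.card A = 8 ∧ Nat.card M = 64 ∧ Nat.card (cv M (T : Set H)) ≤ 2 := by
  obtain ⟨e⟩ := e
  obtain ⟨h8, κ, F, x, E, P⟩ := exists_pos h e
  exact ⟨h8, card_M h h8 E P, card_fix h h8 E P⟩

open Cfsg.Agent.Classification.RTwo.UThreeThree (K9 card_k9 psuEquiv) in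
/-- **The exit `U₃(3)`**, over `Rows.IsUThreeThree`. -/
theorem u33 (h : InX H M K T A) (hK : Cfsg.Agent.Omega.ML.Rows.IsUThreeThree K) :
    Nat.card A = 8 ∧ Nat.card M = 64 ∧ Nat.card (cv M (T : Set H)) ≤ 2 := by
  obtain ⟨F, _, _, hF, ⟨e⟩⟩ := hK
  have hcard : Fintype.card F = Fintype.card K9 := by rw [hF, card_k9]
  let g : F ≃+* K9 := FiniteField.ringEquivOfCardEq hcard
  exact u33' h ⟨e.trans ((psuEquiv hF).trans (LieClassical.FieldTransfer.suCongr 3 3 g))⟩

theorem dead_three (h : InX H M K T A) (hK : Cfsg.Agent.Omega.ML.Rows.IsUThreeThree K)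
    (hF : 3 ≤ Nat.card (cv M (T : Set H))) : False := by
  have h1 := (u33 h hK).2.2
  omega

theorem dead_four (h : InX H M K T A) (hK : Cfsg.Agent.Omega.ML.Rows.IsUThreeThree K)
    (hF : 4 ≤ Nat.card (cv M (T : Set H))) : False := by
  have h1 := (u33 h hK).2.2
  omega

/-- two different non-trivial `T`-fixed vectors -/
theorem dead_two (h : InX H M K T A) (hK : Cfsg.Agent.Omega.ML.Rows.IsUThreeThree K) {x y : M} (x1 : x ≠ 1)
    (y1 : y ≠ 1) (xy : x ≠ y) (tx : ∀ t ∈ T, t • x = x) (ty : ∀ t ∈ T, t • y = y) : False := by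
  have h1 := (u33 h hK).2.2
  classical
  have h2 : (({1, x, y} : Finset M) : Set M) ⊆ (cv M (T : Set H) : Set M) := by
    intro m hm
    simp only [Finset.coe_insert, Finset.coe_singleton, Set.mem_insert_iff, Set.mem_singleton_iff] at hm
    rcases hm with rfl | rfl | rfl
    · exact one_mem _
    · exact tx
    · exact ty
  have h3 := Set.ncard_le_ncard h2 (Set.toFinite _)
  rw [Set.ncard_coe_finset, Finset.card_insert_of_notMem (by simp [x1.symm, y1.symm]),
    Finset.card_pair xy] at h3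
  have h4 : (cv M (T : Set H) : Set M).ncard = Nat.card (cv M (T : Set H)) := rfl
  omega

end row

end Cfsg.Agent.Omega.ML.Ex.RowU33X

end

section


/-!
# (E4) of EXT: the exit `U₃(3)` with two fixed vectors (helper919)
-/

set_option autoImplicit false

namespace Cfsg.Agent.Omega.ML.Ex.Two

universe u v

/-- **(E4).** -/
theorem uThreeT : UThreeT.{u, v} := by
  intro H _ _ M _ _ _ K T A x y hI _ hm hK
  refine RowU33X.dead_two hI hK hm.x1 hm.y1 ?_ hm.tx hm.ty
  rintro rfl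
  obtain ⟨R, -, h1, r, hr, h2⟩ := hm.mv
  exact h2 (h1 r hr)

end Cfsg.Agent.Omega.ML.Ex.Two

end

section


/-!
# THEOREM IRR (helper410 #22122 (A)), parts (a), (b)

`X = KT` is faithful and irreducible on `M`, `K` normal and simple, `C_X(K) = 1`, `1 ≠ A ≤ T` exact, sub-exact and low.

* `Dec H M K S M₁` : `S` is a simple `K`-submodule, all conjugates of `S` which are `≠ S` are in `M₁`, `S ∩ M₁ = 1`,
  `N_H(S)` normalises `M₁`;
* `Sit.inv` : a minimal exact `A` normalises `S`;  `Sit.le_relIndex` : `|A| ≤ |S : C_S(A)|`;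
* **`Sit.bot`**, **`Sit.eq_top`** : `M₁ = 1`, `S = M`;
* **`InX.eq_top_of_dec`** : the same for `InX` (a minimal exact subgroup of `A` is an atom).
-/

set_option autoImplicit false

namespace Cfsg.Agent.Omega.ML.Ex.IrrAB

open Subgroup Cfsg Cfsg.Agent.ClassTwoFusion.Quad Cfsg.Agent.Omega.NOThree.NoOver Cfsg.Agent.Omega.ML.CD
open Cfsg.Agent.Omega.ML.MinFrame Cfsg.Agent.Omega.ML.Final Cfsg.Agent.ZN Cfsg.Agent.MinSimple.VModule

universe u v

/-- A simple `K`-submodule `S` of `M` with all the other conjugates in `M₁`, `S ∩ M₁ = 1`. -/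
structure Dec (H : Type u) [Group H] (M : Type v) [Group M] [MulDistribMulAction H M] (K : Subgroup H)
    (S M₁ : Subgroup M) : Prop where
  ne : S ≠ ⊥
  inv : ∀ k ∈ K, ∀ s ∈ S, k • s ∈ S
  simple : ∀ W ≤ S, (∀ k ∈ K, ∀ w ∈ W, k • w ∈ W) → W = ⊥ ∨ W = S
  inf : S ⊓ M₁ = ⊥
  alt : ∀ x : H, (∀ s ∈ S, x • s ∈ S) ∨ (∀ s ∈ S, x • s ∈ M₁)
  inv₁ : ∀ x : H, (∀ s ∈ S, x • s ∈ S) → ∀ m ∈ M₁, x • m ∈ M₁

/-- The situation of THEOREM IRR, for an exact `A` which is an atom. -/
structure Sit (H : Type u) [Group H] (M : Type v) [Group M] [MulDistribMulAction H M] (K T A : Subgroup H) :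
    Prop where
  sq : ∀ m : M, m * m = 1
  faith : ∀ h : H, (∀ m : M, h • m = m) → h = 1
  irr : ∀ W : Subgroup M, (∀ h : H, ∀ w ∈ W, h • w ∈ W) → W = ⊥ ∨ W = ⊤
  norm : K.Normal
  simple : IsSimpleGroup K
  cen : centralizer (K : Set H) = ⊥
  gen : K ⊔ T = ⊤
  two : IsPGroup 2 T
  syl : ¬ 2 ∣ T.index
  AT : A ≤ T
  el : ∀ a ∈ A, a * a = 1
  ne : A ≠ ⊥
  exact : (cv M (A : Set H)).index = Nat.card A
  sub : ∀ C : Subgroup H, C ≤ A → Nat.card C ≤ (cv M (C : Set H)).index
  low : ∀ R : Subgroup H, T ≤ R → R ≠ ⊤ → A ≤ o2 R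
  atm : ∀ C : Subgroup H, C ≤ A → C ≠ ⊥ → C ≠ A → Nat.card C < (cv M (C : Set H)).index

variable {H : Type u} [Group H] [Finite H] {M : Type v} [Group M] [Finite M] [MulDistribMulAction H M]

/-- `N_H(S)` -/
def nrm (H : Type u) [Group H] [Finite H] {M : Type v} [Group M] [MulDistribMulAction H M] (S : Subgroup M) :
    Subgroup H where
  carrier := {x | ∀ s ∈ S, x • s ∈ S}
  one_mem' := fun s hs => by rwa [one_smul]
  mul_mem' := fun {x y} hx hy s hs => by
    rw [mul_smul]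
    exact hx _ (hy s hs)
  inv_mem' := fun {x} hx s hs => by
    have h1 : ∀ n : ℕ, ∀ s ∈ S, x ^ n • s ∈ S := by
      intro n
      induction n with
      | zero => intro s hs; rwa [pow_zero, one_smul]
      | succ n ih => intro s hs; rw [pow_succ, mul_smul]; exact ih _ (hx s hs)
    have h2 : x⁻¹ = x ^ (orderOf x - 1) := by
      rw [← mul_eq_one_iff_inv_eq, ← pow_succ']
      rw [Nat.sub_add_cancel (orderOf_pos x), pow_orderOf_eq_one]
    rw [h2]
    exact h1 _ s hs

omit [Finite M] in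
theorem mem_nrm {S : Subgroup M} {x : H} : x ∈ nrm H S ↔ ∀ s ∈ S, x • s ∈ S := Iff.rfl

namespace Dec

variable {K : Subgroup H} {S M₁ : Subgroup M}

omit [Finite M] in
theorem K_le (d : Dec H M K S M₁) : K ≤ nrm H S := fun k hk => d.inv k hk

omit [Finite M] in
theorem not_mem (d : Dec H M K S M₁) {x : H} (hx : x ∉ nrm H S) : ∀ s ∈ S, x • s ∈ M₁ :=
  (d.alt x).resolve_left hx

omit [Finite M] [Finite H] in
theorem eq_one (d : Dec H M K S M₁) {s : M} (hs : s ∈ S) (h1 : s ∈ M₁) : s = 1 := by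
  have : s ∈ S ⊓ M₁ := ⟨hs, h1⟩
  rwa [d.inf, mem_bot] at this

omit [Finite M] [Finite H] in
/-- uniqueness of the components -/
theorem uniq (d : Dec H M K S M₁) {s s' u u' : M} (hs : s ∈ S) (hs' : s' ∈ S) (hu : u ∈ M₁) (hu' : u' ∈ M₁)
    (h : s * u = s' * u') : s = s' ∧ u = u' := by
  have h1 : s'⁻¹ * s = u' * u⁻¹ := by
    rw [inv_mul_eq_iff_eq_mul, ← mul_assoc, ← h, mul_inv_cancel_right]
  have h2 := d.eq_one (s := s'⁻¹ * s) (mul_mem (inv_mem hs') hs) (h1 ▸ mul_mem hu' (inv_mem hu))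
  have h3 : s = s' := (inv_mul_eq_one.1 h2).symm
  refine ⟨h3, ?_⟩
  rw [h3] at h
  exact mul_left_cancel h

end Dec

namespace Sit

variable {K T A : Subgroup H} {S M₁ : Subgroup M}

omit [Finite H] [Finite M] in
theorem comm (h : Sit H M K T A) (x y : M) : x * y = y * x := comm_of_sq h.sq x y

omit [Finite H] [Finite M] in
theorem inv_eq (h : Sit H M K T A) (x : M) : x⁻¹ = x := inv_eq_of_mul_eq_one_right (h.sq x)

omit [Finite H] [Finite M] in
theorem K_ne (h : Sit H M K T A) : K ≠ ⊥ := by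
  intro h1
  have hsim := h.simple
  obtain ⟨x, hx⟩ := exists_ne (1 : K)
  exact hx (Subtype.ext (mem_bot.1 (h1 ▸ x.2)))

omit [Finite H] [Finite M] in
theorem normM (h : Sit H M K T A) (W : Subgroup M) : W.Normal :=
  ⟨fun x hx g => by rw [h.comm g x, mul_inv_cancel_right]; exact hx⟩

omit [Finite M] [Finite H] in
/-- `C_H(S) = 1` -/
theorem fxr_eq (h : Sit H M K T A) (d : Dec H M K S M₁) : fxr H S = ⊥ := by
  have hKn := h.norm
  have hsim := h.simple
  have hinvK : ∀ k ∈ K, ∀ f ∈ fxr H S, k * f * k⁻¹ ∈ fxr H S := fun k hk f hf =>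
    conj_mem_fxr (R := K) (fun g hg m hm => d.inv g hg m hm) hk hf
  have h1 : fxr H S ⊓ K = ⊥ := by
    have hn : ((fxr H S).subgroupOf K).Normal := by
      constructor
      intro f hf g
      exact hinvK g g.2 f hf
    rcases IsSimpleGroup.eq_bot_or_eq_top_of_normal _ hn with h2 | h2
    · exact (subgroupOf_eq_bot.1 h2).eq_bot
    · exfalso
      have h3 : K ≤ fxr H S := subgroupOf_eq_top.1 h2
      have h4 : cv M (K : Set H) = ⊤ := by
        refine (h.irr (cv M (K : Set H)) ?_).resolve_left fun h4 => d.ne (eq_bot_iff.2 fun s hs => ?_)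
        · intro g m hm k hk
          have h5 : g⁻¹ * k * g ∈ K := by
            have := hKn.conj_mem k hk g⁻¹
            rwa [inv_inv] at this
          have h6 := hm _ h5
          rw [mul_smul, mul_smul, inv_smul_eq_iff] at h6
          exact h6
        · rw [← h4]
          exact fun k hk => h3 hk s hs
      apply h.K_ne
      rw [eq_bot_iff]
      intro k hk
      rw [mem_bot]
      exact h.faith k fun m => (h4 ▸ mem_top m : m ∈ cv M (K : Set H)) k hk
  rw [eq_bot_iff, ← h.cen]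
  intro f hf
  refine mem_centralizer_iff.2 fun k hk => ?_
  have h2 : k * f * k⁻¹ * f⁻¹ ∈ fxr H S ⊓ K := by
    refine ⟨(fxr H S).mul_mem (hinvK k hk f hf) ((fxr H S).inv_mem hf), ?_⟩
    have h3 := hKn.conj_mem k⁻¹ (K.inv_mem hk) f
    have e : k * f * k⁻¹ * f⁻¹ = k * (f * k⁻¹ * f⁻¹) := by group
    rw [e]
    exact K.mul_mem hk h3
  rw [h1, mem_bot, mul_inv_eq_one, mul_inv_eq_iff_eq_mul] at h2
  exact h2

omit [Finite H] in
/-- `|S| > 2` -/
theorem two_lt (h : Sit H M K T A) (d : Dec H M K S M₁) : 2 < Nat.card S := by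
  by_contra hc
  apply h.K_ne
  rw [eq_bot_iff, ← h.fxr_eq d]
  intro k hk s hs
  by_cases h1 : s = 1
  · rw [h1, smul_one]
  by_contra h2
  have h3 : ({1, s, k • s} : Set M) ⊆ S := by
    rintro x (rfl | rfl | rfl)
    · exact one_mem _
    · exact hs
    · exact d.inv k hk s hs
  have h4 : ({1, s, k • s} : Set M).ncard = 3 := by
    rw [Set.ncard_eq_three]
    refine ⟨1, s, k • s, Ne.symm h1, fun h5 => h1 ?_, fun h5 => h2 h5.symm, rfl⟩
    rw [eq_comm, ← smul_one k] at h5
    exact smul_left_cancel k h5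
  have h5 := Set.ncard_le_ncard h3 (Set.toFinite _)
  rw [h4, ← Nat.card_coe_set_eq] at h5
  have h6 : Nat.card (S : Set M) = Nat.card S := rfl
  omega

omit [Finite M] [Finite H] in
theorem sup_eq (h : Sit H M K T A) (d : Dec H M K S M₁) : S ⊔ M₁ = ⊤ := by
  let J : Subgroup M := Subgroup.closure {m | ∃ x : H, ∃ s ∈ S, m = x • s}
  have h1 : J = ⊤ := by
    refine (h.irr J fun g w hw => ?_).resolve_left fun h2 => d.ne (eq_bot_iff.2 fun s hs => ?_)
    · have h2 : J ≤ J.comap (MulDistribMulAction.toMonoidHom M g) := by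
        change Subgroup.closure _ ≤ _
        rw [Subgroup.closure_le]
        rintro _ ⟨x, s, hs, rfl⟩
        exact Subgroup.subset_closure ⟨g * x, s, hs, (mul_smul _ _ _).symm⟩
      exact h2 hw
    · rw [← h2]
      exact Subgroup.subset_closure ⟨1, s, hs, (one_smul _ _).symm⟩
  rw [eq_top_iff, ← h1]
  change Subgroup.closure _ ≤ _
  rw [Subgroup.closure_le]
  rintro _ ⟨x, s, hs, rfl⟩
  rcases d.alt x with h2 | h2
  · exact mem_sup_left (h2 s hs)
  · exact mem_sup_right (h2 s hs)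

omit [Finite M] [Finite H] in
theorem exists_comp (h : Sit H M K T A) (d : Dec H M K S M₁) (m : M) : ∃ s ∈ S, ∃ u ∈ M₁, m = s * u := by
  have hn := h.normM M₁
  have h1 : m ∈ S ⊔ M₁ := by rw [h.sup_eq d]; exact mem_top m
  obtain ⟨s, hs, u, hu, h2⟩ := mem_sup_of_normal_right.1 h1
  exact ⟨s, hs, u, hu, h2.symm⟩

omit [Finite M] [Finite H] in
/-- a `T`-fixed vector `≠ 1` has a nontrivial component in `S` -/
theorem comp_ne (h : Sit H M K T A) (d : Dec H M K S M₁) {s u : M} (hs : s ∈ S) (hu : u ∈ M₁)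
    (hT : ∀ t ∈ T, t • (s * u) = s * u) (h1 : s * u ≠ 1) : s ≠ 1 := by
  rintro rfl
  rw [one_mul] at hT h1
  let J : Subgroup M :=
    { carrier := {m | ∀ x : H, x • m ∈ M₁}
      one_mem' := fun x => by rw [smul_one]; exact one_mem _
      mul_mem' := fun {a b} ha hb x => by rw [smul_mul']; exact mul_mem (ha x) (hb x)
      inv_mem' := fun {a} ha x => by rw [smul_inv']; exact inv_mem (ha x) }
  have hJ : J = ⊥ := by
    refine (h.irr J fun g w hw x => ?_).resolve_right fun h2 => d.ne (eq_bot_iff.2 fun s hs => ?_)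
    · rw [← mul_smul]
      exact hw _
    · have h3 : s ∈ J := h2 ▸ mem_top s
      have h4 := h3 1
      rw [one_smul] at h4
      exact mem_bot.2 (d.eq_one hs h4)
  apply h1
  rw [← mem_bot, ← hJ]
  intro x
  have hx : x ∈ K ⊔ T := by rw [h.gen]; exact mem_top x
  have hKn := h.norm
  obtain ⟨k, hk, t, ht, rfl⟩ := mem_sup_of_normal_left.1 hx
  rw [mul_smul, hT t ht]
  exact d.inv₁ k (d.inv k hk) u hu

/-! ### (a) `A` normalises `S` -/

omit [Finite H] in
/-- hyperplanes -/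
theorem cv_eq (h : Sit H M K T A) {D : Subgroup H} (hD : D ≤ A) (h1 : D ≠ ⊥) (h2 : Nat.card A ≤ 2 * Nat.card D) :
    cv M (D : Set H) = cv M (A : Set H) := by
  by_cases hDA : D = A
  · rw [hDA]
  have hle : cv M (A : Set H) ≤ cv M (D : Set H) := cv_anti (SetLike.coe_subset_coe.2 hD)
  refine le_antisymm ?_ hle
  rw [← relIndex_eq_one]
  have h3 := h.atm D hD h1 hDA
  have h4 : (cv M (A : Set H)).relIndex (cv M (D : Set H)) * (cv M (D : Set H)).index =
      (cv M (A : Set H)).index := relIndex_mul_index hle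
  rw [h.exact] at h4
  have h5 : (cv M (A : Set H)).relIndex (cv M (D : Set H)) ≠ 0 := relIndex_ne _ _
  by_contra h6
  have h7 : 2 ≤ (cv M (A : Set H)).relIndex (cv M (D : Set H)) := by omega
  have h8 : 2 * (cv M (D : Set H)).index ≤ Nat.card A := by
    rw [← h4]
    exact Nat.mul_le_mul_right _ h7
  omega

omit [Finite H] [Finite M] in
theorem A_comm (h : Sit H M K T A) {a b : H} (ha : a ∈ A) (hb : b ∈ A) : a * b = b * a := by
  have h1 : ∀ z ∈ A, z⁻¹ = z := fun z hz => inv_eq_of_mul_eq_one_right (h.el z hz)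
  calc a * b = (a * b)⁻¹ := (h1 _ (A.mul_mem ha hb)).symm
    _ = b⁻¹ * a⁻¹ := mul_inv_rev _ _
    _ = b * a := by rw [h1 _ ha, h1 _ hb]

omit [Finite M] in
/-- a hyperplane of `A` over `A₁ < A` -/
theorem exists_hyp (h : Sit H M K T A) {A₁ : Subgroup H} (h1 : A₁ < A) :
    ∃ D, A₁ ≤ D ∧ D < A ∧ Nat.card A ≤ 2 * Nat.card D := by
  obtain ⟨D, ⟨hD1, hD2⟩, hmax⟩ := Set.exists_max_image {D : Subgroup H | A₁ ≤ D ∧ D < A} (fun D => Nat.card D)
    (Set.toFinite _) ⟨A₁, le_rfl, h1⟩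
  refine ⟨D, hD1, hD2, ?_⟩
  obtain ⟨a, ha, haD⟩ := SetLike.exists_of_lt hD2
  have hD3 : D < adj D a (h.el a ha) (fun b hb => h.A_comm ha (hD2.le hb)) := by
    rw [SetLike.lt_iff_le_and_exists]
    refine ⟨fun b hb => mem_adj.2 (Or.inl hb), a, mem_adj.2 (Or.inr ?_), haD⟩
    rw [h.el a ha]
    exact one_mem _
  have hD4 : adj D a (h.el a ha) (fun b hb => h.A_comm ha (hD2.le hb)) ≤ A := by
    rintro x (hx | hx)
    · exact hD2.le hx
    · have h2 := A.mul_mem (hD2.le hx) ha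
      rwa [mul_assoc, h.el a ha, mul_one] at h2
  have hD5 : adj D a (h.el a ha) (fun b hb => h.A_comm ha (hD2.le hb)) = A := by
    by_contra hc
    have h3 := hmax _ ⟨hD1.trans hD3.le, lt_of_le_of_ne hD4 hc⟩
    have h4 := Set.ncard_lt_ncard (SetLike.coe_ssubset_coe.2 hD3) (Set.toFinite _)
    rw [← Nat.card_coe_set_eq, ← Nat.card_coe_set_eq] at h4
    exact absurd h4 (not_lt.2 h3)
  rw [← hD5]
  have h6 : ((adj D a (h.el a ha) (fun b hb => h.A_comm ha (hD2.le hb)) : Subgroup H) : Set H) ⊆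
      (D : Set H) ∪ (fun x => x * a) '' (D : Set H) := by
    rintro x (hx | hx)
    · exact Or.inl hx
    · refine Or.inr ⟨x * a, hx, ?_⟩
      change x * a * a = x
      rw [mul_assoc, h.el a ha, mul_one]
  have h7 := Set.ncard_le_ncard h6 (Set.toFinite _)
  have h8 := h7.trans (Set.ncard_union_le _ _)
  have h9 : ((fun x => x * a) '' (D : Set H)).ncard ≤ (D : Set H).ncard := Set.ncard_image_le (Set.toFinite _)
  rw [← Nat.card_coe_set_eq] at h8
  rw [← Nat.card_coe_set_eq (D : Set H)] at h8 h9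
  have h10 : Nat.card (D : Set H) = Nat.card D := rfl
  change Nat.card (((adj D a (h.el a ha) (fun b hb => h.A_comm ha (hD2.le hb)) : Subgroup H) : Set H)) ≤ _
  omega

/-- **(a)** `A` normalises `S` -/
theorem A_le (h : Sit H M K T A) (d : Dec H M K S M₁) : A ≤ nrm H S := by
  classical
  by_contra hc
  have hlt : A ⊓ nrm H S < A := lt_of_le_of_ne inf_le_left fun h1 => hc (inf_eq_left.1 h1)
  obtain ⟨D, hD1, hD2, hD3⟩ := h.exists_hyp hlt
  obtain ⟨a, ha, haD⟩ := SetLike.exists_of_lt hD2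
  have haS : ∀ b ∈ A, b ∉ D → b ∉ nrm H S := fun b hb hbD hbS => hbD (hD1 ⟨hb, hbS⟩)
  by_cases hDb : D = ⊥
  · -- `|A| = 2`
    have h1 : Nat.card A ≤ 2 := by rwa [hDb, card_bot] at hD3
    have h2 : cv M (A : Set H) ⊓ S = ⊥ := by
      rw [eq_bot_iff]
      rintro s ⟨hs1, hs2⟩
      have h3 := d.not_mem (haS a ha haD) s hs2
      rw [hs1 a ha] at h3
      exact mem_bot.2 (d.eq_one hs2 h3)
    have h3 : (cv M (A : Set H)).relIndex S = Nat.card S := by
      rw [← inf_relIndex_right, h2, relIndex_bot_left]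
    have h4 : (cv M (A : Set H)).relIndex S ≤ (cv M (A : Set H)).index := by
      rw [← relIndex_top_right]
      exact relIndex_le_of_le_right le_top (relIndex_ne _ _)
    have h5 := h.two_lt d
    rw [h3, h.exact] at h4
    omega
  · have hcv := h.cv_eq hD2.le hDb hD3
    -- a vector of `S` fixed by `N_A(S)`
    obtain ⟨s, hs, hs1, hsA⟩ := exists_fixed (H := H) h.sq (B := A ⊓ nrm H S) (h.two.to_le (inf_le_left.trans h.AT))
      d.ne (fun b hb x hx => hb.2 x hx)
    let _ : CommGroup M := { (inferInstance : Group M) with mul_comm := h.comm }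
    let O := MulAction.orbit D s
    have : Fintype O := Fintype.ofFinite O
    have hsO : s ∈ O := MulAction.mem_orbit_self s
    have hO : ∀ x : O, x ≠ ⟨s, hsO⟩ → (x : M) ∈ M₁ := by
      intro x hx
      obtain ⟨g, hg⟩ := x.2
      have hg' : (g : H) • s = (x : M) := hg
      rw [← hg']
      refine d.not_mem (fun h1 => hx (Subtype.ext ?_)) s hs
      rw [← hg']
      exact hsA g ⟨hD2.le g.2, h1⟩
    let p : M := ∏ x : O, (x : M)
    have hp1 : p = s * ∏ x ∈ Finset.univ.erase (⟨s, hsO⟩ : O), (x : M) :=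
      (Finset.mul_prod_erase Finset.univ (fun x : O => (x : M)) (Finset.mem_univ (⟨s, hsO⟩ : O))).symm
    have hp2 : ∏ x ∈ Finset.univ.erase (⟨s, hsO⟩ : O), (x : M) ∈ M₁ :=
      Subgroup.prod_mem _ fun x hx => hO x (Finset.ne_of_mem_erase hx)
    have hp3 : p ∈ cv M (D : Set H) := by
      intro g hg
      have h1 := map_prod (MulDistribMulAction.toMonoidHom M g) (fun x : O => (x : M)) Finset.univ
      have h2 : g • p = ∏ x : O, g • (x : M) := h1
      rw [h2]
      exact (Equiv.prod_comp (MulAction.toPerm (⟨g, hg⟩ : D) : Equiv.Perm O) fun x : O => (x : M))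
    have hp4 : a • p ∈ M₁ := by
      have h1 := map_prod (MulDistribMulAction.toMonoidHom M a) (fun x : O => (x : M)) Finset.univ
      have h2 : a • p = ∏ x : O, a • (x : M) := h1
      rw [h2]
      refine Subgroup.prod_mem _ fun x _ => ?_
      obtain ⟨g, hg⟩ := x.2
      have hg' : (g : H) • s = (x : M) := hg
      rw [← hg', ← mul_smul]
      refine d.not_mem (haS _ (A.mul_mem ha (hD2.le g.2)) fun h3 => haD ?_) s hs
      have h4 := D.mul_mem h3 (D.inv_mem g.2)
      rwa [mul_inv_cancel_right] at h4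
    rw [hcv] at hp3
    rw [hp3 a ha, hp1] at hp4
    have h5 := M₁.mul_mem hp4 (M₁.inv_mem hp2)
    rw [mul_inv_cancel_right] at h5
    exact hs1 (d.eq_one hs h5)

/-! ### (b) -/

omit [Finite M] in
/-- `T ∩ N_H(S)` is a Sylow 2-subgroup of `N_H(S)` -/
theorem odd_nrm (h : Sit H M K T A) (d : Dec H M K S M₁) : ¬ 2 ∣ (T ⊓ nrm H S).relIndex (nrm H S) := by
  have hKn := h.norm
  have h1 : T ⊓ nrm H S ⊔ K = nrm H S := by
    refine le_antisymm (sup_le inf_le_right d.K_le) fun x hx => ?_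
    have h2 : x ∈ K ⊔ T := by rw [h.gen]; exact mem_top x
    obtain ⟨k, hk, t, ht, rfl⟩ := mem_sup_of_normal_left.1 h2
    refine Subgroup.mul_mem _ (mem_sup_right hk) (mem_sup_left ⟨ht, ?_⟩)
    have h3 := (nrm H S).mul_mem ((nrm H S).inv_mem (d.K_le hk)) hx
    rwa [inv_mul_cancel_left] at h3
  have h2 : (T ⊓ nrm H S).relIndex K = T.relIndex K := by
    rw [← inf_relIndex_right, inf_assoc, inf_eq_right.2 d.K_le, inf_relIndex_right]
  have h3 : (T ⊓ nrm H S).relIndex (nrm H S) = T.index := by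
    have h4 := Lib.SylowNormalInf.relIndex_sup_of_normal (T ⊓ nrm H S) K
    rw [h1, h2, ← Lib.SylowNormalInf.relIndex_sup_of_normal T K, sup_comm, h.gen, relIndex_top_right] at h4
    exact h4
  rw [h3]
  exact h.syl

/-- **(b)** `|A| ≤ |S : C_S(A)|` -/
theorem le_relIndex (h : Sit H M K T A) (d : Dec H M K S M₁) (hK : IsKGroup H) (ml : MLK.{u, v}) :
    Nat.card A ≤ (cv M (A : Set H)).relIndex S := by
  have hKn := h.norm
  have hM1 := h.normM M₁
  have hAN := h.A_le d
  have hAcv : (cv M (A : Set H)).Normal := h.normM _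
  -- a `T`-fixed vector
  have htop : (⊤ : Subgroup M) ≠ ⊥ := fun h1 => d.ne (le_bot_iff.1 (le_top.trans h1.le))
  obtain ⟨v, -, hv1, hvT⟩ := exists_fixed (H := H) h.sq h.two htop (fun _ _ _ _ => mem_top _)
  obtain ⟨s, hs, u, hu, rfl⟩ := h.exists_comp d v
  have hs1 := h.comp_ne d hs hu hvT hv1
  have hsplit : ∀ x ∈ nrm H S, x • (s * u) = s * u → x • s = s := by
    intro x hx h1
    rw [smul_mul'] at h1
    exact (d.uniq (hx s hs) hs (d.inv₁ x hx u hu) hu h1).1
  set R : Subgroup H := nrm H S ⊓ MulAction.stabilizer H s with hRdef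
  have hTR : T ⊓ nrm H S ≤ R := fun t ht => ⟨ht.2, hsplit t ht.2 (hvT t ht.1)⟩
  have hAT : A ≤ T ⊓ nrm H S := le_inf h.AT hAN
  have hoddR : ¬ 2 ∣ (T ⊓ nrm H S).relIndex R := fun h1 =>
    h.odd_nrm d (h1.trans (Dvd.intro _ (relIndex_mul_relIndex _ _ _ hTR inf_le_left)))
  -- the stabiliser of `v`
  have hst : MulAction.stabilizer H (s * u) ≠ ⊤ := by
    intro h1
    have h2 : ∀ g : H, g • (s * u) = s * u := fun g => by
      have : g ∈ MulAction.stabilizer H (s * u) := by rw [h1]; exact mem_top g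
      exact this
    have h3 : cv M (Set.univ : Set H) = ⊤ := by
      refine (h.irr (cv M (Set.univ : Set H)) ?_).resolve_left fun h3 => hv1 ?_
      · intro g w hw
        rwa [hw g (Set.mem_univ g)]
      · rw [← mem_bot, ← h3]
        exact fun g _ => h2 g
    apply h.K_ne
    rw [eq_bot_iff]
    intro k _
    rw [mem_bot]
    exact h.faith k fun m => (h3 ▸ mem_top m : m ∈ cv M (Set.univ : Set H)) k (Set.mem_univ k)
  have hAo : A ≤ o2 (MulAction.stabilizer H (s * u)) := h.low _ (fun t ht => hvT t ht) hst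
  -- (ML) for `R` and `v`
  have hrelR := rel_subgroup (M := M) R (ml R M (sec_KG.sub H hK R) h.sq)
  have hml1 := hrelR (T ⊓ nrm H S) (o2 (MulAction.stabilizer H (s * u)) ⊓ R) A (s * u) (mem_top _)
    (h.two.to_le inf_le_left) hTR hoddR (fun t ht => hvT t ht.1) ((o2_isPGroup _).to_le inf_le_left) inf_le_right
    (fun q hq => o2_le _ hq.1)
    (fun g hg hgv q hq => ⟨conj_mem_of_le (le_normalizer_o2 _) hgv hq.1,
      R.mul_mem (R.mul_mem hg hq.2) (R.inv_mem hg)⟩)
    (le_inf hAo (hAT.trans hTR)) h.el False.elim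
  set N := orb R (s * u) with hN
  set D := A ⊓ fxr H N with hD
  have hDA : D ≤ A := inf_le_left
  have hND : N ≤ cv M (D : Set H) := fun m hm x hx => hx.2 m hm
  have e1 : Nat.card D * (fxr H N).relIndex A = Nat.card A := by
    rw [← inf_relIndex_right, inf_comm, ← relIndex_bot_left, ← relIndex_bot_left A]
    exact relIndex_mul_relIndex _ _ _ bot_le hDA
  have e2 : (cv M (A : Set H)).relIndex N ≤ (cv M (A : Set H)).relIndex (cv M (D : Set H)) :=
    relIndex_le_of_le_right hND (relIndex_ne _ _)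
  have e3 : (cv M (A : Set H)).relIndex (cv M (D : Set H)) * (cv M (D : Set H)).index = Nat.card A := by
    rw [relIndex_mul_index (cv_anti (SetLike.coe_subset_coe.2 hDA)), h.exact]
  have e4 := h.sub D hDA
  have hDpos : 0 < Nat.card D := Nat.card_pos
  have hpos : 0 < (cv M (D : Set H)).index := Nat.pos_of_ne_zero index_ne_zero_of_finite
  have hpos2 : 0 < (fxr H N).relIndex A := Nat.pos_of_ne_zero (relIndex_ne _ _)
  have hDeq : (cv M (D : Set H)).index = Nat.card D := by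
    refine le_antisymm ?_ e4
    by_contra hc
    rw [not_le] at hc
    have h1 : Nat.card D * (fxr H N).relIndex A < (cv M (D : Set H)).index * (fxr H N).relIndex A :=
      Nat.mul_lt_mul_of_pos_right hc hpos2
    have h2 : (cv M (D : Set H)).index * (fxr H N).relIndex A ≤
        (cv M (D : Set H)).index * (cv M (A : Set H)).relIndex (cv M (D : Set H)) :=
      Nat.mul_le_mul_left _ (hml1.trans e2)
    rw [e1] at h1
    rw [mul_comm _ ((cv M (A : Set H)).relIndex _), e3] at h2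
    omega
  have hDalt : D = ⊥ ∨ D = A := by
    by_contra hc
    push Not at hc
    exact absurd (h.atm D hDA hc.1 hc.2) (by rw [hDeq]; exact lt_irrefl _)
  have hDA2 : D = A := by
    rcases hDalt with h1 | h1
    · exfalso
      rw [h1, card_bot, one_mul] at e1
      -- `M = N C_M(A)`
      have h2 : (cv M (A : Set H)).relIndex N = (cv M (A : Set H)).index := by
        refine le_antisymm ?_ (by rw [h.exact, ← e1]; exact hml1)
        rw [← relIndex_top_right]
        exact relIndex_le_of_le_right le_top (relIndex_ne _ _)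
      have h3 : cv M (A : Set H) ⊔ N = ⊤ := by
        have h4 : (cv M (A : Set H)).relIndex (cv M (A : Set H) ⊔ N) = (cv M (A : Set H)).relIndex N := by
          rw [sup_comm, relIndex_sup_right]
        have h5 := relIndex_mul_index (le_sup_left : cv M (A : Set H) ≤ cv M (A : Set H) ⊔ N)
        rw [h4, h2] at h5
        have h6 : 0 < (cv M (A : Set H)).index := Nat.pos_of_ne_zero index_ne_zero_of_finite
        rw [← index_eq_one]
        exact Nat.eq_of_mul_eq_mul_left h6 (by rw [h5, mul_one])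
      -- the `S`-component of `N`
      have h4 : N ≤ zpowers s ⊔ M₁ := by
        refine orb_le fun g hg => ?_
        rw [smul_mul']
        have hg2 : g • s = s := hg.2
        rw [hg2]
        exact Subgroup.mul_mem _ (mem_sup_left (mem_zpowers s)) (mem_sup_right (d.inv₁ g hg.1 u hu))
      apply h.ne
      rw [eq_bot_iff, ← h.fxr_eq d]
      intro a ha x hx
      have h5 : x ∈ cv M (A : Set H) ⊔ N := by rw [h3]; exact mem_top x
      obtain ⟨c, hc, n, hn, hcn⟩ := mem_sup_of_normal_left.1 h5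
      obtain ⟨z, hz, w, hw, hzw⟩ := mem_sup_of_normal_right.1 (h4 hn)
      obtain ⟨j, rfl⟩ := mem_zpowers_iff.1 hz
      have has : a • s = s := (hTR (hAT ha)).2
      have hsj : s ^ j ∈ S := zpow_mem hs j
      have hasj : a • s ^ j = s ^ j := by rw [smul_zpow', has]
      -- `c = (x s^-j) w^-1`
      have h6 : c = (x * (s ^ j)⁻¹) * w⁻¹ := by
        rw [← hcn, ← hzw, h.comm (s ^ j) w]
        group
      have h7 : a • c = c := hc a ha
      rw [h6, smul_mul'] at h7
      have h8 := (d.uniq (hAN ha _ (S.mul_mem hx (S.inv_mem hsj))) (S.mul_mem hx (S.inv_mem hsj))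
        (d.inv₁ a (hAN ha) _ (M₁.inv_mem hw)) (M₁.inv_mem hw) h7).1
      rw [smul_mul', smul_inv', hasj] at h8
      exact mul_right_cancel h8
    · exact h1
  -- `A ≤ O₂(R)`
  have hAfx : A ≤ fxr H N := hDA2.ge.trans inf_le_right
  have hAR : A ≤ o2 R := by
    have hinv : ∀ g ∈ R, ∀ m ∈ N, g • m ∈ N := fun g hg m hm => smul_mem_orb hg hm
    have h2 : o2 (R ⊓ fxr H N) ≤ o2 R := o2_le_o2 inf_le_left fun g hg x hx =>
      ⟨R.mul_mem (R.mul_mem hg hx.1) (R.inv_mem hg), conj_mem_fxr hinv hg hx.2⟩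
    refine le_trans ?_ h2
    have h3 : o2 (MulAction.stabilizer H (s * u)) ⊓ (R ⊓ fxr H N) ≤ o2 (R ⊓ fxr H N) := by
      refine le_o2 inf_le_right ((o2_isPGroup _).to_le inf_le_left) (le_normalizer_of fun g hg x hx => ⟨?_, ?_⟩)
      · exact conj_mem_of_le (le_normalizer_o2 _) (hg.2 _ (mem_orb_self R (s * u))) hx.1
      · exact Subgroup.mul_mem _ (Subgroup.mul_mem _ hg hx.2) (Subgroup.inv_mem _ hg)
    exact le_trans (le_inf hAo (le_inf (hAT.trans hTR) hAfx)) h3
  -- (ML) for `N_H(S)` and `s`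
  have hrelS := rel_subgroup (M := M) (nrm H S) (ml (nrm H S) M (sec_KG.sub H hK _) h.sq)
  have hml2 := hrelS (T ⊓ nrm H S) (o2 R) A s (mem_top _)
    (h.two.to_le inf_le_left) inf_le_right (h.odd_nrm d) (fun t ht => (hTR ht).2) (o2_isPGroup _)
    ((o2_le _).trans inf_le_left) (fun q hq => (o2_le R hq).2)
    (fun g hg hgs q hq => conj_mem_of_le (le_normalizer_o2 R) (show g ∈ R from ⟨hg, hgs⟩) hq) hAR h.el False.elim
  have horb : orb (nrm H S) s = S := by
    have h0 : orb (nrm H S) s ≤ S := orb_le fun g hg => hg s hs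
    refine (d.simple _ h0 fun k hk w hw => smul_mem_orb (d.K_le hk) hw).resolve_left fun h1 => hs1 ?_
    rw [← mem_bot, ← h1]
    exact mem_orb_self _ s
  rwa [horb, h.fxr_eq d, relIndex_bot_left] at hml2

open Pointwise in
omit [Finite M] [Finite H] in
/-- the conjugates of `S` -/
theorem _root_.Cfsg.Agent.Omega.ML.Ex.IrrAB.Dec.smul (hKn : K.Normal) (d : Dec H M K S M₁) (x : H) :
    Dec H M K (x • S) (x • M₁) where
  ne := fun h1 => d.ne (by
    have h2 : x⁻¹ • (x • S) = x⁻¹ • (⊥ : Subgroup M) := by rw [h1]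
    rwa [inv_smul_smul, Subgroup.smul_bot] at h2)
  inv := fun k hk s hs => by
    rw [Subgroup.mem_pointwise_smul_iff_inv_smul_mem] at hs ⊢
    have h1 : x⁻¹ * k * x ∈ K := by
      have := hKn.conj_mem k hk x⁻¹
      rwa [inv_inv] at this
    have h2 := d.inv _ h1 _ hs
    rwa [← mul_smul, mul_inv_cancel_right, mul_smul] at h2
  simple := fun W hW hWK => by
    have h1 : x⁻¹ • W ≤ S := by
      intro m hm
      rw [Subgroup.mem_pointwise_smul_iff_inv_smul_mem, inv_inv] at hm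
      have h2 := hW hm
      rwa [Subgroup.mem_pointwise_smul_iff_inv_smul_mem, inv_smul_smul] at h2
    rcases d.simple _ h1 (fun k hk w hw => by
      rw [Subgroup.mem_pointwise_smul_iff_inv_smul_mem, inv_inv] at hw ⊢
      have h3 := hWK _ (hKn.conj_mem k hk x) _ hw
      rwa [← mul_smul, inv_mul_cancel_right, mul_smul] at h3) with h2 | h2
    · left
      rw [inv_smul_eq_iff, Subgroup.smul_bot] at h2
      exact h2
    · right
      rwa [inv_smul_eq_iff] at h2
  inf := by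
    rw [← Subgroup.smul_inf, d.inf, Subgroup.smul_bot]
  alt := fun y => by
    rcases d.alt (x⁻¹ * y * x) with h1 | h1
    · left
      intro s hs
      rw [Subgroup.mem_pointwise_smul_iff_inv_smul_mem] at hs ⊢
      have h2 := h1 _ hs
      rwa [← mul_smul, mul_inv_cancel_right, mul_smul] at h2
    · right
      intro s hs
      rw [Subgroup.mem_pointwise_smul_iff_inv_smul_mem] at hs ⊢
      have h2 := h1 _ hs
      rwa [← mul_smul, mul_inv_cancel_right, mul_smul] at h2
  inv₁ := fun y hy m hm => by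
    rw [Subgroup.mem_pointwise_smul_iff_inv_smul_mem] at hm ⊢
    have h1 : ∀ s ∈ S, (x⁻¹ * y * x) • s ∈ S := by
      intro s hs
      have h2 := hy (x • s) (Subgroup.smul_mem_pointwise_smul s x S hs)
      rw [Subgroup.mem_pointwise_smul_iff_inv_smul_mem] at h2
      rwa [mul_smul, mul_smul]
    have h2 := d.inv₁ _ h1 _ hm
    rwa [← mul_smul, mul_inv_cancel_right, mul_smul] at h2

open Pointwise in
/-- **(b)** `S = M` -/
theorem bot (h : Sit H M K T A) (d : Dec H M K S M₁) (hK : IsKGroup H) (ml : MLK.{u, v}) : M₁ = ⊥ := by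
  by_contra hne
  have hAcv : (cv M (A : Set H)).Normal := h.normM _
  have hM1 := h.normM M₁
  obtain ⟨x, hx⟩ : ∃ x, x ∉ nrm H S := by
    by_contra hc
    push Not at hc
    rcases h.irr S fun g w hw => hc g w hw with h1 | h1
    · exact d.ne h1
    · apply hne
      have h2 := d.inf
      rwa [h1, top_inf_eq] at h2
  have h1 := h.le_relIndex d hK ml
  have h2 := h.le_relIndex (d.smul h.norm x) hK ml
  have h3 : x • S ≤ M₁ := by
    intro m hm
    rw [Subgroup.mem_pointwise_smul_iff_inv_smul_mem] at hm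
    have h4 := d.not_mem hx _ hm
    rwa [smul_inv_smul] at h4
  have h4 : Nat.card A ≤ (cv M (A : Set H)).relIndex M₁ := h2.trans (relIndex_le_of_le_right h3 (relIndex_ne _ _))
  -- the product
  have h5 : (cv M (A : Set H)).relIndex (cv M (A : Set H) ⊔ M₁) = (cv M (A : Set H)).relIndex M₁ := by
    rw [sup_comm, relIndex_sup_right]
  have h6 := relIndex_mul_index (le_sup_left : cv M (A : Set H) ≤ cv M (A : Set H) ⊔ M₁)
  have h7 : (cv M (A : Set H) ⊔ M₁) ⊓ S ≤ cv M (A : Set H) := by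
    rintro s ⟨hs1, hs2⟩ a ha
    obtain ⟨c, hc, w, hw, hcw⟩ := mem_sup_of_normal_left.1 hs1
    have haN := h.A_le d ha
    have e : c = s * w⁻¹ := by rw [← hcw, mul_inv_cancel_right]
    have h8 : a • c = c := hc a ha
    rw [e, smul_mul'] at h8
    exact (d.uniq (haN _ hs2) hs2 (d.inv₁ a haN _ (M₁.inv_mem hw)) (M₁.inv_mem hw) h8).1
  have h8 : Nat.card A ≤ (cv M (A : Set H) ⊔ M₁).index := by
    refine h1.trans ?_
    have h9 : (cv M (A : Set H)).relIndex S ≤ (cv M (A : Set H) ⊔ M₁).relIndex S := by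
      rw [← inf_relIndex_right (cv M (A : Set H) ⊔ M₁), ← inf_relIndex_right (cv M (A : Set H))]
      exact relIndex_le_of_le_left (le_inf h7 inf_le_right) (relIndex_ne _ _)
    refine h9.trans ?_
    rw [← relIndex_top_right]
    exact relIndex_le_of_le_right le_top (relIndex_ne _ _)
  rw [h5, h.exact] at h6
  have h9 : Nat.card A * Nat.card A ≤ Nat.card A := by
    conv_rhs => rw [← h6]
    exact Nat.mul_le_mul h4 h8
  have h10 : 1 < Nat.card A := (Subgroup.one_lt_card_iff_ne_bot _).2 h.ne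
  nlinarith

/-- **(b)** `M|_K` is simple -/
theorem eq_top (h : Sit H M K T A) (d : Dec H M K S M₁) (hK : IsKGroup H) (ml : MLK.{u, v}) : S = ⊤ := by
  have h1 := h.sup_eq d
  rwa [h.bot d hK ml, sup_bot_eq] at h1

end Sit

omit [Finite M] in
/-- a minimal exact subgroup `≠ 1` of `A` -/
theorem _root_.Cfsg.Agent.Omega.ML.Ex.InX.exists_sit {K T A : Subgroup H} (h : InX H M K T A) :
    ∃ A' ≤ A, Sit H M K T A' := by
  obtain ⟨A', ⟨h1, h2, h3⟩, hmin⟩ := Set.exists_min_image {C : Subgroup H | C ≤ A ∧ C ≠ ⊥ ∧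
    (cv M (C : Set H)).index = Nat.card C} (fun C => Nat.card C) (Set.toFinite _) ⟨A, le_rfl, h.A_ne_bot, h.exact⟩
  refine ⟨A', h1, ?_⟩
  exact
    { sq := h.sq
      faith := h.faith
      irr := h.irr
      norm := h.norm
      simple := h.simple
      cen := h.cen
      gen := h.gen
      two := h.two
      syl := h.syl
      AT := h1.trans h.AT
      el := fun a ha => h.el a (h1 ha)
      ne := h2
      exact := h3
      sub := fun C hC => h.sub C (hC.trans h1)
      low := fun R hT hR => h1.trans (h.low R hT hR)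
      atm := fun C hC hC1 hC2 => by
        refine lt_of_le_of_ne (h.sub C (hC.trans h1)) fun h4 => ?_
        have h5 := hmin C ⟨hC.trans h1, hC1, h4.symm⟩
        exact hC2 (eq_of_le_of_card_ge hC h5) }

/-- **THEOREM IRR** over a decomposition -/
theorem _root_.Cfsg.Agent.Omega.ML.Ex.InX.eq_top_of_dec {K T A : Subgroup H} (h : InX H M K T A) (hK : IsKGroup H)
    (ml : MLK.{u, v}) {S M₁ : Subgroup M} (d : Dec H M K S M₁) : S = ⊤ := by
  obtain ⟨A', -, h1⟩ := h.exists_sit
  exact h1.eq_top d hK ml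


end Cfsg.Agent.Omega.ML.Ex.IrrAB

end

section


/-!
# `O(H) = 1` from (U) (helper690)

* `Low H M T A` : `H` faithful and irreducible on `M`, `T` a Sylow 2-subgroup in at least two maximal subgroups, `1 ≠ A ≤ T`,
  `A ≤ O₂(R)` for all `T ≤ R < H`;
* `Low.comm_odd` : `A` centralises the normal subgroups of odd order;  `Low.sup_closure` : `H = ⟨A^H⟩ T`;
* **`Low.odd_of_uni`** : `O(H) = 1` if `N_H(T)` fixes `x` and every `T`-minimal `P` which moves `x` fixes the vector
  `y ≠ 1`.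
-/

set_option autoImplicit false
set_option linter.unusedSectionVars false

namespace Cfsg.Agent.Omega.ML.Ex.OddU

open Subgroup Cfsg Cfsg.Agent.ZN Cfsg.Agent.ClassTwoFusion.Quad Cfsg.Agent.Omega.ML.MinFrame
open Cfsg.Agent.Omega.KL.Str (eq_bot_of_fix normal_of_sup dedekind le_o2_top)
open Cfsg.Agent.MinSimple.MinParabolic (IsMinPar le_of_forall)
open Cfsg.Agent.MinSimple.VModule (o2_isPGroup o2_le le_o2 le_normalizer_o2)

universe u v

/-- the data -/
structure Low (H : Type u) [Group H] (M : Type v) [Group M] [MulDistribMulAction H M] (T A : Subgroup H) : Prop where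
  faith : ∀ h : H, (∀ m : M, h • m = m) → h = 1
  irr : ∀ W : Subgroup M, (∀ h : H, ∀ w ∈ W, h • w ∈ W) → W = ⊥ ∨ W = ⊤
  two : IsPGroup 2 T
  syl : ¬ 2 ∣ T.index
  AT : A ≤ T
  A1 : A ≠ ⊥
  low : ∀ R : Subgroup H, T ≤ R → R ≠ ⊤ → A ≤ o2 R
  nmax : ¬ ∃ N : Subgroup H, N ≠ ⊤ ∧ ∀ R : Subgroup H, T ≤ R → R ≠ ⊤ → R ≤ N

variable {H : Type u} [Group H] [Finite H] {M : Type v} [Group M] [MulDistribMulAction H M]
  {T A : Subgroup H} {x y : M}

namespace Low

variable (h : Low H M T A)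
include h

theorem o2_top (hx1 : x ≠ 1) (hx : ∀ t ∈ T, t • x = x) : o2 (⊤ : Subgroup H) = ⊥ := by
  have h1 : o2 (⊤ : Subgroup H) ≤ T := by
    have h2 : T ≤ normalizer (o2 (⊤ : Subgroup H) : Set H) := le_top.trans (le_normalizer_o2 _)
    have h3 : IsPGroup 2 (o2 (⊤ : Subgroup H) ⊔ T : Subgroup H) :=
      IsPGroup.to_sup_of_normal_left' (o2_isPGroup _) h.two h2
    have h4 := Subgroup.relIndex_mul_index (le_sup_right : T ≤ o2 (⊤ : Subgroup H) ⊔ T)
    have h5 : T.relIndex (o2 (⊤ : Subgroup H) ⊔ T) = 1 := by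
      obtain ⟨n, hn⟩ := IsPGroup.iff_card.1 h3
      have h6 : T.relIndex (o2 (⊤ : Subgroup H) ⊔ T) ∣ 2 ^ n := by
        rw [← hn]
        exact relIndex_dvd_card _ _
      obtain ⟨k, -, hk⟩ := (Nat.dvd_prime_pow Nat.prime_two).1 h6
      rcases Nat.eq_zero_or_pos k with h7 | h7
      · rw [hk, h7, pow_zero]
      · exfalso
        apply h.syl
        rw [← h4, hk]
        exact dvd_mul_of_dvd_left (dvd_pow_self 2 h7.ne') _
    exact le_sup_left.trans (relIndex_eq_one.1 h5)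
  refine eq_bot_of_fix h.faith h.irr ?_ hx1 fun n hn => hx n (h1 hn)
  rw [← normalizer_eq_top_iff, eq_top_iff]
  exact le_normalizer_o2 _

theorem bot_of_norm (hx1 : x ≠ 1) (hx : ∀ t ∈ T, t • x = x) {N Q : Subgroup H} (hN : N.Normal) (hQN : Q ≤ N)
    (hQ : IsPGroup 2 Q) (hn : N ≤ normalizer (Q : Set H)) : Q = ⊥ := by
  have h1 := le_o2_top hN hQN hQ hn
  rw [o2_top h hx1 hx] at h1
  exact le_bot_iff.1 h1

/-- `H = ⟨A^H⟩ T` -/
theorem sup_closure (hx1 : x ≠ 1) (hx : ∀ t ∈ T, t • x = x) : normalClosure (A : Set H) ⊔ T = ⊤ := by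
  by_contra hne
  have h2 := h.low _ le_sup_right hne
  have hN : (normalClosure (A : Set H)).Normal := inferInstance
  have h3 : normalClosure (A : Set H) ⊓ o2 (normalClosure (A : Set H) ⊔ T) = ⊥ := by
    refine bot_of_norm h hx1 hx hN inf_le_left ((o2_isPGroup _).to_le inf_le_right) ?_
    intro n hn
    have h3 := le_normalizer_o2 (normalClosure (A : Set H) ⊔ T) (mem_sup_left hn)
    rw [mem_normalizer_iff] at h3 ⊢
    intro z
    constructor
    · rintro ⟨hz1, hz2⟩
      exact ⟨hN.conj_mem z hz1 n, (h3 z).1 hz2⟩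
    · rintro ⟨hz1, hz2⟩
      refine ⟨?_, (h3 z).2 hz2⟩
      have := hN.conj_mem _ hz1 n⁻¹
      have h6 : n⁻¹ * (n * z * n⁻¹) * n⁻¹⁻¹ = z := by group
      rwa [h6] at this
  apply h.A1
  rw [eq_bot_iff, ← h3]
  exact le_inf subset_normalClosure h2

/-- `A` centralises `R ∩ N` for a normal subgroup `N` of odd order and `T ≤ R < H` -/
theorem comm_inf {N : Subgroup H} (hN : N.Normal) (ho : Odd (Nat.card N)) {R : Subgroup H} (hTR : T ≤ R)
    (hR : R ≠ ⊤) : R ⊓ N ≤ centralizer (A : Set H) := by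
  intro n hn
  rw [mem_centralizer_iff]
  intro a ha
  have ha2 := h.low R hTR hR ha
  have h1 : a * n * a⁻¹ * n⁻¹ ∈ N := N.mul_mem (hN.conj_mem n hn.2 a) (N.inv_mem hn.2)
  have h2 : a * n * a⁻¹ * n⁻¹ ∈ o2 R := by
    have h3 : n * a⁻¹ * n⁻¹ ∈ o2 R :=
      (mem_normalizer_iff.1 (le_normalizer_o2 R hn.1) a⁻¹).1 ((o2 R).inv_mem ha2)
    have h4 : a * n * a⁻¹ * n⁻¹ = a * (n * a⁻¹ * n⁻¹) := by group
    rw [h4]
    exact (o2 R).mul_mem ha2 h3
  have h3 : N ⊓ o2 R = ⊥ := by
    rw [← card_eq_one]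
    have h4 : Nat.card (N ⊓ o2 R : Subgroup H) ∣ Nat.card N := card_dvd_of_le inf_le_left
    have h5 : IsPGroup 2 (N ⊓ o2 R : Subgroup H) := (o2_isPGroup R).to_le inf_le_right
    obtain ⟨k, hk⟩ := IsPGroup.iff_card.1 h5
    rcases Nat.eq_zero_or_pos k with h6 | h6
    · rw [hk, h6, pow_zero]
    · exfalso
      rw [hk] at h4
      have h7 : 2 ∣ Nat.card N := (dvd_pow_self 2 h6.ne').trans h4
      exact (Nat.not_even_iff_odd.2 ho) (even_iff_two_dvd.2 h7)
  have h4 : a * n * a⁻¹ * n⁻¹ = 1 := by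
    rw [← mem_bot, ← h3]
    exact ⟨h1, h2⟩
  calc a * n = (a * n * a⁻¹ * n⁻¹) * (n * a) := by group
    _ = n * a := by rw [h4, one_mul]

/-- **`A` centralises the normal subgroups of odd order.** -/
theorem comm_odd {N : Subgroup H} (hN : N.Normal) (ho : Odd (Nat.card N)) : N ≤ centralizer (A : Set H) := by
  have hNT : N ⊓ T = ⊥ := by
    rw [← card_eq_one]
    have h4 : Nat.card (N ⊓ T : Subgroup H) ∣ Nat.card N := card_dvd_of_le inf_le_left
    obtain ⟨k, hk⟩ := IsPGroup.iff_card.1 (h.two.to_le (inf_le_right : N ⊓ T ≤ T))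
    rcases Nat.eq_zero_or_pos k with h6 | h6
    · rw [hk, h6, pow_zero]
    · exfalso
      rw [hk] at h4
      have h7 : 2 ∣ Nat.card N := (dvd_pow_self 2 h6.ne').trans h4
      exact (Nat.not_even_iff_odd.2 ho) (even_iff_two_dvd.2 h7)
  by_cases hne : N ⊔ T = ⊤
  · -- `N = ⟨R ∩ N : T ≤ R < H⟩`
    let N' : Subgroup H := ⨆ R : {R : Subgroup H // T ≤ R ∧ R ≠ ⊤}, (R : Subgroup H) ⊓ N
    have h1 : N' ≤ N := iSup_le fun R => inf_le_right
    have h2 : N' ≤ centralizer (A : Set H) := iSup_le fun R => comm_inf h hN ho R.2.1 R.2.2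
    have h3 : T ≤ normalizer (N' : Set H) := by
      have h4 : ∀ t ∈ T, ∀ z ∈ N', t * z * t⁻¹ ∈ N' := by
        intro t ht z hz
        have h5 : N' ≤ N'.comap (MulAut.conj t).toMonoidHom := by
          refine iSup_le fun R => ?_
          intro w hw
          have h6 : t * w * t⁻¹ ∈ (R : Subgroup H) ⊓ N :=
            ⟨(R : Subgroup H).mul_mem ((R : Subgroup H).mul_mem (R.2.1 ht) hw.1) ((R : Subgroup H).inv_mem (R.2.1 ht)),
              hN.conj_mem w hw.2 t⟩
          exact mem_comap.2 (le_iSup (fun R : {R : Subgroup H // T ≤ R ∧ R ≠ ⊤} => (R : Subgroup H) ⊓ N) R h6)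
        exact h5 hz
      intro t ht
      rw [mem_normalizer_iff]
      intro z
      refine ⟨h4 t ht z, fun hz => ?_⟩
      have h5 := h4 t⁻¹ (inv_mem ht) _ hz
      have h6 : t⁻¹ * (t * z * t⁻¹) * t⁻¹⁻¹ = z := by group
      rwa [h6] at h5
    have h4 : N' ⊔ T = ⊤ := by
      by_contra hc
      refine h.nmax ⟨N' ⊔ T, hc, fun R hTR hR => ?_⟩
      rw [← dedekind hN hTR (hne ▸ le_top)]
      exact sup_le_sup_right (le_iSup (fun R : {R : Subgroup H // T ≤ R ∧ R ≠ ⊤} => (R : Subgroup H) ⊓ N) ⟨R, hTR, hR⟩) T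
    intro n hn
    have h5 : n ∈ N' ⊔ T := h4 ▸ mem_top n
    have h6 : N' ≤ normalizer (N' : Set H) := le_normalizer
    have hN'n : N'.Normal := normal_of_sup h4 h6 h3
    rw [mem_sup_of_normal_left] at h5
    obtain ⟨m, hm, t, ht, rfl⟩ := h5
    have h7 : t ∈ N ⊓ T := by
      refine ⟨?_, ht⟩
      have := N.mul_mem (N.inv_mem (h1 hm)) hn
      rwa [inv_mul_cancel_left] at this
    rw [hNT, mem_bot] at h7
    rw [h7, mul_one]
    exact h2 hm
  · exact fun n hn => comm_inf h hN ho le_sup_right hne ⟨mem_sup_left hn, hn⟩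

/-- **`O(H) = 1`** -/
theorem odd_of_uni (hx1 : x ≠ 1) (hy1 : y ≠ 1) (hnx : ∀ g ∈ normalizer (T : Set H), g • x = x)
    (huni : ∀ P : Subgroup H, IsMinPar T P → (∃ p ∈ P, p • x ≠ x) → ∀ p ∈ P, p • y = y)
    {N : Subgroup H} (hN : N.Normal) (ho : Odd (Nat.card N)) : N = ⊥ := by
  have hx : ∀ t ∈ T, t • x = x := fun t ht => hnx t (le_normalizer ht)
  have hK : (centralizer (normalClosure (A : Set H) : Set H)).Normal := inferInstance
  have hNK : N ≤ centralizer (normalClosure (A : Set H) : Set H) := by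
    have h1 : normalClosure (A : Set H) ≤ centralizer (N : Set H) := by
      have : (centralizer (N : Set H)).Normal := inferInstance
      refine normalClosure_le_normal fun a ha => ?_
      rw [SetLike.mem_coe, mem_centralizer_iff]
      intro n hn
      exact (mem_centralizer_iff.1 (comm_odd h hN ho hn) a ha).symm
    intro n hn
    rw [mem_centralizer_iff]
    intro k hk
    exact (mem_centralizer_iff.1 (h1 hk) n hn).symm
  set K := normalClosure (A : Set H) with hKdef
  by_cases hfix : ∀ n ∈ N, n • x = x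
  · exact eq_bot_of_fix h.faith h.irr hN hx1 hfix
  exfalso
  push Not at hfix
  obtain ⟨n, hn, hnx'⟩ := hfix
  have h1 : ∃ P : Subgroup H, IsMinPar T P ∧ P ≤ N ⊔ T ∧ ¬ P ≤ MulAction.stabilizer H x := by
    by_contra hc
    push Not at hc
    have h2 : N ⊔ T ≤ MulAction.stabilizer H x :=
      le_of_forall le_sup_right (fun g hg => MulAction.mem_stabilizer_iff.2 (hnx g hg.2)) hc
    exact hnx' (MulAction.mem_stabilizer_iff.1 (h2 (mem_sup_left hn)))
  obtain ⟨P, hP, hPZ, hPx⟩ := h1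
  have h2 : ∃ p ∈ P, p • x ≠ x := by
    by_contra hc
    push Not at hc
    exact hPx fun p hp => MulAction.mem_stabilizer_iff.2 (hc p hp)
  have h3 := huni P hP h2
  have h4 := dedekind hN hP.le hPZ
  have h5 : (P ⊓ N).Normal := by
    refine normal_of_sup (sup_closure h hx1 hx) ?_ ?_
    · intro k hk
      rw [mem_normalizer_iff]
      intro z
      have h6 : ∀ z ∈ N, k * z * k⁻¹ = z := fun z hz => by
        rw [mem_centralizer_iff.1 (hNK hz) k hk, mul_inv_cancel_right]
      constructor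
      · rintro ⟨hz1, hz2⟩
        rw [h6 z hz2]
        exact ⟨hz1, hz2⟩
      · rintro ⟨hz1, hz2⟩
        have h7 : k * (k * z * k⁻¹) * k⁻¹ = k * z * k⁻¹ := h6 _ hz2
        have h8 : k * z * k⁻¹ = z := by
          have h9 := congrArg (fun w => k⁻¹ * w * k) h7
          simpa [mul_assoc] using h9
        rw [h8] at hz1 hz2
        exact ⟨hz1, hz2⟩
    · intro t ht
      rw [mem_normalizer_iff]
      intro z
      constructor
      · rintro ⟨hz1, hz2⟩
        exact ⟨P.mul_mem (P.mul_mem (hP.le ht) hz1) (P.inv_mem (hP.le ht)), hN.conj_mem z hz2 t⟩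
      · rintro ⟨hz1, hz2⟩
        have h7 : t⁻¹ * (t * z * t⁻¹) * t⁻¹⁻¹ = z := by group
        refine ⟨?_, ?_⟩
        · rw [← h7]
          exact P.mul_mem (P.mul_mem (P.inv_mem (hP.le ht)) hz1) (P.inv_mem (P.inv_mem (hP.le ht)))
        · rw [← h7]
          exact hN.conj_mem _ hz2 t⁻¹
  have h6 : P ⊓ N = ⊥ := eq_bot_of_fix h.faith h.irr h5 hy1 fun n hn => h3 n hn.1
  rw [h6, bot_sup_eq] at h4
  exact hP.ne h4

end Low

end Cfsg.Agent.Omega.ML.Ex.OddU

end

section


/-!
# Exact low groups: no normal subgroup of odd order (helper699)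

`H` is faithful and irreducible on `M`, `T` is a Sylow 2-subgroup of `H` which is in at least two maximal subgroups,
`1 ≠ A ≤ T` is LOW (`A ≤ O₂(R)` for all `T ≤ R < H`).  (No exactness, no K-groups.)

* `Core T A (M)` : this situation, with a `T`-fixed vector `x ≠ 1`;
* `Core.o2_top` : `O₂(H) = 1`;  `Core.comm_of_ne` : `N ⊴ H`, `NT < H` ⟹ `[N,A] = 1`;  `Core.sup_closure` : `H = ⟨A^H⟩T`;
* **`Core.comm_of_odd`** : a normal subgroup of odd order is centralised by `A`, hence by `⟨A^H⟩`;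
* **`Core.odd_of`** : if `N_H(T)` fixes `x` or some vector `≠ 1`, and every `T`-minimal `P` which moves `x` fixes some
  vector `≠ 1`, then `H` has no normal subgroup `≠ 1` of odd order (#21261 (2), #22527 (7), #22713 (6)).
* `Core.inf_min`, `Core.inf_norm` : the two steps, for a normal subgroup `N` centralised by `A`.
-/

set_option autoImplicit false
set_option linter.unusedSectionVars false

namespace Cfsg.Agent.Omega.ML.Ex.OddCore

open Subgroup Cfsg Cfsg.Agent.ZN Cfsg.Agent.ClassTwoFusion.Quad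
open Cfsg.Agent.Omega.KL.Str (eq_bot_of_fix normal_of_sup dedekind le_o2_top)
open Cfsg.Agent.MinSimple.MinParabolic (IsMinPar le_of_forall)
open Cfsg.Agent.MinSimple.VModule (o2_isPGroup o2_le le_o2 le_normalizer_o2)

universe u v

/-- The situation. -/
structure Core {H : Type u} [Group H] {M : Type v} [Group M] [MulDistribMulAction H M] (T A : Subgroup H) (x : M) :
    Prop where
  faith : ∀ h : H, (∀ m : M, h • m = m) → h = 1
  irr : ∀ W : Subgroup M, (∀ h : H, ∀ w ∈ W, h • w ∈ W) → W = ⊥ ∨ W = ⊤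
  two : IsPGroup 2 T
  syl : ¬ 2 ∣ T.index
  x1 : x ≠ 1
  tx : ∀ t ∈ T, t • x = x
  AT : A ≤ T
  A1 : A ≠ ⊥
  low : ∀ R : Subgroup H, T ≤ R → R ≠ ⊤ → A ≤ o2 R
  nmax : ¬ ∃ N : Subgroup H, N ≠ ⊤ ∧ ∀ R : Subgroup H, T ≤ R → R ≠ ⊤ → R ≤ N

variable {H : Type u} [Group H] [Finite H] {M : Type v} [Group M] [MulDistribMulAction H M]
  {T A : Subgroup H} {x : M}

namespace Core

variable (h : Core T A x)
include h

/-- `O₂(H) = 1` -/
theorem o2_top : o2 (⊤ : Subgroup H) = ⊥ := by
  have h1 : o2 (⊤ : Subgroup H) ≤ T := by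
    have h2 : T ≤ normalizer (o2 (⊤ : Subgroup H) : Set H) := le_top.trans (le_normalizer_o2 _)
    have h3 : IsPGroup 2 (o2 (⊤ : Subgroup H) ⊔ T : Subgroup H) :=
      IsPGroup.to_sup_of_normal_left' (o2_isPGroup _) h.two h2
    have h4 := Subgroup.relIndex_mul_index (le_sup_right : T ≤ o2 (⊤ : Subgroup H) ⊔ T)
    have h5 : T.relIndex (o2 (⊤ : Subgroup H) ⊔ T) = 1 := by
      obtain ⟨n, hn⟩ := IsPGroup.iff_card.1 h3
      have h6 : T.relIndex (o2 (⊤ : Subgroup H) ⊔ T) ∣ 2 ^ n := by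
        rw [← hn]
        exact relIndex_dvd_card _ _
      obtain ⟨k, -, hk⟩ := (Nat.dvd_prime_pow Nat.prime_two).1 h6
      rcases Nat.eq_zero_or_pos k with h7 | h7
      · rw [hk, h7, pow_zero]
      · exfalso
        apply h.syl
        rw [← h4, hk]
        exact dvd_mul_of_dvd_left (dvd_pow_self 2 h7.ne') _
    exact le_sup_left.trans (relIndex_eq_one.1 h5)
  refine eq_bot_of_fix h.faith h.irr ?_ h.x1 fun n hn => h.tx n (h1 hn)
  rw [← normalizer_eq_top_iff, eq_top_iff]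
  exact le_normalizer_o2 _

/-- a normal subgroup has no normal 2-subgroup -/
theorem bot_of_norm {N Q : Subgroup H} (hN : N.Normal) (hQN : Q ≤ N) (hQ : IsPGroup 2 Q)
    (hn : N ≤ normalizer (Q : Set H)) : Q = ⊥ := by
  have h1 := le_o2_top hN hQN hQ hn
  rw [o2_top h] at h1
  exact le_bot_iff.1 h1

theorem comm_sub {N : Subgroup H} (hN : N.Normal) (hA : A ≤ centralizer (N : Set H)) :
    N ≤ centralizer (normalClosure (A : Set H) : Set H) := by
  have h1 : normalClosure (A : Set H) ≤ centralizer (N : Set H) := by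
    have : (centralizer (N : Set H)).Normal := inferInstance
    exact normalClosure_le_normal hA
  intro n hn
  rw [mem_centralizer_iff]
  intro k hk
  exact (mem_centralizer_iff.1 (h1 hk) n hn).symm

/-- `N ∩ O₂(R) = 1` for `N ⊴ H`, `N ≤ R` -/
theorem inf_o2 {N R : Subgroup H} (hN : N.Normal) (hNR : N ≤ R) : N ⊓ o2 R = ⊥ := by
  refine bot_of_norm h hN inf_le_left ((o2_isPGroup _).to_le inf_le_right) ?_
  intro n hn
  have h3 := le_normalizer_o2 R (hNR hn)
  rw [mem_normalizer_iff] at h3 ⊢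
  intro z
  constructor
  · rintro ⟨hz1, hz2⟩
    exact ⟨hN.conj_mem z hz1 n, (h3 z).1 hz2⟩
  · rintro ⟨hz1, hz2⟩
    refine ⟨?_, (h3 z).2 hz2⟩
    have := hN.conj_mem _ hz1 n⁻¹
    have h6 : n⁻¹ * (n * z * n⁻¹) * n⁻¹⁻¹ = z := by group
    rwa [h6] at this

/-- `[N, A] = 1` if `NT < H` -/
theorem comm_of_ne {N : Subgroup H} (hN : N.Normal) (hne : N ⊔ T ≠ ⊤) : A ≤ centralizer (N : Set H) := by
  have h1 := h.low (N ⊔ T) le_sup_right hne
  have h2 : N ⊓ o2 (N ⊔ T) = ⊥ := inf_o2 h hN le_sup_left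
  intro a ha
  rw [mem_centralizer_iff]
  intro n hn
  have h3 : n * a * n⁻¹ * a⁻¹ ∈ N ⊓ o2 (N ⊔ T) := by
    constructor
    · have h4 : a * n⁻¹ * a⁻¹ ∈ N := hN.conj_mem _ (inv_mem hn) a
      have h5 : n * a * n⁻¹ * a⁻¹ = n * (a * n⁻¹ * a⁻¹) := by group
      rw [h5]
      exact N.mul_mem hn h4
    · exact (o2 (N ⊔ T)).mul_mem ((mem_normalizer_iff.1 (le_normalizer_o2 (N ⊔ T) (mem_sup_left hn)) a).1 (h1 ha))
        ((o2 (N ⊔ T)).inv_mem (h1 ha))
  rw [h2, mem_bot] at h3
  have h4 : n * a = (n * a * n⁻¹ * a⁻¹) * (a * n) := by group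
  rw [h4, h3, one_mul]

/-- `H = ⟨A^H⟩T` -/
theorem sup_closure : normalClosure (A : Set H) ⊔ T = ⊤ := by
  by_contra hne
  have h2 := h.low _ le_sup_right hne
  have h3 : normalClosure (A : Set H) ⊓ o2 (normalClosure (A : Set H) ⊔ T) = ⊥ :=
    inf_o2 h inferInstance le_sup_left
  apply h.A1
  rw [eq_bot_iff, ← h3]
  exact le_inf subset_normalClosure h2

/-- a subgroup of `N` which is normalised by `T` is normal in `H` if `N` is centralised by `A` -/
theorem normal_of {N Y : Subgroup H} (hN : N.Normal) (hA : A ≤ centralizer (N : Set H)) (hYN : Y ≤ N)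
    (hT : ∀ t ∈ T, ∀ y ∈ Y, t * y * t⁻¹ ∈ Y) : Y.Normal := by
  have hc := comm_sub h hN hA
  refine normal_of_sup (sup_closure h) ?_ ?_
  · intro k hk
    rw [mem_normalizer_iff]
    intro z
    have h6 : ∀ z ∈ N, k * z * k⁻¹ = z := fun z hz => by
      rw [mem_centralizer_iff.1 (hc hz) k hk, mul_inv_cancel_right]
    constructor
    · intro hz
      rwa [h6 z (hYN hz)]
    · intro hz
      have h7 : k * (k * z * k⁻¹) * k⁻¹ = k * z * k⁻¹ := h6 _ (hYN hz)
      have h8 : k * z * k⁻¹ = z := by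
        have h9 := congrArg (fun w => k⁻¹ * w * k) h7
        simpa [mul_assoc] using h9
      rwa [h8] at hz
  · intro t ht
    rw [mem_normalizer_iff]
    intro z
    refine ⟨hT t ht z, fun hz => ?_⟩
    have h7 : t⁻¹ * (t * z * t⁻¹) * t⁻¹⁻¹ = z := by group
    rw [← h7]
    exact hT t⁻¹ (inv_mem ht) _ hz

/-- a `T`-minimal `P ≤ NT` fixes no vector `≠ 1` if the normal subgroup `N` is centralised by `A` -/
theorem inf_min {N : Subgroup H} (hN : N.Normal) (hA : A ≤ centralizer (N : Set H)) {P : Subgroup H}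
    (hP : IsMinPar T P) (hPN : P ≤ N ⊔ T) {v : M} (hv : v ≠ 1) : ∃ p ∈ P, p • v ≠ v := by
  by_contra hc
  push Not at hc
  have h5 : (P ⊓ N).Normal := by
    refine normal_of h hN hA inf_le_right fun t ht y hy => ?_
    exact ⟨P.mul_mem (P.mul_mem (hP.le ht) hy.1) (P.inv_mem (hP.le ht)), hN.conj_mem y hy.2 t⟩
  have h6 : P ⊓ N = ⊥ := eq_bot_of_fix h.faith h.irr h5 hv fun n hn => hc n hn.1
  have h4 := dedekind hN hP.le hPN
  rw [h6, bot_sup_eq] at h4
  exact hP.ne h4

/-- `N ∩ N_H(T)` fixes no vector `≠ 1`, or is trivial -/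
theorem inf_norm {N : Subgroup H} (hN : N.Normal) (hA : A ≤ centralizer (N : Set H)) {v : M} (hv : v ≠ 1)
    (hf : ∀ n ∈ N ⊓ normalizer (T : Set H), n • v = v) : N ⊓ normalizer (T : Set H) = ⊥ := by
  refine eq_bot_of_fix h.faith h.irr ?_ hv hf
  refine normal_of h hN hA inf_le_left fun t ht y hy => ?_
  refine ⟨hN.conj_mem y hy.1 t, ?_⟩
  have h1 : t ∈ normalizer (T : Set H) := le_normalizer ht
  have h2 : y ∈ normalizer (T : Set H) := hy.2
  change t * y * t⁻¹ ∈ normalizer (T : Set H)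
  exact mul_mem (mul_mem h1 h2) (inv_mem h1)

/-- **no non-trivial normal subgroup is centralised by `A`** -/
theorem bot_of_comm (nf : (∃ n ∈ normalizer (T : Set H), n • x ≠ x) → ∃ v : M, v ≠ 1 ∧
      ∀ n ∈ normalizer (T : Set H), n • v = v)
    (pf : ∀ P : Subgroup H, IsMinPar T P → (∃ p ∈ P, p • x ≠ x) → ∃ v : M, v ≠ 1 ∧ ∀ p ∈ P, p • v = v)
    {N : Subgroup H} (hN : N.Normal) (hA : A ≤ centralizer (N : Set H)) : N = ⊥ := by
  by_cases hfix : ∀ n ∈ N, n • x = x
  · exact eq_bot_of_fix h.faith h.irr hN h.x1 hfix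
  exfalso
  push Not at hfix
  obtain ⟨n, hn, hnx⟩ := hfix
  refine hnx (MulAction.mem_stabilizer_iff.1 ((?_ : N ⊔ T ≤ MulAction.stabilizer H x) (mem_sup_left hn)))
  refine le_of_forall (S := T) le_sup_right ?_ ?_
  · intro g hg
    have hg1 : g ∈ N ⊔ T := hg.1
    have hg2 : g ∈ normalizer (T : Set H) := hg.2
    rw [MulAction.mem_stabilizer_iff]
    by_contra hgx
    obtain ⟨v, hv, hvf⟩ := nf ⟨g, hg2, hgx⟩
    have h1 := inf_norm h hN hA hv fun n hn => hvf n hn.2
    rw [mem_sup_of_normal_left] at hg1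
    obtain ⟨a, ha, t, ht, rfl⟩ := hg1
    have h3 : t ∈ normalizer (T : Set H) := le_normalizer ht
    have h2 : a ∈ N ⊓ normalizer (T : Set H) := by
      refine ⟨ha, ?_⟩
      change a ∈ normalizer (T : Set H)
      have := mul_mem hg2 (inv_mem h3)
      rwa [mul_inv_cancel_right] at this
    rw [h1, mem_bot] at h2
    apply hgx
    rw [h2, one_mul, h.tx t ht]
  · intro P hP hPN p hp
    rw [MulAction.mem_stabilizer_iff]
    by_contra hpx
    obtain ⟨v, hv, hvf⟩ := pf P hP ⟨p, hp, hpx⟩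
    obtain ⟨q, hq, hqv⟩ := inf_min h hN hA hP hPN hv
    exact hqv (hvf q hq)

/-- **a normal subgroup of odd order is centralised by `A`** -/
theorem comm_of_odd {E : Subgroup H} (hE : E.Normal) (hodd : Odd (Nat.card E)) : A ≤ centralizer (E : Set H) := by
  by_cases hET : E ⊔ T = ⊤
  swap
  · exact comm_of_ne h hE hET
  have htriv : ∀ z : H, z ∈ E → ∀ Q : Subgroup H, IsPGroup 2 Q → z ∈ Q → z = 1 := by
    intro z hz Q hQ hzQ
    obtain ⟨k, hk⟩ := hQ ⟨z, hzQ⟩
    have h1 : z ^ 2 ^ k = 1 := congrArg Subtype.val hk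
    have h2 : orderOf z ∣ 2 ^ k := orderOf_dvd_of_pow_eq_one h1
    have h3 : orderOf z ∣ Nat.card E := by
      have h4 : orderOf (⟨z, hz⟩ : E) ∣ Nat.card E := orderOf_dvd_natCard _
      rwa [← orderOf_submonoid] at h4
    have h4 : Nat.Coprime (2 ^ k) (Nat.card E) := (Nat.coprime_two_left.2 hodd).pow_left k
    rw [← orderOf_eq_one_iff]
    exact Nat.eq_one_of_dvd_coprimes h4 h2 h3
  -- the subgroup `D` of `E` centralised by all `T`-conjugates of `A`
  let D : Subgroup H := E ⊓ centralizer {z : H | ∃ t ∈ T, ∃ a ∈ A, z = t * a * t⁻¹}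
  have hDT : ∀ s ∈ T, ∀ d ∈ D, s * d * s⁻¹ ∈ D := by
    intro s hs d hd
    refine ⟨hE.conj_mem d hd.1 s, mem_centralizer_iff.2 ?_⟩
    rintro _ ⟨t, ht, a, ha, rfl⟩
    have h1 := mem_centralizer_iff.1 hd.2 _ ⟨s⁻¹ * t, mul_mem (inv_mem hs) ht, a, ha, rfl⟩
    have h2 := congrArg (fun w => s * w * s⁻¹) h1
    simp only [mul_inv_rev, inv_inv] at h2
    calc t * a * t⁻¹ * (s * d * s⁻¹) = s * (s⁻¹ * t * a * (t⁻¹ * s) * d) * s⁻¹ := by group
      _ = s * (d * (s⁻¹ * t * a * (t⁻¹ * s))) * s⁻¹ := h2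
      _ = s * d * s⁻¹ * (t * a * t⁻¹) := by group
  have hDn : T ≤ normalizer (D : Set H) := by
    intro s hs
    rw [mem_normalizer_iff]
    intro z
    refine ⟨hDT s hs z, fun hz => ?_⟩
    have h1 := hDT s⁻¹ (inv_mem hs) _ hz
    have h2 : s⁻¹ * (s * z * s⁻¹) * s⁻¹⁻¹ = z := by group
    rwa [h2] at h1
  have hDT' : D ⊔ T = ⊤ := by
    by_contra hne
    refine h.nmax ⟨D ⊔ T, hne, ?_⟩
    intro R hTR hR
    have h1 : R ⊓ E ⊔ T = R := dedekind hE hTR (by rw [hET]; exact le_top)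
    rw [← h1]
    refine sup_le_sup_right ?_ T
    intro e he
    refine ⟨he.2, mem_centralizer_iff.2 ?_⟩
    rintro _ ⟨t, ht, a, ha, rfl⟩
    have h2 := h.low R hTR hR ha
    have h3 : t * a * t⁻¹ ∈ o2 R := (mem_normalizer_iff.1 (le_normalizer_o2 R (hTR ht)) a).1 h2
    set b := t * a * t⁻¹ with hb
    have h4 : e * b * e⁻¹ ∈ o2 R := (mem_normalizer_iff.1 (le_normalizer_o2 R he.1) b).1 h3
    have h5 : e * b * e⁻¹ * b⁻¹ = 1 := by
      refine htriv _ ?_ (o2 R) (o2_isPGroup R) (mul_mem h4 (inv_mem h3))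
      have h6 : b * e⁻¹ * b⁻¹ ∈ E := hE.conj_mem _ (inv_mem he.2) b
      have h7 : e * b * e⁻¹ * b⁻¹ = e * (b * e⁻¹ * b⁻¹) := by group
      rw [h7]
      exact mul_mem he.2 h6
    have h6 : e * b = (e * b * e⁻¹ * b⁻¹) * (b * e) := by group
    rw [h6, h5, one_mul]
  intro a ha
  rw [mem_centralizer_iff]
  intro e he
  have h1 : e ∈ D ⊔ T := hDT' ▸ mem_top e
  have h2 : e ∈ ((D ⊔ T : Subgroup H) : Set H) := h1
  rw [coe_mul_of_right_le_normalizer_left D T hDn] at h2
  obtain ⟨d, hd, t, ht, rfl⟩ := h2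
  have h3 : t ∈ E := by
    have := E.mul_mem (E.inv_mem hd.1) he
    simpa using this
  have h4 : t = 1 := htriv t h3 T h.two ht
  rw [h4]
  simp only [mul_one]
  have h5 := mem_centralizer_iff.1 hd.2 a ⟨1, one_mem T, a, ha, by group⟩
  exact h5.symm

/-- **`H` has no normal subgroup `≠ 1` of odd order** -/
theorem odd_of (nf : (∃ n ∈ normalizer (T : Set H), n • x ≠ x) → ∃ v : M, v ≠ 1 ∧
      ∀ n ∈ normalizer (T : Set H), n • v = v)
    (pf : ∀ P : Subgroup H, IsMinPar T P → (∃ p ∈ P, p • x ≠ x) → ∃ v : M, v ≠ 1 ∧ ∀ p ∈ P, p • v = v) :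
    ∀ N : Subgroup H, N.Normal → Odd (Nat.card N) → N = ⊥ :=
  fun _ hN hodd => bot_of_comm h nf pf hN (comm_of_odd h hN hodd)

end Core

end Cfsg.Agent.Omega.ML.Ex.OddCore

end

section


/-!
# The K-list for EXACT subgroups: small involutions of `K` (helper815)

* **`ASx.exists_comm`** : `1 ≠ a ∈ A` : there are `T ≤ R < X` and `k ∈ R ∩ S` with `1 ≠ [a, k] ∈ O₂(R) ∩ S`
  (otherwise `a` centralises `R ∩ S` for all overgroups `R` of `T`; the join of these groups is normal);
* **`InX.exists_inv`** : `1 ≠ a ∈ A` : `K` has an involution `x` with `|M : C_M(x)| ≤ |M : C_M(a)|²`.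
  So `A ∩ K = 1` is impossible if `|M : C_M(x)| > |A|²` for the involutions of `K`.
-/

set_option autoImplicit false

namespace Cfsg.Agent.Omega.ML.Ex.OutX

open Subgroup Cfsg Cfsg.Agent.ZN Cfsg.Agent.Omega.NOThree.NoOver Cfsg.Agent.Omega.ML.CD
open Cfsg.Agent.ClassTwoFusion.Quad
open Cfsg.Agent.MinSimple.VModule (o2_isPGroup o2_le le_o2 le_normalizer_o2)

universe u v

theorem exists_comm {X : Type u} [Group X] {S T A : Subgroup X} (h : ASx S T A) {a : X} (ha : a ∈ A)
    (ha1 : a ≠ 1) :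
    ∃ R : Subgroup X, T ≤ R ∧ R ≠ ⊤ ∧ ∃ k ∈ R, k ∈ S ∧ a * k * a⁻¹ * k⁻¹ ≠ 1 ∧
      a * k * a⁻¹ * k⁻¹ ∈ o2 R ∧ a * k * a⁻¹ * k⁻¹ ∈ S := by
  by_contra hc
  push Not at hc
  have hSn := h.norm
  -- `a` centralises `R ∩ S`
  have h1 : ∀ R : Subgroup X, T ≤ R → R ≠ ⊤ → ∀ k ∈ R, k ∈ S → k * a = a * k := by
    intro R hTR hR k hk hkS
    have haR : a ∈ o2 R := h.low R hTR hR ha
    have h2 : a * k * a⁻¹ * k⁻¹ ∈ o2 R := by
      have h3 : k * a⁻¹ * k⁻¹ ∈ o2 R := (mem_normalizer_iff.1 (le_normalizer_o2 R hk) a⁻¹).1 (inv_mem haR)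
      have := mul_mem haR h3
      simpa only [mul_assoc] using this
    have h4 : a * k * a⁻¹ * k⁻¹ ∈ S := mul_mem (hSn.conj_mem k hkS a) (inv_mem hkS)
    have h5 : a * k * a⁻¹ * k⁻¹ = 1 := by
      by_contra h6
      exact hc R hTR hR k hk hkS h6 h2 h4
    have h6 : a * k * a⁻¹ = k := mul_inv_eq_one.1 h5
    exact (mul_inv_eq_iff_eq_mul.1 h6).symm
  -- the join
  let 𝒬 : Set (Subgroup X) := {Q | ∃ R : Subgroup X, T ≤ R ∧ R ≠ ⊤ ∧ Q = R ⊓ S}
  let N : Subgroup X := sSup 𝒬
  have hNS : N ≤ S := sSup_le fun Q ⟨R, _, _, hQ⟩ => hQ ▸ inf_le_right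
  have hNa : N ≤ centralizer ({a} : Set X) := sSup_le fun Q ⟨R, hTR, hR, hQ⟩ => by
    rw [hQ]
    intro k hk
    exact mem_centralizer_singleton_iff.2 (h1 R hTR hR k hk.1 hk.2)
  have hTN : T ≤ normalizer (N : Set X) := by
    intro t ht
    have h2 : N.map (MulAut.conj t).toMonoidHom ≤ N := by
      rw [map_le_iff_le_comap]
      refine sSup_le ?_
      rintro Q ⟨R, hTR, hR, rfl⟩ k hk
      exact (le_sSup (⟨R, hTR, hR, rfl⟩ : R ⊓ S ∈ 𝒬) : R ⊓ S ≤ N)
        ⟨R.mul_mem (R.mul_mem (hTR ht) hk.1) (R.inv_mem (hTR ht)), hSn.conj_mem k hk.2 t⟩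
    have h2' : N.map (MulAut.conj t⁻¹).toMonoidHom ≤ N := by
      rw [map_le_iff_le_comap]
      refine sSup_le ?_
      rintro Q ⟨R, hTR, hR, rfl⟩ k hk
      exact (le_sSup (⟨R, hTR, hR, rfl⟩ : R ⊓ S ∈ 𝒬) : R ⊓ S ≤ N)
        ⟨R.mul_mem (R.mul_mem (hTR (inv_mem ht)) hk.1) (R.inv_mem (hTR (inv_mem ht))), hSn.conj_mem k hk.2 t⁻¹⟩
    rw [mem_normalizer_iff]
    intro g
    constructor
    · intro hg
      exact h2 ⟨g, hg, rfl⟩
    · intro hg
      have h3 := h2' ⟨_, hg, rfl⟩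
      have h4 : (MulAut.conj t⁻¹).toMonoidHom (t * g * t⁻¹) = g := by
        show t⁻¹ * (t * g * t⁻¹) * t⁻¹⁻¹ = g
        group
      rwa [h4] at h3
  have hle : ∀ R : Subgroup X, T ≤ R → R ≠ ⊤ → R ≤ N ⊔ T := by
    intro R hTR hR r hr
    have h2 : r ∈ S ⊔ T := h.gen ▸ mem_top r
    obtain ⟨s, hs, t, ht, rfl⟩ := mem_sup_of_normal_left.1 h2
    have h3 : s ∈ R := by
      have := mul_mem hr (inv_mem (hTR ht))
      rwa [mul_inv_cancel_right] at this
    have h4 : s ∈ N := (le_sSup (⟨R, hTR, hR, rfl⟩ : R ⊓ S ∈ 𝒬) : R ⊓ S ≤ N) ⟨h3, hs⟩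
    exact mul_mem (mem_sup_left h4) (mem_sup_right ht)
  have htop : N ⊔ T = ⊤ := by
    by_contra h2
    exact h.nmax ⟨N ⊔ T, h2, hle⟩
  have hNn : N.Normal := by
    rw [← normalizer_eq_top_iff, eq_top_iff, ← htop]
    exact sup_le le_normalizer hTN
  have hsim := h.simple
  rcases hsim.eq_bot_or_eq_top_of_normal (N.subgroupOf S) inferInstance with h2 | h2
  · have h3 : N = ⊥ := by
      rw [subgroupOf_eq_bot] at h2
      exact h2.eq_bot_of_le hNS
    rw [h3, bot_sup_eq] at htop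
    exact h.ne_top htop
  · have h3 : S ≤ N := subgroupOf_eq_top.1 h2
    have h4 : a ∈ centralizer (S : Set X) := by
      rw [mem_centralizer_iff]
      intro s hs
      exact mem_centralizer_singleton_iff.1 (hNa (h3 hs))
    rw [h.cen] at h4
    exact ha1 (mem_bot.1 h4)

section module

variable {H : Type u} [Group H] {M : Type v} [Group M] [MulDistribMulAction H M] {K T A : Subgroup H}

theorem index_comm_le [Finite M] (a k : H) :
    (cv M ({a * k * a⁻¹ * k⁻¹} : Set H)).index ≤ (cv M ({a} : Set H)).index ^ 2 := by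
  have h1 : cv M ({a} : Set H) ⊓ cv M ({k * a * k⁻¹} : Set H) ≤ cv M ({a * k * a⁻¹ * k⁻¹} : Set H) := by
    intro m hm
    have h2 := mem_cv_singleton.1 hm.1
    have h3 := mem_cv_singleton.1 hm.2
    rw [mem_cv_singleton]
    have h4 : (k * a * k⁻¹)⁻¹ • m = m := by rw [inv_smul_eq_iff, h3]
    have h5 : a * k * a⁻¹ * k⁻¹ = a * (k * a * k⁻¹)⁻¹ := by group
    rw [h5, mul_smul, h4, h2]
  calc (cv M ({a * k * a⁻¹ * k⁻¹} : Set H)).index
      ≤ (cv M ({a} : Set H) ⊓ cv M ({k * a * k⁻¹} : Set H)).index :=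
        Nat.le_of_dvd (Nat.pos_of_ne_zero index_ne_zero_of_finite) (index_dvd_of_le h1)
    _ ≤ (cv M ({a} : Set H)).index * (cv M ({k * a * k⁻¹} : Set H)).index := Subgroup.index_inf_le
    _ = (cv M ({a} : Set H)).index ^ 2 := by rw [InvFrob.index_cv_conj, pow_two]

/-- **A small involution of `K`.** -/
theorem exists_inv [Finite H] [Finite M] (h : InX H M K T A) {a : H} (ha : a ∈ A) (ha1 : a ≠ 1) :
    ∃ x ∈ K, x ≠ 1 ∧ x * x = 1 ∧ (cv M ({x} : Set H)).index ≤ (cv M ({a} : Set H)).index ^ 2 := by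
  obtain ⟨R, -, -, k, -, -, h1, h2, h3⟩ := exists_comm h.asx ha ha1
  set w := a * k * a⁻¹ * k⁻¹ with hw
  obtain ⟨n, hn⟩ : ∃ n, orderOf w = 2 ^ n := by
    obtain ⟨n, hn⟩ := (IsPGroup.iff_orderOf.1 (o2_isPGroup R)) ⟨w, h2⟩
    exact ⟨n, by rw [← hn, orderOf_mk]⟩
  have hn0 : n ≠ 0 := by
    rintro rfl
    rw [pow_zero, orderOf_eq_one_iff] at hn
    exact h1 hn
  obtain ⟨l, rfl⟩ := Nat.exists_eq_succ_of_ne_zero hn0
  have hx2 : orderOf (w ^ 2 ^ l) = 2 := by
    rw [orderOf_pow_of_dvd (by positivity) (by rw [hn]; exact pow_dvd_pow 2 (Nat.le_succ l)), hn, pow_succ,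
      Nat.mul_div_cancel_left _ (by positivity)]
  refine ⟨w ^ 2 ^ l, pow_mem h3 _, ?_, ?_, ?_⟩
  · intro h4
    rw [h4, orderOf_one] at hx2
    norm_num at hx2
  · rw [← pow_two]
    exact orderOf_dvd_iff_pow_eq_one.1 hx2.dvd
  · refine le_trans ?_ (index_comm_le (M := M) a k)
    refine Nat.le_of_dvd (Nat.pos_of_ne_zero index_ne_zero_of_finite) (index_dvd_of_le ?_)
    intro m hm
    rw [mem_cv_singleton] at hm ⊢
    have h4 : zpowers w ≤ MulAction.stabilizer H m := by
      rw [zpowers_le]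
      exact MulAction.mem_stabilizer_iff.2 hm
    exact MulAction.mem_stabilizer_iff.1 (h4 (npow_mem_zpowers w _))

/-- `|M : C_M(x)| ≤ |A|²` for some involution `x` of `K`. -/
theorem exists_inv_card [Finite H] [Finite M] (h : InX H M K T A) :
    ∃ x ∈ K, x ≠ 1 ∧ x * x = 1 ∧ (cv M ({x} : Set H)).index ≤ Nat.card A ^ 2 := by
  obtain ⟨a, ha, ha1⟩ : ∃ a ∈ A, a ≠ 1 := by
    by_contra hc
    push Not at hc
    exact h.A_ne_bot ((eq_bot_iff_forall A).2 hc)
  obtain ⟨x, h1, h2, h3, h4⟩ := exists_inv h ha ha1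
  refine ⟨x, h1, h2, h3, h4.trans (Nat.pow_le_pow_left ?_ 2)⟩
  rw [← h.exact]
  exact Nat.le_of_dvd (Nat.pos_of_ne_zero index_ne_zero_of_finite)
    (index_dvd_of_le (cv_anti (Set.singleton_subset_iff.2 ha)))

/-- **`|A| = 4`** : `|M : C_M(x)| ≤ 16` for some involution `x` of `K`. -/
theorem exists_inv_four [Finite H] [Finite M] (h : InX H M K T A) (h4 : Nat.card A = 4) :
    ∃ x ∈ K, x ≠ 1 ∧ x * x = 1 ∧ (cv M ({x} : Set H)).index ≤ 2 ^ 4 := by
  obtain ⟨x, h1, h2, h3, h5⟩ := exists_inv_card h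
  exact ⟨x, h1, h2, h3, by rw [h4] at h5; exact h5⟩

/-- **`A ∩ K ≠ 1`** if `|A|² < |M : C_M(x)|` for the involutions of `K` is excluded otherwise: an involution `x ∈ K` with
`|M : C_M(x)| ≤ |A|` or `A ∩ K = 1` and `|M : C_M(x)| ≤ |A|²`. -/
theorem exists_inv_or [Finite H] [Finite M] (h : InX H M K T A) :
    (∃ x ∈ A, x ∈ K ∧ x ≠ 1) ∨
      (K ⊓ A = ⊥ ∧ ∃ x ∈ K, x ≠ 1 ∧ x * x = 1 ∧ (cv M ({x} : Set H)).index ≤ Nat.card A ^ 2) := by
  by_cases hc : ∃ x ∈ A, x ∈ K ∧ x ≠ 1
  · exact Or.inl hc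
  · push Not at hc
    refine Or.inr ⟨?_, exists_inv_card h⟩
    rw [eq_bot_iff]
    rintro x ⟨hx1, hx2⟩
    exact hc x hx2 hx1

end module

end Cfsg.Agent.Omega.ML.Ex.OutX

end
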