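import Cfsg.Agent.Mrg.Omega.ML.Ex.Def
import Cfsg.Agent.Mrg.Omega.ML.ExLow.NumX
import Cfsg.Agent.Mrg.Omega.ML.RowFi22
import Cfsg.Agent.Mrg.Omega.ML.RowHe
import Cfsg.Agent.Mrg.Omega.ML.Ex.RedDef
import Cfsg.Agent.Mrg.Omega.ML.Ex.Two
import Cfsg.Agent.Mrg.Omega.ML.Ex.Red3
import Cfsg.Agent.Mrg.Omega.ML.Ex.DefN
import Cfsg.Agent.Mrg.Omega.ML.LocM24

section


/-!
# Exact and low configurations: the numerical rows `Fi22` and `He` (helper114)

* `false_of_nx`, `deadX_of_nx` : the numerical criterion `NX` (`LB K n`, `|X| < 2 ^ n`) over `InX`;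
* `fi22 : DeadX @Spor.IsoFi22` (`|M| ≥ 2 ^ 54`, `|H| < 2 ^ 47`);
* `he : DeadX @Spor.IsoHe` (`|M| ≥ 2 ^ 42`, `|H| < 2 ^ 33`).
-/

set_option autoImplicit false

namespace Cfsg.Agent.Omega.ML.Ex.RowFi22X

open Subgroup Cfsg Cfsg.Agent.ClassTwoFusion.Quad Cfsg.Agent.Omega.NOThree.NoOver Cfsg.Agent.Omega.ML.CD
open Cfsg.Agent.Omega.ML.ExLow.NumX Cfsg.Agent.Omega.Lie

universe u v w

/-- a simple group which is not abelian is perfect -/
theorem perfect {K : Type u} [Group K] (hs : IsSimpleGroup K) (hc : ¬ ∀ a b : K, a * b = b * a) :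
    _root_.commutator K = ⊤ := by
  rcases hs.eq_bot_or_eq_top_of_normal (_root_.commutator K) inferInstance with h | h
  · exfalso
    apply hc
    intro a b
    rw [_root_.commutator_def, commutator_eq_bot_iff_le_centralizer] at h
    exact (mem_centralizer_iff.1 (h (mem_top a)) b (mem_top b)).symm
  · exact h

/-- `K` is not abelian -/
theorem not_comm {H : Type u} [Group H] {M : Type v} [Group M] [MulDistribMulAction H M] {K T A : Subgroup H}
    (h : InX H M K T A) : ¬ ∀ a b : K, a * b = b * a := by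
  intro hc
  have h1 : K ≤ centralizer (K : Set H) := by
    intro x hx
    rw [mem_centralizer_iff]
    intro y hy
    exact congrArg Subtype.val (hc ⟨y, hy⟩ ⟨x, hx⟩)
  rw [h.cen] at h1
  have hs := h.simple
  obtain ⟨x, hx⟩ := exists_ne (1 : K)
  exact hx (Subtype.ext (mem_bot.1 (h1 x.2)))

/-- `|M| = |A| |C_M(A)|` -/
theorem card_eq {H : Type u} [Group H] {M : Type v} [Group M] [MulDistribMulAction H M] {K T A : Subgroup H}
    (h : InX H M K T A) : Nat.card M = fo M A := by
  rw [fo, ← h.exact, mul_comm]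
  exact ((cv M (A : Set H)).card_mul_index).symm

/-- **The numerical criterion.** -/
theorem false_of_nx {H : Type u} [Group H] [Finite H] {M : Type v} [Group M] [Finite M] [MulDistribMulAction H M]
    {K T A : Subgroup H} (h : InX H M K T A) (hS : NX.{u, v} K) : False := by
  refine false_of h.norm h.simple (perfect h.simple (not_comm h)) h.cen h.sq ?_ h.el h.A_ne_bot (card_eq h).le hS
  by_contra hcon
  have h1 : ∀ k ∈ K, ∀ m : M, k • m = m := fun k hk m => not_mv hcon hk m
  have hs := h.simple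
  obtain ⟨x, hx⟩ := exists_ne (1 : K)
  exact hx (Subtype.ext (h.faith x (h1 x x.2)))

/-- **The numerical criterion for a class.** -/
theorem deadX_of_nx {𝒮 : ∀ (S : Type u) [Group S], Prop}
    (h : ∀ (S : Type u) [Group S] [Finite S], 𝒮 S → NX.{u, v} S) : DeadX.{u, v} 𝒮 :=
  fun _ _ _ _ _ _ _ K _ _ hI hS => false_of_nx hI (h K hS)

theorem nx_fi22 {S : Type u} [Group S] (hS : Spor.IsoFi22 S) : NX.{u, v} S := by
  refine NX.of_lt (n := 54) (b := 1) (RowFi22.lb hS) ?_ ?_
  · obtain ⟨e⟩ := hS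
    exact RowFi22.outB e
  · obtain ⟨e⟩ := hS
    rw [Nat.card_congr e.toEquiv, RowFi22.isFi22.2]
    norm_num

/-- **The row `Fi22`.** -/
theorem fi22 : DeadX.{u, v} @Spor.IsoFi22 := deadX_of_nx fun _ _ _ hS => nx_fi22 hS

theorem nx_he {S : Type u} [Group S] (hS : Spor.IsoHe S) : NX.{u, v} S := by
  refine NX.of_lt (n := 42) (b := 1) (RowHe.lb hS) (RowHe.outB hS) ?_
  rw [(TwoF.RowHe.card_of hS).2]
  norm_num

/-- **The row `He`.** -/
theorem he : DeadX.{u, v} @Spor.IsoHe := deadX_of_nx fun _ _ _ hS => nx_he hS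

end Cfsg.Agent.Omega.ML.Ex.RowFi22X

end

section


/-!
# (E1) of EXT (#22253, 585): THEOREM RED carries two `T`-fixed vectors to one component (helper690)

`X = KT`, `K = E × C_K(E)` as in `CmpM`, `M` irreducible.  Then `M = [M,E] × C_M(E)`; the components in `[M,E]` of two
`T`-fixed vectors `x, y ≠ 1` are `≠ 1` and `N_T(E)`-fixed, and if an overgroup `R` of `T` fixes `y` and moves `x`, then
an overgroup `R₁ ≤ E N_T(E)` of `N_T(E)` fixes the component of `y` and moves the component of `x`.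

* `Mv T x y` : two `T`-fixed vectors and such an `R`;
* **`CmpM.exists_mv`** : the result inside `X`;
* **`CmpM.mv`** : the result for a group `X₁` acting on `[M,E]` and `φ : E N_T(E) → X₁`.
-/

set_option autoImplicit false

namespace Cfsg.Agent.Omega.ML.Ex.Red

open Subgroup Cfsg Cfsg.Agent.ZN Cfsg.Agent.Omega.NOThree.NoOver Cfsg.Agent.Omega.ML.CD
open Cfsg.Agent.ClassTwoFusion.Quad Cfsg.Agent.Omega.ML.MinFrame

universe u v w

variable {X : Type u} [Group X] {M : Type v} [Group M] [MulDistribMulAction X M]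

/-- Two `T`-fixed vectors `x, y ≠ 1` and an overgroup of `T` which fixes `y` and moves `x`. -/
structure Mv (T : Subgroup X) (x y : M) : Prop where
  xT : ∀ t ∈ T, t • x = x
  yT : ∀ t ∈ T, t • y = y
  x1 : x ≠ 1
  y1 : y ≠ 1
  mv : ∃ R : Subgroup X, T ≤ R ∧ (∀ r ∈ R, r • y = y) ∧ ∃ r ∈ R, r • x ≠ x

variable {T B K E : Subgroup X} {lam : M}

/-- `g` with `[M,g] ≤ U` -/
def into (U : Subgroup M) (sq : ∀ m : M, m * m = 1) : Subgroup X where
  carrier := {g | ∀ m : M, g • m * m ∈ U}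
  one_mem' := fun m => by rw [one_smul, sq]; exact U.one_mem
  mul_mem' := by
    intro g k hg hk m
    have h1 : (g * k) • m * m = (g • (k • m) * (k • m)) * (k • m * m) := by
      rw [mul_smul, mul_assoc (g • k • m), ← mul_assoc (k • m) (k • m), sq, one_mul]
    rw [h1]
    exact U.mul_mem (hg _) (hk m)
  inv_mem' := by
    intro g hg m
    have h1 := hg (g⁻¹ • m)
    rw [smul_inv_smul] at h1
    have h2 : g⁻¹ • m * m = (m * g⁻¹ • m)⁻¹ := by
      rw [mul_inv_rev, inv_eq_of_mul_eq_one_right (sq m), inv_eq_of_mul_eq_one_right (sq (g⁻¹ • m))]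
    rw [h2]
    exact U.inv_mem h1

theorem mem_sup_comm {E C : Subgroup X} (hC : C ≤ centralizer (E : Set X)) {g : X} (hg : g ∈ E ⊔ C) :
    ∃ e ∈ E, ∃ c ∈ C, e * c = g := by
  let U : Subgroup X :=
    { carrier := {g | ∃ e ∈ E, ∃ c ∈ C, e * c = g}
      one_mem' := ⟨1, E.one_mem, 1, C.one_mem, one_mul 1⟩
      mul_mem' := by
        rintro _ _ ⟨e, he, c, hc, rfl⟩ ⟨f, hf, d, hd, rfl⟩
        refine ⟨e * f, E.mul_mem he hf, c * d, C.mul_mem hc hd, ?_⟩
        have h2 : f * c = c * f := mem_centralizer_iff.1 (hC hc) f hf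
        rw [mul_assoc e f, ← mul_assoc f c d, h2, mul_assoc c f d, ← mul_assoc e c]
      inv_mem' := by
        rintro _ ⟨e, he, c, hc, rfl⟩
        refine ⟨e⁻¹, E.inv_mem he, c⁻¹, C.inv_mem hc, ?_⟩
        have h2 : e * c = c * e := mem_centralizer_iff.1 (hC hc) e he
        rw [h2, mul_inv_rev] }
  have h1 : E ⊔ C ≤ U := sup_le (fun e he => ⟨e, he, 1, C.one_mem, mul_one e⟩)
    fun c hc => ⟨1, E.one_mem, c, hc, one_mul c⟩
  exact h1 hg

namespace CmpM

/-- `E^{t⁻¹}` is in `C_K(E)` -/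
theorem conj_inv (h : CmpM T B K E lam) {t : X} (ht : t ∈ T) (htn : t ∉ normalizer (E : Set X)) {f : X}
    (hf : f ∈ E) : t⁻¹ * f * t ∈ K ∧ t⁻¹ * f * t ∈ centralizer (E : Set X) := by
  constructor
  · have := h.cmp.normK.conj_mem f (h.cmp.EK hf) t⁻¹
    rwa [inv_inv] at this
  · refine h.cmp.conj t⁻¹ (T.inv_mem ht) (fun h1 => htn (by simpa using inv_mem h1)) ⟨f, hf, ?_⟩
    simp

/-- `M = [M,E] C_M(E)` for irreducible `M` -/
theorem sup_top (h : CmpM T B K E lam)
    (irr : ∀ W : Subgroup M, (∀ g : X, ∀ w ∈ W, g • w ∈ W) → W = ⊥ ∨ W = ⊤) (m : M) :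
    m ∈ cm M E ⊔ cv M (E : Set X) := by
  have h1 : K ≤ into (X := X) (cm M E ⊔ cv M (E : Set X)) h.cmp.mn.sq := by
    refine h.cmp.tcl.trans (tcl_le fun t ht => ?_)
    rintro _ ⟨e, he, rfl⟩ n
    by_cases htn : t ∈ normalizer (E : Set X)
    · have h2 : t * e * t⁻¹ ∈ E := (mem_normalizer_iff.1 htn e).1 he
      exact mem_sup_left (mem_cm h2 n)
    · refine mem_sup_right fun f hf => ?_
      obtain ⟨h3, h4⟩ := h.conj_inv ht htn hf
      have e1 : (MulAut.conj t) e • n * n = t • (e • (t⁻¹ • n) * (t⁻¹ • n)) := by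
        rw [MulAut.conj_apply, smul_mul', smul_inv_smul, mul_smul, mul_smul]
      change f • ((MulAut.conj t) e • n * n) = (MulAut.conj t) e • n * n
      rw [e1]
      have h5 := h.cenN _ h3 h4 _ (mem_cm he (t⁻¹ • n))
      rw [mul_smul, mul_smul, inv_smul_eq_iff] at h5
      exact h5
  have h2 : cm M K = ⊤ := by
    refine (irr (cm M K) fun g w hw => smul_mem_cm ?_ hw).resolve_left fun h3 => ?_
    · rw [@normalizer_eq_top _ _ K h.cmp.normK]
      trivial
    · have hs := h.cmp.simple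
      obtain ⟨e, he⟩ := exists_ne (1 : E)
      refine he (Subtype.ext (h.cmp.mn.faith e fun n => ?_))
      have h4 : (e : X) • n * n ∈ cm M K := mem_cm (h.cmp.EK e.2) n
      rw [h3, mem_bot] at h4
      rw [eq_inv_of_mul_eq_one_left h4, inv_eq_of_mul_eq_one_right (h.cmp.mn.sq n)]
  have h3 : cm M K ≤ cm M E ⊔ cv M (E : Set X) := cm_le fun k hk n => h1 hk n
  rw [h2] at h3
  exact h3 trivial

/-- `C_M(K) = 1` for irreducible `M` -/
theorem cvK (h : CmpM T B K E lam)
    (irr : ∀ W : Subgroup M, (∀ g : X, ∀ w ∈ W, g • w ∈ W) → W = ⊥ ∨ W = ⊤) {m : M}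
    (hm : ∀ k ∈ K, k • m = m) : m = 1 := by
  have h1 : cv M (K : Set X) = ⊥ := by
    refine (irr (cv M (K : Set X)) fun g w hw k hk => ?_).resolve_right fun h3 => ?_
    · have h1 : g⁻¹ * k * g ∈ K := by
        have := h.cmp.normK.conj_mem k hk g⁻¹
        rwa [inv_inv] at this
      have h2 := hw _ h1
      rw [mul_smul, mul_smul, inv_smul_eq_iff] at h2
      exact h2
    · have hs := h.cmp.simple
      obtain ⟨e, he⟩ := exists_ne (1 : E)
      refine he (Subtype.ext (h.cmp.mn.faith e fun n => ?_))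
      have h4 : n ∈ cv M (K : Set X) := h3 ▸ mem_top n
      exact h4 e (h.cmp.EK e.2)
  have h2 : m ∈ cv M (K : Set X) := hm
  rwa [h1, mem_bot] at h2

/-- `[M,E] ∩ C_M(E) = 1` for irreducible `M` -/
theorem inf_bot (h : CmpM T B K E lam)
    (irr : ∀ W : Subgroup M, (∀ g : X, ∀ w ∈ W, g • w ∈ W) → W = ⊥ ∨ W = ⊤) {m : M}
    (h1 : m ∈ cm M E) (h2 : ∀ e ∈ E, e • m = m) : m = 1 := by
  refine h.cvK irr fun k hk => ?_
  have h3 : E ⊔ (K ⊓ centralizer (E : Set X)) ≤ MulAction.stabilizer X m := by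
    refine sup_le (fun e he => MulAction.mem_stabilizer_iff.2 (h2 e he)) fun f hf => ?_
    exact MulAction.mem_stabilizer_iff.2 (h.cenN f hf.1 hf.2 m h1)
  rw [h.cmp.sup] at h3
  exact MulAction.mem_stabilizer_iff.1 (h3 hk)

/-- uniqueness of the decomposition -/
theorem uniq (h : CmpM T B K E lam)
    (irr : ∀ W : Subgroup M, (∀ g : X, ∀ w ∈ W, g • w ∈ W) → W = ⊥ ∨ W = ⊤) {a a' b b' : M}
    (ha : a ∈ cm M E) (hb : b ∈ cm M E) (ha' : a' ∈ cv M (E : Set X)) (hb' : b' ∈ cv M (E : Set X))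
    (hab : a * a' = b * b') : a = b ∧ a' = b' := by
  have h1 : b⁻¹ * a = b' * a'⁻¹ := by
    rw [inv_mul_eq_iff_eq_mul, ← mul_assoc, ← hab, mul_inv_cancel_right]
  have h2 : b⁻¹ * a = 1 := by
    refine h.inf_bot irr ((cm M E).mul_mem ((cm M E).inv_mem hb) ha) fun e he => ?_
    rw [h1]
    exact ((cv M (E : Set X)).mul_mem hb' ((cv M (E : Set X)).inv_mem ha')) e he
  rw [inv_mul_eq_one] at h2
  refine ⟨h2.symm, ?_⟩
  rw [h2] at hab
  exact mul_left_cancel hab

/-- a `T`-fixed vector which is fixed by `E` is `1` -/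
theorem eq_one_of_fix (h : CmpM T B K E lam)
    (irr : ∀ W : Subgroup M, (∀ g : X, ∀ w ∈ W, g • w ∈ W) → W = ⊥ ∨ W = ⊤) {x : M}
    (h2 : ∀ t ∈ T, ∀ e ∈ E, (t * e * t⁻¹) • x = x) : x = 1 := by
  refine h.cvK irr fun k hk => ?_
  have h3 : tcl T E ≤ MulAction.stabilizer X x := by
    refine tcl_le fun t ht => ?_
    rintro _ ⟨e, he, rfl⟩
    exact MulAction.mem_stabilizer_iff.2 (h2 t ht e he)
  exact MulAction.mem_stabilizer_iff.1 (h3 (h.cmp.tcl hk))

/-- `N(E)` acts on `C_M(E)` -/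
theorem smul_mem_cv {g : X} (hg : g ∈ normalizer (E : Set X)) {m : M} (hm : m ∈ cv M (E : Set X)) :
    g • m ∈ cv M (E : Set X) := by
  intro e he
  have h1 : g⁻¹ * e * g ∈ E := by
    have := (mem_normalizer_iff.1 (inv_mem hg) e).1 he
    rwa [inv_inv] at this
  have h2 := hm _ h1
  rw [mul_smul, mul_smul, inv_smul_eq_iff] at h2
  exact h2

/-- **The component of a `T`-fixed vector.** -/
theorem exists_part (h : CmpM T B K E lam)
    (irr : ∀ W : Subgroup M, (∀ g : X, ∀ w ∈ W, g • w ∈ W) → W = ⊥ ∨ W = ⊤) {x : M}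
    (hx : ∀ t ∈ T, t • x = x) (hx1 : x ≠ 1) :
    ∃ a ∈ cm M E, ∃ a' ∈ cv M (E : Set X), x = a * a' ∧ a ≠ 1 ∧
      ∀ t ∈ T, t ∈ normalizer (E : Set X) → t • a = a := by
  have hN : (cv M (E : Set X)).Normal := ⟨fun x hx g => by
    rw [comm_of_sq' h.cmp.mn.sq g x, mul_inv_cancel_right]; exact hx⟩
  obtain ⟨a, ha, a', ha', hxa⟩ := mem_sup_of_normal_right.1 (h.sup_top irr x)
  refine ⟨a, ha, a', ha', hxa.symm, ?_, ?_⟩
  · rintro rfl
    rw [one_mul] at hxa
    subst hxa
    refine hx1 (h.eq_one_of_fix irr fun t ht e he => ?_)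
    have h1 : t⁻¹ • a' = a' := hx _ (T.inv_mem ht)
    rw [mul_smul, mul_smul, h1, ha' e he, hx t ht]
  · intro t ht htn
    refine (h.uniq irr (smul_mem_cm htn ha) ha (smul_mem_cv htn ha') ha' ?_).1
    rw [← smul_mul', hxa, hx t ht]

/-- **(E1), inside `X`.** -/
theorem exists_mv (h : CmpM T B K E lam)
    (irr : ∀ W : Subgroup M, (∀ g : X, ∀ w ∈ W, g • w ∈ W) → W = ⊥ ∨ W = ⊤) {x y : M} (hm : Mv T x y) :
    ∃ a ∈ cm M E, ∃ b ∈ cm M E, a ≠ 1 ∧ b ≠ 1 ∧ (∀ t ∈ T, t ∈ normalizer (E : Set X) → t • a = a) ∧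
      (∀ t ∈ T, t ∈ normalizer (E : Set X) → t • b = b) ∧
      ∃ R : Subgroup X, T ⊓ normalizer (E : Set X) ≤ R ∧ R ≤ E ⊔ (T ⊓ normalizer (E : Set X)) ∧
        (∀ r ∈ R, r • b = b) ∧ ∃ r ∈ R, r ∈ E ∧ r • a ≠ a := by
  obtain ⟨R, hTR, hy, r, hr, hrx⟩ := hm.mv
  obtain ⟨a, ha, a', ha', hxa, ha1, hat⟩ := h.exists_part irr hm.xT hm.x1
  obtain ⟨b, hb, b', hb', hyb, hb1, hbt⟩ := h.exists_part irr hm.yT hm.y1
  have hnc : ∀ c ∈ centralizer (E : Set X), c ∈ normalizer (E : Set X) := fun c hc =>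
    (centralizer_le_normalizer (E : Set X)) hc
  -- the projection of `R ∩ K` to `E`
  let RE : Subgroup X :=
    { carrier := {e | e ∈ E ∧ ∃ c ∈ K, c ∈ centralizer (E : Set X) ∧ e * c ∈ R}
      one_mem' := ⟨E.one_mem, 1, K.one_mem, Subgroup.one_mem _, by rw [one_mul]; exact R.one_mem⟩
      mul_mem' := by
        rintro e f ⟨he, c, hcK, hcc, hec⟩ ⟨hf, d, hdK, hdc, hfd⟩
        refine ⟨E.mul_mem he hf, c * d, K.mul_mem hcK hdK, Subgroup.mul_mem _ hcc hdc, ?_⟩
        have h1 : e * f * (c * d) = (e * c) * (f * d) := by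
          have h2 : f * c = c * f := mem_centralizer_iff.1 hcc f hf
          rw [mul_assoc e f, ← mul_assoc f c d, h2, mul_assoc c f d, ← mul_assoc e c]
        rw [h1]
        exact R.mul_mem hec hfd
      inv_mem' := by
        rintro e ⟨he, c, hcK, hcc, hec⟩
        refine ⟨E.inv_mem he, c⁻¹, K.inv_mem hcK, Subgroup.inv_mem _ hcc, ?_⟩
        have h1 : e⁻¹ * c⁻¹ = (e * c)⁻¹ := by
          have h2 : e * c = c * e := mem_centralizer_iff.1 hcc e he
          rw [h2, mul_inv_rev]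
        rw [h1]
        exact R.inv_mem hec }
  have hREb : ∀ e ∈ RE, e • b = b := by
    rintro e ⟨he, c, hcK, hcc, hec⟩
    have h1 := hy _ hec
    rw [hyb, smul_mul', mul_smul, mul_smul, h.cenN c hcK hcc b hb] at h1
    have h2 : c • b' ∈ cv M (E : Set X) := smul_mem_cv (hnc c hcc) hb'
    rw [h2 e he] at h1
    exact (h.uniq irr (smul_mem_cm (le_normalizer he) hb) hb h2 hb' h1).1
  refine ⟨a, ha, b, hb, ha1, hb1, hat, hbt, RE ⊔ (T ⊓ normalizer (E : Set X)), le_sup_right,
    sup_le_sup_right (fun e he => he.1) _, ?_, ?_⟩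
  · have h1 : RE ⊔ (T ⊓ normalizer (E : Set X)) ≤ MulAction.stabilizer X b :=
      sup_le (fun e he => MulAction.mem_stabilizer_iff.2 (hREb e he))
        fun t ht => MulAction.mem_stabilizer_iff.2 (hbt t ht.1 ht.2)
    exact fun r hr => MulAction.mem_stabilizer_iff.1 (h1 hr)
  · by_contra hcon
    push Not at hcon
    have hREa : ∀ e ∈ RE, e • a = a := fun e he => hcon e (mem_sup_left he) he.1
    -- `g x x ∈ C_M(E)` for `g ∈ R ∩ K`
    have h1 : ∀ g ∈ R, g ∈ K → g • x * x ∈ cv M (E : Set X) := by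
      intro g hgR hgK
      have h2 : g ∈ E ⊔ (K ⊓ centralizer (E : Set X)) := by rw [h.cmp.sup]; exact hgK
      have h3 : ∃ e ∈ E, ∃ c ∈ K ⊓ centralizer (E : Set X), e * c = g := by
        exact mem_sup_comm inf_le_right h2
      obtain ⟨e, he, c, ⟨hcK, hcc⟩, rfl⟩ := h3
      have h4 : e • a = a := hREa e ⟨he, c, hcK, hcc, hgR⟩
      have h5 : (e * c) • x * x = (c • a') * a' := by
        have h6 : c • a' ∈ cv M (E : Set X) := smul_mem_cv (hnc c hcc) ha'
        rw [hxa, smul_mul', mul_smul, mul_smul, h.cenN c hcK hcc a ha, h4, h6 e he,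
          comm_of_sq' h.cmp.mn.sq a (c • a'), mul_assoc, ← mul_assoc a, h.cmp.mn.sq, one_mul]
      rw [h5]
      exact Subgroup.mul_mem _ (smul_mem_cv (hnc c hcc) ha') ha'
    -- so `R ∩ K` fixes `x`
    have h2 : ∀ g ∈ R, g ∈ K → g • x = x := by
      intro g hgR hgK
      have h3 : g • x * x = 1 := by
        refine h.eq_one_of_fix irr fun t ht e he => ?_
        have h4 : t⁻¹ * g * t ∈ R := R.mul_mem (R.mul_mem (R.inv_mem (hTR ht)) hgR) (hTR ht)
        have h5 : t⁻¹ * g * t ∈ K := by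
          have := h.cmp.normK.conj_mem g hgK t⁻¹
          rwa [inv_inv] at this
        have h6 := h1 _ h4 h5 e he
        have h7 : (t⁻¹ * g * t) • x * x = t⁻¹ • (g • x * x) := by
          rw [smul_mul', hm.xT _ (T.inv_mem ht), mul_smul, mul_smul, hm.xT t ht]
        rw [h7] at h6
        rw [mul_smul, mul_smul, h6, smul_inv_smul]
      rw [eq_inv_of_mul_eq_one_left h3, inv_eq_of_mul_eq_one_right (h.cmp.mn.sq x)]
    apply hrx
    have h3 : r ∈ K ⊔ T := by rw [h.cmp.gen]; trivial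
    have hK := h.cmp.normK
    obtain ⟨k, hk, t, ht, rfl⟩ := mem_sup_of_normal_left.1 h3
    have h4 : k ∈ R := by
      have := R.mul_mem hr (R.inv_mem (hTR ht))
      rwa [mul_inv_cancel_right] at this
    rw [mul_smul, hm.xT t ht, h2 k h4 hk]

/-- **(E1).** `X₁` acts on `[M,E]`, `φ : E N_T(E) → X₁` is compatible with the actions. -/
theorem mv (h : CmpM T B K E lam)
    (irr : ∀ W : Subgroup M, (∀ g : X, ∀ w ∈ W, g • w ∈ W) → W = ⊥ ∨ W = ⊤) {x y : M} (hm : Mv T x y)
    {X₁ : Type w} [Group X₁] [MulDistribMulAction X₁ (cm M E)]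
    (φ : ((E ⊔ (T ⊓ normalizer (E : Set X)) : Subgroup X)) →* X₁)
    (hφ : ∀ (g : (E ⊔ (T ⊓ normalizer (E : Set X)) : Subgroup X)) (n : cm M E), ((φ g • n : cm M E) : M) = (g : X) • (n : M))
    (T₁ : Subgroup X₁) (hT₁ : T₁ = (T.subgroupOf (E ⊔ (T ⊓ normalizer (E : Set X)))).map φ) :
    ∃ x₁ y₁ : cm M E, Mv T₁ x₁ y₁ := by
  obtain ⟨a, ha, b, hb, ha1, hb1, hat, hbt, R, hTR, hRY, hRb, r, hr, hrE, hra⟩ := h.exists_mv irr hm
  have hY : E ⊔ (T ⊓ normalizer (E : Set X)) ≤ normalizer (E : Set X) := sup_le le_normalizer inf_le_right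
  refine ⟨⟨a, ha⟩, ⟨b, hb⟩, ?_, ?_, fun h1 => ha1 (congrArg Subtype.val h1), fun h1 => hb1 (congrArg Subtype.val h1),
    (R.subgroupOf (E ⊔ (T ⊓ normalizer (E : Set X)))).map φ, ?_, ?_, φ ⟨r, hRY hr⟩, ⟨⟨r, hRY hr⟩, hr, rfl⟩, ?_⟩
  · rw [hT₁]
    rintro _ ⟨t, ht, rfl⟩
    exact Subtype.ext ((hφ _ _).trans (hat t ht (hY t.2)))
  · rw [hT₁]
    rintro _ ⟨t, ht, rfl⟩
    exact Subtype.ext ((hφ _ _).trans (hbt t ht (hY t.2)))
  · rw [hT₁]
    exact map_mono fun t ht => hTR ⟨ht, hY t.2⟩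
  · rintro _ ⟨g, hg, rfl⟩
    exact Subtype.ext ((hφ _ _).trans (hRb g hg))
  · intro h1
    exact hra ((hφ _ _).symm.trans (congrArg Subtype.val h1))

end CmpM

end Cfsg.Agent.Omega.ML.Ex.Red

end

section


/-!
# (E1) of EXT: `RedT` (helper690)

* `mn_of_sysT` : `SysT H M T A x y → Mn T A x`;
* `Sc.inX`, `Sc.atm` : the section of one component of an irreducible module: `InX X₁ N K₁ T₁ B₁` and `Atm N B₁`;
* `Sc.known` : `K₁` is a known simple group;
* **`redT_of (ml : MLK) : RedT`**.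
-/

set_option autoImplicit false
set_option linter.style.haveILetI false

namespace Cfsg.Agent.Omega.ML.Ex.Red

open Subgroup Cfsg Cfsg.Agent.ZN Cfsg.Agent.Omega.NOThree.NoOver Cfsg.Agent.Omega.ML.CD
open Cfsg.Agent.ClassTwoFusion.Quad Cfsg.Agent.Omega.ML.MinFrame Cfsg.Agent.Omega.ML.Ex.SecLow

universe u v w

/-- a non-abelian simple subgroup of a K-group is known -/
theorem known_of_le {X : Type u} [Group X] [Finite X] (hX : IsKGroup X) (B : Subgroup X) (hs : IsSimpleGroup B)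
    (hna : ¬ IsMulCommutative B) : IsKnownSimple' B := by
  have h2 : IsKGroup B := Final.sec_KG.sub X hX B
  let e0 : ↥(⊤ : Subgroup B) ⧸ (⊥ : Subgroup ↥(⊤ : Subgroup B)) ≃* B :=
    (QuotientGroup.quotientBot).trans Subgroup.topEquiv
  have h4 := h2 ⊤ ⊥ (Final.simple_congr e0.symm hs) (Final.not_comm_congr e0.symm hna)
  exact OddHalf.Known.isKnownSimple'_congr e0 (Final.not_comm_congr e0.symm hna) h4

section

variable {X : Type u} [Group X] {M : Type v} [Group M] [MulDistribMulAction X M] {T B K E : Subgroup X} {lam : M}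

/-- the input of RED -/
theorem mn_of_sysT {x y : M} (h : Two.SysT X M T B x y) : Mn T B x where
  sq := h.sq
  faith := h.faith
  gen := by
    rcases h.irr (orb (⊤ : Subgroup X) x) (fun g w hw => smul_mem_orb (mem_top g) hw) with h1 | h1
    · have h2 := mem_orb_self (⊤ : Subgroup X) x
      rw [h1, mem_bot] at h2
      exact absurd h2 h.x1
    · exact h1
  fixT := h.tx
  odd := h.odd
  two := h.two
  syl := h.syl
  el := h.el
  four := h.four
  exact := h.exact
  atom := h.atom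
  low := h.low
  nmax := h.nmax

namespace Sc

variable {X₁ : Type w} [Group X₁] [MulDistribMulAction X₁ (cm M E)] {a : YY T E →* X₁}

/-- the atom of the section -/
theorem atm (h : Sc T B K E lam a) [Finite X] : Atm (cm M E) (im a B) := h.inN0.atom

/-- **the section of an irreducible module** -/
theorem inX (h : Sc T B K E lam a) [Finite X]
    (irr : ∀ W : Subgroup M, (∀ g : X, ∀ w ∈ W, g • w ∈ W) → W = ⊥ ∨ W = ⊤) :
    InX X₁ (cm M E) (im a E) (im a (T1 T E)) (im a B) := by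
  have h0 := h.inN0
  exact
    { sq := h0.sq
      faith := h0.faith
      irr := by
        intro W hW
        rcases h0.irrK W hW with h1 | h1
        · exact Or.inr h1
        · left
          rw [eq_bot_iff]
          intro w hw
          rw [mem_bot]
          apply Subtype.ext
          refine h.cmpM.inf_bot irr w.2 fun e he => ?_
          have h2 := h1 (a ⟨e, E_le_YY he⟩) (apply_mem_im (y := ⟨e, E_le_YY he⟩) he) w hw
          have h3 := congrArg Subtype.val h2
          rw [h.act] at h3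
          exact h3
      norm := h0.norm
      simple := h0.simple
      cen := h0.cen
      gen := h0.gen
      two := h0.two
      syl := h0.syl
      AT := h0.AT
      el := h0.el
      four := h0.four
      exact := h0.exact
      sub := by
        intro C hC
        by_cases h1 : C = ⊥
        · subst h1
          have h2 : cv (cm M E) ((⊥ : Subgroup X₁) : Set X₁) = ⊤ := by
            rw [eq_top_iff]
            intro m _ c hc
            rw [SetLike.mem_coe, mem_bot] at hc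
            rw [hc, one_smul]
          rw [h2, index_top, card_bot]
        · by_cases h2 : C = im a B
          · rw [h2, h0.exact]
          · exact (h0.atom C hC h1 h2).le
      low := h0.low
      nmax := h0.nmax }

omit [MulDistribMulAction X₁ (cm M E)] in
theorem T₁_eq : im a (T1 T E) = (T.subgroupOf (E ⊔ (T ⊓ normalizer (E : Set X)))).map a := by
  have hY : YY T E ≤ normalizer (E : Set X) := sup_le le_normalizer inf_le_right
  have h1 : (T1 T E).subgroupOf (YY T E) = T.subgroupOf (YY T E) := by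
    ext t
    exact ⟨fun ht => ht.1, fun ht => ⟨ht, hY t.2⟩⟩
  change ((T1 T E).subgroupOf (YY T E)).map a = (T.subgroupOf (YY T E)).map a
  rw [h1]

end Sc

/-- `K₁` is known -/
theorem Sc.known {X₁ : Type u} [Group X₁] [MulDistribMulAction X₁ (cm M E)] {a : YY T E →* X₁}
    (h : Sc T B K E lam a) [Finite X] (hX : IsKGroup X) : IsKnownSimple' (im a E) := by
  have hfin : Finite X₁ := Finite.of_surjective a h.surj
  have hs : IsSimpleGroup (im a E) := h.inN0.simple
  refine known_of_le (Final.kgroup_of_surj hX (YY T E) a h.surj) _ hs fun hc => ?_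
  have h1 : im a E ≤ centralizer (im a E : Set X₁) := by
    intro x hx
    rw [mem_centralizer_iff]
    intro y hy
    exact congrArg Subtype.val (hc.is_comm.comm (⟨y, hy⟩ : im a E) ⟨x, hx⟩)
  rw [h.cen, le_bot_iff] at h1
  obtain ⟨x, hx⟩ := exists_ne (1 : im a E)
  exact hx (Subtype.ext (mem_bot.1 (h1 ▸ x.2)))

end

/-- **(E1)** -/
theorem redT_of (ml : Final.MLK.{u, v}) : Two.RedT.{u, v} := by
  intro H _ _ M _ _ _ T A x y h
  obtain ⟨K, E, hC⟩ := (mn_of_sysT h).exists_cmpM ml h.KH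
  letI := hC.qact
  have hs := hC.sc
  have hI := hs.inX h.irr
  have hm : Mv T x y := ⟨h.tx, h.ty, h.x1, h.y1, h.mv⟩
  obtain ⟨x₁, y₁, h1⟩ := hC.mv h.irr hm (QuotientGroup.mk' hC.rep.ker) hs.act (im (QuotientGroup.mk' hC.rep.ker) (T1 T E))
    Sc.T₁_eq
  refine ⟨hC.Xq, inferInstance, inferInstance, cm M E, inferInstance, inferInstance, hC.qact, _, _, _, x₁, y₁, hI,
    hs.atm, ⟨h1.x1, h1.y1, h1.xT, h1.yT, h1.mv⟩, ?_⟩
  exact hs.known h.KH

end Cfsg.Agent.Omega.ML.Ex.Red

end

section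


/-!
# The K-list for EXACT subgroups: THEOREM EX for exact atoms (helper10)

`Dat H M G E Q n` is the situation of `ExRow.lean` (`|Q| = 2^(2n+1)`, `Q` not abelian, `E ≤ G` acts irreducibly on `Q`
modulo its subgroup of order 2 and trivially on the `G`-modules of order at most `2^n`).

* `core_triv` : `Q` acts trivially on the `G`-modules of order at most `2^(2n)`;
* **`Dat.falseX`** : `n ≥ 2`: there is no exact atom `A ≤ Q`, `|A| ≥ 4` (a strict one is excluded by `Dat.false`).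
-/

set_option autoImplicit false

namespace Cfsg.Agent.Omega.ML.Ex.ExX

open Subgroup Cfsg Cfsg.Agent.ClassTwoFusion.Quad Cfsg.Agent.Omega.NOThree.NoOver Cfsg.Agent.Omega.ML.CD
open Cfsg.Agent.Omega.ML.ExCore Cfsg.Agent.Omega.ML.ExRow

universe u v

/-- if the product of two elements outside `I` lies in `I` then `|B : I| ≤ 2` -/
theorem index_le_two {B : Type*} [Group B] (I : Subgroup B) (h : ∀ a b : B, a ∉ I → b ∉ I → a * b ∈ I) :
    I.index ≤ 2 := by
  by_cases h1 : I = ⊤
  · rw [h1, index_top]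
    norm_num
  · obtain ⟨x, hx⟩ : ∃ x, x ∉ I := by
      by_contra hc
      push Not at hc
      exact h1 (by rw [eq_top_iff]; exact fun x _ => hc x)
    refine (index_eq_two_iff.2 ⟨x, fun b => ?_⟩).le
    by_cases hb : b ∈ I
    · right
      refine ⟨hb, fun hbx => hx ?_⟩
      have h2 := I.mul_mem (I.inv_mem hb) hbx
      rwa [inv_mul_cancel_left] at h2
    · left
      exact ⟨h b x hb hx, hb⟩

section

variable {H : Type u} [Group H] [Finite H] {G E Q : Subgroup H} {n : ℕ}

/-- `Q` acts trivially on the `G`-modules of order at most `2^(2n)`. -/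
theorem core_triv (D : Dat.{u, v} H G E Q n) : TrivOn.{u, v} G (Q.subgroupOf G) (2 ^ (2 * n)) := by
  intro N _ _ _ sq hN
  have hQn : (Q.subgroupOf G).Normal := ⟨fun q hq g => D.nQ g g.2 q hq⟩
  refine core (L := G) (N := N) sq (Q := Q.subgroupOf G) (E := E.subgroupOf G) hQn
    (D.two.comap_of_injective _ G.subtype_injective) hN (by
      intro B hB hBE
      have h1 : B.map G.subtype ≤ Q := by
        rintro _ ⟨b, hb, rfl⟩
        exact hB hb
      have h4 : B.relIndex (Q.subgroupOf G) = (B.map G.subtype).relIndex Q := by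
        have h5 : (Q.subgroupOf G).map G.subtype = Q := by rw [subgroupOf_map_subtype, inf_eq_left.2 D.QG]
        rw [← relIndex_map_map_of_injective B (Q.subgroupOf G) G.subtype_injective, h5]
      rcases D.irr _ h1 (by
        rintro l hl _ ⟨b, hb, rfl⟩
        exact ⟨⟨l, D.EG hl⟩ * b * ⟨l, D.EG hl⟩⁻¹, hBE ⟨l, D.EG hl⟩ hl b hb, rfl⟩) with h6 | h6
      · left
        rw [h4]
        exact D.le_relIndex h1 h6
      · right
        ext x
        rw [mem_subgroupOf, ← h6]
        constructor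
        · intro hx
          exact ⟨x, hx, rfl⟩
        · rintro ⟨y, hy, hyx⟩
          rwa [← Subtype.ext hyx]) D.triv

/-- the center of `Q`: an involution `z`, `G` centralises it, all commutators of `Q` are in `⟨z⟩` -/
theorem exists_z (D : Dat.{u, v} H G E Q n) : ∃ z ∈ Q, z ≠ 1 ∧ z * z = 1 ∧ (∀ q ∈ Q, q * z = z * q) ∧
    (∀ g ∈ G, g * z = z * g) ∧ (∀ x ∈ Q, (∀ q ∈ Q, q * x = x * q) → x = 1 ∨ x = z) ∧
    ∀ x ∈ Q, ∀ y ∈ Q, x * y * x⁻¹ * y⁻¹ = 1 ∨ x * y * x⁻¹ * y⁻¹ = z := by
  have hp : Fact (Nat.Prime 2) := ⟨Nat.prime_two⟩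
  have hEQ : ∀ e ∈ E, ∀ q ∈ Q, e * q * e⁻¹ ∈ Q := fun e he => D.nQ e (D.EG he)
  -- conjugation by elements of `G`
  have hcen : ∀ g ∈ G, ∀ x ∈ Q, (∀ q ∈ Q, q * x = x * q) → ∀ q ∈ Q, q * (g * x * g⁻¹) = (g * x * g⁻¹) * q := by
    intro g hg x hx hc q hq
    have h1 := hc (g⁻¹ * q * g) (by
      have h2 := D.nQ g⁻¹ (G.inv_mem hg) q hq
      rwa [inv_inv] at h2)
    calc q * (g * x * g⁻¹) = g * ((g⁻¹ * q * g) * x) * g⁻¹ := by group
      _ = g * (x * (g⁻¹ * q * g)) * g⁻¹ := by rw [h1]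
      _ = _ := by group
  let Zs : Subgroup H := Q ⊓ centralizer (Q : Set H)
  have hmem : ∀ {x : H}, x ∈ Zs ↔ x ∈ Q ∧ ∀ q ∈ Q, q * x = x * q := by
    intro x
    rw [mem_inf, mem_centralizer_iff]
    rfl
  have hZ2 : Nat.card Zs ≤ 2 := by
    refine (D.irr Zs inf_le_left fun e he x hx => ?_).resolve_right fun h1 => ?_
    · rw [hmem] at hx ⊢
      exact ⟨hEQ e he x hx.1, hcen e (D.EG he) x hx.1 hx.2⟩
    · obtain ⟨a, ha, b, hb, hab⟩ := D.nab
      have h2 : b ∈ Zs := h1 ▸ hb
      exact hab ((hmem.1 h2).2 a ha)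
  -- `Z(Q) ≠ 1`
  have hQne : Nontrivial Q := by
    obtain ⟨a, ha, b, hb, hab⟩ := D.nab
    refine ⟨⟨a, ha⟩, 1, fun h1 => hab ?_⟩
    have h2 : a = 1 := congrArg Subtype.val h1
    rw [h2, one_mul, mul_one]
  have hcn := D.two.center_nontrivial
  obtain ⟨⟨⟨z, hzQ⟩, hzc⟩, hz1⟩ := exists_ne (1 : center Q)
  have hz1' : z ≠ 1 := by
    intro h1
    apply hz1
    apply Subtype.ext
    apply Subtype.ext
    exact h1
  have hzc' : ∀ q ∈ Q, q * z = z * q := by
    intro q hq
    exact congrArg Subtype.val (mem_center_iff.1 hzc ⟨q, hq⟩)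
  have hzZ : z ∈ Zs := hmem.2 ⟨hzQ, hzc'⟩
  -- elements of a group of order at most two
  have two : ∀ (B : Subgroup H), Nat.card B ≤ 2 → ∀ x ∈ B, ∀ y ∈ B, x = 1 ∨ y = 1 ∨ x = y := by
    intro B hB x hx y hy
    by_contra hc
    push Not at hc
    obtain ⟨h1, h2, h3⟩ := hc
    have h4 : ({(1 : H), x, y} : Set H) ⊆ (B : Set H) := by
      rintro w (rfl | rfl | rfl)
      · exact B.one_mem
      · exact hx
      · exact hy
    have h5 := Set.ncard_le_ncard h4 (Set.toFinite _)
    have h6 : ({(1 : H), x, y} : Set H).ncard = 3 := by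
      rw [Set.ncard_eq_three]
      exact ⟨1, x, y, fun h => h1 h.symm, fun h => h2 h.symm, h3, rfl⟩
    rw [h6] at h5
    have h7 : (B : Set H).ncard = Nat.card B := rfl
    omega
  have huniq : ∀ x ∈ Q, (∀ q ∈ Q, q * x = x * q) → x = 1 ∨ x = z := by
    intro x hx hc
    rcases two Zs hZ2 x (hmem.2 ⟨hx, hc⟩) z hzZ with h1 | h1 | h1
    · exact Or.inl h1
    · exact absurd h1 hz1'
    · exact Or.inr h1
  refine ⟨z, hzQ, hz1', ?_, hzc', ?_, huniq, ?_⟩
  · rcases two Zs hZ2 (z * z) (Zs.mul_mem hzZ hzZ) z hzZ with h1 | h1 | h1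
    · exact h1
    · exact absurd h1 hz1'
    · exact absurd (mul_eq_left.1 h1) hz1'
  · intro g hg
    have h1 := huniq _ (D.nQ g hg z hzQ) (hcen g hg z hzQ hzc')
    rcases h1 with h1 | h1
    · exfalso
      apply hz1'
      have h2 : z = g⁻¹ * (g * z * g⁻¹) * g := by group
      rw [h2, h1]; group
    · rw [mul_inv_eq_iff_eq_mul] at h1
      exact h1
  · -- the derived group
    let C : Subgroup H := ⁅Q, Q⁆
    have hCQ : C ≤ Q := commutator_le_self Q
    have hC2 : Nat.card C ≤ 2 := by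
      refine (D.irr C hCQ fun e he x hx => ?_).resolve_right fun h1 => ?_
      · have h2 : C.map (MulAut.conj e).toMonoidHom = C := by
          have h3 : Q.map (MulAut.conj e).toMonoidHom = Q := by
            apply le_antisymm
            · rintro _ ⟨q, hq, rfl⟩
              exact hEQ e he q hq
            · intro q hq
              refine ⟨e⁻¹ * q * e, ?_, ?_⟩
              · have h4 := hEQ e⁻¹ (E.inv_mem he) q hq
                rwa [inv_inv] at h4
              · show e * (e⁻¹ * q * e) * e⁻¹ = q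
                group
          show (⁅Q, Q⁆).map (MulAut.conj e).toMonoidHom = ⁅Q, Q⁆
          rw [map_commutator, h3]
        have h3 : e * x * e⁻¹ ∈ C.map (MulAut.conj e).toMonoidHom := ⟨x, hx, rfl⟩
        rwa [h2] at h3
      · -- `Q` is nilpotent
        have hnil : Group.IsNilpotent Q := D.two.isNilpotent
        have hsol : Group.IsSolvable Q := inferInstance
        have h2 : _root_.commutator Q < ⊤ := Group.IsSolvable.commutator_lt_top_of_nontrivial Q
        apply h2.ne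
        rw [eq_top_iff]
        intro x _
        have h3 : (x : H) ∈ C := by
          rw [h1]
          exact x.2
        have h4 : (_root_.commutator Q).map Q.subtype = C := by
          rw [_root_.commutator_def, map_commutator, ← MonoidHom.range_eq_map, range_subtype]
        rw [← h4] at h3
        obtain ⟨y, hy, hyx⟩ := h3
        rwa [← Subtype.ext hyx]
    intro x hx y hy
    have h1 : x * y * x⁻¹ * y⁻¹ ∈ C := commutator_mem_commutator hx hy
    by_cases h2 : x * y * x⁻¹ * y⁻¹ = 1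
    · exact Or.inl h2
    · refine huniq _ (hCQ h1) fun q hq => ?_
      have h3 : q * (x * y * x⁻¹ * y⁻¹) * q⁻¹ ∈ C := by
        have h4 : q * (x * y * x⁻¹ * y⁻¹) * q⁻¹ * (x * y * x⁻¹ * y⁻¹)⁻¹ ∈ C :=
          commutator_mem_commutator hq (hCQ h1)
        have h5 := C.mul_mem h4 h1
        rwa [inv_mul_cancel_right] at h5
      rcases two C hC2 _ h3 _ h1 with h4 | h4 | h4
      · exfalso
        apply h2
        have h5 : x * y * x⁻¹ * y⁻¹ = q⁻¹ * (q * (x * y * x⁻¹ * y⁻¹) * q⁻¹) * q := by group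
        rw [h5, h4]; group
      · exact absurd h4 h2
      · rw [mul_inv_eq_iff_eq_mul] at h4
        exact h4

end

section

variable {H : Type u} [Group H] [Finite H] {M : Type v} [Group M] [Finite M] [MulDistribMulAction H M]
  {G E Q A : Subgroup H} {n : ℕ}

omit [Finite H] [Finite M] in
/-- a 2-group which acts trivially on `M / C_M(Q)` is abelian -/
theorem false_of_triv (D : Dat.{u, v} H G E Q n) (sq : ∀ m : M, m * m = 1)
    (faith : ∀ h : H, (∀ m : M, h • m = m) → h = 1)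
    (hQF : ∀ q ∈ Q, ∀ m : M, q • m * m⁻¹ ∈ cv M (Q : Set H)) : False := by
  have hcomm := ExCore.comm_of_sq (N := M) sq
  have hmF : ∀ {m : M}, m ∈ cv M (Q : Set H) → ∀ q ∈ Q, q • m = m := fun hm q hq => hm q hq
  obtain ⟨a, ha, b, hb, hab⟩ := D.nab
  apply hab
  have key : ∀ a ∈ Q, ∀ b ∈ Q, ∀ m : M, (a * b) • m = (b • m * m⁻¹) * ((a • m * m⁻¹) * m) := by
    intro a ha b hb m
    have h1 := hmF (hQF b hb m) a ha
    have h3 : b • m = (b • m * m⁻¹) * m := by rw [inv_mul_cancel_right]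
    rw [mul_smul]
    conv_lhs => rw [h3, smul_mul', h1]
    rw [inv_mul_cancel_right]
  have h1 : (b * a)⁻¹ * (a * b) = 1 := by
    apply faith
    intro m
    rw [mul_smul, inv_smul_eq_iff, key a ha b hb, key b hb a ha, ← mul_assoc (b • m * m⁻¹),
      hcomm (b • m * m⁻¹) (a • m * m⁻¹), mul_assoc]
  exact (inv_mul_eq_one.1 h1).symm

/-- no subgroup of `Q` over-offends -/
theorem fab_le (D : Dat.{u, v} H G E Q n) (sq : ∀ m : M, m * m = 1)
    (faith : ∀ h : H, (∀ m : M, h • m = m) → h = 1) {B : Subgroup H} (hB : B ≤ Q) :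
    fab M 1 1 B ≤ Nat.card M := by
  have hf := ls_fab (H := H) M 1 1
  by_contra hc
  rw [not_le] at hc
  have h1 := hf.le_lo Q B hB
  refine D.false sq faith (hf.lo_le_self Q) (hf.strict_lo Q) ?_
  by_contra h2
  rw [not_lt] at h2
  -- `|lo| ≤ 2`
  have h3 : Nat.card M < fab M 1 1 (lo (fab M 1 1) Q) := hc.trans_le h1
  by_cases h4 : lo (fab M 1 1) Q = ⊥
  · rw [h4, fab_bot, pow_one] at h3
    exact lt_irrefl _ h3
  · have h5 : cv M (lo (fab M 1 1) Q : Set H) ≠ ⊤ := by
      intro h6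
      apply h4
      rw [eq_bot_iff]
      intro x hx
      rw [mem_bot]
      apply faith
      intro m
      have h7 : m ∈ cv M (lo (fab M 1 1) Q : Set H) := by rw [h6]; exact mem_top m
      exact h7 x hx
    have h6 : 2 ≤ (cv M (lo (fab M 1 1) Q : Set H)).index := by
      have h7 : (cv M (lo (fab M 1 1) Q : Set H)).index ≠ 1 := fun h8 => h5 (index_eq_one.1 h8)
      have h8 : (cv M (lo (fab M 1 1) Q : Set H)).index ≠ 0 := index_ne_zero_of_finite
      omega
    have h7 := (cv M (lo (fab M 1 1) Q : Set H)).card_mul_index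
    have h8 : fab M 1 1 (lo (fab M 1 1) Q) ≤ 2 * Nat.card (cv M (lo (fab M 1 1) Q : Set H)) := by
      rw [fab, pow_one, pow_one]
      exact Nat.mul_le_mul_right _ h2
    have h9 : Nat.card (cv M (lo (fab M 1 1) Q : Set H)) * 2 ≤ Nat.card M := by
      rw [← h7]
      exact Nat.mul_le_mul_left _ h6
    omega

/-- **THEOREM EX for exact atoms.** -/
theorem Dat.falseX (D : Dat.{u, v} H G E Q n) (hn : 2 ≤ n) (sq : ∀ m : M, m * m = 1)
    (faith : ∀ h : H, (∀ m : M, h • m = m) → h = 1) (hAQ : A ≤ Q) (el : ∀ a ∈ A, a * a = 1)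
    (four : 4 ≤ Nat.card A) (exact : (cv M (A : Set H)).index = Nat.card A)
    (atom : ∀ C : Subgroup H, C ≤ A → C ≠ ⊥ → C ≠ A → Nat.card C < (cv M (C : Set H)).index) : False := by
  have hf := ls_fab (H := H) M 1 1
  have hcomm := ExCore.comm_of_sq (N := M) sq
  obtain ⟨z, hzQ, hz1, hz2, hzc, hzG, huniq, hder⟩ := exists_z D
  have hEQ : ∀ e ∈ E, ∀ q ∈ Q, e * q * e⁻¹ ∈ Q := fun e he => D.nQ e (D.EG he)
  have hle : ∀ B ≤ Q, fab M 1 1 B ≤ Nat.card M := fun B hB => fab_le D sq faith hB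
  -- `A` is best
  have hcard : ∀ B : Subgroup H, fab M 1 1 B = Nat.card M → (cv M (B : Set H)).index = Nat.card B := by
    intro B hB
    have h1 := (cv M (B : Set H)).card_mul_index
    rw [fab, pow_one, pow_one, ← h1, mul_comm] at hB
    exact (Nat.eq_of_mul_eq_mul_left Nat.card_pos hB).symm
  have hA : Best (fab M 1 1) Q A := by
    refine ⟨hAQ, fun B hB => (hle B hB).trans ?_⟩
    rw [fab, pow_one, pow_one, ← exact, mul_comm, card_mul_index]
  have hfA : fab M 1 1 A = Nat.card M := by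
    rw [fab, pow_one, pow_one, ← exact, mul_comm, card_mul_index]
  have hbest : ∀ {B : Subgroup H}, Best (fab M 1 1) Q B → (cv M (B : Set H)).index = Nat.card B :=
    fun hB => hcard _ ((hB.eq hA).trans hfA)
  -- `Q` is best
  have hQ : Best (fab M 1 1) Q Q := by
    have h1 : A ≤ hi (fab M 1 1) Q := le_hi hA
    have h4 : G ≤ normalizer (Q : Set H) := by
      intro g hg
      rw [mem_normalizer_iff]
      intro x
      refine ⟨fun hx => D.nQ g hg x hx, fun hx => ?_⟩
      have h5 := D.nQ g⁻¹ (G.inv_mem hg) _ hx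
      have h6 : g⁻¹ * (g * x * g⁻¹) * g⁻¹⁻¹ = x := by group
      rwa [h6] at h5
    have h5 := h4.trans (hf.normalizer_le_hi Q)
    have h6 : hi (fab M 1 1) Q = Q := by
      refine (D.irr _ (hf.hi_le_self Q) fun l hl x hx => ?_).resolve_left fun h6 => ?_
      · exact (mem_normalizer_iff.1 (h5 (D.EG hl)) x).1 hx
      · have h7 := card_le_of_le h1
        omega
    have h7 := hf.best_hi Q
    rwa [h6] at h7
  have hFidx : (cv M (Q : Set H)).index = 2 ^ (2 * n + 1) := by rw [hbest hQ, D.card]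
  -- `z ∈ A`
  have hzA : z ∈ A := by
    by_contra hzA
    obtain ⟨a, haA, ha1⟩ : ∃ a ∈ A, a ≠ 1 := by
      by_contra hc
      push Not at hc
      have h1 : A = ⊥ := by rw [eq_bot_iff]; exact fun x hx => mem_bot.2 (hc x hx)
      rw [h1, card_bot] at four
      omega
    obtain ⟨q, hq, hqa⟩ : ∃ q ∈ Q, q * a ≠ a * q := by
      by_contra hc
      push Not at hc
      rcases huniq a (hAQ haA) hc with h1 | h1
      · exact ha1 h1
      · exact hzA (h1 ▸ haA)
    have hqz : q * a * q⁻¹ * a⁻¹ = z := by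
      rcases hder q hq a (hAQ haA) with h1 | h1
      · exfalso
        apply hqa
        rwa [mul_inv_eq_one, mul_inv_eq_iff_eq_mul] at h1
      · exact h1
    have hcj : cj q A ≤ Q := by
      rintro _ ⟨x, hx, rfl⟩
      exact Q.mul_mem (Q.mul_mem hq (hAQ hx)) (Q.inv_mem hq)
    have hbc : Best (fab M 1 1) Q (cj q A) := hA.of_le hcj (hf.conj q A).ge
    have hbi := (hf.best_sup_inf hA hbc).2
    -- `A ∩ A^q ≠ A`
    have hne : A ⊓ cj q A ≠ A := by
      intro h1
      have h2 : A ≤ cj q A := inf_eq_left.1 h1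
      have h3 : Nat.card (cj q A) = Nat.card A :=
        (Nat.card_congr (A.equivMapOfInjective _ (MulAut.conj q).injective).toEquiv).symm
      have h4 : A = cj q A := eq_of_le_of_card_ge h2 h3.le
      have h5 : q * a * q⁻¹ ∈ A := by
        rw [h4]
        exact ⟨a, haA, rfl⟩
      apply hzA
      rw [← hqz]
      exact A.mul_mem h5 (A.inv_mem haA)
    -- `A ∩ A^q ≠ 1`
    have hmem : ∀ b ∈ A, q * b = b * q → b ∈ A ⊓ cj q A := by
      intro b hb hc
      refine ⟨hb, mem_cj.2 ?_⟩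
      have h1 : q⁻¹ * b * q = b := by
        calc q⁻¹ * b * q = q⁻¹ * (b * q) := by group
          _ = q⁻¹ * (q * b) := by rw [hc]
          _ = b := by group
      rwa [h1]
    have hne' : A ⊓ cj q A ≠ ⊥ := by
      intro h1
      obtain ⟨b, hbA, hb1, hba⟩ : ∃ b ∈ A, b ≠ 1 ∧ b ≠ a := by
        by_contra hc
        push Not at hc
        have h2 : (A : Set H) ⊆ {1, a} := by
          intro x hx
          by_cases h3 : x = 1
          · exact Or.inl h3
          · exact Or.inr (hc x hx h3)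
        have h3 := Set.ncard_le_ncard h2 (Set.toFinite _)
        have h4 : ({1, a} : Set H).ncard ≤ 2 := (Set.ncard_insert_le _ _).trans (by rw [Set.ncard_singleton])
        have h5 : (A : Set H).ncard = Nat.card A := rfl
        omega
      have hnc : q * b ≠ b * q := fun hc => hb1 (mem_bot.1 (h1 ▸ hmem b hbA hc))
      have hqb : q * b * q⁻¹ * b⁻¹ = z := by
        rcases hder q hq b (hAQ hbA) with h2 | h2
        · exfalso
          apply hnc
          rwa [mul_inv_eq_one, mul_inv_eq_iff_eq_mul] at h2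
        · exact h2
      have h2 : q * a = z * a * q := by
        rw [← hqz]; group
      have h3 : q * b = z * b * q := by
        rw [← hqb]; group
      have h4 : q * (a * b) = a * b * q := by
        calc q * (a * b) = (q * a) * b := by group
          _ = z * a * (q * b) := by rw [h2]; group
          _ = z * a * (z * b * q) := by rw [h3]
          _ = z * (a * z) * b * q := by group
          _ = z * (z * a) * b * q := by rw [hzc a (hAQ haA)]
          _ = (z * z) * (a * b * q) := by group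
          _ = a * b * q := by rw [hz2, one_mul]
      have h5 := mem_bot.1 (h1 ▸ hmem (a * b) (A.mul_mem haA hbA) h4)
      have h6 : b = a := by
        calc b = (a * a) * b := by rw [el a haA, one_mul]
          _ = a * (a * b) := by group
          _ = a := by rw [h5, mul_one]
      exact hba h6
    have h1 := atom _ inf_le_left hne' hne
    rw [hbest hbi] at h1
    exact lt_irrefl _ h1
  -- `C = C_M(z)`
  obtain ⟨C, hC⟩ : ∃ C : Subgroup M, C = cv M ((zpowers z : Subgroup H) : Set H) := ⟨_, rfl⟩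
  have hmC : ∀ {m : M}, m ∈ C ↔ z • m = m := by
    intro m
    rw [hC]
    constructor
    · intro h
      exact h z (mem_zpowers z)
    · intro h x hx
      have h1 : zpowers z ≤ MulAction.stabilizer H m := by
        rw [zpowers_le]
        exact MulAction.mem_stabilizer_iff.2 h
      exact MulAction.mem_stabilizer_iff.1 (h1 hx)
  have hCidx : 2 < C.index := by
    have h1 : Nat.card (zpowers z) = 2 := by
      rw [Nat.card_zpowers]
      exact orderOf_eq_prime (by rw [pow_two, hz2]) hz1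
    have h2 := atom (zpowers z) (by rwa [zpowers_le]) (by rwa [Ne, zpowers_eq_bot]) (by
      intro h3
      rw [← h3, h1] at four
      omega)
    rwa [h1, ← hC] at h2
  obtain ⟨F, hF⟩ : ∃ F : Subgroup M, F = cv M (Q : Set H) := ⟨_, rfl⟩
  have hmF : ∀ {m : M}, m ∈ F ↔ ∀ q ∈ Q, q • m = m := by
    intro m
    rw [hF]
    exact Iff.rfl
  have hFC : F ≤ C := fun m hm => hmC.2 (hmF.1 hm z hzQ)
  have hGF : ∀ g ∈ G, ∀ x ∈ F, g • x ∈ F := by
    intro g hg x hx
    rw [hmF] at hx ⊢
    intro q hq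
    have h1 := D.nQ _ (G.inv_mem hg) q hq
    rw [inv_inv] at h1
    have h2 := hx _ h1
    rw [mul_smul, mul_smul, inv_smul_eq_iff] at h2
    exact h2
  have hGC : ∀ g ∈ G, ∀ x ∈ C, g • x ∈ C := by
    intro g hg x hx
    rw [hmC] at hx ⊢
    rw [← mul_smul, ← hzG g hg, mul_smul, hx]
  have hQC : ∀ q ∈ Q, ∀ x ∈ C, q • x ∈ C := fun q hq => hGC q (D.QG hq)
  have hfin : ¬ ∀ q ∈ Q, ∀ m : M, q • m * m⁻¹ ∈ F := by
    intro h1
    rw [hF] at h1
    exact false_of_triv D sq faith h1
  -- `[M, z] ≤ F` if `[M, Q] ≤ C`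
  -- indices
  have hmul : F.relIndex C * C.index = 2 ^ (2 * n + 1) := by
    rw [relIndex_mul_index hFC, hF, hFidx]
  have hpow : ∀ k : ℕ, k ∣ 2 ^ (2 * n + 1) → ∃ j, k = 2 ^ j := by
    intro k hk
    obtain ⟨j, -, hj⟩ := (Nat.dvd_prime_pow Nat.prime_two).1 hk
    exact ⟨j, hj⟩
  obtain ⟨i, hi'⟩ := hpow _ (Dvd.intro _ hmul)
  obtain ⟨j, hj⟩ := hpow _ (Dvd.intro_left _ hmul)
  have hij : i + j = 2 * n + 1 := by
    rw [hi', hj, ← pow_add] at hmul
    exact Nat.pow_right_injective (le_refl 2) hmul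
  have hj2 : 2 ≤ j := by
    rw [hj] at hCidx
    have h1 : 2 ^ 1 < 2 ^ j := by rwa [pow_one]
    exact (Nat.pow_lt_pow_iff_right (by norm_num)).1 h1
  -- trivial actions
  have hsecQ : ∀ {U V : Subgroup M}, (∀ g ∈ G, ∀ x ∈ U, g • x ∈ U) → (∀ g ∈ G, ∀ x ∈ V, g • x ∈ V) →
      U.relIndex V ≤ 2 ^ (2 * n) → ∀ q ∈ Q, ∀ x ∈ V, q • x * x⁻¹ ∈ U := by
    intro U V hU hV hc q hq x hx
    exact (core_triv D).sec sq (fun l x hx => hU l l.2 x hx) (fun l x hx => hV l l.2 x hx) hc
      (l := ⟨q, D.QG hq⟩) hq hx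
  have hsecE : ∀ {U V : Subgroup M}, (∀ g ∈ G, ∀ x ∈ U, g • x ∈ U) → (∀ g ∈ G, ∀ x ∈ V, g • x ∈ V) →
      U.relIndex V ≤ 2 ^ n → ∀ e ∈ E, ∀ x ∈ V, e • x * x⁻¹ ∈ U := by
    intro U V hU hV hc e he x hx
    exact D.triv.sec sq (fun l x hx => hU l l.2 x hx) (fun l x hx => hV l l.2 x hx) hc
      (l := ⟨e, D.EG he⟩) he hx
  have hGT : ∀ g ∈ G, ∀ x ∈ (⊤ : Subgroup M), g • x ∈ (⊤ : Subgroup M) := fun _ _ _ _ => mem_top _
  rcases Nat.eq_zero_or_pos i with hi0 | hi0
  · -- `C = F`
    have hCF : C ≤ F := by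
      rw [← relIndex_eq_one, hi', hi0, pow_zero]
    apply hfin
    intro q hq m
    -- first `[M, z] ≤ F`
    have h1 : z • m * m⁻¹ ∈ F := hCF (hmC.2 (by
      rw [smul_mul', ← mul_smul, hz2, one_smul, smul_inv', hcomm]
      have h2 : ∀ w : M, w⁻¹ = w := fun w => inv_eq_of_mul_eq_one_right (sq w)
      rw [h2, h2 m]))
    apply hCF
    rw [hmC, smul_mul', smul_inv', ← mul_smul, ← hzc q hq, mul_smul]
    have h2 : z • m = (z • m * m⁻¹) * m := by rw [inv_mul_cancel_right]
    have h3 := hmF.1 h1 q hq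
    rw [h2, smul_mul', h3, mul_inv_rev]
    rw [hcomm (z • m * m⁻¹) (q • m), mul_assoc, hcomm m⁻¹, ← mul_assoc (z • m * m⁻¹), mul_inv_cancel, one_mul]
  · have hMC : ∀ q ∈ Q, ∀ m : M, q • m * m⁻¹ ∈ C := by
      intro q hq m
      refine hsecQ hGC hGT ?_ q hq m (mem_top m)
      rw [relIndex_top_right, hj]
      exact Nat.pow_le_pow_right (by norm_num) (by omega)
    have hCFQ : ∀ q ∈ Q, ∀ c ∈ C, q • c * c⁻¹ ∈ F := by
      refine hsecQ hGF hGC ?_
      rw [hi']
      exact Nat.pow_le_pow_right (by norm_num) (by omega)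
    push Not at hfin
    obtain ⟨q, hq, m, hqm⟩ := hfin
    -- `D_m`
    have hFQ : ∀ q ∈ Q, ∀ x ∈ F, q • x ∈ F := fun q hq => hGF q (D.QG hq)
    have hDm : (dn Q F hFQ m).relIndex Q ≤ 2 ^ i := by
      rw [← hi']
      exact relIndex_dn_le sq hFQ (fun q hq => hMC q hq m) hCFQ
    have hDQ : dn Q F hFQ m ≤ Q := fun x hx => hx.1
    rcases Nat.lt_or_ge n j with hjn | hjn
    · -- `E` is trivial on `C / F`
      have hEC : ∀ e ∈ E, ∀ c ∈ C, e • c * c⁻¹ ∈ F := by
        refine hsecE hGF hGC ?_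
        rw [hi']
        exact Nat.pow_le_pow_right (by norm_num) (by omega)
      obtain ⟨c, hc⟩ : ∃ c : M, c = q • m * m⁻¹ := ⟨_, rfl⟩
      have hcC : c ∈ C := by rw [hc]; exact hMC q hq m
      have hcF : c ∉ F := by rw [hc]; exact hqm
      have hbQ : ∀ q ∈ Q, ∀ x ∈ (⊥ : Subgroup M), q • x ∈ (⊥ : Subgroup M) := by
        intro q _ x hx
        rw [mem_bot] at hx ⊢
        rw [hx, smul_one]
      have hKmem : ∀ {x : H}, x ∈ dn Q (⊥ : Subgroup M) hbQ c ↔ x ∈ Q ∧ x • c = c := by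
        intro x
        rw [mem_dn, mem_bot, mul_inv_eq_one]
      have hKQ : dn Q (⊥ : Subgroup M) hbQ c ≤ Q := fun x hx => hx.1
      have hK2 : Nat.card (dn Q (⊥ : Subgroup M) hbQ c) ≤ 2 := by
        refine (D.irr _ hKQ fun e he x hx => ?_).resolve_right fun h1 => ?_
        · rw [hKmem] at hx ⊢
          refine ⟨hEQ e he x hx.1, ?_⟩
          have h1 := hEC e⁻¹ (E.inv_mem he) c hcC
          have h2 : e⁻¹ • c = (e⁻¹ • c * c⁻¹) * c := by rw [inv_mul_cancel_right]
          rw [mul_smul, mul_smul, h2, smul_mul', hmF.1 h1 x hx.1, hx.2, inv_mul_cancel_right, smul_inv_smul]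
        · apply hcF
          rw [hmF]
          intro y hy
          rw [← h1] at hy
          exact (hKmem.1 hy).2
      -- an element of `D_m` which commutes with `q`
      have hidx : ((centralizer ({q} : Set H)).subgroupOf (dn Q F hFQ m)).index ≤ 2 := by
        apply index_le_two
        intro a b ha hb
        rw [mem_subgroupOf, mem_centralizer_singleton_iff] at ha hb ⊢
        have key : ∀ x ∈ Q, x * q ≠ q * x → x * q = z * q * x := by
          intro x hx hne
          rcases hder x hx q hq with h1 | h1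
          · exfalso
            apply hne
            rwa [mul_inv_eq_one, mul_inv_eq_iff_eq_mul] at h1
          · rw [← h1]; group
        have ha' := key a (hDQ a.2) ha
        have hb' := key b (hDQ b.2) hb
        show (a : H) * b * q = q * (a * b)
        calc (a : H) * b * q = a * (b * q) := by group
          _ = (a * z) * (q * b) := by rw [hb']; group
          _ = (z * a) * (q * b) := by rw [hzc a (hDQ a.2)]
          _ = z * (a * q) * b := by group
          _ = (z * z) * (q * (a * b)) := by rw [ha']; group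
          _ = _ := by rw [hz2, one_mul]
      have hDcard : 2 ^ (n + 1) ≤ Nat.card (dn Q F hFQ m) := by
        have h1 : Nat.card (dn Q F hFQ m) * (dn Q F hFQ m).relIndex Q = Nat.card Q := by
          rw [← relIndex_bot_left, ← relIndex_bot_left Q]
          exact relIndex_mul_relIndex _ _ _ bot_le hDQ
        rw [D.card] at h1
        have h2 : (dn Q F hFQ m).relIndex Q ≤ 2 ^ n := hDm.trans (Nat.pow_le_pow_right (by norm_num) (by omega))
        by_contra h3
        rw [not_le] at h3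
        have h4 : Nat.card (dn Q F hFQ m) * (dn Q F hFQ m).relIndex Q < 2 ^ (n + 1) * 2 ^ n :=
          lt_of_le_of_lt (Nat.mul_le_mul_left _ h2) (Nat.mul_lt_mul_of_pos_right h3 (by positivity))
        rw [h1, ← pow_add] at h4
        have h5 : n + 1 + n = 2 * n + 1 := by omega
        rw [h5] at h4
        exact lt_irrefl _ h4
      obtain ⟨q', hq'D, hq'c, hq'K⟩ : ∃ q' ∈ dn Q F hFQ m, q' * q = q * q' ∧
          q' ∉ dn Q (⊥ : Subgroup M) hbQ c := by
        by_contra hcon
        push Not at hcon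
        have h1 : (((centralizer ({q} : Set H)).subgroupOf (dn Q F hFQ m)).map (dn Q F hFQ m).subtype) ≤
            dn Q (⊥ : Subgroup M) hbQ c := by
          rintro _ ⟨x, hx, rfl⟩
          rw [SetLike.mem_coe, mem_subgroupOf, mem_centralizer_singleton_iff] at hx
          exact hcon x x.2 hx
        have h2 := card_le_of_le h1
        rw [card_map_of_injective (dn Q F hFQ m).subtype_injective] at h2
        have h3 := ((centralizer ({q} : Set H)).subgroupOf (dn Q F hFQ m)).card_mul_index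
        have h4 : Nat.card (dn Q F hFQ m) ≤ 2 * 2 := by
          rw [← h3]
          exact Nat.mul_le_mul (h2.trans hK2) hidx
        have h5 : 2 ^ 3 ≤ 2 ^ (n + 1) := Nat.pow_le_pow_right (by norm_num) (by omega)
        omega
      apply hq'K
      rw [hKmem]
      refine ⟨hq'D.1, ?_⟩
      have h1 : q' • m = (q' • m * m⁻¹) * m := by rw [inv_mul_cancel_right]
      have h2 := hmF.1 hq'D.2 q hq
      calc q' • c = (q' * q) • m * (q' • m)⁻¹ := by rw [hc, smul_mul', smul_inv', mul_smul]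
        _ = q • (q' • m) * (q' • m)⁻¹ := by rw [hq'c, mul_smul]
        _ = (q' • m * m⁻¹) * (q • m) * ((q' • m * m⁻¹) * m)⁻¹ := by
          conv_lhs => rw [h1, smul_mul', h2]
        _ = c := by
          rw [mul_inv_rev, hc, ← mul_assoc, mul_assoc (q' • m * m⁻¹), hcomm (q' • m * m⁻¹), mul_inv_cancel_right]
    · -- `E` is trivial on `M / C`
      have hEM : ∀ e ∈ E, ∀ w : M, e • w * w⁻¹ ∈ C := by
        intro e he w
        refine hsecE hGC hGT ?_ e he w (mem_top w)
        rw [relIndex_top_right, hj]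
        exact Nat.pow_le_pow_right (by norm_num) (by omega)
      rcases D.irr (dn Q F hFQ m) hDQ (fun e he x hx => by
        refine ⟨hEQ e he x hx.1, ?_⟩
        have h1 := hEM e⁻¹ (E.inv_mem he) m
        have h2 : e⁻¹ • m = (e⁻¹ • m * m⁻¹) * m := by rw [inv_mul_cancel_right]
        have h3 := hCFQ x hx.1 _ h1
        have h4 : x • (e⁻¹ • m) * (e⁻¹ • m)⁻¹ ∈ F := by
          have h5 : x • (e⁻¹ • m) * (e⁻¹ • m)⁻¹ =
              (x • (e⁻¹ • m * m⁻¹) * (e⁻¹ • m * m⁻¹)⁻¹) * (x • m * m⁻¹) := by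
            conv_lhs => rw [h2, smul_mul', mul_inv_rev]
            rw [mul_assoc, mul_assoc, hcomm (e⁻¹ • m * m⁻¹)⁻¹, mul_assoc]
          rw [h5]
          exact F.mul_mem h3 hx.2
        have h5 := hGF e (D.EG he) _ h4
        rwa [smul_mul', smul_inv', smul_inv_smul, ← mul_smul, ← mul_smul] at h5) with h1 | h1
      · have h2 := (D.le_relIndex hDQ h1).trans hDm
        have h3 := (Nat.pow_le_pow_iff_right (by norm_num : 1 < 2)).1 h2
        omega
      · apply hqm
        have h2 : q ∈ dn Q F hFQ m := by rw [h1]; exact hq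
        exact h2.2

end

end Cfsg.Agent.Omega.ML.Ex.ExX

end

section


/-!
# The K-list for EXACT subgroups: the rows with a sheet, by THEOREM EX (helper10)

* `dat_of_rec` : the record `Rec C P R n` in the normal subgroup `K` of `H` gives the situation `Dat` in `H`;
* `le_conj` : in the situation `ASx S T A`, `SheetX z P R` : `A ≤ R^g` for some `g`;
* **`deadN_of_sheet`** : a class of groups with `SheetX z P R`, `|R| = 2^(2n+1)`, `n ≥ 2`, `TrivC .. n` is dead.
-/

set_option autoImplicit false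

namespace Cfsg.Agent.Omega.ML.Ex.Sheet

open Subgroup Cfsg Cfsg.Agent.ClassTwoFusion.Quad Cfsg.Agent.Omega.NOThree.NoOver Cfsg.Agent.Omega.ML.CD
open Cfsg.Agent.ZN (o2)
open Cfsg.Agent.Omega.ML.ExCore Cfsg.Agent.Omega.ML.ExRec Cfsg.Agent.Omega.ML.ExRow
open Cfsg.Agent.OddHalf.D8.Sheet Cfsg.Agent.OddHalf.D8.JTwo.Sheet
open Cfsg.Agent.MinSimple.VModule (o2_isPGroup o2_le le_o2 le_normalizer_o2)

universe u v w

/-! ### Conjugates of exact atoms -/

section cjs

variable {H : Type u} [Group H] {M : Type v} [Group M] [Finite M] [MulDistribMulAction H M]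

theorem index_cv_cj (g : H) (B : Subgroup H) : (cv M (cj g B : Set H)).index = (cv M (B : Set H)).index := by
  have h1 := (cv M (cj g B : Set H)).card_mul_index
  have h2 := (cv M (B : Set H)).card_mul_index
  have h3 : Nat.card (cv M (cj g B : Set H)) = Nat.card (cv M (B : Set H)) := by
    have h4 : cv M (cj g B : Set H) = _ := QData.cv_map_conj (V := M) B g
    rw [h4]
    exact (Nat.card_congr ((cv M (B : Set H)).equivMapOfInjective _
      (MulDistribMulAction.toMulEquiv M g : M ≃* M).injective).toEquiv).symm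
  rw [h3, ← h2] at h1
  exact Nat.eq_of_mul_eq_mul_left Nat.card_pos h1

omit [Finite M] in
theorem card_cj (g : H) (B : Subgroup H) : Nat.card (cj g B) = Nat.card B :=
  (Nat.card_congr (B.equivMapOfInjective _ (MulAut.conj g).injective).toEquiv).symm

/-- **THEOREM EX for a conjugate of the exact atom** -/
theorem false_of_le_cj [Finite H] {G E Q A : Subgroup H} {n : ℕ} (D : Dat.{u, v} H G E Q n) (hn : 2 ≤ n)
    (sq : ∀ m : M, m * m = 1) (faith : ∀ h : H, (∀ m : M, h • m = m) → h = 1) (g : H) (hAQ : cj g A ≤ Q)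
    (el : ∀ a ∈ A, a * a = 1) (four : 4 ≤ Nat.card A) (exact : (cv M (A : Set H)).index = Nat.card A)
    (atom : ∀ C : Subgroup H, C ≤ A → C ≠ ⊥ → C ≠ A → Nat.card C < (cv M (C : Set H)).index) : False := by
  refine ExX.Dat.falseX D hn sq faith hAQ ?_ ?_ ?_ ?_
  · rintro _ ⟨a, ha, rfl⟩
    show g * a * g⁻¹ * (g * a * g⁻¹) = 1
    have h1 : g * a * g⁻¹ * (g * a * g⁻¹) = g * (a * a) * g⁻¹ := by group
    rw [h1, el a ha, mul_one, mul_inv_cancel]
  · rwa [card_cj]
  · rw [index_cv_cj, card_cj, exact]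
  · intro C hC hC1 hCA
    have h1 : cj g⁻¹ C ≤ A := by
      rw [cj_le_iff, inv_inv]
      exact hC
    have h2 := atom (cj g⁻¹ C) h1 (fun h3 => hC1 (by
      have h4 : cj g (cj g⁻¹ C) = C := by rw [cj_cj, mul_inv_cancel, cj_one]
      rw [← h4, h3]
      exact Subgroup.map_bot _)) (fun h3 => hCA (by
      rw [← h3, cj_cj, mul_inv_cancel, cj_one]))
    rwa [card_cj, index_cv_cj] at h2

end cjs

/-! ### The record in a normal subgroup -/

/-- **the record in `K` gives the situation in `H`** -/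
theorem dat_of_rec {H : Type u} [Group H] [Finite H] {K : Subgroup H} {C P R : Subgroup K} {n : ℕ}
    (h : Rec.{u, v, u} C P R n) : Dat.{u, v} H (C.map K.subtype) (P.map K.subtype) (R.map K.subtype) n where
  QG := map_mono h.RC
  EG := map_mono h.PC
  nQ := by
    rintro _ ⟨c, hc, rfl⟩ _ ⟨r, hr, rfl⟩
    exact ⟨c * r * c⁻¹, h.nR c hc r hr, by simp⟩
  card := by rw [card_map_of_injective K.subtype_injective, h.card]
  nab := by
    obtain ⟨a, ha, b, hb, hab⟩ := h.nab
    exact ⟨a, ⟨a, ha, rfl⟩, b, ⟨b, hb, rfl⟩, fun h1 => hab (Subtype.ext h1)⟩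
  irr := by
    intro D hD hDE
    have hmap : (D.comap K.subtype).map K.subtype = D := by
      refine map_comap_eq_self ?_
      rw [range_subtype]
      exact hD.trans (map_subtype_le _)
    have h1 : D.comap K.subtype ≤ R := by
      intro x hx
      obtain ⟨r, hr, hrx⟩ := hD hx
      rwa [← K.subtype_injective hrx]
    rcases h.irr _ h1 (fun x hx b hb => by
      have h2 := hDE (x : H) ⟨x, hx, rfl⟩ (b : H) hb
      exact h2) with h2 | h2
    · left
      rwa [← hmap, card_map_of_injective K.subtype_injective]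
    · right
      rw [← hmap, h2]
  triv := by
    -- the group `C.map K.subtype ≃* C`
    let e : C ≃* C.map K.subtype := C.equivMapOfInjective _ K.subtype_injective
    have he : ∀ c : C, ((e c : C.map K.subtype) : H) = ((c : K) : H) := fun c => rfl
    let p : (C.map K.subtype : Subgroup H) →* C := e.symm.toMonoidHom
    have hp : ∀ g, (((p g : C) : K) : H) = g := by
      intro g
      have h1 : e (p g) = g := e.apply_symm_apply g
      rw [← he, h1]
    have hker : p.ker = ⊥ := by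
      rw [MonoidHom.ker_eq_bot_iff]
      exact e.symm.injective
    have h1 := h.triv (C.map K.subtype) p e.symm.surjective (by rw [hker]; exact bot_le) (by
      rw [hker, card_bot]; exact odd_one)
    intro V _ _ _ h2 hc l hl
    refine h1 V h2 hc l ?_
    -- `E ≤ [E, E]`
    have h3 : (P.subgroupOf C).comap p = (P.map K.subtype).subgroupOf (C.map K.subtype) := by
      ext x
      rw [mem_comap, mem_subgroupOf, mem_subgroupOf]
      constructor
      · intro hx
        exact ⟨_, hx, hp x⟩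
      · rintro ⟨y, hy, hyx⟩
        have h4 : y = ((p x : C) : K) := K.subtype_injective (hyx.trans (hp x).symm)
        rwa [← h4]
    rw [h3]
    have h4 : ((⁅(P.map K.subtype).subgroupOf (C.map K.subtype),
        (P.map K.subtype).subgroupOf (C.map K.subtype)⁆ : Subgroup (C.map K.subtype)).map
          (C.map K.subtype).subtype) = P.map K.subtype := by
      rw [map_commutator, subgroupOf_map_subtype, inf_eq_left.2 (map_mono h.PC), ← map_commutator, h.perf]
    have h5 : (l : H) ∈ P.map K.subtype := hl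
    rw [← h4] at h5
    obtain ⟨y, hy, hyl⟩ := h5
    rwa [← Subtype.ext hyl]

/-! ### The group-theoretic part (`ShE.lean` with `H = KT`) -/

section group

variable {X : Type u} [Group X] {S T A : Subgroup X}

/-- **`A ≤ O₂(C_X(z))^g`, `g ∈ S`.** -/
theorem le_o2_conj [Finite X] (h : ASx S T A) {z : S} (hz1 : z ≠ 1)
    (hz : ∃ S₀ : Sylow 2 S, z ∈ S₀ ∧ (∀ x ∈ S₀, x * z = z * x) ∧ ∀ y ∈ S₀, (∀ x ∈ S₀, x * y = y * x) → y = 1 ∨ y = z) :
    ∃ g : S, ∀ a ∈ A, (g : X)⁻¹ * a * g ∈ o2 (centralizer ({(z : X)} : Set X)) := by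
  have hS := h.norm
  obtain ⟨g, hg⟩ := ShE.exists_conj hS h.two h.syl hz
  refine ⟨g, ?_⟩
  have hne : centralizer ({((g : X) * z * (g : X)⁻¹)} : Set X) ≠ ⊤ := by
    intro h1
    have h2 : (z : X) ∈ centralizer (S : Set X) := by
      rw [mem_centralizer_iff]
      intro y _
      have h3 : (g * y * (g : X)⁻¹) * (g * z * (g : X)⁻¹) = (g * z * (g : X)⁻¹) * (g * y * (g : X)⁻¹) :=
        mem_centralizer_singleton_iff.1 (h1 ▸ mem_top _)
      calc y * (z : X) = (g : X)⁻¹ * ((g * y * (g : X)⁻¹) * (g * z * (g : X)⁻¹)) * g := by group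
        _ = (g : X)⁻¹ * ((g * z * (g : X)⁻¹) * (g * y * (g : X)⁻¹)) * g := by rw [h3]
        _ = z * y := by group
    rw [h.cen, mem_bot] at h2
    exact hz1 (Subtype.ext h2)
  have hle := h.low _ hg hne
  intro a ha
  have h1 := hle ha
  have h2 : (o2 (centralizer ({((g : X) * z * (g : X)⁻¹)} : Set X))).map (MulAut.conj (g : X)⁻¹).toMonoidHom ≤
      o2 (centralizer ({(z : X)} : Set X)) := by
    have hc1 : ∀ x ∈ centralizer ({((g : X) * z * (g : X)⁻¹)} : Set X), (g : X)⁻¹ * x * g ∈ centralizer ({(z : X)} : Set X) := by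
      intro x hx
      rw [mem_centralizer_singleton_iff] at hx ⊢
      calc (g : X)⁻¹ * x * g * z = (g : X)⁻¹ * (x * (g * z * (g : X)⁻¹)) * g := by group
        _ = (g : X)⁻¹ * ((g * z * (g : X)⁻¹) * x) * g := by rw [hx]
        _ = z * ((g : X)⁻¹ * x * g) := by group
    have hc2 : ∀ x ∈ centralizer ({(z : X)} : Set X), (g : X) * x * (g : X)⁻¹ ∈ centralizer ({((g : X) * z * (g : X)⁻¹)} : Set X) := by
      intro x hx
      rw [mem_centralizer_singleton_iff] at hx ⊢
      calc (g : X) * x * (g : X)⁻¹ * (g * z * (g : X)⁻¹) = (g : X) * (x * z) * (g : X)⁻¹ := by group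
        _ = (g : X) * (z * x) * (g : X)⁻¹ := by rw [hx]
        _ = _ := by group
    refine le_o2 ?_ ((o2_isPGroup _).map _) ?_
    · rintro _ ⟨x, hx, rfl⟩
      have h3 := hc1 x (o2_le _ hx)
      rw [MulEquiv.toMonoidHom_eq_coe, MonoidHom.coe_coe, MulAut.conj_apply, inv_inv]
      exact h3
    · have key : ∀ x ∈ centralizer ({(z : X)} : Set X), ∀ y ∈ (o2 (centralizer ({((g : X) * z * (g : X)⁻¹)} : Set X))).map
          (MulAut.conj (g : X)⁻¹).toMonoidHom, x * y * x⁻¹ ∈ (o2 (centralizer ({((g : X) * z * (g : X)⁻¹)} : Set X))).map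
          (MulAut.conj (g : X)⁻¹).toMonoidHom := by
        rintro x hx _ ⟨y, hy, rfl⟩
        refine ⟨(g * x * (g : X)⁻¹) * y * (g * x * (g : X)⁻¹)⁻¹, ?_, ?_⟩
        · exact (mem_normalizer_iff.1 (le_normalizer_o2 _ (hc2 x hx)) y).1 hy
        · rw [MulEquiv.toMonoidHom_eq_coe, MonoidHom.coe_coe, MulAut.conj_apply, MulAut.conj_apply]
          group
      intro x hx
      rw [mem_normalizer_iff]
      intro y
      refine ⟨fun hy => key x hx y hy, fun hy => ?_⟩
      have h3 := key x⁻¹ (inv_mem hx) _ hy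
      have h4 : x⁻¹ * (x * y * x⁻¹) * x⁻¹⁻¹ = y := by group
      rwa [h4] at h3
  apply h2
  refine ⟨a, h1, ?_⟩
  rw [MulEquiv.toMonoidHom_eq_coe, MonoidHom.coe_coe, MulAut.conj_apply, inv_inv]

/-- **`A ≤ R^g`.** -/
theorem le_conj [Finite X] (h : ASx S T A) {z : S} {P R : Subgroup S} (hz : SheetX z P R) :
    ∃ g : X, ∀ a ∈ A, g⁻¹ * a * g ∈ R.map S.subtype := by
  obtain ⟨g, hg⟩ := le_o2_conj h hz.z1 hz.syl
  exact ⟨g, fun a ha => ShE.o2_le_R h.norm h.cen hz (hg a ha)⟩

end group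

/-! ### The rows -/

/-- **The row of a class of groups with a sheet.** -/
theorem deadN_of_sheet {𝒮 : ∀ (S : Type u) [Group S], Prop}
    (hS : ∀ (S : Type u) [Group S] [Finite S], 𝒮 S → ∃ (z : S) (P R : Subgroup S) (n : ℕ), 2 ≤ n ∧ SheetX z P R ∧
      Nat.card R = 2 ^ (2 * n + 1) ∧ TrivC.{u, v, u} (centralizer ({z} : Set S)) P n) : DeadN.{u, v} 𝒮 := by
  intro H _ _ M _ _ _ K T A h hK
  obtain ⟨z, P, R, n, hn, hsh, hcard, ht⟩ := hS K hK
  obtain ⟨g, hg⟩ := le_conj h.asx hsh
  refine false_of_le_cj (dat_of_rec (Rec.of_sheet hsh hcard ht)) hn h.sq h.faith g⁻¹ (A := A) ?_ h.el h.four h.exact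
    h.atom
  rintro _ ⟨a, ha, rfl⟩
  have h1 := hg a ha
  rw [MulEquiv.toMonoidHom_eq_coe, MonoidHom.coe_coe, MulAut.conj_apply, inv_inv]
  exact h1

end Cfsg.Agent.Omega.ML.Ex.Sheet

end
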