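import Cfsg.Agent.Mrg.Omega.ML.Ex.Two
import Cfsg.Agent.Mrg.Omega.ML.Ex.RowFi22X
import Cfsg.Agent.Mrg.Omega.ML.Ex.KnownDone
import Cfsg.Agent.Mrg.Omega.ML.Ex.RowU33X
import Cfsg.Agent.Mrg.Omega.ML.LieRow.CRB.AbB
import Cfsg.Agent.Mrg.Omega.ML.KnownAll
import Cfsg.Agent.Mrg.Omega.ML.ExEx.Core
import Cfsg.Agent.Mrg.Omega.ML.Ex.DefN
import Cfsg.Agent.Mrg.Omega.ML.Ex.SheetCo1
import Cfsg.Agent.KFacts.CoTwo.QuotInst
import Cfsg.Agent.KFacts.CoTwo.Sheets
import Cfsg.Agent.Co2Type.Setup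
import Cfsg.Agent.Mrg.Omega.ML.Ex.Known
import Cfsg.Agent.Mrg.Omega.ML.Ex.SheetCo2
import Cfsg.Agent.Mrg.Omega.ML.ExLow.XPsl
import Cfsg.Agent.Mrg.Omega.ML.ExLow.XPsu
import Cfsg.Agent.Mrg.Omega.ML.ExLow.XOm
import Cfsg.Agent.Mrg.Omega.ML.Ex.RowL33X
import Cfsg.Agent.Mrg.Omega.ML.Ex.RkX
import Cfsg.Agent.S0254
import Cfsg.Agent.Mrg.Omega.ML.Ex.RowTitsX
import Cfsg.Agent.Mrg.Omega.ML.Ex.TwoOdd

section


/-!
# EXT, closed (helper585)

* **`ext`** : `Ext` : the situation `SysT` (an exact low atom and two `T`-fixed vectors) is impossible;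
* `SysT.false` : the same for one `SysT`.

Inputs: `redT` (helper995, 844, 690), `KnownDone.exitN` (helper441, 484 and the rows), `CRB.lieT` (helper951),
`uThreeT` (helper919), `KnownAll.mlk`.
-/

set_option autoImplicit false

namespace Cfsg.Agent.Omega.ML.Ex.Two

universe u v

/-- **EXT.** -/
theorem ext : Ext.{u, v} :=
  ext_of (Red.redT_of KnownAll.mlk) KnownDone.exitN LieRow.CRB.lieT uThreeT

/-- **EXT** for one `SysT` -/
theorem SysT.false {H : Type u} [Group H] [Finite H] {M : Type v} [Group M] [Finite M] [MulDistribMulAction H M]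
    {T A : Subgroup H} {x y : M} (h : SysT H M T A x y) : False :=
  ext H M T A x y h

end Cfsg.Agent.Omega.ML.Ex.Two

end

section


/-!
# K-list "exact + low": the row `Co2` (helper43)

The sheet of type (E) of `Co2` (helper902): `P = C(z) = 2^{1+8}.Sp6(2)`, `R = 2^{1+8}`, `n = 4`;
`|Sp6(2)| > |GL_k(2)|` for `k < 5`.
-/

set_option autoImplicit false

namespace Cfsg.Agent.Omega.ML.Ex.RowCo2E

open Subgroup Cfsg Cfsg.Agent.KFacts
open Cfsg.Agent.Omega.Lie.Heis (LB)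
open Cfsg.Agent.Omega.Lie.PairOrd
open Cfsg.Agent.Omega.ML.ExRec Cfsg.Agent.Omega.ML.Ex
open Cfsg.Agent.OddHalf.D8.Sheet Cfsg.Agent.OddHalf.D8.JTwo.Sheet
open Cfsg.Agent.Co2Type.TData Cfsg.Agent.Co2Type.FactsD
open Cfsg.Agent.KFacts.CoTwo.RSub Cfsg.Agent.KFacts.CoTwo.RLarge

universe u v w

/-- **LB** for `Sp6(2)` -/
theorem lb_Sp62 : LB.{0, u, v} CoTwo.Quot.Sp62 5 := by
  refine SheetCo1.lb_of_card_gt fun k hk => ?_
  have h1 : ∀ k < 5, glc k < 1451520 := by decide +kernel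
  have h2 : Nat.card CoTwo.Quot.Sp62 = 1451520 := Cfsg.Agent.Co2Type.Setup.card_sp6
  rw [h2]
  exact h1 k hk

/-- **the sheet** -/
theorem exists_sheet (S : Type w) [Group S] [Finite S] (h : Spor.IsoCo2 S) :
    ∃ (z : S) (P R : Subgroup S) (n : ℕ), SheetE z P R ∧ 2 ≤ n ∧ Nat.card R = 2 ^ (2 * n + 1) ∧
      TrivC.{u, v, w} (centralizer ({z} : Set S)) P n := by
  obtain ⟨e⟩ := h
  have hfin := Cfsg.Agent.Schreier.CoTwoStab.finite
  obtain ⟨π, hs, hk⟩ := CoTwo.QuotInst.dataT.quot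
  have hE := Cfsg.Agent.OddHalf.D8.SheetMap.sheetE_map e.symm (CoTwo.Sheets.sheets CoTwo.QuotInst.dataT).1
  have hX := of_sheetE hE
  obtain ⟨C, hC⟩ : ∃ C, C = centralizer ({ge mz} : Set Spor.Co2) := ⟨_, rfl⟩
  rw [← hC] at hE hX
  obtain ⟨ρ, hρs, hρk⟩ : ∃ ρ : C →* CoTwo.Quot.Sp62, Function.Surjective ρ ∧ ∀ c, ρ c = 1 ↔ (c : Spor.Co2) ∈ R := by
    subst hC
    exact ⟨π, hs, hk⟩
  obtain ⟨f, hf⟩ : ∃ f : C ≃* C.map e.symm.toMonoidHom, ∀ c, (f c : S) = e.symm c :=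
    ⟨C.equivMapOfInjective _ e.symm.injective, fun c => rfl⟩
  have hPC : C.map e.symm.toMonoidHom ≤ centralizer ({e.symm (ge mz)} : Set S) := by
    rintro _ ⟨c, hc, rfl⟩
    rw [mem_centralizer_singleton_iff]
    have h1 : c * ge mz = ge mz * c := by
      rw [hC] at hc
      exact mem_centralizer_singleton_iff.1 hc
    show e.symm c * e.symm (ge mz) = e.symm (ge mz) * e.symm c
    rw [← map_mul, h1, map_mul]
  have hk' : ∀ c, (ρ.comp f.symm.toMonoidHom) c = 1 ↔ (c : S) ∈ R.map e.symm.toMonoidHom := by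
    intro c
    obtain ⟨c, rfl⟩ := f.surjective c
    show ρ (f.symm (f c)) = 1 ↔ _
    rw [f.symm_apply_apply, hρk, hf]
    constructor
    · intro h1
      exact ⟨c, h1, rfl⟩
    · rintro ⟨q, hq, h1⟩
      rwa [← e.symm.injective h1]
  refine ⟨_, _, _, 4, hE, by norm_num, ?_, ?_⟩
  · have h1 : Nat.card (R.map e.symm.toMonoidHom) = Nat.card R :=
      (Nat.card_congr (R.equivMapOfInjective _ e.symm.injective).toEquiv).symm
    exact h1.trans card_R
  · refine ExTriv.trivC_of_lb hPC hX.R2 hX.Rn hX.perf (ρ.comp f.symm.toMonoidHom) (hρs.comp f.symm.surjective)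
      (fun x hx => (hk' x).2 hx) ?_ ?_ lb_Sp62
    · intro x hx y
      have h1 := (hk' x).1 hx
      have h2 := hX.Rn _ y.2 _ (Subgroup.inv_mem _ h1)
      have h3 := Subgroup.mul_mem _ h1 h2
      have h4 : (x : S) * ((y : S) * (x : S)⁻¹ * (y : S)⁻¹) = x * y * (x : S)⁻¹ * (y : S)⁻¹ := by group
      rwa [h4] at h3
    · have h1 : (ρ.comp f.symm.toMonoidHom).ker = (R.map e.symm.toMonoidHom).subgroupOf
          (C.map e.symm.toMonoidHom) := by
        ext c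
        rw [MonoidHom.mem_ker, hk', mem_subgroupOf]
      rw [h1, relIndex_self]
      exact odd_one

/-- **The row `Co2`.** (no atom, no `sub`) -/
theorem deadX : DeadX.{u, v} @Spor.IsoCo2 :=
  ExEx.SheetRow.deadX_of_sheet fun S _ _ hS => exists_sheet S hS

/-- the row for `InN` -/
theorem deadN : DeadN.{u, v} @Spor.IsoCo2 := DeadX.deadN deadX

end Cfsg.Agent.Omega.ML.Ex.RowCo2E

end

section


/-!
# The K-list for EXACT subgroups (EXL): Lie type in odd characteristic, part 1 (helper484)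

* **`nx`** : helper102's numerical criterion `NX` over `InX`;
* `lTwo_of` : `L₂(9)` is `A₆` (excluded);
* `psl_of`, `psu_of` : the linear and the unitary groups from the rows `L₂(q)`, `U₄(3)`;
* `chev_of`, `twisted` : the exceptional groups from the row `G₂(3)`;
* **`odd_of`** : the field `odd` of `RowsX`.
-/

set_option autoImplicit false

namespace Cfsg.Agent.Omega.ML.Ex.OddKnown

open Subgroup Cfsg Cfsg.Agent.Omega.KFacts Cfsg.Agent.Omega.ML.Rows Cfsg.Agent.Omega.ML.Known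
  Cfsg.Agent.Omega.ML.CD Cfsg.Agent.Omega.NOThree.NoOver Cfsg.Agent.Omega.ML.ExLow

universe u v

/-- `|M| = |A| |C_M(A)|` -/
theorem card_le_fo {H : Type u} [Group H] {M : Type v} [Group M] [MulDistribMulAction H M]
    {K T A : Subgroup H} (h : InX H M K T A) : Nat.card M ≤ fo M A := by
  rw [fo, ← h.exact, mul_comm]
  exact (card_mul_index _).ge

/-- `K` moves `M` -/
theorem mv {H : Type u} [Group H] [Finite H] {M : Type v} [Group M] [MulDistribMulAction H M]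
    {K T A : Subgroup H} (h : InX H M K T A) : NumX.Mv K M := by
  by_contra hn
  have hs := h.simple
  obtain ⟨x, hx⟩ := exists_ne (1 : K)
  exact hx (Subtype.ext (h.faith x fun m => NumX.not_mv hn x.2 m))

/-- **The numerical rows.** -/
theorem nx : DeadX.{u, v} fun S _ => NumX.NX.{u, v} S := by
  intro H _ _ M _ _ _ K T A hI hS
  exact NumX.false_of hI.norm hI.simple (Gen.perf hI) hI.cen hI.sq (mv hI) hI.el hI.A_ne_bot (card_le_fo hI) hS

/-- `PSL₂(q)`, `q` odd, not `A₆` -/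
theorem lTwo_of (h2 : DeadX.{u, v} fun S _ => ∃ (F : Type) (_ : Field F) (_ : Fintype F), Odd (Fintype.card F) ∧
      3 < Fintype.card F ∧ Fintype.card F ≠ 9 ∧ Nonempty (S ≃* Matrix.ProjectiveSpecialLinearGroup (Fin 2) F)) :
    DeadX.{u, v} fun S _ => (∃ (F : Type) (_ : Field F) (_ : Fintype F), Odd (Fintype.card F) ∧
      3 < Fintype.card F ∧ Nonempty (S ≃* Matrix.ProjectiveSpecialLinearGroup (Fin 2) F)) ∧ ¬ IsAlt6 S := by
  intro H _ _ M _ _ _ K T A hI ⟨hS, h6⟩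
  obtain ⟨F, i, j, h3, h4, ⟨e⟩⟩ := hS
  by_cases h9 : Fintype.card F = 9
  · obtain ⟨f⟩ := S0254.result h9
    exact h6 ⟨e.trans f⟩
  · exact h2 H M K T A hI ⟨F, i, j, h3, h4, h9, ⟨e⟩⟩

/-- `PSL_n(q)`, `q` odd, not `A₆` -/
theorem psl_of (h2 : DeadX.{u, v} fun S _ => ∃ (F : Type) (_ : Field F) (_ : Fintype F), Odd (Fintype.card F) ∧
      3 < Fintype.card F ∧ Fintype.card F ≠ 9 ∧ Nonempty (S ≃* Matrix.ProjectiveSpecialLinearGroup (Fin 2) F)) :
    DeadX.{u, v} fun S _ => OddChar @IsPSLChar S ∧ ¬ IsAlt6 S := by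
  intro H _ _ M _ _ _ K T A hI ⟨hS, h6⟩
  rcases XPsl.psl.{u, v} hS with h | h | h
  · exact lTwo_of h2 H M K T A hI ⟨h, h6⟩
  · exact RowL33X.deadEx H M K T A hI h
  · exact nx H M K T A hI h

/-- `PSU_n(q)`, `q` odd, not `U₃(3)` -/
theorem psu_of (h43 : DeadX.{u, v} @IsUFourThree) :
    DeadX.{u, v} fun S _ => OddChar @IsPSUChar S ∧ ¬ IsUThreeThree S := by
  intro H _ _ M _ _ _ K T A hI ⟨hS, h33⟩
  by_cases h : IsUFourThree K
  · exact h43 H M K T A hI h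
  · refine nx H M K T A hI (XPsu.psu _ hS ?_ h)
    rintro ⟨F, iF, jF, hF, ⟨e⟩⟩
    exact h33 ⟨F, iF, jF, by rw [hF]; norm_num, ⟨e⟩⟩

/-- the exceptional Chevalley groups, `q` odd -/
theorem chev_of (h3 : DeadX.{u, v} @IsGTwoThree) : DeadX.{u, v} fun S _ => OddChar @IsExceptionalChevChar S := by
  intro H _ _ M _ _ _ K T A hI hS
  rcases XExc.exceptional.{u, v} hS with h | h
  · exact h3 H M K T A hI h
  · exact nx H M K T A hI h

/-- `²E₆(q)`, `³D₄(q)`, `q` odd -/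
theorem twisted : DeadX.{u, v} fun S _ => OddChar @IsTwistedE6D4Char S :=
  nx.mono fun _ _ h => XExc.twisted h

/-- **The field `odd` of `RowsX`.** -/
theorem odd_of (hl : DeadX.{u, v} fun S _ => ∃ (F : Type) (_ : Field F) (_ : Fintype F), Odd (Fintype.card F) ∧
      3 < Fintype.card F ∧ Fintype.card F ≠ 9 ∧ Nonempty (S ≃* Matrix.ProjectiveSpecialLinearGroup (Fin 2) F))
    (h43 : DeadX.{u, v} @IsUFourThree) (hg3 : DeadX.{u, v} @IsGTwoThree)
    (hpsp : DeadX.{u, v} fun S _ => OddChar @IsPSpChar S ∧ ¬ IsLieTypeChar 2 S)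
    (hom1 : DeadX.{u, v} fun S _ => OddChar @IsPOmegaOddChar S)
    (hom2 : DeadX.{u, v} fun S _ => OddChar @IsPOmegaPlusChar S)
    (hom3 : DeadX.{u, v} fun S _ => OddChar @IsPOmegaMinusChar S) :
    DeadX.{u, v} fun S _ => OddLie S ∧ ¬ IsLieTypeChar 2 S ∧ ¬ IsUThreeThree S ∧ ¬ IsAlt6 S := by
  rintro H _ _ M _ _ _ K T A hI ⟨⟨p, hp, hp2, h⟩, hn, h33, h6⟩
  rcases h with h | h | h | h | h | h | h | h | h | h | h
  · exact psl_of hl H M K T A hI ⟨⟨p, hp, hp2, h⟩, h6⟩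
  · exact hpsp H M K T A hI ⟨⟨p, hp, hp2, h⟩, hn⟩
  · exact psu_of h43 H M K T A hI ⟨⟨p, hp, hp2, h⟩, h33⟩
  · exact hom1 H M K T A hI ⟨p, hp, hp2, h⟩
  · exact hom2 H M K T A hI ⟨p, hp, hp2, h⟩
  · exact hom3 H M K T A hI ⟨p, hp, hp2, h⟩
  · exact chev_of hg3 H M K T A hI ⟨p, hp, hp2, h⟩
  · exact twisted H M K T A hI ⟨p, hp, hp2, h⟩
  · exact absurd h.1 hp2
  · exact absurd h.1 hp2
  · exact RowReeX.dead H M K T A hI h.2

end Cfsg.Agent.Omega.ML.Ex.OddKnown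

end

section


/-!
# The K-list for exact atoms: generation and inversion with the dichotomy (T6; helper448)

The exact form of `GenRow.lean` and `InvRow.lean`.  `InX H M K T A`, `|A| ≤ 2 ^ a`, `x ∈ A`:

* `index_le_or` : `|M : C_M(x)| ≤ 2 ^ (a - 1)`, or `|A| = 2 ^ a` and EQ(x) : `C_M(x) = C_M(A)`;
* `index_le_noTie` : the first one if `NoTie A x`;
* **`eq_of_lb`**, **`eq_of_prime`** : `K` is generated by `m` conjugates of `x`, `(a - 1) m < n`, `2 ^ n ≤ |M|` (`LB K n` or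
  an odd prime divisor `r` of `|K|` with `ord_r(2) ≥ n`) ⟹ `|A| = 2 ^ a` and EQ(x);
* `false_of_lb_noTie`, `false_of_prime_noTie`, `false_of_inv_noTie` : impossible with `NoTie A x`;
* `false_of_sub` : EQ(x) with `x ∈ K` is impossible if `|Out K| |E| < |A|` for the elementary abelian `E ∋ x` which are
  normal in `C_K(x)`;
* **`dead_gen`**, **`dead_gen_prime`** : rows.
-/

set_option autoImplicit false

namespace Cfsg.Agent.Omega.ML.Ex.GenX

open Subgroup Cfsg Cfsg.Agent.ZN Cfsg.Agent.Omega.NOThree.NoOver Cfsg.Agent.Omega.ML.CD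
open Cfsg.Agent.ClassTwoFusion.Quad Cfsg.Agent.Omega.Lie Cfsg.Agent.Omega.ML Cfsg.Agent.Omega.TwoF
open Cfsg.Agent.Omega.ML.InvChain

universe u v

variable {H : Type u} [Group H] {M : Type v} [Group M] [Finite M] [MulDistribMulAction H M] {K T A : Subgroup H}

/-- **`|M : C_M(x)| ≤ 2 ^ (a - 1)`, or `|A| = 2 ^ a` and EQ(x).** -/
theorem index_le_or (h : InX H M K T A) {a : ℕ} (ha : Nat.card A ≤ 2 ^ a) {x : H} (hx : x ∈ A) :
    (cv M ({x} : Set H)).index ≤ 2 ^ (a - 1) ∨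
      (Nat.card A = 2 ^ a ∧ cv M ({x} : Set H) = cv M (A : Set H)) := by
  obtain ⟨k, hk⟩ := InvFrob.index_pow h.sq (cv M ({x} : Set H))
  rcases Nat.lt_or_ge k a with h1 | h1
  · left
    rw [hk]
    exact Nat.pow_le_pow_right (by norm_num) (by omega)
  · right
    have h2 : 2 ^ a ≤ (cv M ({x} : Set H)).index := by
      rw [hk]
      exact Nat.pow_le_pow_right (by norm_num) h1
    exact ⟨le_antisymm ha (h2.trans (Gen.index_le_card h hx)), Inv.eq_of_le h.exact.le hx (ha.trans h2)⟩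

/-- `|M : C_M(x)| ≤ 2 ^ (a - 1)` if `NoTie A x` -/
theorem index_le_noTie [Finite H] (h : InX H M K T A) {a : ℕ} (ha : Nat.card A ≤ 2 ^ a) {x : H} (hx : x ∈ A)
    (hn : NoTie A x) : (cv M ({x} : Set H)).index ≤ 2 ^ (a - 1) := by
  rcases index_le_or h ha hx with h1 | ⟨h1, h2⟩
  · exact h1
  · have h3 := h.index_lt hx hn
    rw [h2, h.exact] at h3
    exact absurd h3 (lt_irrefl _)

/-- **Generation, `|M| ≥ 2 ^ n`** ⟹ `|A| = 2 ^ a` and EQ(x). -/
theorem eq_of_card (h : InX H M K T A) {n a m : ℕ} (hM : 2 ^ n ≤ Nat.card M) (ha : Nat.card A ≤ 2 ^ a) {x : H}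
    (hx : x ∈ A) (l : Fin m → H) (hgen : K ≤ closure (Set.range fun i => l i * x * (l i)⁻¹))
    (hn : (a - 1) * m < n) : Nat.card A = 2 ^ a ∧ cv M ({x} : Set H) = cv M (A : Set H) := by
  refine (index_le_or h ha hx).resolve_left fun h1 => ?_
  have h2 := (hM.trans (Gen.card_le_conj_index h x l hgen)).trans (Nat.pow_le_pow_left h1 m)
  rw [← pow_mul] at h2
  have h3 := (Nat.pow_le_pow_iff_right (by norm_num : 1 < 2)).1 h2
  omega

/-- **Generation, `LB`** ⟹ `|A| = 2 ^ a` and EQ(x). -/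
theorem eq_of_lb [Finite H] (h : InX H M K T A) {n a m : ℕ} (hl : Heis.LB.{u, u, v} K n)
    (ha : Nat.card A ≤ 2 ^ a) {x : H} (hx : x ∈ A) (l : Fin m → H)
    (hgen : K ≤ closure (Set.range fun i => l i * x * (l i)⁻¹)) (hn : (a - 1) * m < n) :
    Nat.card A = 2 ^ a ∧ cv M ({x} : Set H) = cv M (A : Set H) :=
  eq_of_card h (Gen.lb_le h hl) ha hx l hgen hn

/-- **Generation, a prime** ⟹ `|A| = 2 ^ a` and EQ(x). -/
theorem eq_of_prime [Finite H] (h : InX H M K T A) {r k a m : ℕ} (hp : r.Prime) (ho : Odd r)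
    (hr : r ∣ Nat.card K) (hk : ∀ n : ℕ, 0 < n → r ∣ 2 ^ n - 1 → k ≤ n) (ha : Nat.card A ≤ 2 ^ a) {x : H}
    (hx : x ∈ A) (l : Fin m → H) (hgen : K ≤ closure (Set.range fun i => l i * x * (l i)⁻¹))
    (hn : (a - 1) * m < k) : Nat.card A = 2 ^ a ∧ cv M ({x} : Set H) = cv M (A : Set H) :=
  eq_of_card h (Gen.pow_le_card h hp ho hr hk) ha hx l hgen hn

/-- EQ(x) and `NoTie A x` -/
theorem false_of_eq_noTie [Finite H] (h : InX H M K T A) {x : H} (hx : x ∈ A) (hn : NoTie A x)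
    (heq : cv M ({x} : Set H) = cv M (A : Set H)) : False := by
  have h3 := h.index_lt hx hn
  rw [heq, h.exact] at h3
  exact lt_irrefl _ h3

/-- **Kill by generation**, `LB`, `NoTie A x`. -/
theorem false_of_lb_noTie [Finite H] (h : InX H M K T A) {n a m : ℕ} (hl : Heis.LB.{u, u, v} K n)
    (ha : Nat.card A ≤ 2 ^ a) {x : H} (hx : x ∈ A) (ht : NoTie A x) (l : Fin m → H)
    (hgen : K ≤ closure (Set.range fun i => l i * x * (l i)⁻¹)) (hn : (a - 1) * m < n) : False :=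
  false_of_eq_noTie h hx ht (eq_of_lb h hl ha hx l hgen hn).2

/-- **Kill by generation**, a prime, `NoTie A x`. -/
theorem false_of_prime_noTie [Finite H] (h : InX H M K T A) {r k a m : ℕ} (hp : r.Prime) (ho : Odd r)
    (hr : r ∣ Nat.card K) (hk : ∀ n : ℕ, 0 < n → r ∣ 2 ^ n - 1 → k ≤ n) (ha : Nat.card A ≤ 2 ^ a) {x : H}
    (hx : x ∈ A) (ht : NoTie A x) (l : Fin m → H)
    (hgen : K ≤ closure (Set.range fun i => l i * x * (l i)⁻¹)) (hn : (a - 1) * m < k) : False :=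
  false_of_eq_noTie h hx ht (eq_of_prime h hp ho hr hk ha hx l hgen hn).2

/-- **Kill by one inverted element**, `NoTie A x` (`InvRow.false_of_inv` verbatim). -/
theorem false_of_inv_noTie [Finite H] (h : InX H M K T A) {n : ℕ} (hn : Nat.card A ≤ 2 ^ n) {x : H} (hx : x ∈ A)
    (ht : NoTie A x) (hi : InvAt x n) : False :=
  false_of_eq_noTie h hx ht (Inv.inv_eq h.sq h.faith h.exact.le h.el hx hn hi).2

omit [Finite M] in
/-- EQ(x) with `x ∈ K` is impossible if `|Out K| |E| < |A|` for the elementary abelian `E ∋ x`, `E ⊴ C_K(x)`. -/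
theorem false_of_sub [Finite H] (h : InX H M K T A) {x : K} (hxA : (x : H) ∈ A)
    (heq : cv M ({(x : H)} : Set H) = cv M (A : Set H))
    (hE : ∀ E : Subgroup K, x ∈ E → (∀ e ∈ E, e * e = 1) → (∀ g : K, g * x = x * g → ∀ e ∈ E, g * e * g⁻¹ ∈ E) →
      (MulAut.conj : K →* MulAut K).range.index * Nat.card E < Nat.card A) : False := by
  obtain ⟨E, h1, -, h2, h3, h4⟩ := Inv.inX_exists_sub h hxA heq
  exact absurd (hE E h1 h2 h3) (not_lt.2 h4)

/-- generation in `K` gives generation in `H` -/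
theorem le_closure {m : ℕ} {x : K} {l : Fin m → K} (hl : closure (Set.range fun i => l i * x * (l i)⁻¹) = ⊤) :
    K ≤ closure (Set.range fun i => (l i : H) * x * (l i : H)⁻¹) := by
  have h3 := congrArg (Subgroup.map K.subtype) hl
  rw [MonoidHom.map_closure, ← Set.range_comp, ← MonoidHom.range_eq_map, range_subtype] at h3
  exact le_of_eq h3.symm

/-- The common core of the rows. -/
theorem false_of_gen [Finite H] (h : InX H M K T A) {n a m : ℕ} (hM : 2 ^ n ≤ Nat.card M)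
    (hrk : RK K a) (hout : (MulAut.conj : K →* MulAut K).range.index < 4) (hn : (a - 1) * m < n)
    (hg : ∀ x : K, x * x = 1 → x ≠ 1 → (∃ l : Fin m → K, closure (Set.range fun i => l i * x * (l i)⁻¹) = ⊤) ∧
      ∀ E : Subgroup K, x ∈ E → (∀ e ∈ E, e * e = 1) → (∀ g : K, g * x = x * g → ∀ e ∈ E, g * e * g⁻¹ ∈ E) →
        (MulAut.conj : K →* MulAut K).range.index * Nat.card E < 2 ^ a) : False := by
  obtain ⟨x, hxA, hxK, hx1⟩ := Inv.asx_exists_mem h.asx (hout.trans_le h.four)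
  obtain ⟨⟨l, hl⟩, hE⟩ := hg ⟨x, hxK⟩ (Subtype.ext (h.el x hxA)) fun h3 => hx1 (congrArg Subtype.val h3)
  obtain ⟨h1, h2⟩ := eq_of_card h hM (Inv.asx_card_le h.asx hrk) (x := x) hxA (fun i => (l i : H))
    (le_closure (x := ⟨x, hxK⟩) hl) hn
  exact false_of_sub h (x := ⟨x, hxK⟩) hxA h2 fun E h3 h4 h5 => by rw [h1]; exact hE E h3 h4 h5

/-- **The row by generation, `LB`**: `RK S a`, `|Out S| < 4`, `LB S n`, `m` conjugates of every involution `x` generate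
`S`, `(a - 1) m < n`, and `|Out S| |E| < 2 ^ a` for the elementary abelian `E ∋ x` which are normal in `C_S(x)`. -/
theorem dead_gen {𝒮 : ∀ (S : Type u) [Group S], Prop} (h𝒮 : ∀ (S : Type u) [Group S] [Finite S], 𝒮 S →
    ∃ n a m, RK S a ∧ (MulAut.conj : S →* MulAut S).range.index < 4 ∧ Heis.LB.{u, u, v} S n ∧ (a - 1) * m < n ∧
      ∀ x : S, x * x = 1 → x ≠ 1 → (∃ l : Fin m → S, closure (Set.range fun i => l i * x * (l i)⁻¹) = ⊤) ∧
        ∀ E : Subgroup S, x ∈ E → (∀ e ∈ E, e * e = 1) → (∀ g : S, g * x = x * g → ∀ e ∈ E, g * e * g⁻¹ ∈ E) →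
          (MulAut.conj : S →* MulAut S).range.index * Nat.card E < 2 ^ a) : DeadX.{u, v} 𝒮 := by
  intro H _ _ M _ _ _ K T A h hS
  obtain ⟨n, a, m, h1, h2, h3, h4, h5⟩ := h𝒮 _ hS
  exact false_of_gen h (Gen.lb_le h h3) h1 h2 h4 h5

/-- **The row by generation, a prime** `r` divisor of `|S|`, `ord_r(2) ≥ n`. -/
theorem dead_gen_prime {𝒮 : ∀ (S : Type u) [Group S], Prop} (h𝒮 : ∀ (S : Type u) [Group S] [Finite S], 𝒮 S →
    ∃ n a m r, RK S a ∧ (MulAut.conj : S →* MulAut S).range.index < 4 ∧ (r.Prime ∧ Odd r ∧ r ∣ Nat.card S ∧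
      ∀ k : ℕ, 0 < k → r ∣ 2 ^ k - 1 → n ≤ k) ∧ (a - 1) * m < n ∧
      ∀ x : S, x * x = 1 → x ≠ 1 → (∃ l : Fin m → S, closure (Set.range fun i => l i * x * (l i)⁻¹) = ⊤) ∧
        ∀ E : Subgroup S, x ∈ E → (∀ e ∈ E, e * e = 1) → (∀ g : S, g * x = x * g → ∀ e ∈ E, g * e * g⁻¹ ∈ E) →
          (MulAut.conj : S →* MulAut S).range.index * Nat.card E < 2 ^ a) : DeadX.{u, v} 𝒮 := by
  intro H _ _ M _ _ _ K T A h hS
  obtain ⟨n, a, m, r, h1, h2, ⟨h3, h3', h3'', h3'''⟩, h4, h5⟩ := h𝒮 _ hS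
  exact false_of_gen h (Gen.pow_le_card h h3 h3' h3'' h3''') h1 h2 h4 h5

end Cfsg.Agent.Omega.ML.Ex.GenX

end
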