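import Cfsg.Agent.Mrg.Omega.ML.Ex.Wall
import Cfsg.Agent.Mrg.Omega.Tools.OddFix
import Cfsg.Agent.Mrg.Omega.ML.Ex.RowTitsX
import Cfsg.Agent.Mrg.Omega.ML.Ex.Typ.Frame
import Cfsg.Agent.Mrg.Omega.ML.RowFi22
import Cfsg.Agent.Mrg.Omega.ML.RowTits
import Cfsg.Agent.Mrg.Omega.ML.Ex.Def
import Cfsg.Agent.Mrg.Omega.ML.Ex.DefN
import Cfsg.Agent.Mrg.Omega.ML.Ex.RkX

section


/-!
# The WALL THEOREM over `InX` and `LA` (helper721)

* `stab_ne_top` : `m ≠ 1` is moved by `H`;
* `nd m`, `le_nd`, `low_nd` : the subgroup generated by the conjugates of `A` in `O₂(C_H(m))`;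
* `gen_of_not_norm` : (f*) of helper829: `T ≤ P < H` does not normalise `nd m` implies `⟨P, C_H(m)⟩ = H`;
* **`movers`** : the nodes which move `m` are one `T`-orbit, and all of them are bad;
* `movers'` : the same over `WallGood.Good`;  **`false_laced`** : all simply laced types are dead.
-/

set_option autoImplicit false
set_option linter.unusedSectionVars false

namespace Cfsg.Agent.Omega.ML.Ex.Wall

open Subgroup Cfsg Cfsg.Agent.Omega.NOThree.NoOver
open Cfsg.Agent.Tits.Core Cfsg.Agent.Tits.Core.Bldg Cfsg.Agent.Tits.Exchange Cfsg.Agent.Tits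
open Cfsg.Agent.FixBN Cfsg.Agent.FixBN.Cox Cfsg.Agent.UGT.U2.FOne Cfsg.Agent.Omega.ML.LieRow
open Cfsg.Agent.ZN (o2)
open Cfsg.Agent.MinSimple.VModule (o2_isPGroup o2_le le_o2 le_normalizer_o2 o2_le_of_sylow mem_normalizer_of_map_le)

universe u v w

section inx

variable {H : Type u} [Group H] {M : Type v} [Group M] [MulDistribMulAction H M] {K T B : Subgroup H} {m : M}

/-- `m ≠ 1` is moved by `H` -/
theorem stab_ne_top (h : InX H M K T B) (hm : m ≠ 1) : MulAction.stabilizer H m ≠ ⊤ := by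
  intro htop
  have hfix : ∀ x : H, x • m = m := fun x => by
    have h1 : x ∈ MulAction.stabilizer H m := by rw [htop]; trivial
    exact h1
  have hfz : ∀ x : H, ∀ w ∈ Subgroup.zpowers m, x • w = w := by
    rintro x _ ⟨n, rfl⟩
    change x • m ^ n = m ^ n
    rw [smul_zpow', hfix]
  rcases h.irr (Subgroup.zpowers m) (fun x w hw => by rw [hfz x w hw]; exact hw) with h1 | h1
  · exact hm (Subgroup.zpowers_eq_bot.1 h1)
  · have h2 : ∀ x : H, x = 1 := fun x => h.faith x fun w => hfz x w (by rw [h1]; trivial)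
    have h3 : B = ⊥ := by
      rw [eq_bot_iff]
      exact fun x _ => Subgroup.mem_bot.2 (h2 x)
    have h4 := h.four
    rw [h3, Subgroup.card_bot] at h4
    omega

theorem le_stab (hL : LA H M T B m) : T ≤ MulAction.stabilizer H m := fun t ht => hL.fix t ht

variable (H B) in
/-- the conjugates of `B` -/
def cjs : Set (Subgroup H) := Set.range fun g : H => cj g B

theorem cjs_inv : ∀ X ∈ cjs H B, ∀ h : H, X.map (MulAut.conj h).toMonoidHom ∈ cjs H B := by
  rintro _ ⟨g, rfl⟩ h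
  refine ⟨h * g, ?_⟩
  unfold cj
  simp only
  rw [Subgroup.map_map]
  congr 1
  ext x
  simp [mul_assoc]

variable (B m) in
/-- the subgroup generated by the conjugates of `B` in `O₂(C_H(m))` -/
def nd : Subgroup H := sSup {X | X ∈ cjs H B ∧ X ≤ o2 (MulAction.stabilizer H m)}

theorem B_mem : B ∈ cjs H B := ⟨1, by
  unfold cj
  simp only
  ext x
  simp⟩

theorem le_nd (h : InX H M K T B) (hL : LA H M T B m) : B ≤ nd B m :=
  le_sSup (⟨B_mem, h.low _ (le_stab hL) (stab_ne_top h hL.ne)⟩ : _ ∈ {X | X ∈ cjs H B ∧ X ≤ o2 (MulAction.stabilizer H m)})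

theorem la_nd (hL : LA H M T B m) :
    ∀ X ∈ cjs H B, X ≤ o2 (MulAction.stabilizer H m) → ∀ R : Subgroup H, T ≤ R → R ≠ ⊤ → X ≤ o2 R := by
  rintro _ ⟨g, rfl⟩ h1
  exact hL.low g h1

theorem nd_low (hL : LA H M T B m) {R : Subgroup H} (hTR : T ≤ R) (hR : R ≠ ⊤) : nd B m ≤ o2 R :=
  sSup_le fun X hX => la_nd hL X hX.1 hX.2 R hTR hR

theorem nd_le_o2 : nd B m ≤ o2 (MulAction.stabilizer H m) := sSup_le fun _ hX => hX.2

theorem stab_le_norm [Finite H] : MulAction.stabilizer H m ≤ Subgroup.normalizer (nd B m : Set H) := by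
  intro g hg
  refine mem_normalizer_sSup (FF := cjs H B) (hinv := cjs_inv) ?_
  rintro X - hX _ ⟨b, hb, rfl⟩
  exact (Subgroup.mem_normalizer_iff.1 (le_normalizer_o2 _ hg) b).1 (hX hb)

/-- **(f\*)** -/
theorem gen_of_not_norm [Finite H] (h : InX H M K T B) (hL : LA H M T B m) {P : Subgroup H} (hTP : T ≤ P)
    (hP : ¬ P ≤ Subgroup.normalizer (nd B m : Set H)) {R : Subgroup H} (hPR : P ≤ R)
    (hmR : MulAction.stabilizer H m ≤ R) : R = ⊤ := by
  by_contra hR
  apply hP
  intro g hg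
  have hTR : T ≤ R := hTP.trans hPR
  refine mem_normalizer_sSup (FF := cjs H B) (hinv := cjs_inv) fun X hX hXo => ?_
  have h1 : X ≤ o2 R := la_nd hL X hX hXo R hTR hR
  have h2 : o2 R ≤ o2 (MulAction.stabilizer H m) := by
    refine le_o2 ?_ (o2_isPGroup R) (hmR.trans (le_normalizer_o2 R))
    refine (o2_le_of_sylow h.two fun h3 => h.syl (h3.trans (Subgroup.relIndex_dvd_index_of_le hTR))).trans (le_stab hL)
  refine le_trans ?_ h2
  rintro _ ⟨b, hb, rfl⟩
  exact (Subgroup.mem_normalizer_iff.1 (le_normalizer_o2 R (hPR hg)) b).1 (h1 hb)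

end inx

section bldg

variable {H : Type u} [Group H] [Finite H] {M : Type v} [Group M] [MulDistribMulAction H M] {K T B : Subgroup H} {m : M}
variable {I : Type*} {Mx : CoxeterMatrix I} {W : Type*} [Group W] {cs : CoxeterSystem Mx W} {C : Type*} {Δ : Bldg cs C}
  [MulAction K C] (A : HAct Δ K) [F : OppRes.Cox cs] (S : Sys Δ K 2) [Nonempty I]

include A S

theorem cen_one (h : InX H M K T B) : ∀ x : H, (∀ k ∈ K, x * k = k * x) → x = 1 := by
  intro x hx
  have h1 : x ∈ centralizer (K : Set H) := mem_centralizer_iff.2 fun k hk => (hx k hk).symm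
  rwa [h.cen, mem_bot] at h1

/-- **The nodes which move `m` are one `T`-orbit, all of them are bad.** -/
theorem movers (h : InX H M K T B) (hL : LA H M T B m) (hth : Δ.Thick) {c : C} (hc : ∀ t ∈ T, A.θ t c = c)
    (hUc : S.U c = T.subgroupOf K) :
    A.Inv (tp Δ ((MulAction.stabilizer H m).subgroupOf K) c) ∧
      (∀ k ∈ Subgroup.normalizer (nd B m : Set H), Δ.δ c (A.θ k c) ∈
        WJ cs (tp Δ ((MulAction.stabilizer H m).subgroupOf K) c)) ∧
      ∃ i ∉ tp Δ ((MulAction.stabilizer H m).subgroupOf K) c,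
        (∀ k ∉ tp Δ ((MulAction.stabilizer H m).subgroupOf K) c, ∃ t ∈ T, A.σ t i = k) ∧
        ∀ k ∉ tp Δ ((MulAction.stabilizer H m).subgroupOf K) c,
          ¬ Good A (tp Δ ((MulAction.stabilizer H m).subgroupOf K) c) k := by
  have hKn := h.norm
  have hKs := h.simple
  have : Nonempty C := ⟨c⟩
  have hC := cen_one A S h
  have htr := not_trans_of_nmax A S hth hc hUc h.gen h.nmax
  set D₀ : Subgroup H := MulAction.stabilizer H m with hD₀
  have hTD : T ≤ D₀ := le_stab hL
  have hDu : D₀ ≠ ⊤ := stab_ne_top h hL.ne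
  set D₁ : Subgroup H := Subgroup.normalizer (nd B m : Set H) with hD₁
  have hUT : ∀ R : Subgroup H, T ≤ R → S.U c ≤ R.subgroupOf K := by
    intro R hTR
    rw [hUc]
    exact fun k hk => hTR hk
  obtain ⟨hJ, hJu, hJD⟩ := over_tp A S h.gen hth hc (hUT D₀ hTD) hTD hDu
  rcases wall_norm A S hth hC h.two h.syl h.gen htr hc hUc (FF := cjs H B) cjs_inv hTD hDu (la_nd hL) (D₁ := D₁) rfl
    with h1 | ⟨hD01, hD1u, -, hbad⟩
  · exfalso
    have h2 := h1 B B_mem (h.low _ hTD hDu)
    have h4 := h.four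
    rw [h2, Subgroup.card_bot] at h4
    omega
  have hTD1 := hTD.trans hD01
  obtain ⟨hJ1, hJ1u, hJ1D⟩ := over_tp A S h.gen hth hc (hUT D₁ hTD1) hTD1 hD1u
  set J := tp Δ (D₀.subgroupOf K) c with hJdef
  set J₁ := tp Δ (D₁.subgroupOf K) c with hJ1def
  have hJJ : J ⊆ J₁ := by
    rintro i ⟨g, hg, hgc⟩
    exact ⟨g, hD01 hg, hgc⟩
  obtain ⟨i, hi⟩ := (Set.ne_univ_iff_exists_notMem J₁).1 hJ1u
  -- the orbit of `i`
  set O : Set I := {j | ∃ t ∈ T, A.σ t i = j} with hO
  have hOi : A.Inv O := by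
    apply inv_of_T A S h.gen
    rintro t ht _ ⟨s, hs, rfl⟩
    exact ⟨t * s, mul_mem ht hs, A.σ_mul t s i⟩
  have hiO : i ∈ O := ⟨1, one_mem _, A.σ_one i⟩
  have hTP : T ≤ HAct.Stb O hOi c := le_Stb A S hOi hc
  have hPn : ¬ HAct.Stb O hOi c ≤ D₁ := by
    intro hP
    apply hi
    obtain ⟨y, -, -, hy, -⟩ := hth c i
    obtain ⟨k, rfl⟩ := exists_smul_top S hth c y
    refine ⟨k, hP ?_, hy⟩
    change Δ.δ c (A.θ (k : H) c) ∈ WJ cs O
    rw [A.θ_K, hy]
    exact simple_mem_WJ cs hiO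
  have hJO : A.Inv (J ∪ O) := by
    rintro x j (hj | hj)
    · exact Or.inl (hJ x j hj)
    · exact Or.inr (hOi x j hj)
  have hmono : ∀ {L L' : Set I}, L ⊆ L' → ∀ {w : W}, w ∈ WJ cs L → w ∈ WJ cs L' := by
    intro L L' hLL w hw
    exact Subgroup.closure_mono (Set.image_mono hLL) hw
  have htop : HAct.Stb (J ∪ O) hJO c = ⊤ := by
    refine gen_of_not_norm h hL hTP hPn (fun x hx => ?_) (fun x hx => ?_)
    · exact hmono Set.subset_union_right hx
    · exact hmono Set.subset_union_left (hJD x hx)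
  have huniv : J ∪ O = Set.univ := by
    by_contra hne
    exact Stb_ne_top A S hth hJO hne c htop
  have hiJ : i ∉ J := fun hiJ => hi (hJJ hiJ)
  have hkO : ∀ k ∉ J, ∃ t ∈ T, A.σ t i = k := by
    intro k hk
    have h1 : k ∈ J ∪ O := by rw [huniv]; trivial
    exact h1.resolve_left hk
  have hJ1J : J₁ = J := by
    refine le_antisymm ?_ hJJ
    intro k hk
    by_contra hkJ
    obtain ⟨t, -, rfl⟩ := hkO k hkJ
    apply hi
    have h2 := hJ1 t⁻¹ _ hk
    rwa [A.σ_inv_σ] at h2
  refine ⟨hJ, ?_, i, hiJ, hkO, ?_⟩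
  · rw [← hJ1J]
    exact hJ1D
  · rw [← hJ1J]
    exact hbad

/-- **The output over `WallGood.Good`.** -/
theorem movers' (h : InX H M K T B) (hL : LA H M T B m) (hth : Δ.Thick) [Finite C] :
    ∃ c : C, (∀ t ∈ T, A.θ t c = c) ∧ S.U c = T.subgroupOf K ∧
      A.Inv (tp Δ ((MulAction.stabilizer H m).subgroupOf K) c) ∧
      (¬ ∀ i j : I, ∃ t ∈ T, A.σ t i = j) ∧
      ∃ i ∉ tp Δ ((MulAction.stabilizer H m).subgroupOf K) c,
        (∀ k ∉ tp Δ ((MulAction.stabilizer H m).subgroupOf K) c, ∃ t ∈ T, A.σ t i = k) ∧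
        ¬ WallGood.Good cs (tp Δ ((MulAction.stabilizer H m).subgroupOf K) c)
          (fun L => L ≠ Set.univ ∧ ∀ t ∈ T, ∀ j ∈ L, A.σ t j ∈ L) i := by
  have hKn := h.norm
  have hKs := h.simple
  obtain ⟨c, hc, hUc⟩ := exists_chamber A S hth h.two h.syl
  have : Nonempty C := ⟨c⟩
  obtain ⟨hJ, -, i, hi, hk, hb⟩ := movers A S h hL hth hc hUc
  refine ⟨c, hc, hUc, hJ, not_trans_of_nmax A S hth hc hUc h.gen h.nmax, i, hi, hk, fun hg => hb i hi ?_⟩
  intro v hv j hj
  obtain ⟨a, ha, L, ⟨hLu, hL⟩, l, hl, k, hk, e⟩ := hg v hv j hj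
  refine ⟨L, inv_of_T A S h.gen hL, hLu, a, ha, l, hl, k, hk, ?_⟩
  rw [e]
  group

end bldg

/-- **All simply laced types are dead.** -/
theorem false_laced {H : Type u} [Group H] [Finite H] {M : Type v} [Group M] [MulDistribMulAction H M]
    {K T B : Subgroup H} {m : M} (h : InX H M K T B) (hL : LA H M T B m) {I : Type*} [Finite I] [Nonempty I]
    {Mx : CoxeterMatrix I} (F : Typ.Frame K Mx) (hM : Typ.Laced Mx) : False := by
  have hKn := h.norm
  have hKs := h.simple
  obtain ⟨W, gW, cs, C, act, Δ, S, A, hth, hfC, hnC, hfW⟩ := F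
  obtain ⟨c, -, -, hJ, htr, i, hi, -, hb⟩ := movers' A S h hL hth
  apply hb
  obtain ⟨L, hLi, hLu, hiL⟩ := exists_orbit A S h.gen htr i
  have hM' : ∀ i j, i ≠ j → Mx i j = 2 ∨ Mx i j = 3 := by
    classical
    have := Fintype.ofFinite I
    intro i j hij
    have h1 := hM i j
    have h2 := Mx.off_diagonal i j hij
    have h3 : Mx i j ≠ 0 := by
      intro h0
      have h4 := LieRecognition.CoxForm.orderOf_eq cs i j
      rw [h0, orderOf_eq_zero_iff] at h4
      exact h4 (isOfFinOrder_of_finite _)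
    omega
  exact WallGood.good_of_laced hM' ⟨fun h1 => hi (by rw [h1]; trivial), fun t _ j hj => hJ t j hj⟩
    ⟨L, ⟨hLu, fun t _ j hj => hLi t j hj⟩, hiL⟩

end Cfsg.Agent.Omega.ML.Ex.Wall

end

section


/-!
# An element of order 9 on modules of order at most 16 (row `3D_4(2)` of (ML), helper598)

* `cube_triv` : `l ^ 9` trivial on an elementary abelian 2-group `V`, `|V| ≤ 16`: `l ^ 3` is trivial on `V`;
* `trivOn_nine` : `TrivOn L ⟨(y³)^L⟩ 16` for `y ^ 9 = 1`.
-/

set_option autoImplicit false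

namespace Cfsg.Agent.Omega.ML.Ex.TrivNine

open Subgroup Cfsg.Agent.Omega.ML.ExCore

universe u v

section

variable {L : Type u} [Group L] {V : Type v} [Group V] [MulDistribMulAction L V]

/-- the orbit map of an element moved by `l ^ 3` is injective on `Fin 9` -/
theorem orb_inj {l : L} (h9 : ∀ x : V, l ^ 9 • x = x) {x : V} (hx : l ^ 3 • x ≠ x) {i j : ℕ} (hi : i < 9) (hj : j < 9)
    (h : l ^ i • x = l ^ j • x) : i = j := by
  -- `l ^ k` fixes `x`, `0 < k < 9`: then `l ^ 3` fixes `x`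
  have key : ∀ k : ℕ, 0 < k → k < 9 → l ^ k • x ≠ x := by
    intro k hk0 hk9 hk
    apply hx
    have hm : ∀ n : ℕ, l ^ (k * n) • x = x := by
      intro n
      induction n with
      | zero => rw [mul_zero, pow_zero, one_smul]
      | succ n ih => rw [mul_add, mul_one, add_comm, pow_add, mul_smul, ih, hk]
    have h9' : ∀ n : ℕ, ∀ y : V, l ^ (9 * n) • y = y := by
      intro n y
      induction n with
      | zero => rw [mul_zero, pow_zero, one_smul]
      | succ n ih => rw [mul_add, mul_one, add_comm, pow_add, mul_smul, ih, h9]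
    -- `3 = k n - 9 m`
    obtain ⟨n, m, e⟩ : ∃ n m : ℕ, k * n = 3 + 9 * m := by
      interval_cases k
      · exact ⟨3, 0, rfl⟩
      · exact ⟨6, 1, rfl⟩
      · exact ⟨1, 0, rfl⟩
      · exact ⟨3, 1, rfl⟩
      · exact ⟨6, 3, rfl⟩
      · exact ⟨2, 1, rfl⟩
      · exact ⟨3, 2, rfl⟩
      · exact ⟨6, 5, rfl⟩
    have h1 := hm n
    rwa [e, pow_add, mul_smul, h9'] at h1
  have aux : ∀ i j : ℕ, i < j → j < 9 → l ^ i • x ≠ l ^ j • x := by
    intro i j hij hj h
    refine key (j - i) (by omega) (by omega) ?_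
    have e : l ^ j = l ^ i * l ^ (j - i) := by rw [← pow_add]; congr 1; omega
    rw [e, mul_smul] at h
    exact (smul_left_cancel _ h).symm
  rcases Nat.lt_trichotomy i j with h1 | h1 | h1
  · exact absurd h (aux i j h1 hj)
  · exact h1
  · exact absurd h.symm (aux j i h1 hi)

variable [Finite V]

/-- **An element of order 9 on a module of order at most 16.** -/
theorem cube_triv (sq : ∀ x : V, x * x = 1) (hc : Nat.card V ≤ 16) {l : L} (h9 : ∀ x : V, l ^ 9 • x = x) (x : V) :
    l ^ 3 • x = x := by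
  classical
  by_contra hx
  have hft : Fintype V := Fintype.ofFinite V
  -- the fixed points of `l ^ 3`
  let C : Subgroup V :=
    { carrier := {v | l ^ 3 • v = v}
      one_mem' := smul_one _
      mul_mem' := fun {a b} ha hb => by
        change l ^ 3 • (a * b) = a * b
        rw [smul_mul', ha, hb]
      inv_mem' := fun {a} ha => by
        change l ^ 3 • a⁻¹ = a⁻¹
        rw [smul_inv', ha] }
  have hmC : ∀ v : V, v ∈ C ↔ l ^ 3 • v = v := fun v => Iff.rfl
  have horb : ∀ v : V, v ∉ C → ∀ i : ℕ, l ^ i • v ∉ C := by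
    intro v hv i h
    apply hv
    rw [hmC] at h ⊢
    have e : l ^ 3 • l ^ i • v = l ^ i • l ^ 3 • v := by
      rw [smul_smul, smul_smul, ← pow_add, ← pow_add, add_comm]
    rw [e] at h
    exact smul_left_cancel _ h
  let O : V → Finset V := fun v => (Finset.univ : Finset (Fin 9)).image fun i : Fin 9 => l ^ (i : ℕ) • v
  have hO : ∀ v : V, v ∉ C → (O v).card = 9 := by
    intro v hv
    rw [Finset.card_image_of_injective]
    · simp
    · intro i j h
      exact Fin.ext (orb_inj h9 hv i.2 j.2 h)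
  let D : Finset V := Finset.univ.filter fun v => v ∉ C
  have hOD : ∀ v : V, v ∉ C → O v ⊆ D := by
    intro v hv w hw
    obtain ⟨i, -, rfl⟩ := Finset.mem_image.1 hw
    exact Finset.mem_filter.2 ⟨Finset.mem_univ _, horb v hv i⟩
  have hcard : D.card + Nat.card C = Nat.card V := by
    have h1 := Finset.card_filter_add_card_filter_not (s := (Finset.univ : Finset V)) (fun v => v ∉ C)
    have h2 : (Finset.univ.filter fun v => ¬ v ∉ C).card = Nat.card C := by
      rw [Nat.card_eq_fintype_card, Fintype.card_subtype]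
      congr 1
      ext v
      simp
    rw [h2, Finset.card_univ, ← Nat.card_eq_fintype_card] at h1
    exact h1
  -- `D` is one orbit
  have hDO : D = O x := by
    refine (Finset.Subset.antisymm ?_ (hOD x hx))
    intro y hy
    by_contra hyO
    have hyC : y ∉ C := (Finset.mem_filter.1 hy).2
    have hdis : Disjoint (O x) (O y) := by
      rw [Finset.disjoint_left]
      intro z hz1 hz2
      obtain ⟨i, -, rfl⟩ := Finset.mem_image.1 hz1
      obtain ⟨j, -, e⟩ := Finset.mem_image.1 hz2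
      apply hyO
      -- `y = l ^ (i + 9 - j) x`
      have h1 : y = l ^ ((i : ℕ) + (9 - j)) • x := by
        have h2 : l ^ (9 - (j : ℕ)) • l ^ (j : ℕ) • y = y := by
          rw [smul_smul, ← pow_add, Nat.sub_add_cancel j.2.le, h9]
        rw [add_comm, pow_add, mul_smul]
        rw [← e, h2]
      rcases Nat.lt_or_ge ((i : ℕ) + (9 - j)) 9 with h3 | h3
      · rw [h1]
        exact Finset.mem_image.2 ⟨⟨_, h3⟩, Finset.mem_univ _, rfl⟩
      · have h4 : (i : ℕ) + (9 - j) - 9 < 9 := by omega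
        refine Finset.mem_image.2 ⟨⟨_, h4⟩, Finset.mem_univ _, ?_⟩
        change l ^ ((i : ℕ) + (9 - j) - 9) • x = y
        rw [h1]
        conv_rhs => rw [← Nat.sub_add_cancel h3, pow_add, mul_smul, h9]
    have h1 : (O x ∪ O y).card ≤ D.card := Finset.card_le_card (Finset.union_subset (hOD x hx) (hOD y hyC))
    rw [Finset.card_union_of_disjoint hdis, hO x hx, hO y hyC] at h1
    omega
  have hD9 : D.card = 9 := by rw [hDO, hO x hx]
  have h2 : IsPGroup 2 V := fun v => ⟨1, by rw [pow_one, pow_two, sq]⟩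
  have hf : Fact (Nat.Prime 2) := ⟨Nat.prime_two⟩
  obtain ⟨n, hn⟩ := IsPGroup.iff_card.1 h2
  obtain ⟨m, hm⟩ := IsPGroup.iff_card.1 (h2.to_subgroup C)
  rw [hD9] at hcard
  rw [hm, hn] at hcard
  rw [hn] at hc
  have hn4 : n ≤ 4 := by
    by_contra h
    have h5 : 2 ^ 5 ≤ 2 ^ n := Nat.pow_le_pow_right (by norm_num) (by omega)
    omega
  have hm4 : m < 4 := by
    by_contra h
    have h5 : 2 ^ 4 ≤ 2 ^ m := Nat.pow_le_pow_right (by norm_num) (by omega)
    omega
  interval_cases n <;> interval_cases m <;> omega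

end

/-- **`TrivOn` for the normal closure of the cube of an element of order 9.** -/
theorem trivOn_nine {L : Type u} [Group L] {y : L} (h9 : y ^ 9 = 1) :
    TrivOn.{u, v} L (Subgroup.normalClosure {y ^ 3}) 16 := by
  intro V _ _ _ sq hc l hl x
  let N : Subgroup L :=
    { carrier := {l | ∀ x : V, l • x = x}
      one_mem' := fun x => one_smul _ x
      mul_mem' := fun {a b} ha hb x => by rw [mul_smul, hb x, ha x]
      inv_mem' := fun {a} ha x => by rw [inv_smul_eq_iff, ha x] }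
  have hN : N.Normal := ⟨fun n hn g x => by rw [mul_smul, mul_smul, hn, smul_inv_smul]⟩
  have h1 : Subgroup.normalClosure {y ^ 3} ≤ N := by
    refine Subgroup.normalClosure_le_normal ?_
    rintro _ rfl
    exact fun x => cube_triv sq hc (fun x => by rw [h9, one_smul]) x
  exact h1 hl x

end Cfsg.Agent.Omega.ML.Ex.TrivNine

end

section


/-!
# THEOREM EX for exact atoms (helper772)

* `iSup_cj_comm` : in a flat 2-group the join of conjugates of an abelian atom is abelian;
* `Dat.false_eq` : in the situation `Dat H M G E Q n` there is no exact atom `A ≤ Q` with `|A| > 2`;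
* `Dat.exists_tr` : if `A ≤ Q` is elementary abelian, `|A| > 2`, `f 1 ≤ f A`, then some `z ∈ A` is a transvection of `M`
  centralised by `G`, and `Q` is tight;
* `false_of_rec_eq` : the record `Rec` (in a quotient of `H` by a central subgroup of odd order) excludes the atom `A`.
-/

set_option autoImplicit false

namespace Cfsg.Agent.Omega.ML.Ex.ExEq

open Subgroup Cfsg Cfsg.Agent.ClassTwoFusion.Quad Cfsg.Agent.Omega.NOThree.NoOver Cfsg.Agent.Omega.ML.CD
open Cfsg.Agent.ZN (o2)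
open Cfsg.Agent.Omega.ML.Rows Cfsg.Agent.Omega.ML.ExCore Cfsg.Agent.Omega.ML.ExRec Cfsg.Agent.Omega.ML.ExRow
open Cfsg.Agent.Omega.ML.Ratio (Flat Tight Atom card_cj)

universe u v w

section

variable {H : Type u} [Group H] [Finite H] {M : Type v} [Group M] [Finite M] [MulDistribMulAction H M]

/-- in a flat 2-group the join of conjugates of an abelian atom is abelian -/
theorem iSup_cj_comm {Q A : Subgroup H} {ι : Type*} (s : ι → H) (hQ : Flat (fab M 1 1) Q) (h2 : IsPGroup 2 Q)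
    (hA : Atom (fab M 1 1) A) (hab : ∀ x ∈ A, ∀ y ∈ A, x * y = y * x) (hs : ∀ i, cj (s i) A ≤ Q) :
    ∀ x ∈ ⨆ i, cj (s i) A, ∀ y ∈ ⨆ i, cj (s i) A, x * y = y * x := by
  have hf := ls_fab (H := H) M 1 1
  -- the conjugates commute
  have h1 : ∀ i j, ∀ x ∈ cj (s i) A, ∀ y ∈ cj (s j) A, x * y = y * x := by
    intro i j x hx y hy
    by_cases h : cj (s i) A = cj (s j) A
    · rw [← h] at hy
      obtain ⟨a, ha, rfl⟩ := hx
      obtain ⟨b, hb, rfl⟩ := hy
      have h3 : (MulAut.conj (s i)).toMonoidHom a * (MulAut.conj (s i)).toMonoidHom b =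
        (MulAut.conj (s i)).toMonoidHom b * (MulAut.conj (s i)).toMonoidHom a := by
        rw [← map_mul, hab a ha b hb, map_mul]
      exact h3
    · exact Atom.comm one_ne_zero one_ne_zero hQ h2 (hA.conj hf (s i)) (hA.conj hf (s j)) (hs i) (hs j) h x hx y hy
  have h2' : ∀ i, ⨆ i, cj (s i) A ≤ centralizer (cj (s i) A : Set H) := by
    intro j
    refine iSup_le fun i x hx => ?_
    rw [mem_centralizer_iff]
    intro y hy
    exact (h1 i j x hx y hy).symm
  have h3 : (⨆ i, cj (s i) A) ≤ centralizer ((⨆ i, cj (s i) A : Subgroup H) : Set H) := by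
    refine iSup_le fun i x hx => ?_
    rw [mem_centralizer_iff]
    intro y hy
    exact (mem_centralizer_iff.1 (h2' i hy) x hx).symm
  intro x hx y hy
  exact (mem_centralizer_iff.1 (h3 hx) y hy).symm

omit [Finite H] in
/-- the join of the `G`-conjugates is `G`-invariant -/
theorem conj_mem_iSup {G A : Subgroup H} (l : G) {x : H}
    (hx : x ∈ ⨆ g : G, cj (g : H) A) : (l : H) * x * (l : H)⁻¹ ∈ ⨆ g : G, cj (g : H) A := by
  have h3 : (⨆ g : G, cj (g : H) A) ≤ cj (l : H)⁻¹ (⨆ g : G, cj (g : H) A) := by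
    refine iSup_le fun g => ?_
    have h4 : cj ((l * g : G) : H) A ≤ ⨆ g : G, cj (g : H) A := le_iSup (fun g : G => cj (g : H) A) (l * g)
    rw [Subgroup.coe_mul, ← cj_cj] at h4
    rwa [cj_le_iff] at h4
  have h5 := h3 hx
  rwa [mem_cj, inv_inv] at h5

/-- **THEOREM EX for exact atoms** -/
theorem _root_.Cfsg.Agent.Omega.ML.ExRow.Dat.false_eq {G E Q A : Subgroup H} {n : ℕ} (D : Dat.{u, v} H G E Q n)
    (sq : ∀ m : M, m * m = 1) (faith : ∀ h : H, (∀ m : M, h • m = m) → h = 1)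
    (hAQ : A ≤ Q) (hA : Atom (fab M 1 1) A) (hab : ∀ x ∈ A, ∀ y ∈ A, x * y = y * x) (h2 : 2 < Nat.card A) : False := by
  have hf := ls_fab (H := H) M 1 1
  have hGQ : G ≤ normalizer (Q : Set H) := by
    intro g hg
    rw [mem_normalizer_iff]
    intro x
    refine ⟨fun hx => D.nQ g hg x hx, fun hx => ?_⟩
    have h5 := D.nQ g⁻¹ (G.inv_mem hg) _ hx
    have h6 : g⁻¹ * (g * x * g⁻¹) * g⁻¹⁻¹ = x := by group
    rwa [h6] at h5
  by_cases hfl : Flat (fab M 1 1) Q
  · -- the normal closure of `A` is abelian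
    have hle : ∀ g : G, cj (g : H) A ≤ Q := by
      rintro g _ ⟨a, ha, rfl⟩
      exact D.nQ g g.2 a (hAQ ha)
    have hJQ : ⨆ g : G, cj (g : H) A ≤ Q := iSup_le hle
    have hAJ : A ≤ ⨆ g : G, cj (g : H) A := by
      have h1 : cj ((1 : G) : H) A ≤ ⨆ g : G, cj (g : H) A := le_iSup (fun g : G => cj (g : H) A) 1
      have h3 : cj ((1 : G) : H) A = A := cj_one A
      rwa [h3] at h1
    have hJ : (⨆ g : G, cj (g : H) A) = Q := by
      refine (D.irr _ hJQ fun l hl x hx => ?_).resolve_left fun h6 => ?_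
      · exact conj_mem_iSup (⟨l, D.EG hl⟩ : G) hx
      · have h7 := card_le_of_le hAJ
        omega
    obtain ⟨a, ha, b, hb, hne⟩ := D.nab
    apply hne
    have h3 := iSup_cj_comm (fun g : G => (g : H)) hfl D.two hA hab hle
    rw [hJ] at h3
    exact h3 a ha b hb
  · -- `Q` is strict
    have hne : lo (fab M 1 1) Q ≠ ⊥ := by
      intro h
      exact hfl ((lo_eq_bot_iff hf).1 h)
    have hst := hf.strict_lo Q
    have h5 := hGQ.trans (hf.normalizer_le_lo Q)
    have hlo : lo (fab M 1 1) Q = Q := by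
      refine (D.irr _ (hf.lo_le_self Q) fun l hl x hx => ?_).resolve_left fun h6 => ?_
      · exact (mem_normalizer_iff.1 (h5 (D.EG hl)) x).1 hx
      · -- a strict subgroup of order 2
        have h7 := hst ⊥ (bot_lt_iff_ne_bot.2 hne)
        rw [fab_lt_iff bot_le, pow_one, pow_one, relIndex_bot_left, cv_bot, relIndex_top_right] at h7
        have h8 : (cv M (lo (fab M 1 1) Q : Set H)).index < 2 := lt_of_lt_of_le h7 h6
        have h9 : (cv M (lo (fab M 1 1) Q : Set H)).index ≠ 0 := index_ne_zero_of_finite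
        have h10 : cv M (lo (fab M 1 1) Q : Set H) = ⊤ := index_eq_one.1 (by omega)
        apply hne
        rw [eq_bot_iff]
        intro x hx
        rw [mem_bot]
        apply faith
        intro m
        have h11 : m ∈ cv M (lo (fab M 1 1) Q : Set H) := h10 ▸ mem_top m
        exact h11 x hx
    rw [hlo] at hst
    exact D.false sq faith le_rfl hst (lt_of_lt_of_le h2 (card_le_of_le hAQ))

/-- **THEOREM EX for exact groups which are not atoms**: only the case that `Q` contains a transvection of `M` which is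
centralised by `G` is left (`InX` gives `f 1 ≤ f A`).  In this case `Q` is tight. -/
theorem _root_.Cfsg.Agent.Omega.ML.ExRow.Dat.exists_tr {G E Q A : Subgroup H} {n : ℕ} (D : Dat.{u, v} H G E Q n)
    (sq : ∀ m : M, m * m = 1) (faith : ∀ h : H, (∀ m : M, h • m = m) → h = 1)
    (hAQ : A ≤ Q) (hge : fab M 1 1 (⊥ : Subgroup H) ≤ fab M 1 1 A) (el : ∀ a ∈ A, a * a = 1) (h2 : 2 < Nat.card A) :
    ∃ z ∈ A, z ≠ 1 ∧ (∀ g ∈ G, g * z = z * g) ∧ (cv M ({z} : Set H)).index = 2 ∧ Tight (fab M 1 1) Q := by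
  have hf := ls_fab (H := H) M 1 1
  have hGQ : G ≤ normalizer (Q : Set H) := by
    intro g hg
    rw [mem_normalizer_iff]
    intro x
    refine ⟨fun hx => D.nQ g hg x hx, fun hx => ?_⟩
    have h5 := D.nQ g⁻¹ (G.inv_mem hg) _ hx
    have h6 : g⁻¹ * (g * x * g⁻¹) * g⁻¹⁻¹ = x := by group
    rwa [h6] at h5
  by_cases hfl : Flat (fab M 1 1) Q
  · have ht : Tight (fab M 1 1) A := le_antisymm (hfl A hAQ) hge
    have hne : A ≠ ⊥ := by
      rintro rfl
      rw [card_bot] at h2
      omega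
    obtain ⟨B, hBA, hB⟩ := Ratio.exists_atom ht hne
    have hBQ := hBA.trans hAQ
    have hBel : ∀ b ∈ B, b * b = 1 := fun b hb => el b (hBA hb)
    have hab : ∀ x ∈ B, ∀ y ∈ B, x * y = y * x := by
      intro x hx y hy
      have h1 := hBel _ (mul_mem hx hy)
      have h2 : x⁻¹ = x := inv_eq_of_mul_eq_one_right (hBel x hx)
      have h3 : y⁻¹ = y := inv_eq_of_mul_eq_one_right (hBel y hy)
      calc x * y = (x * y)⁻¹ := (inv_eq_of_mul_eq_one_right h1).symm
        _ = y⁻¹ * x⁻¹ := mul_inv_rev x y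
        _ = y * x := by rw [h2, h3]
    have hle : ∀ g : G, cj (g : H) B ≤ Q := by
      rintro g _ ⟨a, ha, rfl⟩
      exact D.nQ g g.2 a (hBQ ha)
    have hJQ : ⨆ g : G, cj (g : H) B ≤ Q := iSup_le hle
    have hBJ : B ≤ ⨆ g : G, cj (g : H) B := by
      have h1 : cj ((1 : G) : H) B ≤ ⨆ g : G, cj (g : H) B := le_iSup (fun g : G => cj (g : H) B) 1
      have h3 : cj ((1 : G) : H) B = B := cj_one B
      rwa [h3] at h1
    have hcomm := iSup_cj_comm (fun g : G => (g : H)) hfl D.two hB hab hle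
    rcases D.irr _ hJQ fun l hl x hx => conj_mem_iSup (⟨l, D.EG hl⟩ : G) hx with h6 | h6
    · -- `B` has order 2 and is normalised by `G`
      have h7 : 1 < Nat.card B := (one_lt_card_iff_ne_bot B).2 hB.ne_bot
      have h8 : Nat.card B ≤ Nat.card (⨆ g : G, cj (g : H) B : Subgroup H) := card_le_of_le hBJ
      have hB2 : Nat.card B = 2 := by omega
      have hJB : B = ⨆ g : G, cj (g : H) B := eq_of_le_of_card_ge hBJ (by omega)
      obtain ⟨z, hz, hz1⟩ := (Subgroup.bot_or_exists_ne_one B).resolve_left hB.ne_bot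
      have hBz : ∀ b ∈ B, b = 1 ∨ b = z := by
        intro b hb
        have h9 : zpowers z ≤ B := by rwa [zpowers_le]
        have h10 : Nat.card (zpowers z) = 2 := by
          rw [Nat.card_zpowers]
          exact orderOf_eq_prime (by rw [pow_two, hBel z hz]) hz1
        have h11 : zpowers z = B := eq_of_le_of_card_ge h9 (by omega)
        rw [← h11] at hb
        obtain ⟨k, rfl⟩ := mem_zpowers_iff.1 hb
        have h12 : z ^ (2 : ℤ) = 1 := by rw [zpow_two, hBel z hz]
        rcases Int.even_or_odd' k with ⟨c, rfl | rfl⟩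
        · left
          rw [zpow_mul, h12, one_zpow]
        · right
          rw [zpow_add, zpow_mul, h12, one_zpow, one_mul, zpow_one]
      refine ⟨z, hBA hz, hz1, fun g hg => ?_, ?_, ?_⟩
      · have h9 : g * z * g⁻¹ ∈ B := by
          have h10 := conj_mem_iSup (G := G) (A := B) ⟨g, hg⟩ (x := z) (hBJ hz)
          rwa [← hJB] at h10
        rcases hBz _ h9 with h10 | h10
        · exfalso
          apply hz1
          rw [mul_inv_eq_one] at h10
          calc z = g⁻¹ * (g * z) := by group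
            _ = 1 := by rw [h10, inv_mul_cancel]
        · rw [mul_inv_eq_iff_eq_mul] at h10
          exact h10
      · have h9 : cv M ({z} : Set H) = cv M (B : Set H) := by
          refine le_antisymm ?_ (cv_anti (by simpa using hz))
          intro v hv x hx
          rcases hBz x hx with rfl | rfl
          · exact one_smul _ _
          · exact hv _ rfl
        rw [h9]
        have h10 : fab M 1 1 B = fab M 1 1 (⊥ : Subgroup H) := hB.tight
        have h11 := card_mul_index (cv M (B : Set H))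
        unfold fab at h10
        rw [cv_bot, card_bot, pow_one, pow_one, pow_one, pow_one, one_mul, card_top, ← h11, hB2, mul_comm] at h10
        exact (Nat.eq_of_mul_eq_mul_left Nat.card_pos h10).symm
      · -- the largest tight subgroup is `Q`
        have h9 : A ≤ hi (fab M 1 1) Q := le_hi (hfl.best hAQ ht)
        have h10 := hGQ.trans (hf.normalizer_le_hi Q)
        have h11 : hi (fab M 1 1) Q = Q := by
          refine (D.irr _ (hf.hi_le_self Q) fun l hl x hx => ?_).resolve_left fun h12 => ?_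
          · exact (mem_normalizer_iff.1 (h10 (D.EG hl)) x).1 hx
          · have h13 := card_le_of_le h9
            omega
        have h12 := hfl.tight (hf.best_hi Q)
        rwa [h11] at h12
    · exfalso
      obtain ⟨a, ha, b, hb, hne⟩ := D.nab
      apply hne
      rw [h6] at hcomm
      exact hcomm a ha b hb
  · -- `Q` is strict
    exfalso
    have hne : lo (fab M 1 1) Q ≠ ⊥ := by
      intro h
      exact hfl ((lo_eq_bot_iff hf).1 h)
    have hst := hf.strict_lo Q
    have h5 := hGQ.trans (hf.normalizer_le_lo Q)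
    have hlo : lo (fab M 1 1) Q = Q := by
      refine (D.irr _ (hf.lo_le_self Q) fun l hl x hx => ?_).resolve_left fun h6 => ?_
      · exact (mem_normalizer_iff.1 (h5 (D.EG hl)) x).1 hx
      · have h7 := hst ⊥ (bot_lt_iff_ne_bot.2 hne)
        rw [fab_lt_iff bot_le, pow_one, pow_one, relIndex_bot_left, cv_bot, relIndex_top_right] at h7
        have h8 : (cv M (lo (fab M 1 1) Q : Set H)).index < 2 := lt_of_lt_of_le h7 h6
        have h9 : (cv M (lo (fab M 1 1) Q : Set H)).index ≠ 0 := index_ne_zero_of_finite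
        have h10 : cv M (lo (fab M 1 1) Q : Set H) = ⊤ := index_eq_one.1 (by omega)
        apply hne
        rw [eq_bot_iff]
        intro x hx
        rw [mem_bot]
        apply faith
        intro m
        have h11 : m ∈ cv M (lo (fab M 1 1) Q : Set H) := h10 ▸ mem_top m
        exact h11 x hx
    rw [hlo] at hst
    exact D.false sq faith le_rfl hst (lt_of_lt_of_le h2 (card_le_of_le hAQ))

end

/-! ### From the record -/

section record

variable {H : Type u} [Group H] [Finite H] {X : Type w} [Group X] {π : H →* X} {C P R : Subgroup X} {n : ℕ}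

/-- **the record excludes the atom** -/
theorem false_of_rec_eq {M : Type v} [Group M] [Finite M] [MulDistribMulAction H M] {A : Subgroup H}
    (sq : ∀ m : M, m * m = 1) (faith : ∀ h : H, (∀ m : M, h • m = m) → h = 1) (hA : Atom (fab M 1 1) A)
    (el : ∀ a ∈ A, a * a = 1) (hA2 : 2 < Nat.card A) (hf : Function.Surjective π) (hc : π.ker ≤ center H)
    (ho : Odd (Nat.card π.ker)) (h : Rec.{u, v, w} C P R n) {g : X} (hg : ∀ a ∈ A, g * π a * g⁻¹ ∈ R) : False := by
  have hR : IsPGroup 2 R := IsPGroup.of_card h.card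
  have hX : Finite X := Finite.of_surjective π hf
  obtain ⟨g, rfl⟩ := hf g
  have hlf := ls_fab (H := H) M 1 1
  have el' : ∀ a ∈ cj g A, a * a = 1 := by
    rintro _ ⟨a, ha, rfl⟩
    change g * a * g⁻¹ * (g * a * g⁻¹) = 1
    have h1 : g * a * g⁻¹ * (g * a * g⁻¹) = g * (a * a) * g⁻¹ := by group
    rw [h1, el a ha, mul_one, mul_inv_cancel]
  refine (dat_of_rec hf hc ho h).false_eq (A := cj g A) sq faith ?_ (hA.conj hlf g) ?_ ?_
  · rintro _ ⟨a, ha, rfl⟩
    rw [mem_lift2 hc hR]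
    refine ⟨?_, 1, ?_⟩
    · change π (g * a * g⁻¹) ∈ R
      rw [map_mul, map_mul, map_inv]
      exact hg a ha
    · rw [pow_one, pow_two]
      exact el' _ ⟨a, ha, rfl⟩
  · intro x hx y hy
    have h1 := el' _ (mul_mem hx hy)
    have h2 : x⁻¹ = x := inv_eq_of_mul_eq_one_right (el' x hx)
    have h3 : y⁻¹ = y := inv_eq_of_mul_eq_one_right (el' y hy)
    calc x * y = (x * y)⁻¹ := (inv_eq_of_mul_eq_one_right h1).symm
      _ = y⁻¹ * x⁻¹ := mul_inv_rev x y
      _ = y * x := by rw [h2, h3]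
  · rw [card_cj]
    exact hA2

end record

end Cfsg.Agent.Omega.ML.Ex.ExEq

end

section


/-!
# The normal closure of an exact atom in a 2-group (helper772)

`InX H M K T A` (the situation of the exact rows), `f = fab M 1 1`.

* `InX.rat` : if `A` is an atom (`Atm M A`) it is an atom of `f` in the sense of `Ratio.lean`; `InX.tight`, `InX.off`;
* `principle_atom` : `A` an exact ATOM, `A ≤ Q`, `Q` a 2-group, `R ≤ N_H(Q)`.  Then either there is a STRICT `R`-invariant
  `L ≤ Q` with `|L| ≥ 4`, or `D = ⟨A^R⟩` is ELEMENTARY ABELIAN, `|M : C_M(D)| = |D|`, `|B| ≤ |M : C_M(B)|` for `B ≤ D`;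
* `principle_tight`, `principle` (over `InX`), `principle_o2` (`Q = O₂(R)`, `T ≤ R < H`) : for any exact sub-exact `A`:
  either a STRICT `R`-invariant `L ≤ Q`, `|L| ≥ 4`, or: `|B| ≤ |M : C_M(B)|` for all `B ≤ Q`, an `R`-invariant elementary
  abelian exact `D = ⟨B^R⟩ ≠ 1` (`B ≤ A` an atom), and an `R`-invariant exact `N` with `A ≤ N ≤ Q`;
* over 995's `InN` (`A` an atom of the module `N`): `InN.rat`, `InN.off`, `principleN`, `principleN_o2`, `exists_strictN`,
  `false_of_dat`;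
* `exists_strict` : if `Q` has no nontrivial elementary abelian `R`-invariant exact subgroup, there is a strict one.
-/

set_option autoImplicit false

namespace Cfsg.Agent.Omega.ML.Ex.Prin

open Subgroup Cfsg Cfsg.Agent.ZN Cfsg.Agent.ClassTwoFusion.Quad Cfsg.Agent.Omega.NOThree.NoOver Cfsg.Agent.Omega.ML.CD
open Cfsg.Agent.Omega.ML.Ratio (Flat Tight Atom card_cj)
open Cfsg.Agent.Omega.ML.Ex.ExEq Cfsg.Agent.Omega.ML.Ex.Prod
open Cfsg.Agent.MinSimple.VModule (o2_isPGroup o2_le le_o2 le_normalizer_o2)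

universe u v

section

variable {H : Type u} [Group H] [Finite H] {M : Type v} [Group M] [Finite M] [MulDistribMulAction H M]

omit [Finite H] [Finite M] in
theorem fab_one_eq (B : Subgroup H) : fab M 1 1 B * (cv M (B : Set H)).index = Nat.card B * Nat.card M := by
  have h1 := card_mul_index (cv M (B : Set H))
  unfold fab
  rw [pow_one, pow_one, mul_assoc, h1]

omit [Finite H] [Finite M] in
theorem fab_bot : fab M 1 1 (⊥ : Subgroup H) = Nat.card M := by
  unfold fab
  rw [cv_bot, card_bot, pow_one, pow_one, one_mul, card_top]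

omit [Finite H] in
/-- `f B ≤ f 1` means `|B| ≤ |M : C_M(B)|` -/
theorem fab_le_iff {B : Subgroup H} :
    fab M 1 1 B ≤ fab M 1 1 (⊥ : Subgroup H) ↔ Nat.card B ≤ (cv M (B : Set H)).index := by
  have h1 := fab_one_eq (M := M) B
  rw [fab_bot]
  have hM : 0 < Nat.card M := Nat.card_pos
  have hi : 0 < (cv M (B : Set H)).index := Nat.pos_of_ne_zero index_ne_zero_of_finite
  constructor
  · intro h
    by_contra hc
    rw [not_le] at hc
    have h2 : fab M 1 1 B * (cv M (B : Set H)).index ≤ Nat.card M * (cv M (B : Set H)).index :=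
      Nat.mul_le_mul_right _ h
    have h3 : (cv M (B : Set H)).index * Nat.card M < Nat.card B * Nat.card M := Nat.mul_lt_mul_of_pos_right hc hM
    rw [h1, mul_comm (Nat.card M)] at h2
    omega
  · intro h
    refine Nat.le_of_mul_le_mul_right ?_ hi
    rw [h1, mul_comm (Nat.card M)]
    exact Nat.mul_le_mul_right _ h

omit [Finite H] in
/-- `f B = f 1` means `|B| = |M : C_M(B)|` -/
theorem tight_iff {B : Subgroup H} :
    Tight (fab M 1 1) B ↔ (cv M (B : Set H)).index = Nat.card B := by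
  have h1 := fab_one_eq (M := M) B
  unfold Tight
  rw [fab_bot]
  have hM : 0 < Nat.card M := Nat.card_pos
  have hi : 0 < (cv M (B : Set H)).index := Nat.pos_of_ne_zero index_ne_zero_of_finite
  constructor
  · intro h
    rw [h, mul_comm] at h1
    exact Nat.eq_of_mul_eq_mul_right hM h1
  · intro h
    rw [← h, mul_comm _ (Nat.card M)] at h1
    exact Nat.eq_of_mul_eq_mul_right hi h1

variable {K T A : Subgroup H}

omit [Finite H] in
/-- an atom in the sense of `Def.lean` is an atom in the sense of `Ratio.lean` -/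
theorem _root_.Cfsg.Agent.Omega.ML.Ex.InX.rat (h : InX H M K T A) (hat : Atm M A) : Atom (fab M 1 1) A where
  ne_bot := h.A_ne_bot
  tight := tight_iff.2 h.exact
  min := by
    intro D hD ht
    by_contra hc
    rw [not_or] at hc
    have h1 := hat D hD hc.1 hc.2
    rw [tight_iff.1 ht] at h1
    exact lt_irrefl _ h1

omit [Finite H] in
theorem _root_.Cfsg.Agent.Omega.ML.Ex.InX.tight (h : InX H M K T A) : Tight (fab M 1 1) A := tight_iff.2 h.exact

omit [Finite H] in
theorem _root_.Cfsg.Agent.Omega.ML.Ex.InX.off (h : InX H M K T A) : Off (fab M 1 1) A :=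
  Off.of_exact h.exact h.sub

omit [Finite H] in
/-- over `InN` (`A` is an atom of the module `N`) -/
theorem _root_.Cfsg.Agent.Omega.ML.Ex.InN.rat (h : InN H M K T A) : Atom (fab M 1 1) A where
  ne_bot := h.A_ne_bot
  tight := tight_iff.2 h.exact
  min := by
    intro D hD ht
    by_contra hc
    rw [not_or] at hc
    have h1 := h.atom D hD hc.1 hc.2
    rw [tight_iff.1 ht] at h1
    exact lt_irrefl _ h1

omit [Finite H] in
theorem _root_.Cfsg.Agent.Omega.ML.Ex.InN.off (h : InN H M K T A) : Off (fab M 1 1) A :=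
  Off.of_exact h.exact fun _ hC => h.le_index hC

/-- `A` contains an atom -/
theorem _root_.Cfsg.Agent.Omega.ML.Ex.InX.exists_rat (h : InX H M K T A) : ∃ B ≤ A, Atom (fab M 1 1) B :=
  Ratio.exists_atom h.tight h.A_ne_bot

/-- a strict nontrivial subgroup of a 2-group has order at least 4 -/
theorem four_le_of_strict {L : Subgroup H} (faith : ∀ h : H, (∀ m : M, h • m = m) → h = 1) (hL : Strict (fab M 1 1) L)
    (h2 : IsPGroup 2 L) (hne : L ≠ ⊥) : 4 ≤ Nat.card L := by
  have : Fact (Nat.Prime 2) := ⟨Nat.prime_two⟩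
  obtain ⟨k, hk⟩ := IsPGroup.iff_card.1 h2
  have h7 := hL ⊥ (bot_lt_iff_ne_bot.2 hne)
  rw [fab_lt_iff bot_le, pow_one, pow_one, relIndex_bot_left, cv_bot, relIndex_top_right] at h7
  have h9 : (cv M (L : Set H)).index ≠ 0 := index_ne_zero_of_finite
  have h10 : (cv M (L : Set H)).index ≠ 1 := by
    intro h10
    have h11 : cv M (L : Set H) = ⊤ := index_eq_one.1 h10
    apply hne
    rw [eq_bot_iff]
    intro x hx
    rw [mem_bot]
    apply faith
    intro m
    have h11 : m ∈ cv M (L : Set H) := h11 ▸ mem_top m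
    exact h11 x hx
  rw [hk] at h7 ⊢
  match k, h7 with
  | 0, h7 => rw [pow_zero] at h7; omega
  | 1, h7 => rw [pow_one] at h7; omega
  | k + 2, _ =>
    have := Nat.one_le_two_pow (n := k)
    rw [pow_add]
    omega

/-- **PRINCIPLE** (any exact atom) -/
theorem principle_atom {A : Subgroup H} (faith : ∀ h : H, (∀ m : M, h • m = m) → h = 1) (hA : Atom (fab M 1 1) A)
    (hoff : Off (fab M 1 1) A) (el : ∀ a ∈ A, a * a = 1) {R Q : Subgroup H}
    (h2 : IsPGroup 2 Q) (hn : R ≤ normalizer (Q : Set H)) (hAQ : A ≤ Q) :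
    (∃ L ≤ Q, R ≤ normalizer (L : Set H) ∧ Strict (fab M 1 1) L ∧ 4 ≤ Nat.card L) ∨
    (∃ D ≤ Q, A ≤ D ∧ R ≤ normalizer (D : Set H) ∧ (∀ x ∈ D, x * x = 1) ∧
      (∀ x ∈ D, ∀ y ∈ D, x * y = y * x) ∧ (cv M (D : Set H)).index = Nat.card D ∧
      (∀ B ≤ D, Nat.card B ≤ (cv M (B : Set H)).index) ∧ D = ⨆ g : R, cj (g : H) A) := by
  have hf := ls_fab (H := H) M 1 1
  have hab : ∀ x ∈ A, ∀ y ∈ A, x * y = y * x := by
    intro x hx y hy
    have h1 := el _ (mul_mem hx hy)
    have h2 : x⁻¹ = x := inv_eq_of_mul_eq_one_right (el x hx)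
    have h3 : y⁻¹ = y := inv_eq_of_mul_eq_one_right (el y hy)
    calc x * y = (x * y)⁻¹ := (inv_eq_of_mul_eq_one_right h1).symm
      _ = y⁻¹ * x⁻¹ := mul_inv_rev x y
      _ = y * x := by rw [h2, h3]
  by_cases hfl : Flat (fab M 1 1) Q
  · right
    have hle : ∀ g : R, cj (g : H) A ≤ Q := by
      intro g
      have h1 := (Subgroup.mem_normalizer_iff_map_conj_eq.1 (hn g.2) : cj (g : H) Q = Q)
      rw [← h1]
      exact cj_mono hAQ
    have hcomm := iSup_cj_comm (fun g : R => (g : H)) hfl h2 hA hab hle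
    have hDQ : (⨆ g : R, cj (g : H) A) ≤ Q := iSup_le hle
    refine ⟨⨆ g : R, cj (g : H) A, hDQ, ?_, ?_, ?_, hcomm, ?_, ?_, rfl⟩
    · have h1 : cj ((1 : R) : H) A ≤ ⨆ g : R, cj (g : H) A := le_iSup (fun g : R => cj (g : H) A) 1
      have h3 : cj ((1 : R) : H) A = A := cj_one A
      rwa [h3] at h1
    · intro g hg
      rw [mem_normalizer_iff]
      intro x
      refine ⟨fun hx => conj_mem_iSup (⟨g, hg⟩ : R) hx, fun hx => ?_⟩
      have h5 := conj_mem_iSup (⟨g, hg⟩⁻¹ : R) hx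
      have h6 : (((⟨g, hg⟩⁻¹ : R) : H)) * (g * x * g⁻¹) * (((⟨g, hg⟩⁻¹ : R) : H))⁻¹ = x := by
        change g⁻¹ * (g * x * g⁻¹) * g⁻¹⁻¹ = x
        group
      rwa [h6] at h5
    · -- elementary abelian
      intro x hx
      refine Subgroup.iSup_induction' (fun g : R => cj (g : H) A) (C := fun x _ => x * x = 1) ?_ (mul_one 1) ?_ hx
      · intro g y hy
        obtain ⟨a, ha, rfl⟩ := hy
        rw [← map_mul, el a ha, map_one]
      · intro x y hx hy h1 h2
        calc x * y * (x * y) = x * (y * x) * y := by group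
          _ = x * (x * y) * y := by rw [hcomm y hy x hx]
          _ = (x * x) * (y * y) := by group
          _ = 1 := by rw [h1, h2, mul_one]
    · have h1 : fab M 1 1 (⨆ g : R, cj (g : H) A) = fab M 1 1 (⊥ : Subgroup H) :=
        le_antisymm (hfl _ hDQ) (Off.iSup hf fun g : R => hoff.cj hf (g : H))
      exact tight_iff.1 h1
    · intro B hB
      exact fab_le_iff.1 (hfl B (hB.trans hDQ))
  · left
    have hne : lo (fab M 1 1) Q ≠ ⊥ := by
      intro h
      exact hfl ((lo_eq_bot_iff hf).1 h)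
    have hst := hf.strict_lo Q
    exact ⟨lo (fab M 1 1) Q, hf.lo_le_self Q, hn.trans (hf.normalizer_le_lo Q), hst,
      four_le_of_strict faith hst (h2.to_le (hf.lo_le_self Q)) hne⟩

/-- **PRINCIPLE** over `InN` -/
theorem principleN (h : InN H M K T A) {R Q : Subgroup H} (h2 : IsPGroup 2 Q) (hn : R ≤ normalizer (Q : Set H))
    (hAQ : A ≤ Q) :
    (∃ L ≤ Q, R ≤ normalizer (L : Set H) ∧ Strict (fab M 1 1) L ∧ 4 ≤ Nat.card L) ∨
    (∃ D ≤ Q, A ≤ D ∧ R ≤ normalizer (D : Set H) ∧ (∀ x ∈ D, x * x = 1) ∧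
      (∀ x ∈ D, ∀ y ∈ D, x * y = y * x) ∧ (cv M (D : Set H)).index = Nat.card D ∧
      (∀ B ≤ D, Nat.card B ≤ (cv M (B : Set H)).index) ∧ D = ⨆ g : R, cj (g : H) A) :=
  principle_atom h.faith h.rat h.off h.el h2 hn hAQ

/-- **PRINCIPLE** over `InN` for an overgroup `R` of `T` -/
theorem principleN_o2 (h : InN H M K T A) {R : Subgroup H} (hT : T ≤ R) (hR : R ≠ ⊤) :
    (∃ L ≤ o2 R, R ≤ normalizer (L : Set H) ∧ Strict (fab M 1 1) L ∧ 4 ≤ Nat.card L) ∨
    (∃ D ≤ o2 R, A ≤ D ∧ R ≤ normalizer (D : Set H) ∧ (∀ x ∈ D, x * x = 1) ∧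
      (∀ x ∈ D, ∀ y ∈ D, x * y = y * x) ∧ (cv M (D : Set H)).index = Nat.card D ∧
      (∀ B ≤ D, Nat.card B ≤ (cv M (B : Set H)).index) ∧ D = ⨆ g : R, cj (g : H) A) :=
  principleN h (o2_isPGroup R) (le_normalizer_o2 R) (h.low R hT hR)

/-- if the elementary abelian `R`-invariant subgroups of `Q` are smaller than `A`, there is a strict `R`-invariant group -/
theorem exists_strictN (h : InN H M K T A) {R Q : Subgroup H} (h2 : IsPGroup 2 Q) (hn : R ≤ normalizer (Q : Set H))
    (hAQ : A ≤ Q) (hel : ∀ D ≤ Q, R ≤ normalizer (D : Set H) → (∀ x ∈ D, x * x = 1) → Nat.card D < Nat.card A) :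
    ∃ L ≤ Q, R ≤ normalizer (L : Set H) ∧ Strict (fab M 1 1) L ∧ 4 ≤ Nat.card L := by
  rcases principleN h h2 hn hAQ with h1 | ⟨D, h1, h3, h4, h5, -⟩
  · exact h1
  · have h6 := hel D h1 h4 h5
    have h7 := card_le_of_le h3
    omega

/-- **THEOREM EX over `InN`** : `Dat.false_eq` -/
theorem false_of_dat (h : InN H M K T A) {G E Q : Subgroup H} {n : ℕ}
    (D : Cfsg.Agent.Omega.ML.ExRow.Dat.{u, v} H G E Q n) (hAQ : A ≤ Q) : False :=
  D.false_eq h.sq h.faith hAQ h.rat h.A_comm (lt_of_lt_of_le (by norm_num) h.four)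

/-- **PRINCIPLE** for any exact `A ≠ 1` with `|C| ≤ |M : C_M(C)|` for `C ≤ A` -/
theorem principle_tight {A : Subgroup H} (faith : ∀ h : H, (∀ m : M, h • m = m) → h = 1) (hA : Tight (fab M 1 1) A)
    (hoff : Off (fab M 1 1) A) (hne : A ≠ ⊥) (el : ∀ a ∈ A, a * a = 1) {R Q : Subgroup H}
    (h2 : IsPGroup 2 Q) (hn : R ≤ normalizer (Q : Set H)) (hAQ : A ≤ Q) :
    (∃ L ≤ Q, R ≤ normalizer (L : Set H) ∧ Strict (fab M 1 1) L ∧ 4 ≤ Nat.card L) ∨
    ((∀ B ≤ Q, Nat.card B ≤ (cv M (B : Set H)).index) ∧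
      (∃ D ≤ Q, R ≤ normalizer (D : Set H) ∧ (∀ x ∈ D, x * x = 1) ∧ (∀ x ∈ D, ∀ y ∈ D, x * y = y * x) ∧
        (cv M (D : Set H)).index = Nat.card D ∧ ∃ B ≤ A, Atom (fab M 1 1) B ∧ B ≤ D ∧ D = ⨆ g : R, cj (g : H) B) ∧
      ∃ N ≤ Q, A ≤ N ∧ R ≤ normalizer (N : Set H) ∧ (cv M (N : Set H)).index = Nat.card N) := by
  have hf := ls_fab (H := H) M 1 1
  by_cases hfl : Flat (fab M 1 1) Q
  · obtain ⟨B, hBA, hB⟩ := Ratio.exists_atom hA hne
    have hoffB : Off (fab M 1 1) B := ⟨hB.tight.ge, fun C hC => hoff.sub C (hC.trans hBA)⟩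
    rcases principle_atom faith hB hoffB (fun a ha => el a (hBA ha)) h2 hn (hBA.trans hAQ) with
      h1 | ⟨D, h1, h3, h4, h5, h6, h7, h8, h9⟩
    · exact Or.inl h1
    · refine Or.inr ⟨fun B hB => fab_le_iff.1 (hfl B hB), ⟨D, h1, h4, h5, h6, h7, B, hBA, hB, h3, h9⟩,
        hi (fab M 1 1) Q, hf.hi_le_self Q, le_hi (hfl.best hAQ hA), hn.trans (hf.normalizer_le_hi Q), ?_⟩
      exact tight_iff.1 (hfl.tight (hf.best_hi Q))
  · left
    have hne : lo (fab M 1 1) Q ≠ ⊥ := by
      intro h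
      exact hfl ((lo_eq_bot_iff hf).1 h)
    have hst := hf.strict_lo Q
    exact ⟨lo (fab M 1 1) Q, hf.lo_le_self Q, hn.trans (hf.normalizer_le_lo Q), hst,
      four_le_of_strict faith hst (h2.to_le (hf.lo_le_self Q)) hne⟩

/-- **PRINCIPLE** over `InX` -/
theorem principle (h : InX H M K T A) {R Q : Subgroup H} (h2 : IsPGroup 2 Q) (hn : R ≤ normalizer (Q : Set H))
    (hAQ : A ≤ Q) :
    (∃ L ≤ Q, R ≤ normalizer (L : Set H) ∧ Strict (fab M 1 1) L ∧ 4 ≤ Nat.card L) ∨
    ((∀ B ≤ Q, Nat.card B ≤ (cv M (B : Set H)).index) ∧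
      (∃ D ≤ Q, R ≤ normalizer (D : Set H) ∧ (∀ x ∈ D, x * x = 1) ∧ (∀ x ∈ D, ∀ y ∈ D, x * y = y * x) ∧
        (cv M (D : Set H)).index = Nat.card D ∧ ∃ B ≤ A, Atom (fab M 1 1) B ∧ B ≤ D ∧ D = ⨆ g : R, cj (g : H) B) ∧
      ∃ N ≤ Q, A ≤ N ∧ R ≤ normalizer (N : Set H) ∧ (cv M (N : Set H)).index = Nat.card N) :=
  principle_tight h.faith h.tight h.off h.A_ne_bot h.el h2 hn hAQ

/-- **PRINCIPLE** for an overgroup `R` of `T` -/
theorem principle_o2 (h : InX H M K T A) {R : Subgroup H} (hT : T ≤ R) (hR : R ≠ ⊤) :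
    (∃ L ≤ o2 R, R ≤ normalizer (L : Set H) ∧ Strict (fab M 1 1) L ∧ 4 ≤ Nat.card L) ∨
    ((∀ B ≤ o2 R, Nat.card B ≤ (cv M (B : Set H)).index) ∧
      (∃ D ≤ o2 R, R ≤ normalizer (D : Set H) ∧ (∀ x ∈ D, x * x = 1) ∧ (∀ x ∈ D, ∀ y ∈ D, x * y = y * x) ∧
        (cv M (D : Set H)).index = Nat.card D ∧ ∃ B ≤ A, Atom (fab M 1 1) B ∧ B ≤ D ∧ D = ⨆ g : R, cj (g : H) B) ∧
      ∃ N ≤ o2 R, A ≤ N ∧ R ≤ normalizer (N : Set H) ∧ (cv M (N : Set H)).index = Nat.card N) :=
  principle h (o2_isPGroup R) (le_normalizer_o2 R) (h.low R hT hR)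

/-- if the only elementary abelian `R`-invariant subgroup of `Q` is trivial, there is a strict `R`-invariant group -/
theorem exists_strict (h : InX H M K T A) {R Q : Subgroup H} (h2 : IsPGroup 2 Q) (hn : R ≤ normalizer (Q : Set H))
    (hAQ : A ≤ Q) (hel : ∀ D ≤ Q, R ≤ normalizer (D : Set H) → (∀ x ∈ D, x * x = 1) →
      (cv M (D : Set H)).index = Nat.card D → D = ⊥) :
    ∃ L ≤ Q, R ≤ normalizer (L : Set H) ∧ Strict (fab M 1 1) L ∧ 4 ≤ Nat.card L := by
  rcases principle h h2 hn hAQ with h1 | ⟨-, ⟨D, h1, h4, h5, -, h6, B, -, hB, hBD, -⟩, -⟩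
  · exact h1
  · exact absurd (le_bot_iff.1 (hBD.trans (hel D h1 h4 h5 h6).le)) hB.ne_bot

end

end Cfsg.Agent.Omega.ML.Ex.Prin

end
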