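import Cfsg.Agent.Mrg.Omega.ML.Ex.RkX
import Cfsg.Agent.Mrg.Omega.ML.RowMT
import Cfsg.Agent.TypeM.OutLyFin

section


/-!
# Exact and low configurations: the group-theoretic rows McL, Ly over `ASx` (helper333)
-/

set_option autoImplicit false

namespace Cfsg.Agent.Omega.ML.Ex.RowMTX

open Subgroup Cfsg Cfsg.Agent.ZN Cfsg.Agent.Omega.TwoF Cfsg.Agent.Omega.ML.Rows
open Cfsg.Agent.TypeM.Two (MT)

universe u v

theorem card_le {X : Type u} [Group X] [Finite X] {S T A : Subgroup X} (h : ASx S T A) {n k : ℕ} (hn : 5 ≤ n)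
    (L : MT n S) (h2 : 2 ∣ Nat.card S) (hk : (MulAut.conj : S →* MulAut S).range.index ≤ k) : Nat.card A ≤ 2 * k := by
  refine h.card_le_of_inv h2 (n := 2) (k := k) (fun z hz hz1 Q hQ hQ2 hN => ?_) hk
  obtain ⟨L', hL'⟩ := L.exists_rebase hz hz1
  rw [← hL'] at hQ hN
  exact RowMT.card_le_two hn L' Q hQ hQ2 hN

/-- **The row `McL`.** -/
theorem mcl : DeadGx.{u} 4 (fun S _ => Spor.IsoMcL S) := by
  intro X _ _ S T A h hS
  obtain ⟨hfin, hs, hc, ⟨L⟩⟩ := Cfsg.Agent.TypeM.FactsMcL.facts hS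
  refine card_le h (k := 2) (by norm_num) L (by rw [hc]; norm_num) ?_
  rcases RowMcL.index_cases L hc with h1 | h1 <;> rw [h1]
  norm_num

/-- **The row `Ly`.** -/
theorem ly : DeadGx.{u} 2 (fun S _ => Spor.IsoLy S) := by
  intro X _ _ S T A h hS
  obtain ⟨hfin, hs, hc, ⟨L⟩⟩ := Cfsg.Agent.TypeM.FactsLy.facts hS
  refine card_le h (k := 1) (by norm_num) L (by rw [hc]; norm_num) ?_
  have h1 : (MulAut.conj : S →* MulAut S).range = ⊤ := by
    rw [eq_top_iff]
    exact fun φ _ => Cfsg.Agent.TypeM.OutLyFin.inner hS φ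
  rw [h1, index_top]

/-- **The row is dead.** -/
theorem ly_dead : DeadX.{u, v} (fun S _ => Spor.IsoLy S) := ly.deadX (by norm_num)

end Cfsg.Agent.Omega.ML.Ex.RowMTX

end

section


/-!
# Exact and low configurations: the row McL (helper333): `|A| ≤ 2`

`D = O₂(C_X(t))`: `D ∩ S ≤ ⟨t⟩`, so `D` acts trivially on `C_S(t) / ⟨t⟩ = A₈`; the automorphisms of McL which do so are
inner (`EvenInner`), so `D ≤ S` and `D ≤ ⟨t⟩`.
-/

set_option autoImplicit false

namespace Cfsg.Agent.Omega.ML.Ex.RowMcLX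

open Subgroup Cfsg Cfsg.Agent.ZN Cfsg.Agent.Omega.TwoF Cfsg.Agent.Omega.ML.Rows
open Cfsg.Agent.TypeM.Two (MT)
open Cfsg.Agent.TypeM.OuterMcL (EvenInner Compat)
open Cfsg.Agent.MinSimple.VModule (o2_isPGroup o2_le le_o2 le_normalizer_o2)

universe u v

theorem le_zp {S : Type u} [Group S] [Finite S] {n : ℕ} (hn : 5 ≤ n) (L : MT n S) (Q : Subgroup S)
    (hQ : Q ≤ centralizer ({L.t} : Set S)) (hQ2 : IsPGroup 2 Q)
    (hN : centralizer ({L.t} : Set S) ≤ normalizer (Q : Set S)) : Q ≤ zpowers L.t := by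
  have ht : zpowers L.t ≤ centralizer ({L.t} : Set S) := by
    rw [zpowers_le]
    exact mem_centralizer_singleton_iff.2 rfl
  have ht2 : IsPGroup 2 (zpowers L.t) := by
    refine IsPGroup.of_card (n := 1) ?_
    rw [Nat.card_zpowers, L.orderOf_t, pow_one]
  have htn : centralizer ({L.t} : Set S) ≤ normalizer ((zpowers L.t : Subgroup S) : Set S) := by
    intro c hc
    have h1 := mem_centralizer_singleton_iff.1 hc
    have h2 : ∀ k : ℤ, c * L.t ^ k * c⁻¹ = L.t ^ k := by
      intro k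
      have h3 : Commute c L.t := h1
      rw [(h3.zpow_right k).eq, mul_inv_cancel_right]
    rw [mem_normalizer_iff]
    intro x
    constructor
    · rintro ⟨k, rfl⟩
      exact ⟨k, (h2 k).symm⟩
    · rintro ⟨k, hk⟩
      change L.t ^ k = c * x * c⁻¹ at hk
      have h4 : x = L.t ^ k := by
        have h5 := h2 k
        have h6 : c * x * c⁻¹ = c * L.t ^ k * c⁻¹ := hk.symm.trans h5.symm
        exact mul_left_cancel (mul_right_cancel h6)
      exact ⟨k, h4.symm⟩
  have hs : IsPGroup 2 (Q ⊔ zpowers L.t : Subgroup S) := hQ2.to_sup_of_normal_right' ht2 (hQ.trans htn)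
  have hsn : ∀ c ∈ centralizer ({L.t} : Set S), ∀ x ∈ Q ⊔ zpowers L.t, c * x * c⁻¹ ∈ Q ⊔ zpowers L.t := by
    intro c hc x hx
    have h2 : Q ⊔ zpowers L.t ≤ (Q ⊔ zpowers L.t : Subgroup S).comap (MulAut.conj c).toMonoidHom := by
      refine sup_le (fun y hy => ?_) (fun y hy => ?_)
      · exact (le_sup_left : Q ≤ Q ⊔ zpowers L.t) ((mem_normalizer_iff.1 (hN hc) y).1 hy)
      · exact (le_sup_right : zpowers L.t ≤ Q ⊔ zpowers L.t) ((mem_normalizer_iff.1 (htn hc) y).1 hy)
    exact h2 hx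
  have h1 := RowMT.card_le_two hn L (Q ⊔ zpowers L.t) (sup_le hQ ht) hs (fun c hc => by
    rw [mem_normalizer_iff]
    intro x
    refine ⟨fun hx => hsn c hc x hx, fun hx => ?_⟩
    have h3 := hsn c⁻¹ (inv_mem hc) _ hx
    have h4 : c⁻¹ * (c * x * c⁻¹) * c⁻¹⁻¹ = x := by group
    rwa [h4] at h3)
  have h2 : zpowers L.t = Q ⊔ zpowers L.t := by
    refine eq_of_le_of_card_ge le_sup_right (h1.trans ?_)
    rw [Nat.card_zpowers, L.orderOf_t]
  rw [h2]
  exact le_sup_left

theorem card_o2_le {X : Type u} [Group X] [Finite X] {S : Subgroup X} (hS : S.Normal)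
    (hc : centralizer (S : Set X) = ⊥) {n : ℕ} (hn : 5 ≤ n) (L : MT n S) (hI : EvenInner L) :
    Nat.card (o2 (centralizer ({((L.t : S) : X)} : Set X))) ≤ 2 := by
  set R := centralizer ({((L.t : S) : X)} : Set X) with hR
  set D := o2 R with hD
  have hDS : D.comap S.subtype ≤ zpowers L.t := by
    refine le_zp hn L _ ?_ ((o2_isPGroup R).comap_of_injective _ S.subtype_injective) ?_
    · intro x hx
      exact mem_centralizer_singleton_iff.2 (Subtype.ext (mem_centralizer_singleton_iff.1 (o2_le R hx)))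
    · intro c hc
      have h4 : (c : X) ∈ R := mem_centralizer_singleton_iff.2
        (congrArg Subtype.val (mem_centralizer_singleton_iff.1 hc))
      have h5 := mem_normalizer_iff.1 (le_normalizer_o2 R h4)
      rw [mem_normalizer_iff]
      intro y
      exact h5 (y : X)
  have hle : D ≤ S := by
    intro d hd
    have hdt := mem_centralizer_singleton_iff.1 (o2_le R hd)
    obtain ⟨g, hg⟩ := hI (MulAut.conjNormal d) 1 (Subtype.ext (by
      rw [MulAut.conjNormal_apply, hdt, mul_inv_cancel_right])) (by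
      intro g h hh
      have h1 : (g : S)⁻¹ * h ∈ zpowers L.t := by
        apply hDS
        show (((g : S)⁻¹ * (h : S) : S) : X) ∈ D
        rw [hh, Subgroup.coe_mul, MulAut.conjNormal_apply, Subgroup.coe_inv]
        have h2 : (((g : S) : X))⁻¹ * (d * ((g : S) : X) * d⁻¹) =
            ((((g : S) : X))⁻¹ * d * ((g : S) : X)) * d⁻¹ := by group
        rw [h2]
        refine D.mul_mem ?_ (D.inv_mem hd)
        have h3 : (((g : S) : X))⁻¹ ∈ R := inv_mem (mem_centralizer_singleton_iff.2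
          (congrArg Subtype.val (mem_centralizer_singleton_iff.1 g.2)))
        have h4 := (mem_normalizer_iff.1 (le_normalizer_o2 R h3) d).1 hd
        rwa [inv_inv] at h4
      have h2 : L.K.π (g⁻¹ * h) = 1 := by
        apply (L.K.ker _).2
        obtain ⟨k, hk⟩ := h1
        have h3 : (L.t ^ k : S) = (g : S)⁻¹ * h := hk
        have h4 : L.t ^ k = 1 ∨ L.t ^ k = L.t := by
          have h5 : L.t ^ (2 : ℤ) = 1 := by
            rw [zpow_ofNat, pow_two]
            exact L.t_mul_t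
          rcases Int.even_or_odd' k with ⟨j, rfl | rfl⟩
          · left
            rw [zpow_mul, h5, one_zpow]
          · right
            rw [zpow_add, zpow_mul, h5, one_zpow, one_mul, zpow_one]
        rcases h4 with h4 | h4
        · left
          apply Subtype.ext
          show (g : S)⁻¹ * (h : S) = 1
          rw [← h3, h4]
        · right
          apply Subtype.ext
          show (g : S)⁻¹ * (h : S) = (L.K.z : S)
          rw [← h3, h4, L.hz]
      rw [map_mul, map_inv, inv_mul_eq_one] at h2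
      rw [one_mul, inv_one, mul_one, h2]) Equiv.Perm.sign_one
    have h1 : (g : X)⁻¹ * d ∈ centralizer (S : Set X) := by
      rw [mem_centralizer_iff]
      intro y hy
      have h2 : d * y * d⁻¹ = (g : X) * y * (g : X)⁻¹ := by
        have h3 := congrArg (fun β : MulAut S => ((β ⟨y, hy⟩ : S) : X)) hg.symm
        change ((MulAut.conjNormal d ⟨y, hy⟩ : S) : X) = _ at h3
        rw [MulAut.conjNormal_apply] at h3
        exact h3
      calc y * ((g : X)⁻¹ * d) = (g : X)⁻¹ * (g * y * (g : X)⁻¹) * d := by group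
        _ = (g : X)⁻¹ * (d * y * d⁻¹) * d := by rw [h2]
        _ = (g : X)⁻¹ * d * y := by group
    rw [hc, mem_bot, inv_mul_eq_one] at h1
    rw [← h1]
    exact g.2
  have h1 : D ≤ zpowers ((L.t : S) : X) := by
    intro d hd
    obtain ⟨k, hk⟩ := hDS (show (⟨d, hle hd⟩ : S) ∈ D.comap S.subtype from hd)
    refine ⟨k, ?_⟩
    have h2 := congrArg Subtype.val hk
    exact h2
  refine (card_le_of_le h1).trans ?_
  rw [Nat.card_zpowers, Subgroup.orderOf_coe, L.orderOf_t]

/-- **The row `McL`**: `|A| ≤ 2`. -/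
theorem mcl : DeadGx.{u} 2 (fun S _ => Spor.IsoMcL S) := by
  intro X _ _ S T A h hS
  obtain ⟨hfin, hs, hc, ⟨L⟩⟩ := Cfsg.Agent.TypeM.FactsMcL.facts hS
  obtain ⟨z, hz, hzz, hz1, hT⟩ := h.exists_inv (by rw [hc]; norm_num)
  have hne := h.cent_ne_top hz1
  obtain ⟨L', hL'⟩ := L.exists_rebase (s := (⟨z, hz⟩ : S)) (Subtype.ext hzz) (fun h4 => hz1 (congrArg Subtype.val h4))
  have hI : EvenInner L' := Cfsg.Agent.TypeM.OutLyFin.evenInner L' (Or.inl rfl) (Or.inl ⟨rfl, hc⟩)
  have h1 := card_o2_le h.norm h.cen (by norm_num) L' hI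
  rw [hL'] at h1
  exact h.card_le_of_o2 hT hne h1

/-- **The row is dead.** -/
theorem mcl_dead : DeadX.{u, v} (fun S _ => Spor.IsoMcL S) := mcl.deadX (by norm_num)

end Cfsg.Agent.Omega.ML.Ex.RowMcLX

end
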